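import Mathlib
set_option autoImplicit false

namespace Cfsg.Agent.Helper84

open scoped Pointwise

variable {M : Type*} [Group M] [Finite M] {p : ℕ} [Fact p.Prime]

/-- Sylow conjugacy in relative form: if `P₀ ≤ A` is a `p`-subgroup of index prime to `p` in `A`, every `p`-subgroup of `A` is
conjugate by an element of `A` into `P₀`. -/
theorem exists_conj_le_of_relIndex (A P₀ B : Subgroup M) (hPA : P₀ ≤ A) (hP₀ : IsPGroup p P₀)
    (hidx : ¬ p ∣ P₀.relIndex A) (hBA : B ≤ A) (hB : IsPGroup p B) :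
    ∃ a ∈ A, ∀ b ∈ B, a * b * a⁻¹ ∈ P₀ := by
  have h1 : IsPGroup p (P₀.subgroupOf A) := hP₀.comap_subtype
  let T : Sylow p A := h1.toSylow hidx
  have h2 : IsPGroup p (B.subgroupOf A) := hB.comap_subtype
  obtain ⟨T', hT'⟩ := h2.exists_le_sylow
  obtain ⟨a, ha⟩ := MulAction.exists_smul_eq A T' T
  refine ⟨a, a.2, fun b hb => ?_⟩
  have hb' : (⟨b, hBA hb⟩ : A) ∈ (T' : Subgroup A) := hT' (Subgroup.mem_subgroupOf.mpr hb)
  have h3 : MulAut.conj a • (⟨b, hBA hb⟩ : A) ∈ MulAut.conj a • (T' : Subgroup A) :=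
    Subgroup.smul_mem_pointwise_smul_iff.mpr hb'
  rw [← Sylow.coe_subgroup_smul, ha] at h3
  have h4 : a * ⟨b, hBA hb⟩ * a⁻¹ ∈ (T : Subgroup A) := by simpa using h3
  exact Subgroup.mem_subgroupOf.mp h4

/-- Some conjugate of a subgroup `L₀` (by an element of `A`) meets a Sylow `p`-subgroup `P₀` of `A` in a Sylow `p`-subgroup of its
intersection with `A`. -/
theorem exists_conj_inf_relIndex (A P₀ L₀ : Subgroup M) (hPA : P₀ ≤ A) (hP₀ : IsPGroup p P₀)
    (hidx : ¬ p ∣ P₀.relIndex A) :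
    ∃ α ∈ A, ¬ p ∣ ((L₀.map (MulAut.conj α).toMonoidHom) ⊓ P₀).relIndex
      ((L₀.map (MulAut.conj α).toMonoidHom) ⊓ A) := by
  obtain ⟨T⟩ : Nonempty (Sylow p (L₀ ⊓ A : Subgroup M)) := inferInstance
  have hTm : IsPGroup p ((T : Subgroup (L₀ ⊓ A : Subgroup M)).map (L₀ ⊓ A).subtype) := T.2.map _
  have hTmL : (T : Subgroup (L₀ ⊓ A : Subgroup M)).map (L₀ ⊓ A).subtype ≤ L₀ ⊓ A := by
    rintro _ ⟨x, -, rfl⟩
    exact x.2
  obtain ⟨α, hαA, hα⟩ := exists_conj_le_of_relIndex A P₀ _ hPA hP₀ hidx (hTmL.trans inf_le_right) hTm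
  refine ⟨α, hαA, ?_⟩
  have hinj : Function.Injective (MulAut.conj α).toMonoidHom := (MulAut.conj α).injective
  have hAmap : A.map (MulAut.conj α).toMonoidHom = A := by
    ext x
    constructor
    · rintro ⟨y, hy, rfl⟩
      exact A.mul_mem (A.mul_mem hαA hy) (A.inv_mem hαA)
    · intro hx
      refine ⟨α⁻¹ * x * α, A.mul_mem (A.mul_mem (A.inv_mem hαA) hx) hαA, ?_⟩
      simp [MulAut.conj_apply, mul_assoc]
  have hc3 : (L₀.map (MulAut.conj α).toMonoidHom) ⊓ A = (L₀ ⊓ A).map (MulAut.conj α).toMonoidHom := by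
    rw [Subgroup.map_inf _ _ _ hinj, hAmap]
  have hc1 : ((T : Subgroup (L₀ ⊓ A : Subgroup M)).map (L₀ ⊓ A).subtype).map (MulAut.conj α).toMonoidHom ≤
      (L₀.map (MulAut.conj α).toMonoidHom) ⊓ P₀ := by
    rintro _ ⟨t, ht, rfl⟩
    refine ⟨⟨t, (hTmL ht).1, rfl⟩, ?_⟩
    have := hα t ht
    simpa [MulAut.conj_apply] using this
  have hc2 : (L₀.map (MulAut.conj α).toMonoidHom) ⊓ P₀ ≤ (L₀.map (MulAut.conj α).toMonoidHom) ⊓ A :=
    inf_le_inf_left _ hPA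
  have hc4 : (((T : Subgroup (L₀ ⊓ A : Subgroup M)).map (L₀ ⊓ A).subtype).map
      (MulAut.conj α).toMonoidHom).relIndex ((L₀.map (MulAut.conj α).toMonoidHom) ⊓ A) =
      (T : Subgroup (L₀ ⊓ A : Subgroup M)).index := by
    rw [hc3, Subgroup.relIndex_map_map_of_injective _ _ hinj, Subgroup.relIndex]
    congr 1
    ext x
    rw [Subgroup.mem_subgroupOf]
    constructor
    · rintro ⟨y, hy, hyx⟩
      have : y = x := Subtype.ext hyx
      rwa [← this]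
    · intro hx
      exact ⟨x, hx, rfl⟩
  have hmul := Subgroup.relIndex_mul_relIndex _ _ _ hc1 hc2
  rw [hc4] at hmul
  intro hdvd
  exact T.not_dvd_index (hmul ▸ Dvd.dvd.mul_left hdvd _)

/-- A `p`-subgroup `D` of `N · AS`, with `N` normal and `AS` a Sylow `p`-subgroup of the ambient group, is conjugate into `AS` by an
element of `N`. -/
theorem exists_conj_normal_le {L : Type*} [Group L] [Finite L] (N AS D : Subgroup L) [N.Normal]
    (hAS : IsPGroup p AS) (hidx : ¬ p ∣ AS.index) (hD : IsPGroup p D) (hDle : D ≤ AS ⊔ N) :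
    ∃ l ∈ N, ∀ d ∈ D, l * d * l⁻¹ ∈ AS := by
  have hidx' : ¬ p ∣ AS.relIndex (AS ⊔ N) := fun h => hidx (h.trans (Subgroup.relIndex_dvd_index_of_le le_sup_left))
  obtain ⟨χ, hχ, hχD⟩ := exists_conj_le_of_relIndex (AS ⊔ N) AS D le_sup_left hAS hidx' hDle hD
  have hχ' : χ ∈ ((AS ⊔ N : Subgroup L) : Set L) := hχ
  rw [Subgroup.mul_normal] at hχ'
  obtain ⟨s, hs, l, hl, rfl⟩ := hχ'
  refine ⟨l, hl, fun d hd => ?_⟩
  have h1 := hχD d hd
  have h2 : l * d * l⁻¹ = s⁻¹ * (s * l * d * (s * l)⁻¹) * s := by group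
  rw [h2]
  exact AS.mul_mem (AS.mul_mem (AS.inv_mem hs) h1) hs

end Cfsg.Agent.Helper84
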