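-- helper84: transvections and diagonal elements of `SL_n(F)` (for the fusion system of `PSL_n`, S5163).
import Mathlib
import Cfsg.Agent.Helper14.AutSylow3
import Cfsg.Agent.Helper14.AutGen
import Cfsg.Agent.Helper5.SLn

set_option autoImplicit false
set_option linter.unusedSectionVars false

namespace Cfsg.Agent.Helper84.PSLn

open Matrix Cfsg.Agent.Helper14.AutPSL

section general

variable {ι : Type*} [Fintype ι] [DecidableEq ι] {F : Type*} [Field F]

theorem tv_pow (a φ : ι → F) (h : φ ⬝ᵥ a = 0) (k : ℕ) :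
    (tv a φ h) ^ k = tv a (k • φ) (by rw [smul_dotProduct, h, smul_zero]) := by
  induction k with
  | zero =>
    rw [pow_zero]
    symm
    rw [tv_eq_one_iff]
    right
    exact zero_smul _ _
  | succ k ih =>
    rw [pow_succ, ih, tv_mul_center]
    exact tv_congr _ rfl (by rw [add_smul, one_smul])

theorem tv_pow_char (p : ℕ) [CharP F p] (a φ : ι → F) (h : φ ⬝ᵥ a = 0) : (tv a φ h) ^ p = 1 := by
  rw [tv_pow, tv_eq_one_iff]
  right
  ext i
  rw [Pi.smul_apply, Pi.zero_apply, nsmul_eq_mul, CharP.cast_eq_zero, zero_mul]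

/-- transvections are `p`-elements -/
theorem orderOf_tv (p : ℕ) [hp : Fact p.Prime] [CharP F p] (a φ : ι → F) (h : φ ⬝ᵥ a = 0) :
    ∃ k : ℕ, orderOf (tv a φ h) = p ^ k := by
  have h1 : orderOf (tv a φ h) ∣ p := orderOf_dvd_of_pow_eq_one (tv_pow_char p a φ h)
  rcases (Nat.dvd_prime hp.out).mp h1 with h2 | h2
  · exact ⟨0, by rw [h2, pow_zero]⟩
  · exact ⟨1, by rw [h2, pow_one]⟩

/-- the diagonal element of `SL` with given diagonal -/
def dgl (D : ι → F) (hD : ∏ i, D i = 1) : Matrix.SpecialLinearGroup ι F :=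
  ⟨diagonal D, by rw [det_diagonal]; exact hD⟩

theorem dgl_coe (D : ι → F) (hD : ∏ i, D i = 1) : (dgl D hD).1 = diagonal D := rfl

theorem dgl_ne_zero (D : ι → F) (hD : ∏ i, D i = 1) (i : ι) : D i ≠ 0 := by
  intro h
  have : ∏ i, D i = 0 := Finset.prod_eq_zero (Finset.mem_univ i) h
  rw [hD] at this
  exact one_ne_zero this

theorem prod_inv_eq_one (D : ι → F) (hD : ∏ i, D i = 1) : ∏ i, (D i)⁻¹ = 1 := by
  rw [Finset.prod_inv_distrib, hD, inv_one]

theorem dgl_inv (D : ι → F) (hD : ∏ i, D i = 1) :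
    (dgl D hD)⁻¹ = dgl (fun i => (D i)⁻¹) (prod_inv_eq_one D hD) := by
  apply inv_eq_of_mul_eq_one_right
  apply Subtype.ext
  rw [Matrix.SpecialLinearGroup.coe_mul, dgl_coe, dgl_coe, diagonal_mul_diagonal,
    Matrix.SpecialLinearGroup.coe_one, ← diagonal_one]
  congr 1
  ext i
  exact mul_inv_cancel₀ (dgl_ne_zero D hD i)

theorem dgl_conj_apply (D : ι → F) (hD : ∏ i, D i = 1) (g : Matrix.SpecialLinearGroup ι F) (i j : ι) :
    (dgl D hD * g * (dgl D hD)⁻¹).1 i j = D i * g.1 i j * (D j)⁻¹ := by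
  rw [dgl_inv, Matrix.SpecialLinearGroup.coe_mul, Matrix.SpecialLinearGroup.coe_mul, dgl_coe, dgl_coe,
    mul_diagonal, diagonal_mul]

theorem diag2n_eq_dgl {i j : ι} (hij : i ≠ j) (a : F) (ha : a ≠ 0) :
    ∃ (D : ι → F) (hD : ∏ k, D k = 1), Matrix.SpecialLinearGroup.diag2n hij a ha = dgl D hD ∧
      D i = a ∧ D j = a⁻¹ ∧ ∀ k, k ≠ i → k ≠ j → D k = 1 := by
  have hdet := (Matrix.SpecialLinearGroup.diag2n hij a ha).2
  rw [Matrix.SpecialLinearGroup.diag2n_coe, det_diagonal] at hdet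
  refine ⟨fun k => if k = i then a else if k = j then a⁻¹ else 1, hdet, rfl, ?_, ?_, ?_⟩
  · simp
  · simp [hij.symm]
  · intro k hki hkj
    simp [hki, hkj]

theorem mem_normalizer_of_conj {G : Type*} [Group G] {H : Subgroup G} {s : G}
    (h1 : ∀ g ∈ H, s * g * s⁻¹ ∈ H) (h2 : ∀ g ∈ H, s⁻¹ * g * s ∈ H) :
    s ∈ Subgroup.normalizer (H : Set G) := by
  rw [Subgroup.mem_normalizer_iff]
  intro g
  constructor
  · exact h1 g
  · intro h
    have := h2 _ h
    have e : s⁻¹ * (s * g * s⁻¹) * s = g := by group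
    rwa [e] at this

theorem inv_mulVec_of_mulVec {s : Matrix.SpecialLinearGroup ι F} {a : ι → F} (hs : s.1 *ᵥ a = a) :
    (s⁻¹).1 *ᵥ a = a := by
  conv_lhs => rw [← hs]
  rw [mulVec_mulVec, ← Matrix.SpecialLinearGroup.coe_mul, inv_mul_cancel, Matrix.SpecialLinearGroup.coe_one,
    one_mulVec]

theorem vecMul_inv_of_vecMul {s : Matrix.SpecialLinearGroup ι F} {φ : ι → F} (hs : φ ᵥ* s.1 = φ) :
    φ ᵥ* (s⁻¹).1 = φ := by
  conv_lhs => rw [← hs]
  rw [vecMul_vecMul, ← Matrix.SpecialLinearGroup.coe_mul, mul_inv_cancel, Matrix.SpecialLinearGroup.coe_one,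
    vecMul_one]

/-- elements fixing `a` normalize `Qc a` -/
theorem mem_normalizer_Qc {a : ι → F} {s : Matrix.SpecialLinearGroup ι F} (hs : s.1 *ᵥ a = a) :
    s ∈ Subgroup.normalizer ((Qc a : Subgroup (Matrix.SpecialLinearGroup ι F)) : Set _) := by
  apply mem_normalizer_of_conj
  · intro g hg
    have := conj_mem_Qc hg s
    rwa [hs] at this
  · intro g hg
    have := conj_mem_Qc hg s⁻¹
    rwa [inv_mulVec_of_mulVec hs, inv_inv] at this

/-- elements fixing `φ` normalize `Qa φ` -/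
theorem mem_normalizer_Qa {φ : ι → F} {s : Matrix.SpecialLinearGroup ι F} (hs : φ ᵥ* s.1 = φ) :
    s ∈ Subgroup.normalizer ((Qa φ : Subgroup (Matrix.SpecialLinearGroup ι F)) : Set _) := by
  apply mem_normalizer_of_conj
  · intro g hg
    have := conj_mem_Qa hg s
    rwa [vecMul_inv_of_vecMul hs] at this
  · intro g hg
    have := conj_mem_Qa hg s⁻¹
    rwa [inv_inv, hs] at this

theorem tv_single_mem_normalizer_Qc {i j k : ι} (hij : i ≠ j) (hjk : j ≠ k) (c : F) :
    tv (c • Pi.single i 1) (Pi.single j 1) (single_dot_smul_single hij c) ∈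
      Subgroup.normalizer ((Qc (Pi.single k (1 : F)) : Subgroup (Matrix.SpecialLinearGroup ι F)) : Set _) := by
  apply mem_normalizer_Qc
  rw [tv_mulVec, single_dot_single hjk.symm, zero_smul, add_zero]

theorem tv_single_mem_normalizer_Qa {i j k : ι} (hij : i ≠ j) (hik : i ≠ k) (c : F) :
    tv (c • Pi.single i 1) (Pi.single j 1) (single_dot_smul_single hij c) ∈
      Subgroup.normalizer ((Qa (Pi.single k (1 : F)) : Subgroup (Matrix.SpecialLinearGroup ι F)) : Set _) := by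
  apply mem_normalizer_Qa
  rw [vecMul_tv, single_dot_smul_single hik c, zero_smul, add_zero]

end general

section fin

variable {n : ℕ} {F : Type*} [Field F]

/-- a middle index -/
def mid (hn : 3 ≤ n) : Fin n := ⟨1, by omega⟩

theorem mid_ne_fst (hn : 3 ≤ n) : mid hn ≠ fst (by omega : 2 ≤ n) := by
  intro h
  have := congrArg Fin.val h
  simp only [fst, mid] at this
  omega

theorem mid_ne_lst (hn : 3 ≤ n) : mid hn ≠ lst (by omega : 2 ≤ n) := by
  intro h
  have := congrArg Fin.val h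
  simp only [lst, mid] at this
  omega

/-- diagonal elements normalize the unitriangular group -/
theorem dgl_conj_mem_UT (D : Fin n → F) (hD : ∏ i, D i = 1) {u : Matrix.SpecialLinearGroup (Fin n) F}
    (hu : u ∈ UT n F) : dgl D hD * u * (dgl D hD)⁻¹ ∈ UT n F := by
  rw [mem_UT] at hu ⊢
  intro i j hji
  rw [dgl_conj_apply, hu i j hji]
  by_cases hij : i = j
  · subst hij
    rw [if_pos rfl, mul_one, mul_inv_cancel₀ (dgl_ne_zero D hD i)]
  · rw [if_neg hij, mul_zero, zero_mul]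

theorem dgl_mem_normalizer_UT (D : Fin n → F) (hD : ∏ i, D i = 1) :
    dgl D hD ∈ Subgroup.normalizer ((UT n F : Subgroup (Matrix.SpecialLinearGroup (Fin n) F)) : Set _) := by
  apply mem_normalizer_of_conj
  · intro u hu
    exact dgl_conj_mem_UT D hD hu
  · intro u hu
    have := dgl_conj_mem_UT (fun i => (D i)⁻¹) (prod_inv_eq_one D hD) hu
    rwa [← dgl_inv, inv_inv] at this

theorem UT_mulVec_fst (hn : 2 ≤ n) {u : Matrix.SpecialLinearGroup (Fin n) F} (hu : u ∈ UT n F) :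
    u.1 *ᵥ Pi.single (fst hn) 1 = Pi.single (fst hn) 1 := by
  rw [mulVec_single_one]
  ext k
  rw [Matrix.col_apply, (mem_UT.mp hu) k (fst hn) (fst_le hn k), Pi.single_apply]

theorem lst_vecMul_UT (hn : 2 ≤ n) {u : Matrix.SpecialLinearGroup (Fin n) F} (hu : u ∈ UT n F) :
    (Pi.single (lst hn) 1 : Fin n → F) ᵥ* u.1 = Pi.single (lst hn) 1 := by
  rw [single_one_vecMul]
  ext l
  rw [Matrix.row_apply, (mem_UT.mp hu) (lst hn) l (le_lst hn l), Pi.single_apply]
  simp only [eq_comm]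

theorem UT_le_normalizer_Qc (hn : 2 ≤ n) :
    UT n F ≤ Subgroup.normalizer ((Qc (Pi.single (fst hn) (1 : F)) :
      Subgroup (Matrix.SpecialLinearGroup (Fin n) F)) : Set _) :=
  fun _ hu => mem_normalizer_Qc (UT_mulVec_fst hn hu)

theorem UT_le_normalizer_Qa (hn : 2 ≤ n) :
    UT n F ≤ Subgroup.normalizer ((Qa (Pi.single (lst hn) (1 : F)) :
      Subgroup (Matrix.SpecialLinearGroup (Fin n) F)) : Set _) :=
  fun _ hu => mem_normalizer_Qa (lst_vecMul_UT hn hu)

theorem Qc_fst_le_UT (hn : 2 ≤ n) : Qc (Pi.single (fst hn) (1 : F)) ≤ UT n F := by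
  rintro _ ⟨φ, h, rfl⟩
  rw [dotProduct_single_one] at h
  rw [mem_UT]
  intro i j hji
  rw [tv_coe, Matrix.add_apply, Matrix.one_apply, vecMulVec_apply, Pi.single_apply]
  by_cases hi : i = fst hn
  · have hj : j = fst hn := le_antisymm (hi ▸ hji) (fst_le hn j)
    rw [hj, h, mul_zero, add_zero]
  · rw [if_neg hi, zero_mul, add_zero]

theorem Qa_lst_le_UT (hn : 2 ≤ n) : Qa (Pi.single (lst hn) (1 : F)) ≤ UT n F := by
  rintro _ ⟨a, h, rfl⟩
  rw [single_one_dotProduct] at h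
  rw [mem_UT]
  intro i j hji
  rw [tv_coe, Matrix.add_apply, Matrix.one_apply, vecMulVec_apply, Pi.single_apply]
  by_cases hj : j = lst hn
  · have hi : i = lst hn := le_antisymm (le_lst hn i) (hj ▸ hji)
    rw [hi, h, zero_mul, add_zero]
  · rw [if_neg hj, mul_zero, add_zero]

/-- the standard central transvections are conjugate under the diagonal subgroup -/
theorem conj_tv_fst_lst (hn : 3 ≤ n) {r₁ r₂ : F} (h1 : r₁ ≠ 0) (h2 : r₂ ≠ 0) :
    ∃ d : Matrix.SpecialLinearGroup (Fin n) F,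
      d * tv (r₁ • Pi.single (fst (by omega : 2 ≤ n)) 1) (Pi.single (lst (by omega : 2 ≤ n)) 1)
        (single_dot_smul_single (fst_ne_lst _) r₁) * d⁻¹ =
      tv (r₂ • Pi.single (fst (by omega : 2 ≤ n)) 1) (Pi.single (lst (by omega : 2 ≤ n)) 1)
        (single_dot_smul_single (fst_ne_lst _) r₂) := by
  have hn2 : 2 ≤ n := by omega
  obtain ⟨D, hD, -, hDi, -, hDk⟩ := diag2n_eq_dgl (mid_ne_fst hn).symm (r₂ / r₁) (div_ne_zero h2 h1)
  refine ⟨dgl D hD, ?_⟩
  apply Subtype.ext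
  ext i j
  rw [dgl_conj_apply, tv_coe, tv_coe, Matrix.add_apply, Matrix.add_apply, Matrix.one_apply, vecMulVec_apply,
    vecMulVec_apply, Pi.smul_apply, Pi.smul_apply, Pi.single_apply, Pi.single_apply, smul_eq_mul, smul_eq_mul]
  have hDl : D (lst hn2) = 1 := hDk _ (fst_ne_lst hn2).symm (mid_ne_lst hn).symm
  have hdiag : D i * (if i = j then 1 else 0) * (D j)⁻¹ = if i = j then (1 : F) else 0 := by
    by_cases hij : i = j
    · subst hij
      rw [if_pos rfl, mul_one, mul_inv_cancel₀ (dgl_ne_zero D hD i)]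
    · rw [if_neg hij, mul_zero, zero_mul]
  by_cases hi : i = fst hn2
  · by_cases hj : j = lst hn2
    · have hij : i ≠ j := by rw [hi, hj]; exact fst_ne_lst hn2
      rw [if_neg hij, if_pos hi, if_pos hj, hi, hj, hDi, hDl]
      field_simp
      ring
    · simp only [if_neg hj, mul_zero, add_zero]
      exact hdiag
  · simp only [if_neg hi, mul_zero, zero_mul, add_zero]
    exact hdiag

/-- in dimension at least 3 all transvections are conjugate in `SL_n(F)` -/
theorem isTv_conj (hn : 3 ≤ n) {g g' : Matrix.SpecialLinearGroup (Fin n) F} (hg : IsTv g) (hg' : IsTv g') :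
    ∃ s : Matrix.SpecialLinearGroup (Fin n) F, s * g * s⁻¹ = g' := by
  have hn2 : 2 ≤ n := by omega
  obtain ⟨a, φ, h, ha, hφ, rfl⟩ := hg
  obtain ⟨b, ψ, h', hb, hψ, rfl⟩ := hg'
  obtain ⟨s₁, r₁, hr₁, hs₁⟩ := exists_conj_tv_std (fst_ne_lst hn2) h ha hφ
  obtain ⟨s₂, r₂, hr₂, hs₂⟩ := exists_conj_tv_std (fst_ne_lst hn2) h' hb hψ
  obtain ⟨d, hd⟩ := conj_tv_fst_lst hn hr₁ hr₂
  refine ⟨s₂⁻¹ * d * s₁, ?_⟩
  have e : s₂⁻¹ * d * s₁ * tv a φ h * (s₂⁻¹ * d * s₁)⁻¹ =
      s₂⁻¹ * (d * (s₁ * tv a φ h * s₁⁻¹) * d⁻¹) * s₂ := by group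
  rw [e, hs₁, hd, ← hs₂]
  group

end fin

end Cfsg.Agent.Helper84.PSLn
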