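-- helper84: block form of the elements of `Sp_{2m}(F)`; the Siegel parabolic, its radical and the standard
-- Sylow `p`-subgroup.
import Mathlib
import Cfsg.Agent.Helper40.UniTri
import Cfsg.Agent.Helper14.AutSylow

set_option autoImplicit false
set_option linter.unusedSectionVars false

namespace Cfsg.Agent.Helper84.PSp

open Matrix Cfsg.Agent.Helper14.AutPSL

variable {F : Type*} [Field F] {m : ℕ}

local notation "Mt" => Matrix (Fin m) (Fin m) F
local notation "Mat" => Matrix (Fin m ⊕ Fin m) (Fin m ⊕ Fin m) F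
local notation "Sp" => Matrix.symplecticGroup (Fin m) F

/-- the four blocks of a symplectic matrix -/
def bA (g : Sp) : Mt := (g : Mat).toBlocks₁₁
def bB (g : Sp) : Mt := (g : Mat).toBlocks₁₂
def bC (g : Sp) : Mt := (g : Mat).toBlocks₂₁
def bD (g : Sp) : Mt := (g : Mat).toBlocks₂₂

theorem bA_apply (g : Sp) (i j : Fin m) : bA g i j = (g : Mat) (Sum.inl i) (Sum.inl j) := rfl
theorem bB_apply (g : Sp) (i j : Fin m) : bB g i j = (g : Mat) (Sum.inl i) (Sum.inr j) := rfl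
theorem bC_apply (g : Sp) (i j : Fin m) : bC g i j = (g : Mat) (Sum.inr i) (Sum.inl j) := rfl
theorem bD_apply (g : Sp) (i j : Fin m) : bD g i j = (g : Mat) (Sum.inr i) (Sum.inr j) := rfl

theorem coe_eq (g : Sp) : (g : Mat) = fromBlocks (bA g) (bB g) (bC g) (bD g) :=
  (fromBlocks_toBlocks _).symm

theorem blocks_of_coe {g : Sp} {A B C D : Mt} (h : (g : Mat) = fromBlocks A B C D) :
    bA g = A ∧ bB g = B ∧ bC g = C ∧ bD g = D := by
  unfold bA bB bC bD
  rw [h]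
  exact ⟨toBlocks_fromBlocks₁₁ _ _ _ _, toBlocks_fromBlocks₁₂ _ _ _ _, toBlocks_fromBlocks₂₁ _ _ _ _,
    toBlocks_fromBlocks₂₂ _ _ _ _⟩

theorem ext_blocks {g h : Sp} (hA : bA g = bA h) (hB : bB g = bB h) (hC : bC g = bC h) (hD : bD g = bD h) :
    g = h := by
  apply Subtype.ext
  rw [coe_eq g, coe_eq h, hA, hB, hC, hD]

theorem coe_mul_eq (g h : Sp) : ((g * h : Sp) : Mat) =
    fromBlocks (bA g * bA h + bB g * bC h) (bA g * bB h + bB g * bD h)
      (bC g * bA h + bD g * bC h) (bC g * bB h + bD g * bD h) := by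
  rw [← fromBlocks_multiply, ← coe_eq, ← coe_eq]
  rfl

theorem coe_inv_eq (g : Sp) : ((g⁻¹ : Sp) : Mat) =
    fromBlocks (bD g)ᵀ (-(bB g)ᵀ) (-(bC g)ᵀ) (bA g)ᵀ := by
  rw [SymplecticGroup.coe_inv]
  conv_lhs => rw [coe_eq g]
  rw [fromBlocks_transpose, Matrix.J, fromBlocks_neg, fromBlocks_multiply, fromBlocks_multiply]
  simp

theorem bA_mul (g h : Sp) : bA (g * h) = bA g * bA h + bB g * bC h := (blocks_of_coe (coe_mul_eq g h)).1
theorem bB_mul (g h : Sp) : bB (g * h) = bA g * bB h + bB g * bD h := (blocks_of_coe (coe_mul_eq g h)).2.1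
theorem bC_mul (g h : Sp) : bC (g * h) = bC g * bA h + bD g * bC h := (blocks_of_coe (coe_mul_eq g h)).2.2.1
theorem bD_mul (g h : Sp) : bD (g * h) = bC g * bB h + bD g * bD h := (blocks_of_coe (coe_mul_eq g h)).2.2.2

theorem bA_inv (g : Sp) : bA g⁻¹ = (bD g)ᵀ := (blocks_of_coe (coe_inv_eq g)).1
theorem bB_inv (g : Sp) : bB g⁻¹ = -(bB g)ᵀ := (blocks_of_coe (coe_inv_eq g)).2.1
theorem bC_inv (g : Sp) : bC g⁻¹ = -(bC g)ᵀ := (blocks_of_coe (coe_inv_eq g)).2.2.1
theorem bD_inv (g : Sp) : bD g⁻¹ = (bA g)ᵀ := (blocks_of_coe (coe_inv_eq g)).2.2.2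

theorem coe_one_eq : ((1 : Sp) : Mat) = fromBlocks 1 0 0 1 := by
  rw [fromBlocks_one]
  rfl

theorem bA_one : bA (1 : Sp) = 1 := (blocks_of_coe coe_one_eq).1
theorem bB_one : bB (1 : Sp) = 0 := (blocks_of_coe coe_one_eq).2.1
theorem bC_one : bC (1 : Sp) = 0 := (blocks_of_coe coe_one_eq).2.2.1
theorem bD_one : bD (1 : Sp) = 1 := (blocks_of_coe coe_one_eq).2.2.2

/-- the relations between the blocks coming from `g J gᵀ = J` -/
theorem rel_row (g : Sp) : bA g * (bB g)ᵀ = bB g * (bA g)ᵀ ∧ bC g * (bD g)ᵀ = bD g * (bC g)ᵀ ∧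
    bA g * (bD g)ᵀ - bB g * (bC g)ᵀ = 1 := by
  have h := SymplecticGroup.transpose_mem g.2
  rw [coe_eq g, fromBlocks_transpose, SymplecticGroup.fromBlocks_mem_iff] at h
  simpa using h

/-- the relations between the blocks coming from `gᵀ J g = J` -/
theorem rel_col (g : Sp) : (bA g)ᵀ * bC g = (bC g)ᵀ * bA g ∧ (bB g)ᵀ * bD g = (bD g)ᵀ * bB g ∧
    (bA g)ᵀ * bD g - (bC g)ᵀ * bB g = 1 := by
  have h := g.2
  rw [coe_eq g, SymplecticGroup.fromBlocks_mem_iff] at h
  exact h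

/-- the Siegel parabolic: the stabiliser of the span of the first `m` basis vectors -/
def PM (m : ℕ) (F : Type*) [Field F] : Subgroup (Matrix.symplecticGroup (Fin m) F) where
  carrier := {g | bC g = 0}
  mul_mem' := by
    intro g h hg hh
    show bC (g * h) = 0
    rw [bC_mul, show bC g = 0 from hg, show bC h = 0 from hh, zero_mul, mul_zero, add_zero]
  one_mem' := bC_one
  inv_mem' := by
    intro g hg
    show bC g⁻¹ = 0
    rw [bC_inv, show bC g = 0 from hg, transpose_zero, neg_zero]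

theorem mem_PM {g : Sp} : g ∈ PM m F ↔ bC g = 0 := Iff.rfl

theorem bA_mul_bD_of_mem_PM {g : Sp} (hg : g ∈ PM m F) : bA g * (bD g)ᵀ = 1 := by
  have h := (rel_row g).2.2
  rwa [mem_PM.mp hg, transpose_zero, mul_zero, sub_zero] at h

theorem bD_mul_bA_of_mem_PM {g : Sp} (hg : g ∈ PM m F) : (bD g)ᵀ * bA g = 1 :=
  mul_eq_one_comm.mp (bA_mul_bD_of_mem_PM hg)

theorem bA_mul_of_mem_PM (g : Sp) {h : Sp} (hh : h ∈ PM m F) : bA (g * h) = bA g * bA h := by
  rw [bA_mul, mem_PM.mp hh, mul_zero, add_zero]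

/-- the radical of the Siegel parabolic: the pointwise stabiliser of the span of the first `m` basis vectors -/
def R (m : ℕ) (F : Type*) [Field F] : Subgroup (Matrix.symplecticGroup (Fin m) F) where
  carrier := {g | bC g = 0 ∧ bA g = 1}
  mul_mem' := by
    rintro g h ⟨hg, hg'⟩ ⟨hh, hh'⟩
    refine ⟨(PM m F).mul_mem hg hh, ?_⟩
    rw [bA_mul_of_mem_PM g hh, hg', hh', one_mul]
  one_mem' := ⟨bC_one, bA_one⟩
  inv_mem' := by
    rintro g ⟨hg, hg'⟩
    refine ⟨(PM m F).inv_mem hg, ?_⟩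
    have h := bA_mul_bD_of_mem_PM hg
    rw [hg', one_mul] at h
    rw [bA_inv, h]

theorem mem_R {g : Sp} : g ∈ R m F ↔ bC g = 0 ∧ bA g = 1 := Iff.rfl

theorem R_le_PM : R m F ≤ PM m F := fun _ hg => hg.1

theorem bD_of_mem_R {g : Sp} (hg : g ∈ R m F) : bD g = 1 := by
  have h := bA_mul_bD_of_mem_PM hg.1
  rw [hg.2, one_mul] at h
  rw [← transpose_transpose (bD g), h, transpose_one]

theorem bB_symm_of_mem_R {g : Sp} (hg : g ∈ R m F) : (bB g)ᵀ = bB g := by
  have h := (rel_row g).1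
  rwa [hg.2, one_mul, transpose_one, mul_one] at h

/-- the Siegel parabolic normalizes its radical -/
theorem conj_mem_R {g r : Sp} (hg : g ∈ PM m F) (hr : r ∈ R m F) : g * r * g⁻¹ ∈ R m F := by
  have hgi : g⁻¹ ∈ PM m F := inv_mem hg
  refine ⟨(PM m F).mul_mem ((PM m F).mul_mem hg hr.1) hgi, ?_⟩
  rw [bA_mul_of_mem_PM _ hgi, bA_mul_of_mem_PM _ hr.1, hr.2, mul_one, ← bA_mul_of_mem_PM _ hgi, mul_inv_cancel,
    bA_one]

theorem PM_le_normalizer_R : PM m F ≤ Subgroup.normalizer ((R m F : Subgroup Sp) : Set Sp) := by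
  intro g hg
  rw [Subgroup.mem_normalizer_iff]
  intro r
  constructor
  · intro hr
    exact conj_mem_R hg hr
  · intro hr
    have := conj_mem_R (inv_mem hg) hr
    have e : g⁻¹ * (g * r * g⁻¹) * g⁻¹⁻¹ = r := by group
    rwa [e] at this

/-- upper unitriangular matrices -/
def IsUTm (X : Matrix (Fin m) (Fin m) F) : Prop := Cfsg.Agent.Helper40.UT.IsUT (lvl m) X

theorem isUTm_iff {X : Mt} : IsUTm X ↔ ∀ i j : Fin m, j ≤ i → X i j = if i = j then 1 else 0 := by
  unfold IsUTm Cfsg.Agent.Helper40.UT.IsUT Cfsg.Agent.Helper40.UT.RaisesBy lvl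
  constructor
  · intro h i j hji
    by_contra hne
    have h1 : (X - 1) i j ≠ 0 := by
      rw [Matrix.sub_apply, Matrix.one_apply]
      intro h0
      exact hne (sub_eq_zero.mp h0)
    have := h i j h1
    have hji' : (j : ℕ) ≤ i := hji
    omega
  · intro h i j hne
    by_contra hlt
    have hji : j ≤ i := by
      rw [Fin.le_def]
      push Not at hlt
      omega
    apply hne
    rw [Matrix.sub_apply, h i j hji, Matrix.one_apply, sub_self]

/-- the standard Sylow `p`-subgroup: the Siegel parabolic elements with unitriangular upper left block -/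
def U0 (m : ℕ) (F : Type*) [Field F] : Subgroup (Matrix.symplecticGroup (Fin m) F) where
  carrier := {g | bC g = 0 ∧ IsUTm (bA g)}
  mul_mem' := by
    rintro g h ⟨hg, hg'⟩ ⟨hh, hh'⟩
    refine ⟨(PM m F).mul_mem hg hh, ?_⟩
    rw [bA_mul_of_mem_PM g hh]
    exact Cfsg.Agent.Helper40.UT.IsUT.mul hg' hh'
  one_mem' := by
    refine ⟨bC_one, ?_⟩
    rw [bA_one]
    exact Cfsg.Agent.Helper40.UT.isUT_one
  inv_mem' := by
    rintro g ⟨hg, hg'⟩
    refine ⟨(PM m F).inv_mem hg, ?_⟩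
    rw [bA_inv]
    exact Cfsg.Agent.Helper40.UT.IsUT.of_mul_eq_one hg' (bA_mul_bD_of_mem_PM hg)

theorem mem_U0 {g : Sp} : g ∈ U0 m F ↔ bC g = 0 ∧ IsUTm (bA g) := Iff.rfl

theorem U0_le_PM : U0 m F ≤ PM m F := fun _ hg => hg.1

theorem R_le_U0 : R m F ≤ U0 m F := by
  intro g hg
  refine ⟨hg.1, ?_⟩
  rw [hg.2]
  exact Cfsg.Agent.Helper40.UT.isUT_one

theorem U0_le_normalizer_R : U0 m F ≤ Subgroup.normalizer ((R m F : Subgroup Sp) : Set Sp) :=
  U0_le_PM.trans PM_le_normalizer_R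

end Cfsg.Agent.Helper84.PSp
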