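-- helper84: the order of the standard unipotent subgroup `U0` of `Sp_{2m}(q)`; it is a Sylow `p`-subgroup.
import Mathlib
import Cfsg.Agent.Helper84.PSpDefs
import Cfsg.Agent.Helper40.SylowSp
import Cfsg.Agent.S0245

set_option autoImplicit false
set_option linter.unusedSectionVars false

namespace Cfsg.Agent.Helper84.PSp

open Matrix Cfsg.Agent.Helper14.AutPSL

variable {F : Type*} [Field F] {m : ℕ}

local notation "Mt" => Matrix (Fin m) (Fin m) F
local notation "Mat" => Matrix (Fin m ⊕ Fin m) (Fin m ⊕ Fin m) F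
local notation "Sp" => Matrix.symplecticGroup (Fin m) F

/-- the pairs `i ≤ j` -/
abbrev LEPairs (m : ℕ) := {q : Fin m × Fin m // q.1 ≤ q.2}

/-- the symmetric matrix with given entries on and above the diagonal -/
def symOf (f : LEPairs m → F) : Mt :=
  fun i j => if h : i ≤ j then f ⟨(i, j), h⟩ else f ⟨(j, i), le_of_lt (not_le.mp h)⟩

theorem symOf_of_le (f : LEPairs m → F) {i j : Fin m} (h : i ≤ j) : symOf f i j = f ⟨(i, j), h⟩ := by
  unfold symOf
  rw [dif_pos h]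

theorem symOf_of_ge (f : LEPairs m → F) {i j : Fin m} (h : j ≤ i) : symOf f i j = f ⟨(j, i), h⟩ := by
  by_cases h' : i ≤ j
  · have e : i = j := le_antisymm h' h
    subst e
    rw [symOf_of_le f h]
  · unfold symOf
    rw [dif_neg h']

theorem symOf_transpose (f : LEPairs m → F) : (symOf f)ᵀ = symOf f := by
  ext i j
  rw [transpose_apply]
  rcases le_total i j with h | h
  · rw [symOf_of_le f h, symOf_of_ge f h]
  · rw [symOf_of_ge f h, symOf_of_le f h]

theorem symOf_add (f g : LEPairs m → F) : symOf (f + g) = symOf f + symOf g := by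
  ext i j
  rw [Matrix.add_apply]
  rcases le_total i j with h | h
  · rw [symOf_of_le _ h, symOf_of_le _ h, symOf_of_le _ h, Pi.add_apply]
  · rw [symOf_of_ge _ h, symOf_of_ge _ h, symOf_of_ge _ h, Pi.add_apply]

theorem symOf_zero : symOf (0 : LEPairs m → F) = 0 := by
  ext i j
  rcases le_total i j with h | h
  · rw [symOf_of_le _ h, Pi.zero_apply, Matrix.zero_apply]
  · rw [symOf_of_ge _ h, Pi.zero_apply, Matrix.zero_apply]

/-- the element `[1 S; 0 1]` of the radical -/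
def rSf (f : LEPairs m → F) : Sp :=
  ⟨fromBlocks 1 (symOf f) 0 1, by
    rw [SymplecticGroup.fromBlocks_mem_iff]
    refine ⟨by simp, ?_, by simp⟩
    rw [symOf_transpose, mul_one, transpose_one, one_mul]⟩

theorem coe_rSf (f : LEPairs m → F) : (rSf f : Mat) = fromBlocks 1 (symOf f) 0 1 := rfl

theorem bA_rSf (f : LEPairs m → F) : bA (rSf f) = 1 := (blocks_of_coe (coe_rSf f)).1
theorem bB_rSf (f : LEPairs m → F) : bB (rSf f) = symOf f := (blocks_of_coe (coe_rSf f)).2.1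
theorem bC_rSf (f : LEPairs m → F) : bC (rSf f) = 0 := (blocks_of_coe (coe_rSf f)).2.2.1
theorem bD_rSf (f : LEPairs m → F) : bD (rSf f) = 1 := (blocks_of_coe (coe_rSf f)).2.2.2

theorem rSf_mem_R (f : LEPairs m → F) : rSf f ∈ R m F := ⟨bC_rSf f, bA_rSf f⟩

theorem rSf_add (f g : LEPairs m → F) : rSf (f + g) = rSf f * rSf g := by
  apply ext_blocks
  · rw [bA_mul, bA_rSf, bA_rSf, bA_rSf, bC_rSf, mul_zero, add_zero, mul_one]
  · rw [bB_mul, bA_rSf, bB_rSf, bB_rSf, bB_rSf, bD_rSf, symOf_add, one_mul, mul_one, add_comm]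
  · rw [bC_mul, bC_rSf, bC_rSf, bC_rSf, zero_mul, mul_zero, add_zero]
  · rw [bD_mul, bD_rSf, bD_rSf, bD_rSf, bC_rSf, zero_mul, zero_add, mul_one]

theorem rSf_zero : rSf (0 : LEPairs m → F) = 1 := by
  apply ext_blocks
  · rw [bA_rSf, bA_one]
  · rw [bB_rSf, bB_one, symOf_zero]
  · rw [bC_rSf, bC_one]
  · rw [bD_rSf, bD_one]

/-- the parametrisation of the radical -/
def rEquiv (m : ℕ) (F : Type*) [Field F] : (LEPairs m → F) ≃ R m F where
  toFun f := ⟨rSf f, rSf_mem_R f⟩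
  invFun r := fun q => bB r.1 q.1.1 q.1.2
  left_inv f := by
    funext q
    show bB (rSf f) q.1.1 q.1.2 = f q
    rw [bB_rSf, symOf_of_le f q.2]
  right_inv r := by
    apply Subtype.ext
    show rSf (fun q : LEPairs m => bB r.1 q.1.1 q.1.2) = r.1
    apply ext_blocks
    · rw [bA_rSf, r.2.2]
    · rw [bB_rSf]
      ext i j
      rcases le_total i j with h | h
      · rw [symOf_of_le _ h]
      · rw [symOf_of_ge _ h]
        have := congrFun (congrFun (bB_symm_of_mem_R r.2) i) j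
        rw [transpose_apply] at this
        exact this
    · rw [bC_rSf, r.2.1]
    · rw [bD_rSf, bD_of_mem_R r.2]

theorem card_LEPairs (m : ℕ) : Fintype.card (LEPairs m) = ∑ i : Fin m, ((i : ℕ) + 1) := by
  rw [Fintype.card_subtype]
  rw [Finset.card_eq_sum_card_fiberwise (f := fun q : Fin m × Fin m => q.2) (t := Finset.univ)
    (fun _ _ => Finset.mem_univ _)]
  apply Finset.sum_congr rfl
  intro j _
  rw [← Fin.card_Iic j]
  apply Finset.card_bij (fun q _ => q.1)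
  · intro q hq
    simp only [Finset.mem_filter, Finset.mem_univ, true_and] at hq
    rw [Finset.mem_Iic, ← hq.2]
    exact hq.1
  · intro q hq q' hq' h
    simp only [Finset.mem_filter, Finset.mem_univ, true_and] at hq hq'
    exact Prod.ext h (hq.2.trans hq'.2.symm)
  · intro i hi
    rw [Finset.mem_Iic] at hi
    refine ⟨(i, j), ?_, rfl⟩
    simp only [Finset.mem_filter, Finset.mem_univ, true_and]
    exact ⟨hi, trivial⟩

theorem card_R [Fintype F] (m : ℕ) : Nat.card (R m F) = Fintype.card F ^ (∑ i : Fin m, ((i : ℕ) + 1)) := by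
  rw [← Nat.card_congr (rEquiv m F), Nat.card_eq_fintype_card, Fintype.card_fun, card_LEPairs]

/-- the embedding `A ↦ diag(A, A⁻ᵀ)` of `GL_m` -/
noncomputable def lv (m : ℕ) (F : Type*) [Field F] : GL (Fin m) F →* Matrix.symplecticGroup (Fin m) F :=
  Cfsg.Agent.Helper40.glToSp m

theorem coe_lv (A : GL (Fin m) F) : (lv m F A : Mat) =
    fromBlocks (A : Mt) 0 0 ((A⁻¹ : GL (Fin m) F) : Mt)ᵀ := rfl

theorem bA_lv (A : GL (Fin m) F) : bA (lv m F A) = (A : Mt) := (blocks_of_coe (coe_lv A)).1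
theorem bB_lv (A : GL (Fin m) F) : bB (lv m F A) = 0 := (blocks_of_coe (coe_lv A)).2.1
theorem bC_lv (A : GL (Fin m) F) : bC (lv m F A) = 0 := (blocks_of_coe (coe_lv A)).2.2.1
theorem bD_lv (A : GL (Fin m) F) : bD (lv m F A) = ((A⁻¹ : GL (Fin m) F) : Mt)ᵀ := (blocks_of_coe (coe_lv A)).2.2.2

theorem lv_mem_PM (A : GL (Fin m) F) : lv m F A ∈ PM m F := bC_lv A

/-- the embedding of `SL_m` -/
noncomputable def lvS (m : ℕ) (F : Type*) [Field F] :
    Matrix.SpecialLinearGroup (Fin m) F →* Matrix.symplecticGroup (Fin m) F :=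
  (lv m F).comp Matrix.SpecialLinearGroup.toGL

theorem lvS_apply (P : Matrix.SpecialLinearGroup (Fin m) F) :
    lvS m F P = lv m F (Matrix.SpecialLinearGroup.toGL P) := rfl

theorem bA_lvS (P : Matrix.SpecialLinearGroup (Fin m) F) : bA (lvS m F P) = P.1 := by
  rw [lvS_apply, bA_lv]
  rfl

theorem lvS_mem_PM (P : Matrix.SpecialLinearGroup (Fin m) F) : lvS m F P ∈ PM m F := lv_mem_PM _

theorem isUTm_of_mem_UT {P : Matrix.SpecialLinearGroup (Fin m) F} (hP : P ∈ UT m F) : IsUTm P.1 :=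
  isUTm_iff.mpr (mem_UT.mp hP)

theorem lvS_mem_U0 {P : Matrix.SpecialLinearGroup (Fin m) F} (hP : P ∈ UT m F) : lvS m F P ∈ U0 m F := by
  refine ⟨lvS_mem_PM P, ?_⟩
  rw [bA_lvS]
  exact isUTm_of_mem_UT hP

theorem det_of_isUTm {X : Mt} (hX : IsUTm X) : X.det = 1 := by
  rw [isUTm_iff] at hX
  have hup : X.IsUpperTriangular := by
    intro i j hji
    have hji' : j < i := hji
    rw [hX i j (le_of_lt hji'), if_neg (ne_of_gt hji')]
  rw [det_of_isUpperTriangular hup]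
  apply Finset.prod_eq_one
  intro i _
  rw [hX i i le_rfl, if_pos rfl]

/-- the upper left block of an element of `U0`, as an element of `SL_m` -/
def utOf (g : Sp) (hg : g ∈ U0 m F) : Matrix.SpecialLinearGroup (Fin m) F := ⟨bA g, det_of_isUTm hg.2⟩

theorem utOf_mem (g : Sp) (hg : g ∈ U0 m F) : utOf g hg ∈ UT m F :=
  mem_UT.mpr (isUTm_iff.mp hg.2)

theorem mul_inv_lvS_mem_R (g : Sp) (hg : g ∈ U0 m F) : g * (lvS m F (utOf g hg))⁻¹ ∈ R m F := by
  have h1 : (lvS m F (utOf g hg))⁻¹ ∈ PM m F := (PM m F).inv_mem (lvS_mem_PM _)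
  refine ⟨(PM m F).mul_mem hg.1 h1, ?_⟩
  have h2 : bA g = bA (lvS m F (utOf g hg)) := by rw [bA_lvS]; rfl
  rw [bA_mul_of_mem_PM g h1, h2, ← bA_mul_of_mem_PM _ h1, mul_inv_cancel, bA_one]

/-- every element of `U0` is a product of an element of the radical and an embedded unitriangular matrix -/
theorem exists_mul_lvS_of_mem_U0 {g : Sp} (hg : g ∈ U0 m F) :
    ∃ r ∈ R m F, ∃ P ∈ UT m F, g = r * lvS m F P :=
  ⟨_, mul_inv_lvS_mem_R g hg, _, utOf_mem g hg, by rw [inv_mul_cancel_right]⟩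

theorem utOf_mul_lvS {r : Sp} (hr : r ∈ R m F) {P : Matrix.SpecialLinearGroup (Fin m) F} (hP : P ∈ UT m F)
    (h : r * lvS m F P ∈ U0 m F) : utOf (r * lvS m F P) h = P := by
  apply Subtype.ext
  show bA (r * lvS m F P) = P.1
  rw [bA_mul_of_mem_PM r (lvS_mem_PM P), hr.2, one_mul, bA_lvS]

/-- `U0` as a product set -/
noncomputable def u0Equiv (m : ℕ) (F : Type*) [Field F] : U0 m F ≃ R m F × UT m F where
  toFun g := (⟨g.1 * (lvS m F (utOf g.1 g.2))⁻¹, mul_inv_lvS_mem_R g.1 g.2⟩, ⟨utOf g.1 g.2, utOf_mem g.1 g.2⟩)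
  invFun x := ⟨x.1.1 * lvS m F x.2.1, (U0 m F).mul_mem (R_le_U0 x.1.2) (lvS_mem_U0 x.2.2)⟩
  left_inv g := by
    apply Subtype.ext
    show g.1 * (lvS m F (utOf g.1 g.2))⁻¹ * lvS m F (utOf g.1 g.2) = g.1
    rw [inv_mul_cancel_right]
  right_inv x := by
    obtain ⟨⟨r, hr⟩, ⟨P, hP⟩⟩ := x
    have h : r * lvS m F P ∈ U0 m F := (U0 m F).mul_mem (R_le_U0 hr) (lvS_mem_U0 hP)
    have e := utOf_mul_lvS hr hP h
    apply Prod.ext
    · apply Subtype.ext
      show r * lvS m F P * (lvS m F (utOf (r * lvS m F P) h))⁻¹ = r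
      rw [e, mul_inv_cancel_right]
    · apply Subtype.ext
      exact e

theorem card_U0 [Fintype F] (m : ℕ) : Nat.card (U0 m F) = Fintype.card F ^ (m ^ 2) := by
  rw [Nat.card_congr (u0Equiv m F), Nat.card_prod, card_R, card_UT, ← pow_add]
  congr 1
  rw [← Finset.sum_add_distrib]
  have h : ∀ k : ℕ, ∑ i : Fin k, ((i : ℕ) + 1 + (i : ℕ)) = k ^ 2 := by
    intro k
    induction k with
    | zero => simp
    | succ k ih =>
      rw [Fin.sum_univ_castSucc]
      simp only [Fin.val_castSucc, Fin.val_last]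
      rw [ih]
      ring
  exact h m

theorem not_dvd_prod_range {p q : ℕ} (hp : p.Prime) (hpq : p ∣ q) (hq0 : 0 < q) (m : ℕ) :
    ¬ p ∣ ∏ i ∈ Finset.range m, (q ^ (2 * (i + 1)) - 1) := by
  intro h
  obtain ⟨i, -, hi⟩ := (Prime.dvd_finset_prod_iff hp.prime _).mp h
  have hk : 2 * (i + 1) ≠ 0 := by omega
  have h1 : p ∣ q ^ (2 * (i + 1)) := dvd_trans hpq (dvd_pow_self q hk)
  have h2 : 1 ≤ q ^ (2 * (i + 1)) := Nat.one_le_pow _ _ hq0
  have h3 : p ∣ q ^ (2 * (i + 1)) - (q ^ (2 * (i + 1)) - 1) := Nat.dvd_sub h1 hi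
  have h4 : q ^ (2 * (i + 1)) - (q ^ (2 * (i + 1)) - 1) = 1 := by omega
  rw [h4] at h3
  exact hp.one_lt.ne' (Nat.dvd_one.mp h3)

theorem card_U0_eq [Fintype F] {p f : ℕ} [hp : Fact p.Prime] (hF : Fintype.card F = p ^ f) (hf : 1 ≤ f) (m : ℕ) :
    Nat.card (U0 m F) = p ^ (Nat.card (Matrix.symplecticGroup (Fin m) F)).factorization p := by
  rw [card_U0, Cfsg.Agent.S0245.result hF m, hF]
  have hpq : p ∣ p ^ f := dvd_pow_self p (by omega)
  have hq0 : 0 < p ^ f := pow_pos hp.out.pos f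
  have hA := not_dvd_prod_range hp.out hpq hq0 m
  have hA0 : ∏ i ∈ Finset.range m, ((p ^ f) ^ (2 * (i + 1)) - 1) ≠ 0 := fun h0 => hA (h0 ▸ dvd_zero p)
  rw [Nat.factorization_mul (pow_ne_zero _ hq0.ne') hA0, Finsupp.add_apply,
    Nat.factorization_eq_zero_of_not_dvd hA, add_zero, ← pow_mul, hp.out.factorization_pow,
    Finsupp.single_eq_same]

/-- `U0` as a Sylow `p`-subgroup of `Sp_{2m}(q)` -/
noncomputable def sylU0 [Fintype F] {p f : ℕ} [hp : Fact p.Prime] (hF : Fintype.card F = p ^ f) (hf : 1 ≤ f)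
    (m : ℕ) : Sylow p (Matrix.symplecticGroup (Fin m) F) :=
  Sylow.ofCard (U0 m F) (card_U0_eq hF hf m)

theorem coe_sylU0 [Fintype F] {p f : ℕ} [hp : Fact p.Prime] (hF : Fintype.card F = p ^ f) (hf : 1 ≤ f) (m : ℕ) :
    ((sylU0 hF hf m : Sylow p _) : Subgroup (Matrix.symplecticGroup (Fin m) F)) = U0 m F :=
  Sylow.coe_ofCard _ _

end Cfsg.Agent.Helper84.PSp
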