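-- helper84: the action of `Sp_{2m}(F)` on the standard basis; root elements inside the standard Sylow subgroup.
import Mathlib
import Cfsg.Agent.Helper84.PSpDefs
import Cfsg.Agent.Helper5.AutSpD

set_option autoImplicit false
set_option linter.unusedSectionVars false

namespace Cfsg.Agent.Helper84.PSp

open Matrix Cfsg.Agent.Helper13 Cfsg.Agent.Helper94.SpRoot Cfsg.Agent.Helper5.AutSp Cfsg.Agent.Helper14.AutPSL

variable {F : Type*} [Field F] {m : ℕ}

local notation "Mt" => Matrix (Fin m) (Fin m) F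
local notation "Mat" => Matrix (Fin m ⊕ Fin m) (Fin m ⊕ Fin m) F
local notation "Sp" => Matrix.symplecticGroup (Fin m) F
local notation "Vec" => (Fin m ⊕ Fin m → F)
local notation "B" => Cfsg.sympForm m F

/-- the standard basis vectors `e_i` and `f_i` -/
def ev (i : Fin m) : Vec := Pi.single (Sum.inl i) 1
def fv (i : Fin m) : Vec := Pi.single (Sum.inr i) 1

theorem ev_inl (i k : Fin m) : (ev i : Vec) (Sum.inl k) = if k = i then 1 else 0 := by
  unfold ev
  rw [Pi.single_apply]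
  simp only [Sum.inl.injEq]

theorem ev_inr (i k : Fin m) : (ev i : Vec) (Sum.inr k) = 0 := by
  unfold ev
  rw [Pi.single_apply, if_neg (by simp)]

theorem fv_inr (i k : Fin m) : (fv i : Vec) (Sum.inr k) = if k = i then 1 else 0 := by
  unfold fv
  rw [Pi.single_apply]
  simp only [Sum.inr.injEq]

theorem fv_inl (i k : Fin m) : (fv i : Vec) (Sum.inl k) = 0 := by
  unfold fv
  rw [Pi.single_apply, if_neg (by simp)]

theorem ev_ne_zero (i : Fin m) : (ev i : Vec) ≠ 0 := by
  intro h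
  have := congrFun h (Sum.inl i)
  rw [ev_inl, if_pos rfl] at this
  exact one_ne_zero this

theorem smul_ev (g : Sp) (j : Fin m) (k : Fin m ⊕ Fin m) : (g • (ev j : Vec)) k = (g : Mat) k (Sum.inl j) := by
  rw [smul_def]
  unfold ev
  rw [Matrix.mulVec_single_one]
  rfl

theorem B_ev_right (x : Vec) (i : Fin m) : B x (ev i) = x (Sum.inr i) := sympForm_single_inl_right x i

theorem B_fv_right (x : Vec) (i : Fin m) : B x (fv i) = - x (Sum.inl i) := sympForm_single_inr_right x i

theorem B_ev_left (x : Vec) (i : Fin m) : B (ev i) x = - x (Sum.inr i) := by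
  rw [B_swap, B_ev_right]

theorem B_fv_left (x : Vec) (i : Fin m) : B (fv i) x = x (Sum.inl i) := by
  rw [B_swap, B_fv_right, neg_neg]

/-- the span of the `e_i` -/
def InVM (v : Fin m ⊕ Fin m → F) : Prop := ∀ i : Fin m, v (Sum.inr i) = 0

theorem inVM_ev (i : Fin m) : InVM (ev i : Vec) := fun k => ev_inr i k

theorem InVM.add {v w : Vec} (hv : InVM v) (hw : InVM w) : InVM (v + w) := by
  intro i
  rw [Pi.add_apply, hv i, hw i, add_zero]

theorem InVM.smul {v : Vec} (hv : InVM v) (c : F) : InVM (c • v) := by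
  intro i
  rw [Pi.smul_apply, hv i, smul_zero]

theorem B_of_inVM {v w : Vec} (hv : InVM v) (hw : InVM w) : B v w = 0 := by
  rw [sympForm_eq_sum]
  apply Finset.sum_eq_zero
  intro i _
  rw [hv i, hw i, zero_mul, mul_zero, sub_zero]

theorem mem_PM_iff_smul {g : Sp} : g ∈ PM m F ↔ ∀ j : Fin m, InVM (g • (ev j : Vec)) := by
  rw [mem_PM]
  constructor
  · intro h j i
    rw [smul_ev, ← bC_apply, h, Matrix.zero_apply]
  · intro h
    ext i j
    rw [bC_apply, ← smul_ev, h j i, Matrix.zero_apply]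

theorem mem_R_iff_smul {g : Sp} : g ∈ R m F ↔ ∀ j : Fin m, g • (ev j : Vec) = ev j := by
  rw [mem_R]
  constructor
  · rintro ⟨hC, hA⟩ j
    funext k
    rcases k with k | k
    · rw [smul_ev, ← bA_apply, hA, ev_inl, Matrix.one_apply]
    · rw [smul_ev, ← bC_apply, hC, ev_inr, Matrix.zero_apply]
  · intro h
    constructor
    · ext i j
      rw [bC_apply, ← smul_ev, h j, ev_inr, Matrix.zero_apply]
    · ext i j
      rw [bA_apply, ← smul_ev, h j, ev_inl, Matrix.one_apply]

theorem mem_U0_iff_smul {g : Sp} : g ∈ U0 m F ↔ ∀ j : Fin m, InVM (g • (ev j : Vec)) ∧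
    ∀ i : Fin m, j ≤ i → (g • (ev j : Vec)) (Sum.inl i) = if i = j then 1 else 0 := by
  rw [mem_U0, isUTm_iff]
  constructor
  · rintro ⟨hC, hA⟩ j
    refine ⟨(mem_PM_iff_smul.mp hC) j, ?_⟩
    intro i hji
    rw [smul_ev, ← bA_apply, hA i j hji]
  · intro h
    refine ⟨mem_PM_iff_smul.mpr (fun j => (h j).1), ?_⟩
    intro i j hji
    rw [bA_apply, ← smul_ev, (h j).2 i hji]

/-- an element of `U0` fixes `e_0` -/
theorem smul_ev_zero_of_mem_U0 (hm : 1 ≤ m) {g : Sp} (hg : g ∈ U0 m F) :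
    g • (ev ⟨0, hm⟩ : Vec) = ev ⟨0, hm⟩ := by
  obtain ⟨h1, h2⟩ := mem_U0_iff_smul.mp hg ⟨0, hm⟩
  funext k
  rcases k with k | k
  · rw [h2 k (Fin.mk_le_of_le_val (Nat.zero_le _)), ev_inl]
  · rw [h1 k, ev_inr]

theorem tE_mem_R {v : Vec} (hv : InVM v) (t : F) : tE v t ∈ R m F := by
  rw [mem_R_iff_smul]
  intro j
  rw [tE_smul_vec, B_of_inVM (inVM_ev j) hv, mul_zero, zero_smul, add_zero]

theorem uE_mem_R {a w : Vec} (ha : InVM a) (hw : InVM w) (c : F) : uE a w c ∈ R m F := by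
  rw [mem_R_iff_smul]
  intro j
  rw [uE_smul_vec (B_of_inVM ha hw), B_of_inVM (inVM_ev j) ha, B_of_inVM (inVM_ev j) hw]
  simp

theorem inVM_of_tE_mem_PM {a : Vec} (h : tE a 1 ∈ PM m F) : InVM a := by
  intro i
  have h1 := (mem_PM_iff_smul.mp h) i i
  rw [tE_smul_vec, Pi.add_apply, ev_inr, zero_add, Pi.smul_apply, B_ev_left, smul_eq_mul, one_mul] at h1
  have h2 : a (Sum.inr i) * a (Sum.inr i) = 0 := by linear_combination -h1
  exact mul_self_eq_zero.mp h2

/-- the normalizer of `U0` lies in the Siegel parabolic -/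
theorem normalizer_U0_le_PM : Subgroup.normalizer ((U0 m F : Subgroup Sp) : Set Sp) ≤ PM m F := by
  intro g hg
  rw [mem_PM_iff_smul]
  intro j
  apply inVM_of_tE_mem_PM
  rw [← conj_tE]
  apply U0_le_PM
  exact (Subgroup.mem_normalizer_iff.mp hg _).mp (R_le_U0 (tE_mem_R (inVM_ev j) 1))

/-- the short root elements `x ↦ x + s (B(x,e_i) f_j + B(x,f_j) e_i)`, `i < j` -/
theorem uE_ev_fv_mem_U0 {i j : Fin m} (hij : i < j) (s : F) : uE (ev i : Vec) (s • fv j) 0 ∈ U0 m F := by
  have hB : B (ev i : Vec) (s • fv j) = 0 := by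
    rw [sympForm_smul_right, B_fv_right, ev_inl, if_neg (ne_of_gt hij), neg_zero, mul_zero]
  rw [mem_U0_iff_smul]
  intro k
  have hk : uE (ev i : Vec) (s • fv j) 0 • (ev k : Vec) = ev k + (-(s * if j = k then 1 else 0)) • ev i := by
    rw [uE_smul_vec hB, B_of_inVM (inVM_ev k) (inVM_ev i), sympForm_smul_right, B_fv_right, ev_inl]
    simp
  rw [hk]
  refine ⟨(inVM_ev k).add ((inVM_ev i).smul _), ?_⟩
  intro i' hki'
  rw [Pi.add_apply, Pi.smul_apply, ev_inl, ev_inl, smul_eq_mul]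
  by_cases hjk : j = k
  · have hne : i' ≠ i := by
      intro h
      rw [h, ← hjk] at hki'
      exact absurd hij (not_lt.mpr hki')
    rw [if_neg hne, mul_zero, add_zero]
  · rw [if_neg hjk, mul_zero, neg_zero, zero_mul, add_zero]

end Cfsg.Agent.Helper84.PSp
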