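-- helper84: in `PSp_{2m}(q)` the images of the Siegel radical `R` and of the radical `Q_e` of a point stabiliser
-- contain their centralizers.
import Mathlib
import Cfsg.Agent.Helper84.PSpElts
import Cfsg.Agent.Helper84.PSpCard

set_option autoImplicit false
set_option linter.unusedSectionVars false

namespace Cfsg.Agent.Helper84.PSp

open Matrix Cfsg.Agent.Helper13 Cfsg.Agent.Helper94.SpRoot Cfsg.Agent.Helper5.AutSp

variable {F : Type*} [Field F] {m : ℕ}

local notation "Mt" => Matrix (Fin m) (Fin m) F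
local notation "Mat" => Matrix (Fin m ⊕ Fin m) (Fin m ⊕ Fin m) F
local notation "Sp" => Matrix.symplecticGroup (Fin m) F
local notation "Vec" => (Fin m ⊕ Fin m → F)
local notation "B" => Cfsg.sympForm m F

theorem negOne_mul_self : Cfsg.Agent.S0246.negOne m F * Cfsg.Agent.S0246.negOne m F = 1 := by
  apply ext_smul
  intro x
  rw [mul_smul, negOne_smul, negOne_smul, neg_neg, one_smul]

theorem negOne_comm (g : Sp) : Cfsg.Agent.S0246.negOne m F * g = g * Cfsg.Agent.S0246.negOne m F :=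
  ((Subgroup.mem_center_iff.mp Cfsg.Agent.S0246.negOne_mem_center) g).symm

theorem prj_negOne : prj (Cfsg.Agent.S0246.negOne m F) = 1 := by
  rw [prj_apply, QuotientGroup.eq_one_iff]
  exact Cfsg.Agent.S0246.negOne_mem_center

section char

variable {p : ℕ} [hp : Fact p.Prime] [CharP F p]

/-- `-1` of `p`-power order is trivial -/
theorem negOne_eq_one_of_pow {k : ℕ} (hk : (Cfsg.Agent.S0246.negOne m F) ^ (p ^ k) = 1) :
    Cfsg.Agent.S0246.negOne m F = 1 := by
  by_cases hp2 : p = 2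
  · subst hp2
    apply ext_smul
    intro x
    rw [negOne_smul, one_smul]
    funext i
    exact CharTwo.neg_eq (x i)
  · have h2 : (Cfsg.Agent.S0246.negOne m F) ^ 2 = 1 := by
      rw [pow_two, negOne_mul_self]
    have h3 := pow_gcd_eq_one.2 ⟨hk, h2⟩
    have hcop : Nat.gcd (p ^ k) 2 = 1 := by
      apply Nat.Coprime.pow_left
      rw [Nat.coprime_primes hp.out Nat.prime_two]
      exact hp2
    rwa [hcop, pow_one] at h3

/-- an element of `Sp` whose image commutes with the image of a `p`-element commutes with that `p`-element -/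
theorem conj_eq_of_prj_comm (hm : 1 ≤ m) {g u : Sp} {k : ℕ} (hu : u ^ (p ^ k) = 1)
    (h : prj g * prj u = prj u * prj g) : g * u * g⁻¹ = u := by
  have h1 : prj (g * u * g⁻¹) = prj u := by
    rw [map_mul, map_mul, map_inv, h, mul_inv_cancel_right]
  rcases (mk_eq_iff hm).1 h1 with h2 | h2
  · exact h2.symm
  · have h3 : (g * u * g⁻¹) ^ (p ^ k) = 1 := by
      rw [conj_pow, hu]
      group
    have hc : Commute (g * u * g⁻¹) (Cfsg.Agent.S0246.negOne m F) := (negOne_comm _).symm
    have h4 := hc.mul_pow (p ^ k)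
    rw [← h2, hu, h3, one_mul] at h4
    rw [negOne_eq_one_of_pow h4.symm, mul_one] at h2
    exact h2.symm

/-- a criterion for the image of a `p`-subgroup of `Sp` to contain its centralizer in `PSp` -/
theorem centralizer_map_prj_le (hm : 1 ≤ m) (Q : Subgroup Sp) (hQ : IsPGroup p Q) {e : Vec} (he : e ≠ 0)
    (hte : tE e 1 ∈ Q)
    (hQ' : ∀ g : Sp, (∀ u ∈ Q, g * u * g⁻¹ = u) → g • e = e → g ∈ Q) :
    Subgroup.centralizer ((Q.map prj : Subgroup (Cfsg.PSp m F)) : Set (Cfsg.PSp m F)) ≤ Q.map prj := by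
  intro x hx
  obtain ⟨g, rfl⟩ := prj_surjective x
  have hcen : ∀ u ∈ Q, g * u * g⁻¹ = u := by
    intro u hu
    obtain ⟨k, hk⟩ := hQ ⟨u, hu⟩
    have hk' : u ^ (p ^ k) = 1 := by
      have := congrArg Subtype.val hk
      simpa using this
    apply conj_eq_of_prj_comm hm hk'
    exact (Subgroup.mem_centralizer_iff.mp hx (prj u) (Subgroup.mem_map_of_mem _ hu)).symm
  rcases smul_eq_of_tE_fix he one_ne_zero (hcen _ hte) with h1 | h1
  · exact Subgroup.mem_map_of_mem _ (hQ' g hcen h1)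
  · have h2 : (Cfsg.Agent.S0246.negOne m F * g) ∈ Q := by
      apply hQ'
      · intro u hu
        have e1 : Cfsg.Agent.S0246.negOne m F * g * u * (Cfsg.Agent.S0246.negOne m F * g)⁻¹ =
            Cfsg.Agent.S0246.negOne m F * (g * u * g⁻¹) * (Cfsg.Agent.S0246.negOne m F)⁻¹ := by group
        rw [e1, hcen u hu, negOne_comm, mul_inv_cancel_right]
      · rw [mul_smul, h1, negOne_smul, neg_neg]
    have h3 : prj g = prj (Cfsg.Agent.S0246.negOne m F * g) := by
      rw [map_mul, prj_negOne, one_mul]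
    rw [h3]
    exact Subgroup.mem_map_of_mem _ h2

variable [Fintype F]

include hp in
/-- the image of `Q_e` contains its centralizer -/
theorem centralizer_Qe_le (hm : 1 ≤ m) {e : Vec} (he : e ≠ 0) :
    Subgroup.centralizer (((Qe e).map prj : Subgroup (Cfsg.PSp m F)) : Set (Cfsg.PSp m F)) ≤ (Qe e).map prj := by
  apply centralizer_map_prj_le hm (Qe e) (isPGroup_Qe (p := p) e) he (tE_mem_Qe e 1)
  intro g hcen hge
  apply mem_Qe_of_action he hge
  intro w hw
  have hw' : B e w = 0 := B_eq_zero_symm hw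
  have h1 := hcen (uE e w 0) ⟨w, 0, hw', rfl⟩
  rw [conj_uE, hge] at h1
  have hw2 : B e (g • w) = 0 := by
    rw [← hge, B_smul, hw']
  obtain ⟨l, hl, -⟩ := uE_eq he hw2 hw' h1
  exact ⟨l, hl⟩

theorem isPGroup_R {f : ℕ} (hF : Fintype.card F = p ^ f) : IsPGroup p (R m F) := by
  apply IsPGroup.of_card (n := f * (∑ i : Fin m, ((i : ℕ) + 1)))
  rw [card_R, hF, pow_mul]

/-- the image of the Siegel radical contains its centralizer -/
theorem centralizer_R_le {f : ℕ} (hF : Fintype.card F = p ^ f) (hm : 1 ≤ m) :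
    Subgroup.centralizer (((R m F).map prj : Subgroup (Cfsg.PSp m F)) : Set (Cfsg.PSp m F)) ≤ (R m F).map prj := by
  apply centralizer_map_prj_le hm (R m F) (isPGroup_R hF) (ev_ne_zero ⟨0, hm⟩) (tE_mem_R (inVM_ev _) 1)
  intro g hcen hge
  rw [mem_R_iff_smul]
  intro j
  by_cases hj : j = ⟨0, hm⟩
  · rw [hj, hge]
  · have hB : B (ev ⟨0, hm⟩ : Vec) (ev j) = 0 := B_of_inVM (inVM_ev _) (inVM_ev _)
    have h1 := hcen (uE (ev ⟨0, hm⟩ : Vec) (ev j) 0) (uE_mem_R (inVM_ev _) (inVM_ev _) 0)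
    rw [conj_uE, hge] at h1
    have hw2 : B (ev ⟨0, hm⟩ : Vec) (g • ev j) = 0 := by
      rw [← hge, B_smul, hB]
    obtain ⟨l, hl, -⟩ := uE_eq (ev_ne_zero ⟨0, hm⟩) hw2 hB h1
    have h2 := hcen (tE (ev j : Vec) 1) (tE_mem_R (inVM_ev _) 1)
    have hl0 : l = 0 := by
      have h3 := congrFun hl (Sum.inl ⟨0, hm⟩)
      rw [Pi.add_apply, Pi.smul_apply, ev_inl, ev_inl, if_neg (Ne.symm hj), if_pos rfl, zero_add, smul_eq_mul,
        mul_one] at h3
      rcases smul_eq_of_tE_fix (ev_ne_zero j) one_ne_zero h2 with h4 | h4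
      · rw [h4, ev_inl, if_neg (Ne.symm hj)] at h3
        exact h3.symm
      · rw [h4, Pi.neg_apply, ev_inl, if_neg (Ne.symm hj), neg_zero] at h3
        exact h3.symm
    rw [hl, hl0, zero_smul, add_zero]

end char

end Cfsg.Agent.Helper84.PSp
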