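-- Simplicity criterion for `F_S(G)` with `N_G(S)` generated locally (helper84): consumer of S5160's public lemmas,
-- hypotheses stated by plain conjugation and stable under conjugating the Sylow subgroup.
import Cfsg.Agent.S5160
import Cfsg.Agent.Helper85.SimpleCrit

set_option autoImplicit false

namespace Cfsg.Agent.Helper84

open Cfsg Cfsg.FusionSystem Cfsg.Agent.Helper85

variable {G : Type*} [Group G]

/-- The elements of `N_G(S)` of local origin: those of `S`, of `C_G(S)`, and those generated by the `p`-elements of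
`N_G(R)` for some `R ⊴ S` with `C_G(R) ≤ R`. -/
def LocSet (p : ℕ) (S : Subgroup G) : Set G :=
  {g : G | g ∈ Subgroup.normalizer (S : Set G) ∧
    (g ∈ S ∨ g ∈ Subgroup.centralizer (S : Set G) ∨
      ∃ R : Subgroup G, R ≤ S ∧ S ≤ Subgroup.normalizer (R : Set G) ∧ Subgroup.centralizer (R : Set G) ≤ R ∧
        g ∈ Subgroup.closure {x : G | x ∈ Subgroup.normalizer (R : Set G) ∧ ∃ k : ℕ, orderOf x = p ^ k})}

/-- `N_G(S)` is generated by its elements of local origin. -/
def LocGen (p : ℕ) (S : Subgroup G) : Prop :=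
  Subgroup.normalizer (S : Set G) ≤ Subgroup.closure (LocSet p S)

theorem conj_mem_closure_conj {A : Set G} {x : G} (a : G) (hx : x ∈ Subgroup.closure A) :
    a * x * a⁻¹ ∈ Subgroup.closure {y : G | a⁻¹ * y * a ∈ A} := by
  induction hx using Subgroup.closure_induction with
  | mem y hy =>
    apply Subgroup.subset_closure
    show a⁻¹ * (a * y * a⁻¹) * a ∈ A
    have : a⁻¹ * (a * y * a⁻¹) * a = y := by group
    rw [this]
    exact hy
  | one =>
    have : a * 1 * a⁻¹ = 1 := by group
    rw [this]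
    exact one_mem _
  | mul y z _ _ hy hz =>
    have : a * (y * z) * a⁻¹ = (a * y * a⁻¹) * (a * z * a⁻¹) := by group
    rw [this]
    exact mul_mem hy hz
  | inv y _ hy =>
    have : a * y⁻¹ * a⁻¹ = (a * y * a⁻¹)⁻¹ := by group
    rw [this]
    exact inv_mem hy

theorem locSet_cj {p : ℕ} {S : Subgroup G} (a : G) {y : G} (hy : a⁻¹ * y * a ∈ LocSet p S) :
    y ∈ LocSet p (cj a S) := by
  obtain ⟨hyS, hy'⟩ := hy
  refine ⟨?_, ?_⟩
  · rw [normalizer_cj, mem_cj]
    exact hyS
  rcases hy' with h | h | ⟨R, hRS, hSR, hCR, h⟩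
  · left
    rw [mem_cj]
    exact h
  · right; left
    rw [centralizer_cj, mem_cj]
    exact h
  · right; right
    refine ⟨cj a R, cj_mono a hRS, ?_, ?_, ?_⟩
    · rw [normalizer_cj]
      exact cj_mono a hSR
    · rw [centralizer_cj]
      exact cj_mono a hCR
    · have h1 := conj_mem_closure_conj a h
      have e : a * (a⁻¹ * y * a) * a⁻¹ = y := by group
      rw [e] at h1
      refine Subgroup.closure_mono ?_ h1
      rintro z ⟨hzN, k, hk⟩
      refine ⟨?_, k, ?_⟩
      · rw [normalizer_cj, mem_cj]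
        exact hzN
      · rw [← hk]
        have e2 : a⁻¹ * z * a = (MulAut.conj a⁻¹) z := by
          rw [MulAut.conj_apply, inv_inv]
        rw [e2, MulEquiv.orderOf_eq]

theorem locGen_cj {p : ℕ} {S : Subgroup G} (h : LocGen p S) (a : G) : LocGen p (cj a S) := by
  intro n hn
  rw [normalizer_cj, mem_cj] at hn
  have h1 := conj_mem_closure_conj a (h hn)
  have e : a * (a⁻¹ * n * a) * a⁻¹ = n := by group
  rw [e] at h1
  refine Subgroup.closure_mono ?_ h1
  intro y hy
  exact locSet_cj a hy

/-- `F_S(G)` is simple when `S ≠ 1` is a Sylow `p`-subgroup, `N_G(S)` is generated by elements of local origin and no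
proper nontrivial subgroup of `S` is strongly closed in `S` with respect to `G`. -/
theorem isSimple_of_locGen [Finite G] (p : ℕ) [Fact p.Prime] (S : Sylow p G)
    (hS1 : (S : Subgroup G) ≠ ⊥) (hN : LocGen p (S : Subgroup G)) (hT : NoStrClosed (S : Subgroup G)) :
    (groupFusionSystem (S : Subgroup G)).IsSimple p := by
  have hFsat : (groupFusionSystem (S : Subgroup G)).IsSaturated p := S5076.result p S
  refine ⟨hFsat, hS1, ?_⟩
  intro T E hEn
  obtain ⟨⟨hEsat, -, hsub, hsc, hinv, hfrat⟩, -⟩ := hEn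
  have hTT : T = ⊥ ∨ T = (S : Subgroup G) := by
    obtain ⟨hTS, hcl⟩ := hsc
    refine hT T hTS ?_
    intro t ht g hg
    have hR : Subgroup.zpowers t ≤ T := (Subgroup.zpowers_le).2 ht
    have hmem : conjHom (Subgroup.zpowers t) g ∈ (groupFusionSystem (S : Subgroup G)).Hom (Subgroup.zpowers t) := by
      refine ⟨hR.trans hTS, ?_, g, fun x => rfl⟩
      rintro ⟨x, k, rfl⟩
      show g * t ^ k * g⁻¹ ∈ (S : Subgroup G)
      have : g * t ^ k * g⁻¹ = (g * t * g⁻¹) ^ k := by
        rw [conj_zpow]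
      rw [this]
      exact Subgroup.zpow_mem _ hg k
    exact hcl _ hR _ hmem ⟨t, Subgroup.mem_zpowers t⟩
  rcases hTT with h | h
  · left; exact h
  right
  refine ⟨h, ?_⟩
  subst h
  have hE : S5160.Good (S : Subgroup G) E :=
    ⟨hsub, fun hh hn => S5160.invariance' E hinv hh hn, fun hP hgP => S5160.frattini' E hfrat hP hgP⟩
  intro P
  apply Set.Subset.antisymm (hsub P)
  apply S5160.hom_subset_of_forall_normalizer hE
  have hSS : (S : Subgroup G) ≤ S := le_rfl
  let Y : Subgroup G :=
    { carrier := {g | g ∈ Subgroup.normalizer ((S : Subgroup G) : Set G) ∧ S5160.Ind E g (S : Subgroup G)}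
      one_mem' := ⟨Subgroup.one_mem _, S5160.ind_of_mem E hSS (Subgroup.one_mem _)⟩
      mul_mem' := by
        rintro a b ⟨ha, ha'⟩ ⟨hb, hb'⟩
        exact ⟨Subgroup.mul_mem _ ha hb, hb'.mul ha' (S5160.conjSub_eq_of_mem_normalizer hb).le⟩
      inv_mem' := by
        rintro a ⟨ha, ha'⟩
        refine ⟨Subgroup.inv_mem _ ha, ?_⟩
        have := ha'.inv
        rwa [S5160.conjSub_eq_of_mem_normalizer ha] at this }
  have hle : Subgroup.closure (LocSet p (S : Subgroup G)) ≤ Y := by
    rw [Subgroup.closure_le]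
    rintro g ⟨hgS, hg | hg | ⟨R, hRS, hSR, hCR, hg⟩⟩
    · exact ⟨hgS, S5160.ind_of_mem E hSS hg⟩
    · refine ⟨hgS, (S5160.ind_of_mem E hSS (Subgroup.one_mem _)).congr ?_⟩
      intro x hx
      have := Subgroup.mem_centralizer_iff.mp hg x hx
      rw [one_mul, inv_one, mul_one, ← this, mul_inv_cancel_right]
    · have hNR : normalizerIn (S : Subgroup G) R = S := by
        rw [normalizerIn_eq]
        exact inf_eq_left.mpr hSR
      have hFN : (groupFusionSystem (S : Subgroup G)).IsFullyNormalized R := by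
        refine ⟨hRS, fun Q _ => ?_⟩
        rw [hNR]
        exact Subgroup.card_le_of_le inf_le_left
      have hCen : (groupFusionSystem (S : Subgroup G)).IsCentric R := by
        refine ⟨hRS, fun Q hQ => ?_⟩
        obtain ⟨a, rfl, -⟩ := (isConj_group_iff hRS).1 hQ
        rw [centralizerIn_eq, centralizer_cj]
        exact inf_le_right.trans (cj_mono a hCR)
      obtain ⟨hgR, hgI⟩ := S5160.ind_of_mem_closure S hE hFN hg
      exact ⟨hgS, S5160.ind_top S hE hEsat hgS _ R rfl hCen hgR hgI⟩
  intro n hn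
  exact (hle (hN hn)).2

/-- The same for every Sylow `p`-subgroup, given the hypotheses for one of them. -/
theorem isSimple_of_locGen_conj [Finite G] (p : ℕ) [Fact p.Prime] (S₀ : Sylow p G)
    (hS1 : (S₀ : Subgroup G) ≠ ⊥) (hN : LocGen p (S₀ : Subgroup G)) (hT : NoStrClosed (S₀ : Subgroup G))
    (S : Sylow p G) : (groupFusionSystem (S : Subgroup G)).IsSimple p := by
  obtain ⟨a, ha⟩ := MulAction.exists_smul_eq G S₀ S
  have hcoe : (S : Subgroup G) = cj a (S₀ : Subgroup G) := by
    rw [← ha]
    rfl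
  refine isSimple_of_locGen p S ?_ ?_ ?_
  · rw [hcoe]
    intro h
    apply hS1
    have := congrArg (cj a⁻¹) h
    rw [cj_inv_cj] at this
    rw [this]
    exact Subgroup.map_bot _
  · rw [hcoe]
    exact locGen_cj hN a
  · rw [hcoe]
    exact noStrClosed_cj hT a

end Cfsg.Agent.Helper84
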