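-- helper84: the normalizer of the standard Sylow `p`-subgroup of `PSp_{2m}(q)` is generated by elements of local origin.
import Mathlib
import Cfsg.Agent.Helper84.PSpCent
import Cfsg.Agent.Helper84.PSLnTv
import Cfsg.Agent.Helper84.SimpleCrit2
import Cfsg.Agent.Helper42.SpSylA

set_option autoImplicit false
set_option linter.unusedSectionVars false

namespace Cfsg.Agent.Helper84.PSp

open Matrix Cfsg.Agent.Helper13 Cfsg.Agent.Helper94.SpRoot Cfsg.Agent.Helper5.AutSp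

variable {F : Type*} [Field F] {m : ℕ}

local notation "Mt" => Matrix (Fin m) (Fin m) F
local notation "Mat" => Matrix (Fin m ⊕ Fin m) (Fin m ⊕ Fin m) F
local notation "Sp" => Matrix.symplecticGroup (Fin m) F
local notation "Vec" => (Fin m ⊕ Fin m → F)
local notation "B" => Cfsg.sympForm m F
local notation "SL2" => Matrix.SpecialLinearGroup (Fin 2) F
local notation "SLm" => Matrix.SpecialLinearGroup (Fin m) F

/-- the copy of `SL₂` acting on `⟨e_i, f_i⟩` -/
def sl2 (i₀ : Fin m) : Matrix.SpecialLinearGroup (Fin 2) F →* Matrix.symplecticGroup (Fin m) F :=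
  (Cfsg.Agent.Helper42.bHom F m).comp
    (MonoidHom.mulSingle (fun _ : Fin m => Matrix.SpecialLinearGroup (Fin 2) F) i₀)

theorem mulSingle_entry (i₀ i : Fin m) (s : SL2) (a b : Fin 2) :
    ((Pi.mulSingle i₀ s : Fin m → SL2) i).1 a b = if i = i₀ then s.1 a b else (1 : Matrix (Fin 2) (Fin 2) F) a b := by
  rw [Pi.mulSingle_apply]
  split_ifs <;> rfl

theorem coe_sl2 (i₀ : Fin m) (s : SL2) : (sl2 i₀ s : Mat) =
    fromBlocks (diagonal fun i => if i = i₀ then s.1 0 0 else 1) (diagonal fun i => if i = i₀ then s.1 0 1 else 0)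
      (diagonal fun i => if i = i₀ then s.1 1 0 else 0) (diagonal fun i => if i = i₀ then s.1 1 1 else 1) := by
  show Cfsg.Agent.Helper42.bMat (Pi.mulSingle i₀ s : Fin m → SL2) = _
  unfold Cfsg.Agent.Helper42.bMat
  congr 2 <;> funext i <;> rw [mulSingle_entry] <;> simp

theorem bA_sl2 (i₀ : Fin m) (s : SL2) : bA (sl2 i₀ s) = diagonal fun i => if i = i₀ then s.1 0 0 else 1 :=
  (blocks_of_coe (coe_sl2 i₀ s)).1
theorem bB_sl2 (i₀ : Fin m) (s : SL2) : bB (sl2 i₀ s) = diagonal fun i => if i = i₀ then s.1 0 1 else 0 :=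
  (blocks_of_coe (coe_sl2 i₀ s)).2.1
theorem bC_sl2 (i₀ : Fin m) (s : SL2) : bC (sl2 i₀ s) = diagonal fun i => if i = i₀ then s.1 1 0 else 0 :=
  (blocks_of_coe (coe_sl2 i₀ s)).2.2.1
theorem bD_sl2 (i₀ : Fin m) (s : SL2) : bD (sl2 i₀ s) = diagonal fun i => if i = i₀ then s.1 1 1 else 1 :=
  (blocks_of_coe (coe_sl2 i₀ s)).2.2.2

/-- the copy of `SL₂` at `i₀` fixes the other `e_j` -/
theorem sl2_smul_ev {i₀ j : Fin m} (hj : j ≠ i₀) (s : SL2) : sl2 i₀ s • (ev j : Vec) = ev j := by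
  funext k
  rcases k with k | k
  · rw [smul_ev, ← bA_apply, bA_sl2, ev_inl, diagonal_apply]
    by_cases hkj : k = j
    · rw [if_pos hkj, if_pos hkj, if_neg (by rw [hkj]; exact hj)]
    · rw [if_neg hkj, if_neg hkj]
  · rw [smul_ev, ← bC_apply, bC_sl2, ev_inr, diagonal_apply]
    by_cases hkj : k = j
    · rw [if_pos hkj, if_neg (by rw [hkj]; exact hj)]
    · rw [if_neg hkj]

theorem mem_normalizer_Qe {e : Vec} {g : Sp} (hg : g • e = e) :
    g ∈ Subgroup.normalizer ((Qe e : Subgroup Sp) : Set Sp) := by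
  apply Cfsg.Agent.Helper84.PSLn.mem_normalizer_of_conj
  · intro u hu
    exact conj_mem_Qe hg hu
  · intro u hu
    have hg' : g⁻¹ • e = e := by
      conv_lhs => rw [← hg]
      rw [inv_smul_smul]
    have := conj_mem_Qe hg' hu
    rwa [inv_inv] at this

/-- the torus element `diag(1,..,d,..,1; 1,..,d⁻¹,..,1)` -/
noncomputable def hd (i₀ : Fin m) (d : F) (hd0 : d ≠ 0) : Sp :=
  sl2 i₀ (Matrix.SpecialLinearGroup.diag2n (zero_ne_one : (0 : Fin 2) ≠ 1) d hd0)

theorem bA_hd (i₀ : Fin m) (d : F) (hd0 : d ≠ 0) : bA (hd i₀ d hd0) = diagonal fun i => if i = i₀ then d else 1 := by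
  unfold hd
  rw [bA_sl2, Matrix.SpecialLinearGroup.diag2n_coe]
  simp

theorem bC_hd (i₀ : Fin m) (d : F) (hd0 : d ≠ 0) : bC (hd i₀ d hd0) = 0 := by
  unfold hd
  rw [bC_sl2, Matrix.SpecialLinearGroup.diag2n_coe]
  simp

theorem bD_hd (i₀ : Fin m) (d : F) (hd0 : d ≠ 0) :
    bD (hd i₀ d hd0) = diagonal fun i => if i = i₀ then d⁻¹ else 1 := by
  unfold hd
  rw [bD_sl2, Matrix.SpecialLinearGroup.diag2n_coe]
  simp

theorem hd_mem_PM (i₀ : Fin m) (d : F) (hd0 : d ≠ 0) : hd i₀ d hd0 ∈ PM m F := bC_hd i₀ d hd0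

/-- conjugation by an element of the Siegel parabolic with diagonal blocks preserves `U0` -/
theorem conj_diag_mem_U0 {h : Sp} (hh : h ∈ PM m F) (D D' : Fin m → F) (hA : bA h = diagonal D)
    (hD : bD h = diagonal D') (hDD : ∀ i, D i * D' i = 1) {u : Sp} (hu : u ∈ U0 m F) :
    h * u * h⁻¹ ∈ U0 m F := by
  have hhi : h⁻¹ ∈ PM m F := (PM m F).inv_mem hh
  refine ⟨(PM m F).mul_mem ((PM m F).mul_mem hh hu.1) hhi, ?_⟩
  rw [bA_mul_of_mem_PM _ hhi, bA_mul_of_mem_PM _ hu.1, bA_inv, hA, hD, diagonal_transpose, isUTm_iff]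
  intro i j hji
  rw [Matrix.mul_diagonal, Matrix.diagonal_mul, (isUTm_iff.mp hu.2) i j hji]
  by_cases hij : i = j
  · rw [if_pos hij, mul_one, hij, hDD]
  · rw [if_neg hij, mul_zero, zero_mul]

theorem hd_mem_normalizer_U0 (i₀ : Fin m) (d : F) (hd0 : d ≠ 0) :
    hd i₀ d hd0 ∈ Subgroup.normalizer ((U0 m F : Subgroup Sp) : Set Sp) := by
  have h1 : ∀ i : Fin m, (if i = i₀ then d else 1) * (if i = i₀ then d⁻¹ else 1) = 1 := by
    intro i
    by_cases h : i = i₀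
    · rw [if_pos h, if_pos h, mul_inv_cancel₀ hd0]
    · rw [if_neg h, if_neg h, mul_one]
  apply Cfsg.Agent.Helper84.PSLn.mem_normalizer_of_conj
  · intro u hu
    exact conj_diag_mem_U0 (hd_mem_PM i₀ d hd0) _ _ (bA_hd i₀ d hd0) (bD_hd i₀ d hd0) h1 hu
  · intro u hu
    have := conj_diag_mem_U0 ((PM m F).inv_mem (hd_mem_PM i₀ d hd0)) _ _
      (by rw [bA_inv, bD_hd, diagonal_transpose]) (by rw [bD_inv, bA_hd, diagonal_transpose])
      (fun i => by rw [mul_comm]; exact h1 i) hu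
    rwa [inv_inv] at this

theorem mul_inv_lvS_mem_R_of_PM {y : Sp} (hy : y ∈ PM m F) (P : SLm) (hP : P.1 = bA y) :
    y * (lvS m F P)⁻¹ ∈ R m F := by
  have h1 : (lvS m F P)⁻¹ ∈ PM m F := (PM m F).inv_mem (lvS_mem_PM _)
  refine ⟨(PM m F).mul_mem hy h1, ?_⟩
  have h2 : bA y = bA (lvS m F P) := by rw [bA_lvS, hP]
  rw [bA_mul_of_mem_PM y h1, h2, ← bA_mul_of_mem_PM _ h1, mul_inv_cancel, bA_one]

/-- the decomposition of the Siegel parabolic -/
theorem exists_decomp_of_mem_PM (i₀ : Fin m) {g : Sp} (hg : g ∈ PM m F) :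
    ∃ r ∈ R m F, ∃ P : SLm, ∃ (d : F) (hd0 : d ≠ 0), g = r * lvS m F P * hd i₀ d hd0 := by
  have hdet : (bA g).det ≠ 0 := by
    intro h0
    have := congrArg Matrix.det (bA_mul_bD_of_mem_PM hg)
    rw [det_mul, h0, zero_mul, det_one] at this
    exact zero_ne_one this
  have hy : g * (hd i₀ (bA g).det hdet)⁻¹ ∈ PM m F := (PM m F).mul_mem hg ((PM m F).inv_mem (hd_mem_PM _ _ _))
  have hdet1 : (bA (g * (hd i₀ (bA g).det hdet)⁻¹)).det = 1 := by
    rw [bA_mul_of_mem_PM g ((PM m F).inv_mem (hd_mem_PM _ _ _)), bA_inv, bD_hd, diagonal_transpose, det_mul,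
      det_diagonal, Finset.prod_ite_eq' Finset.univ i₀, if_pos (Finset.mem_univ _), mul_inv_cancel₀ hdet]
  refine ⟨_, mul_inv_lvS_mem_R_of_PM hy ⟨_, hdet1⟩ rfl, ⟨_, hdet1⟩, (bA g).det, hdet, ?_⟩
  rw [inv_mul_cancel_right, inv_mul_cancel_right]

section char

variable {p : ℕ} [hp : Fact p.Prime] [CharP F p]

theorem lvS_transvection_pow {i j : Fin m} (hij : i ≠ j) (c : F) :
    (lvS m F (Matrix.SpecialLinearGroup.transvection hij c)) ^ p = 1 := by
  rw [← map_pow, Cfsg.Agent.Helper14.AutPSL.transvection_eq_tv, Cfsg.Agent.Helper84.PSLn.tv_pow_char p, map_one]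

theorem sl2_transvection_pow (i₀ : Fin m) {i j : Fin 2} (hij : i ≠ j) (c : F) :
    (sl2 i₀ (Matrix.SpecialLinearGroup.transvection hij c) : Sp) ^ p = 1 := by
  rw [← map_pow, Cfsg.Agent.Helper14.AutPSL.transvection_eq_tv, Cfsg.Agent.Helper84.PSLn.tv_pow_char p, map_one]

/-- the image in `PSp` of an element of order dividing `p` normalizing `Q` -/
theorem prj_mem_pset {Q : Subgroup Sp} {x : Sp}
    (hx : x ∈ Subgroup.normalizer ((Q : Subgroup Sp) : Set Sp)) (hxp : x ^ p = 1) :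
    prj x ∈ {y : Cfsg.PSp m F | y ∈ Subgroup.normalizer ((Q.map prj : Subgroup (Cfsg.PSp m F)) : Set _) ∧
      ∃ k : ℕ, orderOf y = p ^ k} := by
  refine ⟨Subgroup.le_normalizer_map prj (Subgroup.mem_map_of_mem _ hx), ?_⟩
  have h1 : orderOf (prj x : Cfsg.PSp m F) ∣ p := by
    apply orderOf_dvd_of_pow_eq_one
    rw [← map_pow, hxp, map_one]
  rcases (Nat.dvd_prime hp.out).mp h1 with h2 | h2
  · exact ⟨0, by rw [h2, pow_zero]⟩
  · exact ⟨1, by rw [h2, pow_one]⟩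

/-- the images of the embedded `SL_m` are generated by `p`-elements normalizing the image of the Siegel radical -/
theorem prj_lvS_mem (hm : 2 ≤ m) (P : SLm) :
    prj (lvS m F P) ∈ Subgroup.closure {y : Cfsg.PSp m F |
      y ∈ Subgroup.normalizer (((R m F).map prj : Subgroup (Cfsg.PSp m F)) : Set _) ∧ ∃ k : ℕ, orderOf y = p ^ k} := by
  haveI : Nontrivial (Fin m) := Fin.nontrivial_iff_two_le.mpr hm
  refine Cfsg.Agent.Helper5.transvection_induction (fun P => prj (lvS m F P) ∈ Subgroup.closure {y : Cfsg.PSp m F |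
      y ∈ Subgroup.normalizer (((R m F).map prj : Subgroup (Cfsg.PSp m F)) : Set _) ∧ ∃ k : ℕ, orderOf y = p ^ k})
    ?_ ?_ P
  · intro i j hij a
    apply Subgroup.subset_closure
    exact prj_mem_pset (PM_le_normalizer_R (lvS_mem_PM _)) (lvS_transvection_pow hij a)
  · intro A A' hA hA'
    show prj (lvS m F (A * A')) ∈ _
    rw [map_mul, map_mul]
    exact mul_mem hA hA'

/-- the images of the torus elements at `i₀ ≠ 0` are generated by `p`-elements normalizing the image of `Q_{e_0}` -/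
theorem prj_hd_mem (hm : 1 ≤ m) {i₀ : Fin m} (hi₀ : (⟨0, hm⟩ : Fin m) ≠ i₀) (d : F) (hd0 : d ≠ 0) :
    prj (hd i₀ d hd0) ∈ Subgroup.closure {y : Cfsg.PSp m F |
      y ∈ Subgroup.normalizer (((Qe (ev ⟨0, hm⟩ : Vec)).map prj : Subgroup (Cfsg.PSp m F)) : Set _) ∧
        ∃ k : ℕ, orderOf y = p ^ k} := by
  have key : ∀ {i j : Fin 2} (hij : i ≠ j) (c : F),
      prj (sl2 i₀ (Matrix.SpecialLinearGroup.transvection hij c)) ∈ Subgroup.closure {y : Cfsg.PSp m F |
      y ∈ Subgroup.normalizer (((Qe (ev ⟨0, hm⟩ : Vec)).map prj : Subgroup (Cfsg.PSp m F)) : Set _) ∧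
        ∃ k : ℕ, orderOf y = p ^ k} := by
    intro i j hij c
    apply Subgroup.subset_closure
    exact prj_mem_pset (mem_normalizer_Qe (sl2_smul_ev hi₀ _)) (sl2_transvection_pow i₀ hij c)
  unfold hd
  rw [Cfsg.Agent.Helper5.diag2n_eq_prod_transvection]
  simp only [map_mul]
  refine mul_mem (mul_mem (mul_mem (mul_mem (mul_mem ?_ ?_) ?_) ?_) ?_) ?_ <;> exact key _ _

variable [Fintype F] {f : ℕ}

/-- an element of `Sp` whose image normalizes the image of `U0` normalizes `U0` -/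
theorem conj_mem_U0_of_prj (hF : Fintype.card F = p ^ f) (hm : 1 ≤ m) {g : Sp}
    (hg : ∀ s ∈ (U0 m F).map prj, prj g * s * (prj g)⁻¹ ∈ (U0 m F).map (prj : Sp →* Cfsg.PSp m F))
    {u : Sp} (hu : u ∈ U0 m F) : g * u * g⁻¹ ∈ U0 m F := by
  obtain ⟨u', hu', hu'w⟩ := hg (prj u) (Subgroup.mem_map_of_mem _ hu)
  have h1 : prj u' = prj (g * u * g⁻¹) := by
    rw [hu'w, map_mul, map_mul, map_inv]
  have hpow : ∀ v ∈ U0 m F, v ^ (p ^ (f * m ^ 2)) = 1 := by
    intro v hv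
    have h2 := pow_card_eq_one' (G := ↥(U0 m F)) (x := ⟨v, hv⟩)
    rw [card_U0, hF, ← pow_mul] at h2
    have h3 := congrArg Subtype.val h2
    rwa [Subgroup.coe_pow] at h3
  rcases (mk_eq_iff hm).1 h1 with h2 | h2
  · rw [h2]
    exact hu'
  · have h3 : (g * u * g⁻¹) ^ (p ^ (f * m ^ 2)) = 1 := by
      rw [conj_pow, hpow u hu]
      group
    have hc : Commute u' (Cfsg.Agent.S0246.negOne m F) := (negOne_comm _).symm
    have h4 := hc.mul_pow (p ^ (f * m ^ 2))
    rw [← h2, h3, hpow u' hu', one_mul] at h4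
    rw [h2, negOne_eq_one_of_pow h4.symm, mul_one]
    exact hu'

theorem Qe_le_U0 (hF : Fintype.card F = p ^ f) (hf : 1 ≤ f) (hm : 1 ≤ m) : Qe (ev ⟨0, hm⟩ : Vec) ≤ U0 m F := by
  have h := Qe_le_sylow (sylU0 hF hf m) (e := (ev ⟨0, hm⟩ : Vec)) (by
    intro g hg
    rw [coe_sylU0] at hg
    exact smul_ev_zero_of_mem_U0 hm hg)
  rwa [coe_sylU0] at h

/-- the normalizer of the image of `U0` is generated by elements of local origin -/
theorem locGen_U0 (hF : Fintype.card F = p ^ f) (hf : 1 ≤ f) (hm : 2 ≤ m) :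
    LocGen p ((U0 m F).map (prj : Sp →* Cfsg.PSp m F)) := by
  have hm1 : 1 ≤ m := by omega
  intro gb hgb
  obtain ⟨g, rfl⟩ := prj_surjective gb
  have hgN : g ∈ Subgroup.normalizer ((U0 m F : Subgroup Sp) : Set Sp) := by
    apply Cfsg.Agent.Helper84.PSLn.mem_normalizer_of_conj
    · intro u hu
      exact conj_mem_U0_of_prj hF hm1 (fun s hs => (Subgroup.mem_normalizer_iff.mp hgb s).mp hs) hu
    · intro u hu
      have hinv := Subgroup.inv_mem _ hgb
      have := conj_mem_U0_of_prj hF hm1 (g := g⁻¹) (fun s hs => by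
        rw [map_inv]
        exact (Subgroup.mem_normalizer_iff.mp hinv s).mp hs) hu
      rwa [inv_inv] at this
  have hi₀ : (⟨0, hm1⟩ : Fin m) ≠ ⟨1, hm⟩ := by
    intro h
    have := congrArg Fin.val h
    simp at this
  obtain ⟨r, hr, P, d, hd0, hgd⟩ := exists_decomp_of_mem_PM ⟨1, hm⟩ (normalizer_U0_le_PM hgN)
  have hrN : r ∈ Subgroup.normalizer ((U0 m F : Subgroup Sp) : Set Sp) := Subgroup.le_normalizer (R_le_U0 hr)
  have hhN := hd_mem_normalizer_U0 (F := F) (⟨1, hm⟩ : Fin m) d hd0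
  have hPN : lvS m F P ∈ Subgroup.normalizer ((U0 m F : Subgroup Sp) : Set Sp) := by
    have e : lvS m F P = r⁻¹ * g * (hd ⟨1, hm⟩ d hd0)⁻¹ := by
      rw [hgd]
      group
    rw [e]
    exact mul_mem (mul_mem (inv_mem hrN) hgN) (inv_mem hhN)
  rw [hgd, map_mul, map_mul]
  refine mul_mem (mul_mem ?_ ?_) ?_
  · apply Subgroup.subset_closure
    exact ⟨Subgroup.le_normalizer (Subgroup.mem_map_of_mem _ (R_le_U0 hr)),
      Or.inl (Subgroup.mem_map_of_mem _ (R_le_U0 hr))⟩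
  · apply Subgroup.subset_closure
    refine ⟨Subgroup.le_normalizer_map prj (Subgroup.mem_map_of_mem _ hPN), Or.inr (Or.inr ?_)⟩
    refine ⟨(R m F).map prj, Subgroup.map_mono R_le_U0, ?_, centralizer_R_le hF hm1, prj_lvS_mem hm P⟩
    exact (Subgroup.map_mono U0_le_normalizer_R).trans (Subgroup.le_normalizer_map prj)
  · apply Subgroup.subset_closure
    refine ⟨Subgroup.le_normalizer_map prj (Subgroup.mem_map_of_mem _ hhN), Or.inr (Or.inr ?_)⟩
    refine ⟨(Qe (ev ⟨0, hm1⟩ : Vec)).map prj, Subgroup.map_mono (Qe_le_U0 hF hf hm1), ?_,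
      centralizer_Qe_le (p := p) hm1 (ev_ne_zero _), prj_hd_mem hm1 hi₀ d hd0⟩
    refine (Subgroup.map_mono ?_).trans (Subgroup.le_normalizer_map prj)
    intro u hu
    exact mem_normalizer_Qe (smul_ev_zero_of_mem_U0 hm1 hu)

end char

end Cfsg.Agent.Helper84.PSp
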