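import Cfsg.Agent.Helper84.KNorm
import Cfsg.Agent.Helper85.Basic
set_option autoImplicit false

/-! # `K`-normalizer fusion systems are saturated (Aschbacher–Kessar–Oliver, Theorem I.5.5) -/

namespace Cfsg.Agent.Helper84

open Cfsg Cfsg.FusionSystem Cfsg.Agent.Helper87

variable {Ω : Type*} [Group Ω] {S : Subgroup Ω}

/-- The automorphisms of `B` stabilizing `P` and restricting on `Q ≤ B` to an element of `K₀`. -/
def KP (B P Q : Subgroup Ω) (hQB : Q ≤ B) (K₀ : Subgroup (MulAut Q)) : Subgroup (MulAut B) where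
  carrier := {α | (∀ x : B, (x : Ω) ∈ P ↔ ((α x : B) : Ω) ∈ P) ∧
    ∃ κ ∈ K₀, ∀ x : Q, α (Subgroup.inclusion hQB x) = Subgroup.inclusion hQB (κ x)}
  one_mem' := ⟨fun _ => Iff.rfl, 1, K₀.one_mem, fun _ => rfl⟩
  mul_mem' := by
    rintro a b ⟨ha, κa, hκa, hax⟩ ⟨hb, κb, hκb, hbx⟩
    refine ⟨fun x => ?_, κa * κb, K₀.mul_mem hκa hκb, fun x => ?_⟩
    · rw [MulAut.mul_apply, hb x, ha (b x)]
    · rw [MulAut.mul_apply, hbx, hax]
      rfl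
  inv_mem' := by
    rintro a ⟨ha, κa, hκa, hax⟩
    refine ⟨fun x => ?_, κa⁻¹, K₀.inv_mem hκa, fun x => ?_⟩
    · rw [ha (a⁻¹ x), MulAut.apply_inv_self]
    · have h1 := hax (κa⁻¹ x)
      rw [MulAut.apply_inv_self] at h1
      rw [← h1, MulAut.inv_apply_self]

theorem mem_KP_iff (B P Q : Subgroup Ω) (hQB : Q ≤ B) (K₀ : Subgroup (MulAut Q)) (α : MulAut B) :
    α ∈ KP B P Q hQB K₀ ↔ (∀ x : B, (x : Ω) ∈ P ↔ ((α x : B) : Ω) ∈ P) ∧
      ∃ κ ∈ K₀, ∀ x : Q, α (Subgroup.inclusion hQB x) = Subgroup.inclusion hQB (κ x) := Iff.rfl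

/-- Transport of `KP` along an isomorphism carrying `P` to `P'` and restricting on `Q` to an element of `K₀`: one inclusion. -/
theorem tr_KP_le {B B' P P' Q : Subgroup Ω} (hQB : Q ≤ B) (hQB' : Q ≤ B') (K₀ : Subgroup (MulAut Q)) (e : B ≃* B')
    (hP : ∀ x : B, (x : Ω) ∈ P ↔ ((e x : B') : Ω) ∈ P')
    (κ : MulAut Q) (hκ : κ ∈ K₀) (hQ : ∀ x : Q, e (Subgroup.inclusion hQB x) = Subgroup.inclusion hQB' (κ x)) :
    tr e (KP B P Q hQB K₀) ≤ KP B' P' Q hQB' K₀ := by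
  rintro _ ⟨γ, ⟨hγP, κγ, hκγ, hγQ⟩, rfl⟩
  refine ⟨fun x => ?_, κ * κγ * κ⁻¹, K₀.mul_mem (K₀.mul_mem hκ hκγ) (K₀.inv_mem hκ), fun x => ?_⟩
  · show (x : Ω) ∈ P' ↔ ((e (γ (e.symm x)) : B') : Ω) ∈ P'
    rw [← hP (γ (e.symm x)), ← hγP (e.symm x), hP (e.symm x), MulEquiv.apply_symm_apply]
  · show e (γ (e.symm (Subgroup.inclusion hQB' x))) = _
    have h1 : e.symm (Subgroup.inclusion hQB' x) = Subgroup.inclusion hQB (κ⁻¹ x) := by
      rw [MulEquiv.symm_apply_eq, hQ, MulAut.apply_inv_self]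
    rw [h1, hγQ, hQ]
    rfl

/-- Transport of `KP` along an isomorphism carrying `P` to `P'` and restricting on `Q` to an element of `K₀`. -/
theorem tr_KP {B B' P P' Q : Subgroup Ω} (hQB : Q ≤ B) (hQB' : Q ≤ B') (K₀ : Subgroup (MulAut Q)) (e : B ≃* B')
    (hP : ∀ x : B, (x : Ω) ∈ P ↔ ((e x : B') : Ω) ∈ P')
    (κ : MulAut Q) (hκ : κ ∈ K₀) (hQ : ∀ x : Q, e (Subgroup.inclusion hQB x) = Subgroup.inclusion hQB' (κ x)) :
    tr e (KP B P Q hQB K₀) = KP B' P' Q hQB' K₀ := by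
  apply le_antisymm (tr_KP_le hQB hQB' K₀ e hP κ hκ hQ)
  have h1 : tr e.symm (KP B' P' Q hQB' K₀) ≤ KP B P Q hQB K₀ := by
    apply tr_KP_le hQB' hQB K₀ e.symm (fun x => ?_) κ⁻¹ (K₀.inv_mem hκ) (fun x => ?_)
    · rw [hP (e.symm x), MulEquiv.apply_symm_apply]
    · rw [MulEquiv.symm_apply_eq, hQ, MulAut.apply_inv_self]
  intro β hβ
  have h2 : MulAut.congr e.symm β ∈ KP B P Q hQB K₀ := h1 (congr_mem_tr e.symm _ hβ)
  exact (mem_tr_iff e _ β).mpr h2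

theorem normalizer_inf_le_normalizer_sup (P Q : Subgroup Ω) {g : Ω}
    (hP : g ∈ Subgroup.normalizer (P : Set Ω)) (hQ : g ∈ Subgroup.normalizer (Q : Set Ω)) :
    g ∈ Subgroup.normalizer ((P ⊔ Q : Subgroup Ω) : Set Ω) := by
  have key : ∀ k : Ω, k ∈ Subgroup.normalizer (P : Set Ω) → k ∈ Subgroup.normalizer (Q : Set Ω) →
      ∀ y ∈ P ⊔ Q, k * y * k⁻¹ ∈ P ⊔ Q := by
    intro k hkP hkQ
    have : P ⊔ Q ≤ (P ⊔ Q).comap (MulAut.conj k).toMonoidHom :=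
      sup_le (fun y hy => Subgroup.mem_sup_left ((hkP y).mp hy)) (fun y hy => Subgroup.mem_sup_right ((hkQ y).mp hy))
    intro y hy
    exact this hy
  apply mem_normalizer_of_conj_mem_of_inv_conj_mem (key g hP hQ)
  intro y hy
  have := key g⁻¹ (Subgroup.inv_mem _ hP) (Subgroup.inv_mem _ hQ) y hy
  rwa [inv_inv] at this

/-- `N_S^{K_P}(PQ) = N_{N_S^K(Q)}(P)`. -/
theorem mem_NK_KP_iff (S P Q : Subgroup Ω) (K₀ : Subgroup (MulAut Q)) (g : Ω) :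
    g ∈ NK S (P ⊔ Q) (KP (P ⊔ Q) P Q le_sup_right K₀) ↔
      g ∈ NK S Q K₀ ∧ g ∈ Subgroup.normalizer (P : Set Ω) := by
  rw [mem_NK_iff, mem_NK_iff]
  constructor
  · rintro ⟨hgS, hgB, hgP, κ, hκ, hgQ⟩
    have hκx : ∀ x : Q, ((κ x : Q) : Ω) = g * x * g⁻¹ := by
      intro x
      have := congrArg (fun z : ↥(P ⊔ Q) => (z : Ω)) (hgQ x)
      exact this.symm
    have hgNQ : g ∈ Subgroup.normalizer (Q : Set Ω) := mem_normalizer_of_conj_eq κ g hκx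
    refine ⟨⟨hgS, hgNQ, ?_⟩, ?_⟩
    · rw [← eq_conjAut_of_conj_eq κ g hκx]
      exact hκ
    · rw [Subgroup.mem_normalizer_iff]
      intro y
      constructor
      · intro hy
        exact (hgP ⟨y, Subgroup.mem_sup_left hy⟩).mp hy
      · intro hy
        have hyB : y ∈ P ⊔ Q := (hgB y).mpr (Subgroup.mem_sup_left hy)
        exact (hgP ⟨y, hyB⟩).mpr hy
  · rintro ⟨⟨hgS, hgNQ, hgK⟩, hgNP⟩
    refine ⟨hgS, normalizer_inf_le_normalizer_sup P Q hgNP hgNQ, fun x => hgNP x, conjAut Q g hgNQ, hgK, fun x => ?_⟩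
    exact Subtype.ext rfl

/-- The maps of the `K`-normalizer system with source `P`. -/
def KHom (F : FusionSystem S) (Q : Subgroup Ω) (K₀ : Subgroup (MulAut Q)) (P : Subgroup Ω) : Set (P →* Ω) :=
  {φ | φ ∈ F.Hom P ∧ P ≤ NK S Q K₀ ∧ (∀ x : P, φ x ∈ NK S Q K₀) ∧
    ∃ ψ ∈ F.Hom (P ⊔ Q), (∀ x : P, ψ (Subgroup.inclusion le_sup_left x) = φ x) ∧
      ∃ κ ∈ K₀, ∀ x : Q, ψ (Subgroup.inclusion le_sup_right x) = ((κ x : Q) : Ω)}

/-- A map on `P ⊔ Q` carrying `P` into `P'` and `Q` into `Q'` has values in `P' ⊔ Q'`. -/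
theorem map_sup_mem {P Q P' Q' : Subgroup Ω} (ψ : ↥(P ⊔ Q) →* Ω)
    (hP : ∀ x : P, ψ (Subgroup.inclusion le_sup_left x) ∈ P')
    (hQ : ∀ x : Q, ψ (Subgroup.inclusion le_sup_right x) ∈ Q') : ∀ z, ψ z ∈ P' ⊔ Q' :=
  Cfsg.Agent.Helper85.forall_mem_of_sup ((P' ⊔ Q').comap ψ)
    (fun x => Subgroup.mem_sup_left (hP x)) (fun x => Subgroup.mem_sup_right (hQ x))

/-- Restriction to `P` of the automorphisms in `KP B P Q K₀`. -/
def resKP (B P Q : Subgroup Ω) (hPB : P ≤ B) (hQB : Q ≤ B) (K₀ : Subgroup (MulAut Q)) :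
    ↥(KP B P Q hQB K₀) →* MulAut P where
  toFun β := resAutOf hPB β.1 β.2.1
  map_one' := by
    ext x
    rfl
  map_mul' a b := by
    ext x
    rfl

theorem resKP_apply (B P Q : Subgroup Ω) (hPB : P ≤ B) (hQB : Q ≤ B) (K₀ : Subgroup (MulAut Q))
    (β : ↥(KP B P Q hQB K₀)) (x : P) :
    ((resKP B P Q hPB hQB K₀ β x : P) : Ω) = (((β : MulAut B) ⟨x, hPB x.2⟩ : B) : Ω) := rfl

/-- From an extension `ψ` to `RQ` of a map `φ` with source `R` and image `P`, restricting on `Q` to an automorphism `κ`: the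
isomorphism `RQ ≃ PQ` of the system `F` induced by `ψ`. -/
theorem exists_iso_of_extension (F : FusionSystem S) {Q R P : Subgroup Ω}
    {φ : R →* Ω} (hrange : φ.range = P) {ψ : ↥(R ⊔ Q) →* Ω} (hψ : ψ ∈ F.Hom (R ⊔ Q))
    (hψR : ∀ x : R, ψ (Subgroup.inclusion le_sup_left x) = φ x) (κ : MulAut Q)
    (hψQ : ∀ x : Q, ψ (Subgroup.inclusion le_sup_right x) = ((κ x : Q) : Ω)) :
    ∃ e : ↥(R ⊔ Q) ≃* ↥(P ⊔ Q), IsIso F e ∧ (∀ z, ((e z : ↥(P ⊔ Q)) : Ω) = ψ z) ∧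
      (∀ z : ↥(R ⊔ Q), (z : Ω) ∈ R ↔ ((e z : ↥(P ⊔ Q)) : Ω) ∈ P) ∧
      ∀ q : Q, e (Subgroup.inclusion le_sup_right q) = Subgroup.inclusion le_sup_right (κ q) := by
  have hψrange : ψ.range = P ⊔ Q := by
    apply le_antisymm
    · rintro _ ⟨z, rfl⟩
      refine map_sup_mem ψ (fun x => ?_) (fun x => ?_) z
      · rw [hψR, ← hrange]
        exact ⟨x, rfl⟩
      · rw [hψQ]
        exact (κ x).2
    · apply sup_le
      · intro y hy
        rw [← hrange] at hy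
        obtain ⟨x, rfl⟩ := hy
        exact ⟨_, hψR x⟩
      · intro y hy
        refine ⟨Subgroup.inclusion le_sup_right (κ⁻¹ ⟨y, hy⟩), ?_⟩
        rw [hψQ, MulAut.apply_inv_self]
  refine ⟨isoOfRange F hψ hψrange, isIso_isoOfRange F hψ hψrange, fun z => rfl, fun z => ?_, fun q => ?_⟩
  · rw [isoOfRange_apply]
    constructor
    · intro hz
      have : z = Subgroup.inclusion le_sup_left ⟨(z : Ω), hz⟩ := Subtype.ext rfl
      rw [this, hψR, ← hrange]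
      exact ⟨_, rfl⟩
    · intro hz
      rw [← hrange] at hz
      obtain ⟨x, hx⟩ := hz
      rw [← hψR] at hx
      have := F.injective_of_mem hψ hx
      rw [← this]
      exact x.2
  · apply Subtype.ext
    rw [isoOfRange_apply, hψQ]
    rfl

/-- From a map of the `K`-normalizer system with source `R` and image `P`: an isomorphism `RQ ≃ PQ` of the system `F`. -/
theorem exists_iso_of_KHom (F : FusionSystem S) {Q : Subgroup Ω} (K₀ : Subgroup (MulAut Q)) {R P : Subgroup Ω}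
    {φ : R →* Ω} (hφ : φ ∈ KHom F Q K₀ R) (hrange : φ.range = P) :
    ∃ e : ↥(R ⊔ Q) ≃* ↥(P ⊔ Q), IsIso F e ∧
      (∀ x : R, ((e (Subgroup.inclusion le_sup_left x) : ↥(P ⊔ Q)) : Ω) = φ x) ∧
      (∀ z : ↥(R ⊔ Q), (z : Ω) ∈ R ↔ ((e z : ↥(P ⊔ Q)) : Ω) ∈ P) ∧
      ∃ κ ∈ K₀, ∀ q : Q, e (Subgroup.inclusion le_sup_right q) = Subgroup.inclusion le_sup_right (κ q) := by
  obtain ⟨hφF, hR, hval, ψ, hψ, hψR, κ, hκ, hψQ⟩ := hφ
  obtain ⟨e, he, hez, heiff, heQ⟩ := exists_iso_of_extension F hrange hψ hψR κ hψQ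
  exact ⟨e, he, fun x => by rw [hez, hψR], heiff, κ, hκ, heQ⟩

/-- The restriction to `P` of an automorphism of the system on `PQ` in `KP` gives a map of the `K`-normalizer system. -/
theorem resKP_mem_KHom (F : FusionSystem S) {Q : Subgroup Ω} (K₀ : Subgroup (MulAut Q)) {P : Subgroup Ω}
    (hP : P ≤ NK S Q K₀) (β : ↥(KP (P ⊔ Q) P Q le_sup_right K₀)) (hβ : (β : MulAut ↥(P ⊔ Q)) ∈ F.autGroup (P ⊔ Q))
    (hBS : P ⊔ Q ≤ S) :
    P.subtype.comp (resKP (P ⊔ Q) P Q le_sup_left le_sup_right K₀ β).toMonoidHom ∈ KHom F Q K₀ P := by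
  have hβiso : IsIso F ((β : MulAut ↥(P ⊔ Q)) : ↥(P ⊔ Q) ≃* ↥(P ⊔ Q)) := (mem_autGroup_iff F hBS _).mp hβ
  obtain ⟨κ, hκ, hκx⟩ := β.2.2
  refine ⟨?_, hP, fun x => hP (Subtype.mem _), _, hβiso, fun x => rfl, κ, hκ, fun x => ?_⟩
  · unfold IsIso at hβiso
    exact mem_of_eq F (restrict_mem F hβiso le_sup_left) (fun x => rfl)
  · have := congrArg (fun z : ↥(P ⊔ Q) => (z : Ω)) (hκx x)
    exact this

/-- Every automorphism of `P` in the `K`-normalizer system is the restriction of an automorphism of the system on `PQ` in `KP`. -/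
theorem exists_KP_of_KHom [Finite S] (F : FusionSystem S) {Q : Subgroup Ω} (K₀ : Subgroup (MulAut Q)) {P : Subgroup Ω}
    (α : MulAut P) (hα : P.subtype.comp (α : P ≃* P).toMonoidHom ∈ KHom F Q K₀ P) :
    ∃ β : ↥(KP (P ⊔ Q) P Q le_sup_right K₀), (β : MulAut ↥(P ⊔ Q)) ∈ F.autGroup (P ⊔ Q) ∧
      resKP (P ⊔ Q) P Q le_sup_left le_sup_right K₀ β = α := by
  have hrange : (P.subtype.comp (α : P ≃* P).toMonoidHom).range = P := by
    ext y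
    constructor
    · rintro ⟨x, rfl⟩
      exact (α x).2
    · intro hy
      refine ⟨α⁻¹ ⟨y, hy⟩, ?_⟩
      show ((α (α⁻¹ ⟨y, hy⟩) : P) : Ω) = y
      rw [MulAut.apply_inv_self]
  obtain ⟨e, he, heP, hePiff, κ, hκ, heQ⟩ := exists_iso_of_KHom F K₀ hα hrange
  refine ⟨⟨e, hePiff, κ, hκ, heQ⟩, (mem_autGroup_iff F he.le_left _).mpr he, ?_⟩
  ext x
  rw [resKP_apply]
  exact heP x

/-- If `PQ` is fully `K_P`-normalized in `F`, then `P` is fully automized in the `K`-normalizer system. -/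
theorem isFullyAutomized_of_KP [Finite S] {p : ℕ} [Fact p.Prime] (hS : IsPGroup p S) (F : FusionSystem S)
    (hF : F.IsSaturated p) {Q : Subgroup Ω} (K₀ : Subgroup (MulAut Q)) (E : FusionSystem (NK S Q K₀))
    (hE : ∀ P : Subgroup Ω, E.Hom P = KHom F Q K₀ P) {P : Subgroup Ω} (hP : P ≤ NK S Q K₀)
    (hfn : IsFullyKNormalized F (P ⊔ Q) (KP (P ⊔ Q) P Q le_sup_right K₀)) : E.IsFullyAutomized p P := by
  refine ⟨hP, ?_⟩
  have hBS : P ⊔ Q ≤ S := hfn.1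
  have haut := (fullyCentralized_isKAutomized_of_isFullyKNormalized hS F hF _ hfn).2
  have : Finite (MulAut ↥(P ⊔ Q)) := finite_mulAut_of_le hBS
  have : Finite (MulAut P) := finite_mulAut_of_le (hP.trans (NK_le S Q K₀))
  have hS₀ : IsPGroup p (NK S Q K₀) := hS.to_le (NK_le S Q K₀)
  have hBp : IsPGroup p ((autInducedBy (NK S Q K₀) P).subgroupOf (E.autGroup P)) :=
    (isPGroup_autInducedBy hS₀ P).comap_subtype
  have hmem : ∀ β : ↥(KP (P ⊔ Q) P Q le_sup_right K₀ ⊓ F.autGroup (P ⊔ Q)),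
      resKP (P ⊔ Q) P Q le_sup_left le_sup_right K₀ ⟨β.1, β.2.1⟩ ∈ E.autGroup P := by
    intro β
    rw [mem_autGroup_iff E hP]
    unfold IsIso
    rw [hE]
    exact resKP_mem_KHom F K₀ hP ⟨β.1, β.2.1⟩ β.2.2 hBS
  apply exists_sylow_eq_of_map _ hBp
    (((resKP (P ⊔ Q) P Q le_sup_left le_sup_right K₀).comp
      (Subgroup.inclusion (inf_le_left : KP (P ⊔ Q) P Q le_sup_right K₀ ⊓ F.autGroup (P ⊔ Q) ≤ _))).codRestrict
        (E.autGroup P) hmem)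
    ((KP (P ⊔ Q) P Q le_sup_right K₀ ⊓ autInducedBy S (P ⊔ Q)).subgroupOf
      (KP (P ⊔ Q) P Q le_sup_right K₀ ⊓ F.autGroup (P ⊔ Q))) haut
  · ext a
    rw [Subgroup.mem_subgroupOf]
    constructor
    · rintro ⟨β, hβ, rfl⟩
      rw [SetLike.mem_coe, Subgroup.mem_subgroupOf] at hβ
      obtain ⟨g, hgS, hgx⟩ := (mem_autInducedBy_iff S _ _).mp hβ.2
      have hgB : g ∈ Subgroup.normalizer ((P ⊔ Q : Subgroup Ω) : Set Ω) := mem_normalizer_of_conj_eq _ g hgx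
      have hβeq := eq_conjAut_of_conj_eq _ g hgx
      have hgNK : g ∈ NK S (P ⊔ Q) (KP (P ⊔ Q) P Q le_sup_right K₀) := by
        rw [mem_NK_iff]
        exact ⟨hgS, hgB, hβeq ▸ hβ.1⟩
      obtain ⟨hg₀, hgP⟩ := (mem_NK_KP_iff S P Q K₀ g).mp hgNK
      rw [mem_autInducedBy_iff]
      refine ⟨g, hg₀, fun x => ?_⟩
      exact hgx ⟨x, Subgroup.mem_sup_left x.2⟩
    · intro ha
      obtain ⟨g, hg₀, hgx⟩ := (mem_autInducedBy_iff _ P _).mp ha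
      have hgP : g ∈ Subgroup.normalizer (P : Set Ω) := mem_normalizer_of_conj_eq _ g hgx
      have hgNK : g ∈ NK S (P ⊔ Q) (KP (P ⊔ Q) P Q le_sup_right K₀) := (mem_NK_KP_iff S P Q K₀ g).mpr ⟨hg₀, hgP⟩
      obtain ⟨hgS, hgB, hgK⟩ := (mem_NK_iff S _ _ g).mp hgNK
      have hgA : conjAut (P ⊔ Q) g hgB ∈ autInducedBy S (P ⊔ Q) := conjAut_mem_autInducedBy S _ hgS hgB
      refine ⟨⟨conjAut (P ⊔ Q) g hgB, hgK, autInducedBy_le_autGroup F hBS hgA⟩, ?_, ?_⟩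
      · rw [SetLike.mem_coe, Subgroup.mem_subgroupOf]
        exact ⟨hgK, hgA⟩
      · apply Subtype.ext
        ext x
        show ((resKP (P ⊔ Q) P Q le_sup_left le_sup_right K₀ ⟨conjAut (P ⊔ Q) g hgB, hgK⟩ x : P) : Ω) = _
        rw [resKP_apply, hgx]
        rfl
  · intro a _
    have ha : P.subtype.comp ((a : MulAut P) : P ≃* P).toMonoidHom ∈ KHom F Q K₀ P := by
      rw [← hE]
      exact (mem_autGroup_iff E hP _).mp a.2
    obtain ⟨β, hβF, hβ⟩ := exists_KP_of_KHom F K₀ a.1 ha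
    exact ⟨⟨β.1, β.2, hβF⟩, Subtype.ext hβ⟩

/-- Group-theoretic core of the receptivity argument: a `p`-subgroup `D` of `L = K_P ∩ Aut_F(B)` whose elements agree on `P` with
elements of `K_P ∩ Aut_S(B)` can be conjugated into `K_P ∩ Aut_S(B)` by an element of `L` acting trivially on `P`. -/
theorem exists_conj_trivial_on_P [Finite S] {p : ℕ} [Fact p.Prime] (hS : IsPGroup p S) (F : FusionSystem S)
    {B P Q : Subgroup Ω} (hPB : P ≤ B) (hQB : Q ≤ B) (hBS : B ≤ S) (K₀ : Subgroup (MulAut Q))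
    (hidx : ¬ p ∣ (KP B P Q hQB K₀ ⊓ autInducedBy S B).relIndex (KP B P Q hQB K₀ ⊓ F.autGroup B))
    (D : Subgroup (MulAut B)) (hD : IsPGroup p D) (hDL : D ≤ KP B P Q hQB K₀ ⊓ F.autGroup B)
    (hDs : ∀ d ∈ D, ∃ s ∈ KP B P Q hQB K₀ ⊓ autInducedBy S B, ∀ x : P, d ⟨x, hPB x.2⟩ = s ⟨x, hPB x.2⟩) :
    ∃ l ∈ KP B P Q hQB K₀ ⊓ F.autGroup B, (∀ x : P, l ⟨x, hPB x.2⟩ = ⟨x, hPB x.2⟩) ∧
      ∀ d ∈ D, l * d * l⁻¹ ∈ KP B P Q hQB K₀ ⊓ autInducedBy S B := by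
  have : Finite (MulAut B) := finite_mulAut_of_le hBS
  have hASle : KP B P Q hQB K₀ ⊓ autInducedBy S B ≤ KP B P Q hQB K₀ ⊓ F.autGroup B :=
    inf_le_inf_left _ (autInducedBy_le_autGroup F hBS)
  -- the restriction homomorphism on `L`
  let resL : ↥(KP B P Q hQB K₀ ⊓ F.autGroup B) →* MulAut P :=
    (resKP B P Q hPB hQB K₀).comp (Subgroup.inclusion inf_le_left)
  have hresL : ∀ (l : ↥(KP B P Q hQB K₀ ⊓ F.autGroup B)) (x : P),
      ((resL l x : P) : Ω) = (((l : MulAut B) ⟨x, hPB x.2⟩ : B) : Ω) := fun l x => rfl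
  have hAS : IsPGroup p ((KP B P Q hQB K₀ ⊓ autInducedBy S B).subgroupOf (KP B P Q hQB K₀ ⊓ F.autGroup B)) :=
    ((isPGroup_autInducedBy hS B).to_le inf_le_right).comap_subtype
  have hDp : IsPGroup p (D.subgroupOf (KP B P Q hQB K₀ ⊓ F.autGroup B)) := hD.comap_subtype
  have hDle : D.subgroupOf (KP B P Q hQB K₀ ⊓ F.autGroup B) ≤
      (KP B P Q hQB K₀ ⊓ autInducedBy S B).subgroupOf (KP B P Q hQB K₀ ⊓ F.autGroup B) ⊔ resL.ker := by
    intro d hd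
    rw [Subgroup.mem_subgroupOf] at hd
    obtain ⟨s, hs, hsx⟩ := hDs d.1 hd
    have hs' : (⟨s, hASle hs⟩ : ↥(KP B P Q hQB K₀ ⊓ F.autGroup B)) ∈
        (KP B P Q hQB K₀ ⊓ autInducedBy S B).subgroupOf (KP B P Q hQB K₀ ⊓ F.autGroup B) :=
      Subgroup.mem_subgroupOf.mpr hs
    have hk : (⟨s, hASle hs⟩ : ↥(KP B P Q hQB K₀ ⊓ F.autGroup B))⁻¹ * d ∈ resL.ker := by
      rw [MonoidHom.mem_ker, map_mul, map_inv, inv_mul_eq_one]
      ext x
      rw [hresL, hresL, hsx]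
    have : d = ⟨s, hASle hs⟩ * ((⟨s, hASle hs⟩ : ↥(KP B P Q hQB K₀ ⊓ F.autGroup B))⁻¹ * d) := by group
    rw [this]
    exact Subgroup.mul_mem _ (Subgroup.mem_sup_left hs') (Subgroup.mem_sup_right hk)
  obtain ⟨l, hl, hlD⟩ := exists_conj_normal_le resL.ker _ _ hAS hidx hDp hDle
  refine ⟨l.1, l.2, fun x => ?_, fun d hd => ?_⟩
  · rw [MonoidHom.mem_ker] at hl
    apply Subtype.ext
    rw [← hresL, hl]
    rfl
  · have := hlD ⟨d, hDL hd⟩ (Subgroup.mem_subgroupOf.mpr hd)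
    exact Subgroup.mem_subgroupOf.mp this

/-- If `PQ` is fully `K_P`-normalized in `F`, then `P` is receptive in the `K`-normalizer system. -/
theorem isReceptive_of_KP [Finite S] {p : ℕ} [Fact p.Prime] (hS : IsPGroup p S) (F : FusionSystem S)
    (hF : F.IsSaturated p) {Q : Subgroup Ω} (K₀ : Subgroup (MulAut Q)) (E : FusionSystem (NK S Q K₀))
    (hE : ∀ P : Subgroup Ω, E.Hom P = KHom F Q K₀ P) {P : Subgroup Ω} (hP : P ≤ NK S Q K₀)
    (hfn : IsFullyKNormalized F (P ⊔ Q) (KP (P ⊔ Q) P Q le_sup_right K₀)) : E.IsReceptive P := by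
  refine ⟨hP, fun R φ hφE hrange => ?_⟩
  have hφ : φ ∈ KHom F Q K₀ R := by rw [← hE]; exact hφE
  obtain ⟨e, he, heR, heRiff, κ, hκ, heQ⟩ := exists_iso_of_KHom F K₀ hφ hrange
  have hBS : P ⊔ Q ≤ S := hfn.1
  have hBRS : R ⊔ Q ≤ S := he.le_left
  obtain ⟨hBc, haut⟩ := fullyCentralized_isKAutomized_of_isFullyKNormalized hS F hF _ hfn
  have hBr : F.IsReceptive (P ⊔ Q) := receptive_of_fullyCentralized hS F hF hBc
  have hT : tr e (KP (R ⊔ Q) R Q le_sup_right K₀) = KP (P ⊔ Q) P Q le_sup_right K₀ :=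
    tr_KP le_sup_right le_sup_right K₀ e heRiff κ hκ heQ
  have hNS₀ : extender (NK S Q K₀) R φ ≤ NK S Q K₀ := fun g hg => ((mem_extender_iff _ R φ g).mp hg).1
  have hN : ∀ g ∈ extender (NK S Q K₀) R φ, g ∈ NK S (R ⊔ Q) (KP (R ⊔ Q) R Q le_sup_right K₀) := by
    intro g hg
    obtain ⟨hg₀, hgR, -⟩ := (mem_extender_iff _ R φ g).mp hg
    exact (mem_NK_KP_iff S R Q K₀ g).mpr ⟨hg₀, hgR⟩
  have hφP : ∀ x : R, φ x ∈ P := fun x => hrange ▸ ⟨x, rfl⟩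
  -- the `p`-subgroup `D` of transported conjugations
  have hDp : IsPGroup p ((((extender (NK S Q K₀) R φ).subgroupOf
      (Subgroup.normalizer ((R ⊔ Q : Subgroup Ω) : Set Ω))).map (R ⊔ Q).normalizerMonoidHom).map
        (MulAut.congr e).toMonoidHom) :=
    (((hS.to_le (hNS₀.trans (NK_le S Q K₀))).comap_subtype).map _).map _
  have hDmem : ∀ (g : Ω) (hg : g ∈ extender (NK S Q K₀) R φ)
      (hgB : g ∈ Subgroup.normalizer ((R ⊔ Q : Subgroup Ω) : Set Ω)),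
      MulAut.congr e (conjAut (R ⊔ Q) g hgB) ∈ (((extender (NK S Q K₀) R φ).subgroupOf
        (Subgroup.normalizer ((R ⊔ Q : Subgroup Ω) : Set Ω))).map (R ⊔ Q).normalizerMonoidHom).map
          (MulAut.congr e).toMonoidHom :=
    fun g hg hgB => ⟨_, ⟨⟨g, hgB⟩, Subgroup.mem_subgroupOf.mpr hg, rfl⟩, rfl⟩
  have hDelim : ∀ d ∈ (((extender (NK S Q K₀) R φ).subgroupOf
      (Subgroup.normalizer ((R ⊔ Q : Subgroup Ω) : Set Ω))).map (R ⊔ Q).normalizerMonoidHom).map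
        (MulAut.congr e).toMonoidHom, ∃ (g : Ω) (_ : g ∈ extender (NK S Q K₀) R φ)
      (hgB : g ∈ Subgroup.normalizer ((R ⊔ Q : Subgroup Ω) : Set Ω)),
      d = MulAut.congr e (conjAut (R ⊔ Q) g hgB) := by
    rintro _ ⟨_, ⟨n, hn, rfl⟩, rfl⟩
    exact ⟨n.1, Subgroup.mem_subgroupOf.mp hn, n.2, rfl⟩
  generalize (((extender (NK S Q K₀) R φ).subgroupOf
      (Subgroup.normalizer ((R ⊔ Q : Subgroup Ω) : Set Ω))).map (R ⊔ Q).normalizerMonoidHom).map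
        (MulAut.congr e).toMonoidHom = D at hDp hDmem hDelim
  have hDL : D ≤ KP (P ⊔ Q) P Q le_sup_right K₀ ⊓ F.autGroup (P ⊔ Q) := by
    intro d hd
    obtain ⟨g, hg, hgB, rfl⟩ := hDelim d hd
    obtain ⟨hgS, hgB', hgK⟩ := (mem_NK_iff S _ _ g).mp (hN g hg)
    refine ⟨?_, ?_⟩
    · rw [← hT]
      exact congr_mem_tr e _ hgK
    · rw [← tr_autGroup F e he]
      exact congr_mem_tr e _ (autInducedBy_le_autGroup F hBRS (conjAut_mem_autInducedBy S _ hgS hgB))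
  have hDs : ∀ d ∈ D, ∃ s ∈ KP (P ⊔ Q) P Q le_sup_right K₀ ⊓ autInducedBy S (P ⊔ Q),
      ∀ x : P, d ⟨x, le_sup_left (b := Q) x.2⟩ = s ⟨x, le_sup_left (b := Q) x.2⟩ := by
    intro d hd
    have hdL := hDL hd
    obtain ⟨g, hg, hgB, rfl⟩ := hDelim d hd
    obtain ⟨hg₀, hgR, h, hh₀, hhx⟩ := (mem_extender_iff _ R φ g).mp hg
    have hval : ∀ y : P, (((MulAut.congr e (conjAut (R ⊔ Q) g hgB)) ⟨y, le_sup_left (b := Q) y.2⟩ : ↥(P ⊔ Q)) : Ω) =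
        h * y * h⁻¹ := by
      intro y
      have hy : (y : Ω) ∈ φ.range := hrange ▸ y.2
      obtain ⟨x, hx⟩ := hy
      have h1 : e.symm ⟨y, le_sup_left (b := Q) y.2⟩ = Subgroup.inclusion le_sup_left x := by
        rw [MulEquiv.symm_apply_eq]
        apply Subtype.ext
        rw [heR, hx]
      have hx' : g * (x : Ω) * g⁻¹ ∈ R := (hgR x).mp x.2
      have h2 : (conjAut (R ⊔ Q) g hgB) (Subgroup.inclusion le_sup_left x) =
          Subgroup.inclusion le_sup_left (⟨g * (x : Ω) * g⁻¹, hx'⟩ : R) := Subtype.ext rfl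
      rw [congr_apply', h1, h2, heR, hhx x hx', hx]
    have hhP : h ∈ Subgroup.normalizer (P : Set Ω) :=
      mem_normalizer_of_conj_eq (resKP (P ⊔ Q) P Q le_sup_left le_sup_right K₀ ⟨_, hdL.1⟩) h (fun y => hval y)
    obtain ⟨hhS, hhB, hhK⟩ := (mem_NK_iff S _ _ h).mp ((mem_NK_KP_iff S P Q K₀ h).mpr ⟨hh₀, hhP⟩)
    refine ⟨conjAut (P ⊔ Q) h hhB, ⟨hhK, conjAut_mem_autInducedBy S _ hhS hhB⟩, fun x => ?_⟩
    apply Subtype.ext
    rw [hval x]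
    rfl
  obtain ⟨l, hlL, hlP, hlD⟩ := exists_conj_trivial_on_P hS F le_sup_left le_sup_right hBS K₀ haut D hDp hDL hDs
  obtain ⟨κl, hκl, hlQ⟩ := hlL.1.2
  -- the corrected isomorphism
  have he₁ : IsIso F (e.trans (l : ↥(P ⊔ Q) ≃* ↥(P ⊔ Q))) := he.trans ((mem_autGroup_iff F hBS l).mp hlL.2)
  have he₁R : ∀ x : R, (((e.trans (l : ↥(P ⊔ Q) ≃* ↥(P ⊔ Q))) (Subgroup.inclusion le_sup_left x) : ↥(P ⊔ Q)) : Ω) =
      φ x := by
    intro x
    show ((l (e (Subgroup.inclusion le_sup_left x)) : ↥(P ⊔ Q)) : Ω) = φ x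
    have h1 : e (Subgroup.inclusion le_sup_left x) = ⟨(⟨φ x, hφP x⟩ : P), le_sup_left (b := Q) (hφP x)⟩ :=
      Subtype.ext (heR x)
    rw [h1, hlP ⟨φ x, hφP x⟩]
  have he₁Q : ∀ q : Q, (e.trans (l : ↥(P ⊔ Q) ≃* ↥(P ⊔ Q))) (Subgroup.inclusion le_sup_right q) =
      Subgroup.inclusion le_sup_right ((κl * κ) q) := by
    intro q
    show l (e (Subgroup.inclusion le_sup_right q)) = _
    rw [heQ, hlQ]
    rfl
  have hconj : ∀ (g : Ω) (_ : g ∈ extender (NK S Q K₀) R φ)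
      (hgB : g ∈ Subgroup.normalizer ((R ⊔ Q : Subgroup Ω) : Set Ω)),
      MulAut.congr (e.trans (l : ↥(P ⊔ Q) ≃* ↥(P ⊔ Q))) (conjAut (R ⊔ Q) g hgB) ∈ autInducedBy S (P ⊔ Q) := by
    intro g hg hgB
    rw [congr_trans', congr_self']
    exact (hlD _ (hDmem g hg hgB)).2
  generalize e.trans (l : ↥(P ⊔ Q) ≃* ↥(P ⊔ Q)) = e₁ at he₁ he₁R he₁Q hconj
  have hψ₀ : (P ⊔ Q).subtype.comp e₁.toMonoidHom ∈ F.Hom (R ⊔ Q) := he₁
  have hrange₀ : ((P ⊔ Q).subtype.comp e₁.toMonoidHom).range = P ⊔ Q := by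
    ext y
    constructor
    · rintro ⟨x, rfl⟩
      exact (e₁ x).2
    · intro hy
      refine ⟨e₁.symm ⟨y, hy⟩, ?_⟩
      show ((e₁ (e₁.symm ⟨y, hy⟩) : ↥(P ⊔ Q)) : Ω) = y
      rw [MulEquiv.apply_symm_apply]
  have hNle : extender (NK S Q K₀) R φ ≤ extender S (R ⊔ Q) ((P ⊔ Q).subtype.comp e₁.toMonoidHom) := by
    intro g hg
    obtain ⟨hgS, hgB, -⟩ := (mem_NK_iff S _ _ g).mp (hN g hg)
    rw [mem_extender_iff]
    refine ⟨hgS, hgB, ?_⟩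
    obtain ⟨h', hh'S, hh'x⟩ := (mem_autInducedBy_iff S _ _).mp (hconj g hg hgB)
    refine ⟨h', hh'S, fun x hx => ?_⟩
    have h1 := hh'x (e₁ x)
    rw [congr_apply', MulEquiv.symm_apply_apply] at h1
    exact h1
  have hle : extender (NK S Q K₀) R φ ⊔ Q ≤ extender S (R ⊔ Q) ((P ⊔ Q).subtype.comp e₁.toMonoidHom) :=
    sup_le hNle (le_sup_right.trans (le_extender_of_mem F hψ₀))
  obtain ⟨ψ, hψ, hψx⟩ := hBr.2 (R ⊔ Q) _ hψ₀ hrange₀
  have hΨ : ψ.comp (Subgroup.inclusion hle) ∈ F.Hom (extender (NK S Q K₀) R φ ⊔ Q) := restrict_mem F hψ hle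
  have hΨQ : ∀ q : Q, (ψ.comp (Subgroup.inclusion hle)) (Subgroup.inclusion le_sup_right q) =
      ((((κl * κ : MulAut Q) : Q ≃* Q) q : Q) : Ω) := by
    intro q
    have h1 := hψx q.1 (le_sup_right (a := R) q.2) (hle (le_sup_right (a := extender (NK S Q K₀) R φ) q.2))
    have h2 : ((P ⊔ Q).subtype.comp e₁.toMonoidHom) ⟨q.1, le_sup_right (a := R) q.2⟩ =
        ((e₁ (Subgroup.inclusion le_sup_right q) : ↥(P ⊔ Q)) : Ω) := rfl
    rw [h2, he₁Q] at h1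
    exact h1
  have hΨR : ∀ (x : Ω) (hR : x ∈ R) (hNx : x ∈ extender (NK S Q K₀) R φ),
      (ψ.comp (Subgroup.inclusion hle)) ⟨x, le_sup_left (b := Q) hNx⟩ = φ ⟨x, hR⟩ := by
    intro x hR hNx
    have h1 := hψx x (le_sup_left (b := Q) hR) (hle (le_sup_left (b := Q) hNx))
    have h2 : ((P ⊔ Q).subtype.comp e₁.toMonoidHom) ⟨x, le_sup_left (b := Q) hR⟩ =
        ((e₁ (Subgroup.inclusion le_sup_left ⟨x, hR⟩) : ↥(P ⊔ Q)) : Ω) := rfl
    rw [h2, he₁R] at h1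
    exact h1
  refine ⟨(ψ.comp (Subgroup.inclusion hle)).comp (Subgroup.inclusion le_sup_left), ?_,
    fun x hR hNx => hΨR x hR hNx⟩
  rw [hE]
  refine ⟨restrict_mem F hΨ le_sup_left, hNS₀, fun g => ?_, _, hΨ, fun x => rfl, κl * κ, K₀.mul_mem hκl hκ, hΨQ⟩
  obtain ⟨hgS, hgQ, hgK⟩ := (mem_NK_iff S Q K₀ g).mp (hNS₀ g.2)
  obtain ⟨h, hh⟩ := conjAut_map (ψ.comp (Subgroup.inclusion hle)) le_sup_right ((κl * κ : MulAut Q) : Q ≃* Q)
    hΨQ (Subgroup.inclusion le_sup_left g) hgQ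
  rw [mem_NK_iff]
  refine ⟨(F.le_of_mem hΨ).2 _, h, ?_⟩
  show conjAut Q ((ψ.comp (Subgroup.inclusion hle)) (Subgroup.inclusion le_sup_left g)) h ∈ K₀
  rw [hh, congr_self']
  exact K₀.mul_mem (K₀.mul_mem (K₀.mul_mem hκl hκ) hgK) (K₀.inv_mem (K₀.mul_mem hκl hκ))

/-- Every subgroup `P` of `N_S^K(Q)` is conjugate in the `K`-normalizer system to a subgroup `P'` with `P'Q` fully
`K_{P'}`-normalized in `F`. -/
theorem exists_conj_fullyKNormalized [Finite S] {p : ℕ} [Fact p.Prime] (hS : IsPGroup p S) (F : FusionSystem S)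
    (hF : F.IsSaturated p) {Q : Subgroup Ω} (K₀ : Subgroup (MulAut Q)) (hK : IsFullyKNormalized F Q K₀)
    (E : FusionSystem (NK S Q K₀)) (hE : ∀ P : Subgroup Ω, E.Hom P = KHom F Q K₀ P) {P : Subgroup Ω}
    (hP : P ≤ NK S Q K₀) :
    ∃ P' : Subgroup Ω, E.IsConj P P' ∧ P' ≤ NK S Q K₀ ∧
      IsFullyKNormalized F (P' ⊔ Q) (KP (P' ⊔ Q) P' Q le_sup_right K₀) := by
  have hQS := hK.1
  have hBS : P ⊔ Q ≤ S := sup_le (hP.trans (NK_le S Q K₀)) hQS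
  -- Step 1: a conjugate of `PQ` with `N_S^K` of maximal order
  obtain ⟨m, ⟨R₀, ε, hε, rfl⟩, hmax⟩ := exists_max_nat
    {n | ∃ (R₀ : Subgroup Ω) (ε : ↥(P ⊔ Q) ≃* R₀), IsIso F ε ∧
      n = Nat.card (NK S R₀ (tr ε (KP (P ⊔ Q) P Q le_sup_right K₀)))}
    ⟨_, P ⊔ Q, MulEquiv.refl _, isIso_refl F hBS, rfl⟩ (Nat.card S) (by
      rintro n ⟨R₀, ε, -, rfl⟩
      exact Subgroup.card_le_of_le (NK_le S R₀ _))
  have hR₀S : R₀ ≤ S := hε.le_right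
  -- Step 2: the image of `Q`
  have hθQ : (R₀.subtype.comp ε.toMonoidHom).comp (Subgroup.inclusion (le_sup_right : Q ≤ P ⊔ Q)) ∈ F.Hom Q :=
    restrict_mem F hε le_sup_right
  have heQ := isIso_isoOfRange F hθQ rfl
  have heQx : ∀ q : Q, ((isoOfRange F hθQ rfl q : _) : Ω) = ((ε (Subgroup.inclusion le_sup_right q) : R₀) : Ω) :=
    fun q => rfl
  generalize isoOfRange F hθQ rfl = eQ at heQ heQx
  generalize ((R₀.subtype.comp ε.toMonoidHom).comp (Subgroup.inclusion (le_sup_right : Q ≤ P ⊔ Q))).range = QR at eQ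
  -- Step 3: back to `Q`
  obtain ⟨hQc, hQaut⟩ := fullyCentralized_isKAutomized_of_isFullyKNormalized hS F hF K₀ hK
  have hQr : F.IsReceptive Q := receptive_of_fullyCentralized hS F hF hQc
  have haut' : IsKAutomized F p Q (tr eQ.symm (tr eQ K₀)) := by rwa [tr_symm_tr]
  obtain ⟨χ, hχ, ψ, hψ, hψQ, hψN⟩ := exists_extension_NK hS F (tr eQ K₀) eQ.symm heQ.symm hQr haut'
  rw [tr_symm_tr] at hψN
  -- Step 4: `ε(PQ)` and `N_S^K(ε(PQ))` lie in the domain of `ψ`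
  have hεP : ∀ x : P, ((ε (Subgroup.inclusion le_sup_left x) : R₀) : Ω) ∈ NK S QR (tr eQ K₀) := by
    intro x
    obtain ⟨hxS, hxQ, hxK⟩ := (mem_NK_iff S Q K₀ x).mp (hP x.2)
    obtain ⟨h, hh⟩ := conjAut_map (R₀.subtype.comp ε.toMonoidHom) (le_sup_right : Q ≤ P ⊔ Q) eQ
      (fun q => (heQx q).symm) (Subgroup.inclusion le_sup_left x) hxQ
    rw [mem_NK_iff]
    exact ⟨hR₀S (ε _).2, h, hh ▸ congr_mem_tr eQ K₀ hxK⟩
  have hεM : ∀ b : ↥(P ⊔ Q), ((ε b : R₀) : Ω) ∈ NK S QR (tr eQ K₀) ⊔ QR :=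
    Cfsg.Agent.Helper85.forall_mem_of_sup ((NK S QR (tr eQ K₀) ⊔ QR).comap (R₀.subtype.comp ε.toMonoidHom))
      (fun x => Subgroup.mem_sup_left (hεP x))
      (fun q => Subgroup.mem_sup_right (by
        show ((ε (Subgroup.inclusion le_sup_right q) : R₀) : Ω) ∈ QR
        rw [← heQx]
        exact (eQ q).2))
  have hR₀M : R₀ ≤ NK S QR (tr eQ K₀) ⊔ QR := by
    intro r hr
    have := hεM (ε.symm ⟨r, hr⟩)
    rwa [MulEquiv.apply_symm_apply] at this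
  have hNKle : ∀ h ∈ NK S R₀ (tr ε (KP (P ⊔ Q) P Q le_sup_right K₀)), h ∈ NK S QR (tr eQ K₀) := by
    intro h hh
    obtain ⟨hhS, hhR, hhK⟩ := (mem_NK_iff S _ _ h).mp hh
    rw [mem_tr_iff] at hhK
    obtain ⟨-, κh, hκh, hκhx⟩ := hhK
    have key : ∀ y : QR, (((MulAut.congr eQ κh) y : QR) : Ω) = h * y * h⁻¹ := by
      intro y
      rw [congr_apply', heQx]
      have h1 := hκhx (eQ.symm y)
      rw [congr_apply', MulEquiv.symm_symm, MulEquiv.symm_apply_eq] at h1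
      rw [← h1, conjAut_apply, ← heQx, MulEquiv.apply_symm_apply]
    rw [mem_NK_iff]
    refine ⟨hhS, mem_normalizer_of_conj_eq _ h key, ?_⟩
    rw [← eq_conjAut_of_conj_eq _ h key]
    exact congr_mem_tr eQ K₀ hκh
  -- Step 5: the composite `θ = ψ ∘ ε`
  have hθ : ψ.comp ((R₀.subtype.comp ε.toMonoidHom).codRestrict (NK S QR (tr eQ K₀) ⊔ QR) hεM) ∈ F.Hom (P ⊔ Q) :=
    mem_of_eq F (F.comp_mem hε hψ hεM) (fun x => rfl)
  have hκ₁ : MulAut.congr eQ.symm χ ∈ K₀ := (mem_tr_iff eQ K₀ χ).mp hχ.1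
  have hθQ' : ∀ q : Q, (ψ.comp ((R₀.subtype.comp ε.toMonoidHom).codRestrict (NK S QR (tr eQ K₀) ⊔ QR) hεM))
      (Subgroup.inclusion le_sup_right q) = (((MulAut.congr eQ.symm χ) q : Q) : Ω) := by
    intro q
    have h1 : ((R₀.subtype.comp ε.toMonoidHom).codRestrict (NK S QR (tr eQ K₀) ⊔ QR) hεM)
        (Subgroup.inclusion le_sup_right q) = Subgroup.inclusion le_sup_right (eQ q) :=
      Subtype.ext (heQx q).symm
    show ψ _ = _
    rw [h1, hψQ, congr_apply']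
    rfl
  have hθP : ∀ x : P, (ψ.comp ((R₀.subtype.comp ε.toMonoidHom).codRestrict (NK S QR (tr eQ K₀) ⊔ QR) hεM))
      (Subgroup.inclusion le_sup_left x) ∈ NK S Q K₀ := fun x => hψN _ (hεP x)
  have hθR₀ : ∀ r : R₀, ψ (Subgroup.inclusion hR₀M r) =
      (ψ.comp ((R₀.subtype.comp ε.toMonoidHom).codRestrict (NK S QR (tr eQ K₀) ⊔ QR) hεM)) (ε.symm r) := by
    intro r
    show ψ _ = ψ _
    congr 1
    apply Subtype.ext
    show (r : Ω) = ((ε (ε.symm r) : R₀) : Ω)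
    rw [MulEquiv.apply_symm_apply]
  generalize ψ.comp ((R₀.subtype.comp ε.toMonoidHom).codRestrict (NK S QR (tr eQ K₀) ⊔ QR) hεM) = θ
    at hθ hθQ' hθP hθR₀
  have hφP : θ.comp (Subgroup.inclusion le_sup_left) ∈ KHom F Q K₀ P :=
    ⟨restrict_mem F hθ le_sup_left, hP, hθP, θ, hθ, fun x => rfl, _, hκ₁, hθQ'⟩
  -- Step 6: the isomorphism `PQ ≃ P'Q`
  obtain ⟨θ', hθ', hθ'z, hθ'iff, hθ'Q⟩ := exists_iso_of_extension F (φ := θ.comp (Subgroup.inclusion le_sup_left))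
    rfl hθ (fun x => rfl) (MulAut.congr eQ.symm χ) hθQ'
  have hP'le : (θ.comp (Subgroup.inclusion le_sup_left)).range ≤ NK S Q K₀ := by
    rintro _ ⟨x, rfl⟩
    exact hθP x
  have hT : tr θ' (KP (P ⊔ Q) P Q le_sup_right K₀) =
      KP ((θ.comp (Subgroup.inclusion le_sup_left)).range ⊔ Q) (θ.comp (Subgroup.inclusion le_sup_left)).range Q
        le_sup_right K₀ :=
    tr_KP le_sup_right le_sup_right K₀ θ' hθ'iff _ hκ₁ hθ'Q
  refine ⟨(θ.comp (Subgroup.inclusion le_sup_left)).range, ⟨_, by rw [hE]; exact hφP, rfl⟩, hP'le, ?_⟩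
  generalize (θ.comp (Subgroup.inclusion le_sup_left)).range = P' at θ' hθ' hθ'z hθ'iff hθ'Q hT hP'le
  -- Step 7: `ψ` carries `N_S^K(ε(PQ))` into `N_S^{K_{P'}}(P'Q)`
  have hB'S : P' ⊔ Q ≤ S := hθ'.le_right
  have hψval : ∀ h : ↥(NK S QR (tr eQ K₀) ⊔ QR), (h : Ω) ∈ NK S R₀ (tr ε (KP (P ⊔ Q) P Q le_sup_right K₀)) →
      ψ h ∈ NK S (P' ⊔ Q) (KP (P' ⊔ Q) P' Q le_sup_right K₀) := by
    intro h hh
    obtain ⟨hhS, hhR, hhK⟩ := (mem_NK_iff S _ _ h).mp hh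
    have he₂ : ∀ r : R₀, ψ (Subgroup.inclusion hR₀M r) = (((ε.symm.trans θ') r : ↥(P' ⊔ Q)) : Ω) := by
      intro r
      rw [hθR₀ r]
      exact (hθ'z _).symm
    obtain ⟨h', hh'⟩ := conjAut_map ψ hR₀M (ε.symm.trans θ') he₂ h hhR
    rw [mem_NK_iff]
    refine ⟨(F.le_of_mem hψ).2 h, h', ?_⟩
    rw [hh', ← hT]
    obtain ⟨γ, hγ, hγeq⟩ := hhK
    rw [← hγeq]
    have : MulAut.congr (ε.symm.trans θ') ((MulAut.congr ε).toMonoidHom γ) = MulAut.congr θ' γ := by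
      ext y
      show ((θ' (ε.symm (ε (γ (ε.symm (ε (θ'.symm y)))))) : ↥(P' ⊔ Q)) : Ω) = ((θ' (γ (θ'.symm y)) : ↥(P' ⊔ Q)) : Ω)
      rw [MulEquiv.symm_apply_apply, MulEquiv.symm_apply_apply]
    rw [this]
    exact congr_mem_tr θ' _ hγ
  have : Finite (NK S (P' ⊔ Q) (KP (P' ⊔ Q) P' Q le_sup_right K₀)) := finite_NK _ _
  have hcard : Nat.card (NK S R₀ (tr ε (KP (P ⊔ Q) P Q le_sup_right K₀))) ≤
      Nat.card (NK S (P' ⊔ Q) (KP (P' ⊔ Q) P' Q le_sup_right K₀)) := by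
    refine Nat.card_le_card_of_injective
      (fun h : NK S R₀ (tr ε (KP (P ⊔ Q) P Q le_sup_right K₀)) =>
        (⟨ψ ⟨h, Subgroup.mem_sup_left (hNKle h h.2)⟩, hψval _ h.2⟩ :
          NK S (P' ⊔ Q) (KP (P' ⊔ Q) P' Q le_sup_right K₀))) ?_
    intro a b hab
    have h1 := F.injective_of_mem hψ (congrArg Subtype.val hab)
    exact Subtype.ext (congrArg (fun z : ↥(NK S QR (tr eQ K₀) ⊔ QR) => (z : Ω)) h1)
  -- Step 8
  refine ⟨hB'S, fun R₃ ε₃ hε₃ => ?_⟩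
  have h1 : tr ε₃ (KP (P' ⊔ Q) P' Q le_sup_right K₀) = tr (θ'.trans ε₃) (KP (P ⊔ Q) P Q le_sup_right K₀) := by
    rw [← hT, tr_trans]
  rw [h1]
  exact (hmax _ ⟨R₃, θ'.trans ε₃, hθ'.trans hε₃, rfl⟩).trans hcard

/-- **Theorem** (Puig; AKO Theorem I.5.5). If `Q` is fully `K`-normalized in the saturated fusion system `F`, then the
`K`-normalizer system `N_F^K(Q)` over `N_S^K(Q)` is saturated. -/
theorem KSystem_saturated [Finite S] {p : ℕ} [Fact p.Prime] (hS : IsPGroup p S) (F : FusionSystem S)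
    (hF : F.IsSaturated p) {Q : Subgroup Ω} (K₀ : Subgroup (MulAut Q)) (hK : IsFullyKNormalized F Q K₀)
    {S₀ : Subgroup Ω} (hS₀ : S₀ = NK S Q K₀) (E : FusionSystem S₀)
    (hE : ∀ P : Subgroup Ω, E.Hom P = KHom F Q K₀ P) : E.IsSaturated p := by
  subst hS₀
  intro P hP
  obtain ⟨P', hconj, hP', hfn⟩ := exists_conj_fullyKNormalized hS F hF K₀ hK E hE hP
  exact ⟨P', hconj, isFullyAutomized_of_KP hS F hF K₀ E hE hP' hfn, isReceptive_of_KP hS F hF K₀ E hE hP' hfn⟩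

end Cfsg.Agent.Helper84
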