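-- helper84: a model of `SU_n(q)` in hyperbolic coordinates (S5172): the index type `Fin k ⊕ (Fin r ⊕ Fin k)`, the
-- Hermitian form pairing `e_i` with `f_i` and orthonormal on the middle part, and its special isometry group.
import Mathlib

set_option autoImplicit false
set_option linter.unusedSectionVars false

namespace Cfsg.Agent.Helper84.PSU

open Matrix

/-- the index type: `e_1..e_k`, `w_1..w_r`, `f_1..f_k` -/
abbrev I (k r : ℕ) : Type := Fin k ⊕ (Fin r ⊕ Fin k)

variable {K : Type*} [Field K] {k r : ℕ}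

abbrev eI (i : Fin k) : I k r := Sum.inl i
abbrev wI (a : Fin r) : I k r := Sum.inr (Sum.inl a)
abbrev fI (i : Fin k) : I k r := Sum.inr (Sum.inr i)

/-- the opposite index: `e_i ↔ f_i`, `w_a ↔ w_a` -/
def op : I k r → I k r
  | Sum.inl i => Sum.inr (Sum.inr i)
  | Sum.inr (Sum.inl a) => Sum.inr (Sum.inl a)
  | Sum.inr (Sum.inr i) => Sum.inl i

@[simp] theorem op_eI (i : Fin k) : op (eI i : I k r) = fI i := rfl
@[simp] theorem op_wI (a : Fin r) : op (wI a : I k r) = wI a := rfl
@[simp] theorem op_fI (i : Fin k) : op (fI i : I k r) = eI i := rfl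

@[simp] theorem op_op (x : I k r) : op (op x) = x := by
  rcases x with i | a | i <;> rfl

theorem op_injective : Function.Injective (op : I k r → I k r) :=
  Function.LeftInverse.injective op_op

theorem op_eq_iff {x y : I k r} : op x = y ↔ x = op y := by
  constructor
  · intro h
    rw [← h, op_op]
  · intro h
    rw [h, op_op]

/-- `op` as an equivalence -/
def opEquiv : I k r ≃ I k r := ⟨op, op, op_op, op_op⟩

@[simp] theorem opEquiv_apply (x : I k r) : opEquiv x = op x := rfl

local notation "Vec" => (I k r → K)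
local notation "Mat" => Matrix (I k r) (I k r) K

variable (bar : K →+* K)

/-- the Hermitian form -/
def hf (u v : Vec) : K := ∑ x, u x * bar (v (op x))

theorem hf_add_left (u u' v : Vec) : hf bar (u + u') v = hf bar u v + hf bar u' v := by
  unfold hf
  rw [← Finset.sum_add_distrib]
  exact Finset.sum_congr rfl fun x _ => by rw [Pi.add_apply, add_mul]

theorem hf_add_right (u v v' : Vec) : hf bar u (v + v') = hf bar u v + hf bar u v' := by
  unfold hf
  rw [← Finset.sum_add_distrib]
  exact Finset.sum_congr rfl fun x _ => by rw [Pi.add_apply, map_add, mul_add]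

theorem hf_smul_left (c : K) (u v : Vec) : hf bar (c • u) v = c * hf bar u v := by
  unfold hf
  rw [Finset.mul_sum]
  exact Finset.sum_congr rfl fun x _ => by rw [Pi.smul_apply, smul_eq_mul, mul_assoc]

theorem hf_smul_right (c : K) (u v : Vec) : hf bar u (c • v) = bar c * hf bar u v := by
  unfold hf
  rw [Finset.mul_sum]
  exact Finset.sum_congr rfl fun x _ => by rw [Pi.smul_apply, smul_eq_mul, map_mul]; ring

theorem hf_zero_left (v : Vec) : hf bar 0 v = 0 := by
  unfold hf
  exact Finset.sum_eq_zero fun x _ => by rw [Pi.zero_apply, zero_mul]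

theorem hf_zero_right (u : Vec) : hf bar u 0 = 0 := by
  unfold hf
  exact Finset.sum_eq_zero fun x _ => by rw [Pi.zero_apply, map_zero, mul_zero]

theorem hf_neg_left (u v : Vec) : hf bar (-u) v = -hf bar u v := by
  have h := hf_smul_left bar (-1) u v
  rwa [neg_one_smul, neg_one_mul] at h

theorem hf_neg_right (u v : Vec) : hf bar u (-v) = -hf bar u v := by
  have h := hf_smul_right bar (-1) u v
  rwa [neg_one_smul, map_neg, map_one, neg_one_mul] at h

theorem hf_sub_left (u u' v : Vec) : hf bar (u - u') v = hf bar u v - hf bar u' v := by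
  rw [sub_eq_add_neg, hf_add_left, hf_neg_left, ← sub_eq_add_neg]

theorem hf_sub_right (u v v' : Vec) : hf bar u (v - v') = hf bar u v - hf bar u v' := by
  rw [sub_eq_add_neg, hf_add_right, hf_neg_right, ← sub_eq_add_neg]

theorem hf_sum_left {ι : Type*} (s : Finset ι) (f : ι → Vec) (v : Vec) :
    hf bar (∑ i ∈ s, f i) v = ∑ i ∈ s, hf bar (f i) v := by
  classical
  induction s using Finset.induction_on with
  | empty => rw [Finset.sum_empty, Finset.sum_empty, hf_zero_left]
  | insert a s ha ih => rw [Finset.sum_insert ha, Finset.sum_insert ha, hf_add_left, ih]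

theorem hf_sum_right {ι : Type*} (s : Finset ι) (u : Vec) (f : ι → Vec) :
    hf bar u (∑ i ∈ s, f i) = ∑ i ∈ s, hf bar u (f i) := by
  classical
  induction s using Finset.induction_on with
  | empty => rw [Finset.sum_empty, Finset.sum_empty, hf_zero_right]
  | insert a s ha ih => rw [Finset.sum_insert ha, Finset.sum_insert ha, hf_add_right, ih]

/-- conjugate symmetry -/
theorem hf_conj (hb : ∀ x, bar (bar x) = x) (u v : Vec) : bar (hf bar u v) = hf bar v u := by
  unfold hf
  rw [map_sum]
  rw [← Equiv.sum_comp opEquiv (fun x => v x * bar (u (op x)))]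
  exact Finset.sum_congr rfl fun x _ => by
    rw [map_mul, hb, opEquiv_apply, op_op, mul_comm]

theorem hf_eq_zero_symm (hb : ∀ x, bar (bar x) = x) {u v : Vec} (h : hf bar u v = 0) : hf bar v u = 0 := by
  rw [← hf_conj bar hb, h, map_zero]

/-- the standard basis vectors -/
def bv (x : I k r) : Vec := Pi.single x 1

theorem bv_apply (x y : I k r) : (bv x : Vec) y = if y = x then 1 else 0 := by
  unfold bv
  rw [Pi.single_apply]

theorem hf_bv_right (u : Vec) (y : I k r) : hf bar u (bv y) = u (op y) := by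
  unfold hf
  rw [Finset.sum_eq_single (op y)]
  · rw [op_op, bv_apply, if_pos rfl, map_one, mul_one]
  · intro x _ hx
    rw [bv_apply, if_neg (fun h => hx (op_eq_iff.mp h)), map_zero, mul_zero]
  · intro h
    exact absurd (Finset.mem_univ _) h

theorem hf_bv_left (x : I k r) (v : Vec) : hf bar (bv x) v = bar (v (op x)) := by
  unfold hf
  rw [Finset.sum_eq_single x]
  · rw [bv_apply, if_pos rfl, one_mul]
  · intro y _ hy
    rw [bv_apply, if_neg hy, zero_mul]
  · intro h
    exact absurd (Finset.mem_univ _) h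

theorem hf_bv_bv (x y : I k r) : hf bar (bv x : Vec) (bv y) = if x = op y then 1 else 0 := by
  rw [hf_bv_right, bv_apply]
  by_cases h : x = op y
  · rw [if_pos h, if_pos h.symm]
  · rw [if_neg h, if_neg (fun h' => h h'.symm)]

theorem hf_bv_ee (i j : Fin k) : hf bar (bv (eI i) : Vec) (bv (eI j)) = 0 := by
  rw [hf_bv_bv]
  exact if_neg (by intro h; cases h)

theorem hf_bv_ew (i : Fin k) (b : Fin r) : hf bar (bv (eI i) : Vec) (bv (wI b)) = 0 := by
  rw [hf_bv_bv]
  exact if_neg (by intro h; cases h)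

theorem hf_bv_ef (i j : Fin k) : hf bar (bv (eI i) : Vec) (bv (fI j)) = if i = j then 1 else 0 := by
  rw [hf_bv_bv]
  by_cases h : i = j
  · rw [if_pos h, h]
    exact if_pos rfl
  · rw [if_neg h]
    exact if_neg (fun h' => h (Sum.inl.inj h'))

theorem hf_bv_we (a : Fin r) (j : Fin k) : hf bar (bv (wI a) : Vec) (bv (eI j)) = 0 := by
  rw [hf_bv_bv]
  exact if_neg (by intro h; cases h)

theorem hf_bv_ww (a b : Fin r) : hf bar (bv (wI a) : Vec) (bv (wI b)) = if a = b then 1 else 0 := by
  rw [hf_bv_bv]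
  by_cases h : a = b
  · rw [if_pos h, h]
    exact if_pos rfl
  · rw [if_neg h]
    exact if_neg (fun h' => h (Sum.inl.inj (Sum.inr.inj h')))

theorem hf_bv_wf (a : Fin r) (j : Fin k) : hf bar (bv (wI a) : Vec) (bv (fI j)) = 0 := by
  rw [hf_bv_bv]
  exact if_neg (by intro h; cases h)

theorem hf_bv_fe (i j : Fin k) : hf bar (bv (fI i) : Vec) (bv (eI j)) = if i = j then 1 else 0 := by
  rw [hf_bv_bv]
  by_cases h : i = j
  · rw [if_pos h, h]
    exact if_pos rfl
  · rw [if_neg h]
    exact if_neg (fun h' => h (Sum.inr.inj (Sum.inr.inj h')))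

theorem hf_bv_fw (i : Fin k) (b : Fin r) : hf bar (bv (fI i) : Vec) (bv (wI b)) = 0 := by
  rw [hf_bv_bv]
  exact if_neg (by intro h; cases h)

theorem hf_bv_ff (i j : Fin k) : hf bar (bv (fI i) : Vec) (bv (fI j)) = 0 := by
  rw [hf_bv_bv]
  exact if_neg (by intro h; cases h)

theorem eq_sum_bv (u : Vec) : u = ∑ x, u x • (bv x : Vec) := by
  funext y
  rw [Finset.sum_apply, Finset.sum_eq_single y]
  · rw [Pi.smul_apply, bv_apply, if_pos rfl, smul_eq_mul, mul_one]
  · intro x _ hx
    rw [Pi.smul_apply, bv_apply, if_neg (fun h => hx h.symm), smul_zero]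
  · intro h
    exact absurd (Finset.mem_univ _) h

theorem mulVec_bv (g : Mat) (y x : I k r) : (g *ᵥ (bv y : Vec)) x = g x y := by
  unfold bv
  rw [Matrix.mulVec_single_one]
  rfl

theorem mat_ext_mulVec {M N : Mat} (h : ∀ x : Vec, M *ᵥ x = N *ᵥ x) : M = N := by
  ext i j
  have := congrFun (h (bv j)) i
  rwa [mulVec_bv, mulVec_bv] at this

theorem mat_ext_bv {M N : Mat} (h : ∀ y : I k r, M *ᵥ (bv y : Vec) = N *ᵥ bv y) : M = N := by
  ext i j
  have := congrFun (h j) i
  rwa [mulVec_bv, mulVec_bv] at this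

/-- the matrices preserving the form -/
def IsU (g : Mat) : Prop := ∀ u v : Vec, hf bar (g *ᵥ u) (g *ᵥ v) = hf bar u v

theorem isU_one : IsU bar (1 : Mat) := by
  intro u v
  rw [Matrix.one_mulVec, Matrix.one_mulVec]

theorem IsU.mul {g h : Mat} (hg : IsU bar g) (hh : IsU bar h) : IsU bar (g * h) := by
  intro u v
  rw [← Matrix.mulVec_mulVec, ← Matrix.mulVec_mulVec, hg, hh]

theorem IsU.of_mul_eq_one {g h : Mat} (hg : IsU bar g) (hgh : g * h = 1) : IsU bar h := by
  intro u v
  have := hg (h *ᵥ u) (h *ᵥ v)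
  rw [Matrix.mulVec_mulVec, Matrix.mulVec_mulVec, hgh, Matrix.one_mulVec, Matrix.one_mulVec] at this
  exact this.symm

/-- it suffices to check the form on the basis vectors -/
theorem isU_of_basis {g : Mat}
    (h : ∀ x y : I k r, hf bar (g *ᵥ (bv x : Vec)) (g *ᵥ bv y) = hf bar (bv x : Vec) (bv y)) : IsU bar g := by
  intro u v
  have key : ∀ u v : Vec, hf bar (g *ᵥ u) (g *ᵥ v) =
      ∑ x, ∑ y, u x * bar (v y) * hf bar (g *ᵥ (bv x : Vec)) (g *ᵥ bv y) := by
    intro u v
    conv_lhs => rw [eq_sum_bv u, eq_sum_bv v]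
    rw [Matrix.mulVec_sum, Matrix.mulVec_sum, hf_sum_left]
    apply Finset.sum_congr rfl
    intro x _
    rw [hf_sum_right]
    apply Finset.sum_congr rfl
    intro y _
    rw [Matrix.mulVec_smul, Matrix.mulVec_smul, hf_smul_left, hf_smul_right]
    ring
  rw [key]
  have h1 := key u v
  conv_rhs => rw [eq_sum_bv u, eq_sum_bv v]
  rw [hf_sum_left]
  apply Finset.sum_congr rfl
  intro x _
  rw [hf_sum_right]
  apply Finset.sum_congr rfl
  intro y _
  rw [hf_smul_left, hf_smul_right, h]
  ring

/-- the model of the special unitary group -/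
def SUm (k r : ℕ) (bar : K →+* K) : Subgroup (Matrix.SpecialLinearGroup (I k r) K) where
  carrier := {g | IsU bar g.1}
  mul_mem' := by
    intro g h hg hh
    show IsU bar (g * h).1
    rw [Matrix.SpecialLinearGroup.coe_mul]
    exact hg.mul bar hh
  one_mem' := by
    show IsU bar (1 : Matrix.SpecialLinearGroup (I k r) K).1
    rw [Matrix.SpecialLinearGroup.coe_one]
    exact isU_one bar
  inv_mem' := by
    intro g hg
    show IsU bar (g⁻¹).1
    apply IsU.of_mul_eq_one bar hg
    rw [← Matrix.SpecialLinearGroup.coe_mul, mul_inv_cancel, Matrix.SpecialLinearGroup.coe_one]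

set_option quotPrecheck false in
local notation "SUk" => ↥(SUm k r bar)

theorem mem_SUm {g : Matrix.SpecialLinearGroup (I k r) K} : g ∈ SUm k r bar ↔ IsU bar g.1 := Iff.rfl

/-- the matrix of an element of the model group -/
def mt (g : SUk) : Mat := g.1.1

theorem mt_mul (g h : SUk) : mt bar (g * h) = mt bar g * mt bar h := rfl

theorem mt_one : mt bar (1 : SUk) = 1 := rfl

theorem mt_inv_mul (g : SUk) : mt bar g⁻¹ * mt bar g = 1 := by
  rw [← mt_mul, inv_mul_cancel, mt_one]

theorem mt_mul_inv (g : SUk) : mt bar g * mt bar g⁻¹ = 1 := by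
  rw [← mt_mul, mul_inv_cancel, mt_one]

theorem isU_mt (g : SUk) : IsU bar (mt bar g) := g.2

theorem det_mt (g : SUk) : (mt bar g).det = 1 := g.1.2

theorem mt_injective : Function.Injective (mt bar : SUk → Mat) := by
  intro g h hgh
  exact Subtype.ext (Subtype.ext hgh)

theorem mt_pow (g : SUk) (n : ℕ) : mt bar (g ^ n) = mt bar g ^ n := by
  induction n with
  | zero => rw [pow_zero, pow_zero, mt_one]
  | succ n ih => rw [pow_succ, pow_succ, mt_mul, ih]

/-- the action on vectors -/
def av (g : SUk) (u : Vec) : Vec := mt bar g *ᵥ u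

theorem av_mul (g h : SUk) (u : Vec) : av bar (g * h) u = av bar g (av bar h u) := by
  unfold av
  rw [mt_mul, Matrix.mulVec_mulVec]

theorem av_one (u : Vec) : av bar (1 : SUk) u = u := by
  unfold av
  rw [mt_one, Matrix.one_mulVec]

theorem av_inv_av (g : SUk) (u : Vec) : av bar g⁻¹ (av bar g u) = u := by
  rw [← av_mul, inv_mul_cancel, av_one]

theorem av_av_inv (g : SUk) (u : Vec) : av bar g (av bar g⁻¹ u) = u := by
  rw [← av_mul, mul_inv_cancel, av_one]

theorem av_add (g : SUk) (u v : Vec) : av bar g (u + v) = av bar g u + av bar g v := Matrix.mulVec_add _ _ _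

theorem av_smul (g : SUk) (c : K) (u : Vec) : av bar g (c • u) = c • av bar g u := Matrix.mulVec_smul _ _ _

theorem av_sub (g : SUk) (u v : Vec) : av bar g (u - v) = av bar g u - av bar g v := Matrix.mulVec_sub _ _ _

theorem av_neg (g : SUk) (u : Vec) : av bar g (-u) = -av bar g u := Matrix.mulVec_neg _ _

theorem av_zero (g : SUk) : av bar g (0 : Vec) = 0 := Matrix.mulVec_zero _

theorem hf_av (g : SUk) (u v : Vec) : hf bar (av bar g u) (av bar g v) = hf bar u v := g.2 u v

theorem hf_av_left (g : SUk) (u v : Vec) : hf bar (av bar g u) v = hf bar u (av bar g⁻¹ v) := by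
  conv_lhs => rw [← av_av_inv bar g v]
  rw [hf_av]

theorem hf_av_right (g : SUk) (u v : Vec) : hf bar u (av bar g v) = hf bar (av bar g⁻¹ u) v := by
  conv_lhs => rw [← av_av_inv bar g u]
  rw [hf_av]

theorem av_bv (g : SUk) (y x : I k r) : av bar g (bv y) x = mt bar g x y := mulVec_bv _ _ _

theorem av_injective (g : SUk) : Function.Injective (av bar g) := by
  intro u v h
  have := congrArg (av bar g⁻¹) h
  rwa [av_inv_av, av_inv_av] at this

theorem ext_av {g h : SUk} (hgh : ∀ y : I k r, av bar g (bv y) = av bar h (bv y)) : g = h := by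
  apply mt_injective
  exact mat_ext_bv hgh

/-- the entries of the inverse -/
theorem mt_inv_apply (g : SUk) (x y : I k r) :
    mt bar g⁻¹ x y = bar (mt bar g (op y) (op x)) := by
  have h1 : mt bar g⁻¹ x y = hf bar (av bar g⁻¹ (bv y)) (bv (op x)) := by
    rw [hf_bv_right, op_op, av_bv]
  rw [h1, ← hf_av_right, hf_bv_left, av_bv]

end Cfsg.Agent.Helper84.PSU
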