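-- helper84: Eichler transformations in the hyperbolic model of `SU_n(q)` (S5172).
import Mathlib
import Cfsg.Agent.Helper84.PSUForm

set_option autoImplicit false
set_option linter.unusedSectionVars false

namespace Cfsg.Agent.Helper84.PSU

open Matrix

variable {K : Type*} [Field K] {k r : ℕ}

local notation "Vec" => (I k r → K)
local notation "Mat" => Matrix (I k r) (I k r) K

variable (bar : K →+* K)

set_option quotPrecheck false in
local notation "SUk" => ↥(SUm k r bar)

/-- the linear form `x ↦ h(x,u)` as a row vector -/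
def phi (u : Vec) : Vec := fun x => bar (u (op x))

theorem phi_dot (u x : Vec) : phi bar u ⬝ᵥ x = hf bar x u := by
  unfold phi hf dotProduct
  exact Finset.sum_congr rfl fun z _ => mul_comm _ _

/-- the rank one map `x ↦ h(x,u) a` -/
def rk (a u : Vec) : Mat := Matrix.vecMulVec a (phi bar u)

theorem rk_mulVec (a u x : Vec) : rk bar a u *ᵥ x = hf bar x u • a := by
  rw [rk, Matrix.vecMulVec_mulVec, phi_dot, op_smul_eq_smul]

theorem rk_apply (a u : Vec) (x y : I k r) : rk bar a u x y = a x * bar (u (op y)) := by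
  rw [rk, Matrix.vecMulVec_apply]
  rfl

/-- determinant of a rank two perturbation of the identity -/
theorem det_one_add_two_rk (a b a' b' : Vec) :
    (1 + rk bar a b + rk bar a' b').det =
      (1 + hf bar a b) * (1 + hf bar a' b') - hf bar a' b * hf bar a b' := by
  set A : Matrix (I k r) (Fin 2) K := Matrix.of (fun i j => if j = 0 then a i else a' i) with hA
  set B : Matrix (Fin 2) (I k r) K :=
    Matrix.of (fun j i => if j = 0 then phi bar b i else phi bar b' i) with hB
  have h1 : 1 + rk bar a b + rk bar a' b' = 1 + A * B := by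
    rw [add_assoc]
    congr 1
    ext i j
    simp [hA, hB, rk, Matrix.mul_apply, Fin.sum_univ_two, Matrix.vecMulVec_apply]
  have h00 : (B * A) 0 0 = hf bar a b := by
    rw [← phi_dot]
    simp only [hA, hB, Matrix.mul_apply, Matrix.of_apply, dotProduct, Fin.isValue, ↓reduceIte]
  have h01 : (B * A) 0 1 = hf bar a' b := by
    rw [← phi_dot]
    simp only [hA, hB, Matrix.mul_apply, Matrix.of_apply, dotProduct, Fin.isValue, ↓reduceIte, one_ne_zero]
  have h10 : (B * A) 1 0 = hf bar a b' := by
    rw [← phi_dot]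
    simp only [hA, hB, Matrix.mul_apply, Matrix.of_apply, dotProduct, Fin.isValue, ↓reduceIte, one_ne_zero]
  have h11 : (B * A) 1 1 = hf bar a' b' := by
    rw [← phi_dot]
    simp only [hA, hB, Matrix.mul_apply, Matrix.of_apply, dotProduct, Fin.isValue, ↓reduceIte, one_ne_zero]
  rw [h1, Matrix.det_one_add_mul_comm, Matrix.det_fin_two]
  simp only [Matrix.add_apply, h00, h01, h10, h11, Matrix.one_apply_eq,
    Matrix.one_apply_ne (show (0 : Fin 2) ≠ 1 by decide),
    Matrix.one_apply_ne (show (1 : Fin 2) ≠ 0 by decide)]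
  ring

/-- the Eichler transformation `x ↦ x + h(x,u) y - h(x,y) u + c h(x,u) u` -/
def eichM (u y : Vec) (c : K) : Mat := 1 + rk bar y u - rk bar u y + c • rk bar u u

theorem eichM_mulVec (u y : Vec) (c : K) (x : Vec) :
    eichM bar u y c *ᵥ x = x + hf bar x u • y - hf bar x y • u + (c * hf bar x u) • u := by
  rw [eichM, Matrix.add_mulVec, Matrix.sub_mulVec, Matrix.add_mulVec, Matrix.one_mulVec,
    Matrix.smul_mulVec, rk_mulVec, rk_mulVec, rk_mulVec, smul_smul]

theorem eichM_apply (u y : Vec) (c : K) (a b : I k r) :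
    eichM bar u y c a b = (if a = b then 1 else 0) + y a * bar (u (op b)) - u a * bar (y (op b)) +
      c * (u a * bar (u (op b))) := by
  rw [eichM, Matrix.add_apply, Matrix.sub_apply, Matrix.add_apply, Matrix.smul_apply, rk_apply, rk_apply, rk_apply,
    Matrix.one_apply, smul_eq_mul]

section hb

variable (hb : ∀ x, bar (bar x) = x)
include hb

theorem eichM_mul {u y y' : Vec} (c c' : K) (huu : hf bar u u = 0) (hyu : hf bar y u = 0)
    (hy'u : hf bar y' u = 0) :
    eichM bar u y c * eichM bar u y' c' = eichM bar u (y + y') (c + c' - hf bar y' y) := by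
  have huy : hf bar u y = 0 := hf_eq_zero_symm bar hb hyu
  apply mat_ext_mulVec
  intro x
  rw [← Matrix.mulVec_mulVec, eichM_mulVec, eichM_mulVec, eichM_mulVec]
  simp only [hf_add_left, hf_sub_left, hf_smul_left, hf_add_right, huu, hy'u, huy, mul_zero, add_zero,
    sub_zero]
  module

omit hb in
theorem eichM_zero_zero (u : Vec) : eichM bar u 0 0 = 1 := by
  apply mat_ext_mulVec
  intro x
  rw [eichM_mulVec, hf_zero_right, smul_zero, zero_smul, zero_mul, zero_smul, Matrix.one_mulVec, add_zero, sub_zero,
    add_zero]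

theorem isU_eichM {u y : Vec} {c : K} (huu : hf bar u u = 0) (hyu : hf bar y u = 0)
    (hc : c + bar c + hf bar y y = 0) : IsU bar (eichM bar u y c) := by
  have huy : hf bar u y = 0 := hf_eq_zero_symm bar hb hyu
  intro x x'
  rw [eichM_mulVec, eichM_mulVec]
  simp only [hf_add_left, hf_sub_left, hf_smul_left, hf_add_right, hf_sub_right, hf_smul_right, huu, hyu, huy,
    mul_zero, add_zero, sub_zero, map_mul, hf_conj bar hb x' u, hf_conj bar hb x' y]
  linear_combination (hf bar x u * hf bar u x') * hc

theorem det_eichM {u y : Vec} (c : K) (huu : hf bar u u = 0) (hyu : hf bar y u = 0) :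
    (eichM bar u y c).det = 1 := by
  have huy : hf bar u y = 0 := hf_eq_zero_symm bar hb hyu
  have h1 : eichM bar u y c = 1 + rk bar (y + c • u) u + rk bar (-u) y := by
    apply mat_ext_mulVec
    intro x
    rw [eichM_mulVec, Matrix.add_mulVec, Matrix.add_mulVec, Matrix.one_mulVec, rk_mulVec, rk_mulVec]
    module
  rw [h1, det_one_add_two_rk]
  simp only [hf_add_left, hf_smul_left, hf_neg_left, huu, hyu, huy]
  ring

omit hb in
/-- conjugating an Eichler transformation by an isometry -/
theorem conj_eichM {G G' : Mat} (hG : IsU bar G) (hGG' : G * G' = 1) (u y : Vec) (c : K) :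
    G * eichM bar u y c * G' = eichM bar (G *ᵥ u) (G *ᵥ y) c := by
  have key : ∀ x v : Vec, hf bar (G' *ᵥ x) v = hf bar x (G *ᵥ v) := by
    intro x v
    have h := hG (G' *ᵥ x) v
    rw [Matrix.mulVec_mulVec, hGG', Matrix.one_mulVec] at h
    exact h.symm
  apply mat_ext_mulVec
  intro x
  rw [← Matrix.mulVec_mulVec, ← Matrix.mulVec_mulVec, eichM_mulVec, eichM_mulVec,
    Matrix.mulVec_add, Matrix.mulVec_sub, Matrix.mulVec_add, Matrix.mulVec_mulVec, hGG',
    Matrix.one_mulVec, Matrix.mulVec_smul, Matrix.mulVec_smul, Matrix.mulVec_smul, key, key]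

/-- an Eichler transformation as an element of the model group -/
def eich (u y : Vec) (c : K) (huu : hf bar u u = 0) (hyu : hf bar y u = 0)
    (hc : c + bar c + hf bar y y = 0) : SUk :=
  ⟨⟨eichM bar u y c, det_eichM bar hb c huu hyu⟩, isU_eichM bar hb huu hyu hc⟩

theorem mt_eich (u y : Vec) (c : K) (huu : hf bar u u = 0) (hyu : hf bar y u = 0)
    (hc : c + bar c + hf bar y y = 0) : mt bar (eich bar hb u y c huu hyu hc) = eichM bar u y c := rfl

theorem av_eich (u y : Vec) (c : K) (huu : hf bar u u = 0) (hyu : hf bar y u = 0)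
    (hc : c + bar c + hf bar y y = 0) (x : Vec) :
    av bar (eich bar hb u y c huu hyu hc) x = x + hf bar x u • y - hf bar x y • u + (c * hf bar x u) • u :=
  eichM_mulVec bar u y c x

/-- conjugation of Eichler elements -/
theorem conj_eich (g : SUk) (u y : Vec) (c : K) (huu : hf bar u u = 0) (hyu : hf bar y u = 0)
    (hc : c + bar c + hf bar y y = 0) :
    g * eich bar hb u y c huu hyu hc * g⁻¹ =
      eich bar hb (av bar g u) (av bar g y) c (by rw [hf_av, huu]) (by rw [hf_av, hyu]) (by rw [hf_av, hc]) := by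
  apply mt_injective
  rw [mt_mul, mt_mul, mt_eich, mt_eich]
  exact conj_eichM bar (isU_mt bar g) (mt_mul_inv bar g) u y c

theorem eich_mul {u y y' : Vec} (c c' : K) (huu : hf bar u u = 0) (hyu : hf bar y u = 0)
    (hy'u : hf bar y' u = 0) (hc : c + bar c + hf bar y y = 0) (hc' : c' + bar c' + hf bar y' y' = 0)
    (hcc : (c + c' - hf bar y' y) + bar (c + c' - hf bar y' y) + hf bar (y + y') (y + y') = 0) :
    eich bar hb u y c huu hyu hc * eich bar hb u y' c' huu hy'u hc' =
      eich bar hb u (y + y') (c + c' - hf bar y' y) huu (by rw [hf_add_left, hyu, hy'u, add_zero]) hcc := by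
  apply mt_injective
  rw [mt_mul, mt_eich, mt_eich, mt_eich]
  exact eichM_mul bar hb c c' huu hyu hy'u

/-- Eichler elements are determined by their parameters -/
theorem eich_congr {u u' y y' : Vec} {c c' : K} (hu : u = u') (hy : y = y') (hcc : c = c')
    (huu : hf bar u u = 0) (hyu : hf bar y u = 0) (hc : c + bar c + hf bar y y = 0) :
    eich bar hb u y c huu hyu hc = eich bar hb u' y' c' (by rw [← hu]; exact huu) (by rw [← hu, ← hy]; exact hyu)
      (by rw [← hy, ← hcc]; exact hc) := by
  subst hu hy hcc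
  rfl

end hb

end Cfsg.Agent.Helper84.PSU
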