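import Cfsg.Agent.Helper84.ModelBiset3
set_option autoImplicit false

/-! # Model bisets: the construction from double cosets of `Aut_S(Q)` in `Aut_F(Q)` -/

namespace Cfsg.Agent.Helper84

open Cfsg Cfsg.FusionSystem Cfsg.Agent.Helper87

variable {Ω : Type*} [Group Ω]

/-- The extender of `γ⁻¹ : Q → Q`: the elements `g` of `S` with `γ⁻¹ c_g γ ∈ Aut_S(Q)`. -/
def extOf (S Q : Subgroup Ω) (γ : MulAut ↥Q) : Subgroup Ω :=
  extender S Q (Q.subtype.comp ((γ⁻¹ : MulAut ↥Q) : ↥Q ≃* ↥Q).toMonoidHom)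

theorem extOf_le (S Q : Subgroup Ω) (γ : MulAut ↥Q) : extOf S Q γ ≤ S := by
  intro g hg
  exact ((mem_extender_iff S Q _ g).mp hg).1

theorem le_extOf {S Q : Subgroup Ω} (hQS : Q ≤ S) (γ : MulAut ↥Q) : Q ≤ extOf S Q γ := by
  intro g hg
  unfold extOf
  rw [mem_extender_iff]
  refine ⟨hQS hg, Subgroup.le_normalizer hg, ((γ⁻¹ ⟨g, hg⟩ : ↥Q) : Ω), hQS (γ⁻¹ ⟨g, hg⟩).2, fun x hx => ?_⟩
  show ((γ⁻¹ ⟨g * x * g⁻¹, hx⟩ : ↥Q) : Ω) = ((γ⁻¹ ⟨g, hg⟩ : ↥Q) : Ω) * ((γ⁻¹ x : ↥Q) : Ω) *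
    ((γ⁻¹ ⟨g, hg⟩ : ↥Q) : Ω)⁻¹
  have h1 : (⟨g * x * g⁻¹, hx⟩ : ↥Q) = ⟨g, hg⟩ * x * (⟨g, hg⟩ : ↥Q)⁻¹ := Subtype.ext rfl
  rw [h1, map_mul, map_mul, map_inv]
  rfl

variable {S : Subgroup Ω}

theorem mem_extOf_of {Q : Subgroup Ω} (hSN : S ≤ Subgroup.normalizer (Q : Set Ω)) (c : ↥S →* MulAut ↥Q)
    (hc : ∀ (s : ↥S) (x : ↥Q), ((c s x : ↥Q) : Ω) = s * x * (s : Ω)⁻¹) (γ : MulAut ↥Q) (x : ↥S)
    (hx : γ⁻¹ * c x * γ ∈ c.range) : (x : Ω) ∈ extOf S Q γ := by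
  obtain ⟨h, hh⟩ := hx
  unfold extOf
  rw [mem_extender_iff]
  refine ⟨x.2, hSN x.2, h, h.2, fun u hu => ?_⟩
  show ((γ⁻¹ ⟨(x : Ω) * u * (x : Ω)⁻¹, hu⟩ : ↥Q) : Ω) = h * ((γ⁻¹ u : ↥Q) : Ω) * (h : Ω)⁻¹
  have h1 := congrArg (fun f : MulAut ↥Q => ((f (γ⁻¹ u) : ↥Q) : Ω)) hh
  simp only [MulAut.mul_apply, MulAut.apply_inv_self] at h1
  rw [hc] at h1
  rw [h1]
  congr 2
  apply Subtype.ext
  rw [hc]

/-- The properties required of the extension `ψ` of `γ⁻¹` to its extender. -/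
structure PsiSpec (F : FusionSystem S) (Q : Subgroup Ω) (c : ↥S →* MulAut ↥Q) (γ : MulAut ↥Q)
    (ψ : ↥(extOf S Q γ) →* ↥S) : Prop where
  mem : S.subtype.comp ψ ∈ F.Hom (extOf S Q γ)
  onQ : ∀ (x : ↥(extOf S Q γ)) (hx : (x : Ω) ∈ Q), ((ψ x : ↥S) : Ω) = ((γ⁻¹ ⟨x, hx⟩ : ↥Q) : Ω)
  conj : ∀ x : ↥(extOf S Q γ), c (ψ x) = γ⁻¹ * c (Subgroup.inclusion (extOf_le S Q γ) x) * γ

theorem exists_psiSpec [Finite S] {p : ℕ} [Fact p.Prime] (hS : IsPGroup p S) (F : FusionSystem S)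
    (hF : F.IsSaturated p) {Q : Subgroup Ω} (hQc : F.IsCentric Q)
    (hSN : S ≤ Subgroup.normalizer (Q : Set Ω)) (c : ↥S →* MulAut ↥Q)
    (hc : ∀ (s : ↥S) (x : ↥Q), ((c s x : ↥Q) : Ω) = s * x * (s : Ω)⁻¹)
    (γ : MulAut ↥Q) (hγ : γ ∈ F.autGroup Q) :
    ∃ ψ : ↥(extOf S Q γ) →* ↥S, PsiSpec F Q c γ ψ := by
  have hQS : Q ≤ S := hQc.1
  have hφγ : Q.subtype.comp ((γ⁻¹ : MulAut ↥Q) : ↥Q ≃* ↥Q).toMonoidHom ∈ F.Hom Q :=
    (mem_autGroup_iff F hQS γ⁻¹).mp (Subgroup.inv_mem _ hγ)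
  have hrange : (Q.subtype.comp ((γ⁻¹ : MulAut ↥Q) : ↥Q ≃* ↥Q).toMonoidHom).range = Q := by
    ext y
    constructor
    · rintro ⟨x, rfl⟩
      exact (γ⁻¹ x).2
    · intro hy
      refine ⟨γ ⟨y, hy⟩, ?_⟩
      show ((γ⁻¹ (γ ⟨y, hy⟩) : ↥Q) : Ω) = y
      rw [MulAut.inv_apply_self]
  have hQr : F.IsReceptive Q := Cfsg.Agent.Helper88.FS.isReceptive_of_isCentric hS F hF hQc
  have hDS := extOf_le S Q γ
  have hQD := le_extOf hQS γ
  obtain ⟨ψ₀, hψ₀, hψ₀x⟩ : ∃ ψ₀ : ↥(extOf S Q γ) →* Ω, ψ₀ ∈ F.Hom (extOf S Q γ) ∧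
      ∀ (x : Ω) (hP : x ∈ Q) (hN : x ∈ extOf S Q γ), ψ₀ ⟨x, hN⟩ =
      (Q.subtype.comp ((γ⁻¹ : MulAut ↥Q) : ↥Q ≃* ↥Q).toMonoidHom) ⟨x, hP⟩ := hQr.2 Q _ hφγ hrange
  refine ⟨ψ₀.codRestrict S (fun x => (F.le_of_mem hψ₀).2 x), mem_of_eq F hψ₀ (fun x => rfl), ?_, ?_⟩
  · intro x hx
    exact hψ₀x x hx x.2
  · intro x
    ext u
    rw [hc]
    show ψ₀ x * (u : Ω) * (ψ₀ x)⁻¹ = ((γ⁻¹ (c (Subgroup.inclusion hDS x) (γ u)) : ↥Q) : Ω)
    have hv : (x : Ω) * ((γ u : ↥Q) : Ω) * (x : Ω)⁻¹ ∈ Q :=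
      (Subgroup.mem_normalizer_iff.mp (hSN (hDS x.2)) _).mp (γ u).2
    have h1 : c (Subgroup.inclusion hDS x) (γ u) = ⟨_, hv⟩ := Subtype.ext (hc _ _)
    rw [h1]
    have h2 := hψ₀x _ hv (hQD hv)
    have h3 : (⟨(x : Ω) * ((γ u : ↥Q) : Ω) * (x : Ω)⁻¹, hQD hv⟩ : ↥(extOf S Q γ)) =
        x * ⟨((γ u : ↥Q) : Ω), hQD (γ u).2⟩ * x⁻¹ := Subtype.ext rfl
    rw [h3, map_mul, map_mul, map_inv] at h2
    have h4 := hψ₀x _ (γ u).2 (hQD (γ u).2)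
    rw [h4] at h2
    have h5 : (Q.subtype.comp ((γ⁻¹ : MulAut ↥Q) : ↥Q ≃* ↥Q).toMonoidHom) ⟨((γ u : ↥Q) : Ω), (γ u).2⟩ = u := by
      show ((γ⁻¹ (γ u) : ↥Q) : Ω) = u
      rw [MulAut.inv_apply_self]
    rw [h5] at h2
    rw [h2]
    rfl

open Classical in
/-- A chosen extension of `γ⁻¹` to its extender (trivial when there is none with the required properties). -/
noncomputable def psiOf (F : FusionSystem S) (Q : Subgroup Ω) (c : ↥S →* MulAut ↥Q) (γ : MulAut ↥Q) :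
    ↥(extOf S Q γ) →* ↥S :=
  if h : ∃ ψ : ↥(extOf S Q γ) →* ↥S, PsiSpec F Q c γ ψ then Classical.choose h else 1

theorem psiOf_spec (F : FusionSystem S) (Q : Subgroup Ω) (c : ↥S →* MulAut ↥Q) (γ : MulAut ↥Q)
    (h : ∃ ψ : ↥(extOf S Q γ) →* ↥S, PsiSpec F Q c γ ψ) : PsiSpec F Q c γ (psiOf F Q c γ) := by
  unfold psiOf
  rw [dif_pos h]
  exact Classical.choose_spec h


/-! ### The double cosets -/

section construction

variable (F : FusionSystem S) (Q : Subgroup Ω) (c : ↥S →* MulAut ↥Q)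

/-- The double coset relation of `Aut_S(Q)` on `Aut_F(Q)`. -/
def dcSetoid : Setoid ↥(F.autGroup Q) where
  r γ γ' := ∃ s t : ↥S, (γ' : MulAut ↥Q) = c s * (γ : MulAut ↥Q) * c t
  iseqv := by
    refine ⟨fun γ => ⟨1, 1, by simp⟩, ?_, ?_⟩
    · rintro γ γ' ⟨s, t, h⟩
      refine ⟨s⁻¹, t⁻¹, ?_⟩
      rw [h, map_inv, map_inv]
      group
    · rintro γ γ' γ'' ⟨s, t, h⟩ ⟨s', t', h'⟩
      refine ⟨s' * s, t * t', ?_⟩
      rw [h', h, map_mul, map_mul]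
      group

/-- The set of double cosets. -/
abbrev DC : Type _ := Quotient (dcSetoid F Q c)

/-- The chosen representative of a double coset. -/
noncomputable def rep (j : DC F Q c) : MulAut ↥Q := ((Quotient.out j : ↥(F.autGroup Q)) : MulAut ↥Q)

theorem rep_mem (j : DC F Q c) : rep F Q c j ∈ F.autGroup Q := (Quotient.out j : ↥(F.autGroup Q)).2

theorem eq_of_rep_eq {j j' : DC F Q c} (s t : ↥S) (h : rep F Q c j' = c s * rep F Q c j * c t) : j = j' := by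
  have h1 : Quotient.mk (dcSetoid F Q c) (Quotient.out j) = Quotient.mk (dcSetoid F Q c) (Quotient.out j') :=
    Quotient.sound ⟨s, t, h⟩
  rw [Quotient.out_eq, Quotient.out_eq] at h1
  exact h1

theorem exists_rep (γ : MulAut ↥Q) (hγ : γ ∈ F.autGroup Q) :
    ∃ (j : DC F Q c) (s t : ↥S), γ = c s * rep F Q c j * c t := by
  refine ⟨Quotient.mk (dcSetoid F Q c) ⟨γ, hγ⟩, ?_⟩
  have h1 : Quotient.mk (dcSetoid F Q c) (Quotient.out (Quotient.mk (dcSetoid F Q c) ⟨γ, hγ⟩)) =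
      Quotient.mk (dcSetoid F Q c) ⟨γ, hγ⟩ := Quotient.out_eq _
  obtain ⟨s, t, h⟩ := Quotient.exact h1
  exact ⟨s, t, h⟩

/-! ### The biset -/

/-- The relation on `DC × S × S` defining the twisted products `S ×_D S`. -/
def xRel (x y : DC F Q c × ↥S × ↥S) : Prop :=
  y.1 = x.1 ∧ ∃ u : ↥(extOf S Q (rep F Q c x.1)),
    y.2.1 = x.2.1 * (Subgroup.inclusion (extOf_le S Q _) u)⁻¹ ∧ y.2.2 = psiOf F Q c (rep F Q c x.1) u * x.2.2

theorem xRel_iff (j j' : DC F Q c) (a b a' b' : ↥S) : xRel F Q c (j, a, b) (j', a', b') ↔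
    j' = j ∧ ∃ u : ↥(extOf S Q (rep F Q c j)),
      a' = a * (Subgroup.inclusion (extOf_le S Q _) u)⁻¹ ∧ b' = psiOf F Q c (rep F Q c j) u * b := Iff.rfl

/-- The setoid defining the biset. -/
def xSetoid : Setoid (DC F Q c × ↥S × ↥S) where
  r := xRel F Q c
  iseqv := by
    refine ⟨?_, ?_, ?_⟩
    · rintro ⟨j, a, b⟩
      rw [xRel_iff]
      exact ⟨rfl, 1, by simp, by simp⟩
    · rintro ⟨j, a, b⟩ ⟨j', a', b'⟩ h
      rw [xRel_iff] at h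
      obtain ⟨rfl, u, rfl, rfl⟩ := h
      rw [xRel_iff]
      refine ⟨rfl, u⁻¹, ?_, ?_⟩
      · rw [map_inv, inv_inv, inv_mul_cancel_right]
      · rw [map_inv, inv_mul_cancel_left]
    · rintro ⟨j, a, b⟩ ⟨j', a', b'⟩ ⟨j'', a'', b''⟩ h h'
      rw [xRel_iff] at h h'
      obtain ⟨rfl, u, rfl, rfl⟩ := h
      obtain ⟨rfl, u', rfl, rfl⟩ := h'
      rw [xRel_iff]
      refine ⟨rfl, u' * u, ?_, ?_⟩
      · rw [map_mul, mul_inv_rev, mul_assoc]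
      · rw [map_mul, mul_assoc]

/-- The biset `X`: the disjoint union over the double cosets of the twisted products. -/
abbrev XX : Type _ := Quotient (xSetoid F Q c)

/-- The class of a triple. -/
def mkX (j : DC F Q c) (a b : ↥S) : XX F Q c := Quotient.mk (xSetoid F Q c) (j, a, b)

theorem exists_mkX (ω : XX F Q c) : ∃ j a b, ω = mkX F Q c j a b := by
  induction ω using Quotient.inductionOn with
  | h x => exact ⟨x.1, x.2.1, x.2.2, rfl⟩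

theorem mkX_eq_iff (j j' : DC F Q c) (a b a' b' : ↥S) : mkX F Q c j a b = mkX F Q c j' a' b' ↔
    j' = j ∧ ∃ u : ↥(extOf S Q (rep F Q c j)),
      a' = a * (Subgroup.inclusion (extOf_le S Q _) u)⁻¹ ∧ b' = psiOf F Q c (rep F Q c j) u * b := by
  unfold mkX
  constructor
  · intro h
    exact (xRel_iff F Q c j j' a b a' b').mp (Quotient.exact h)
  · intro h
    exact Quotient.sound ((xRel_iff F Q c j j' a b a' b').mpr h)

/-- Twisting relation in the form used most often. -/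
theorem mkX_mul_left (j : DC F Q c) (a b : ↥S) (u : ↥(extOf S Q (rep F Q c j))) :
    mkX F Q c j (a * Subgroup.inclusion (extOf_le S Q _) u) b = mkX F Q c j a (psiOf F Q c (rep F Q c j) u * b) := by
  rw [mkX_eq_iff]
  exact ⟨rfl, u, by rw [mul_inv_cancel_right], rfl⟩

/-- The left action. -/
def lmulX (x : ↥S) : XX F Q c → XX F Q c :=
  Quotient.map (fun y => (y.1, x * y.2.1, y.2.2)) (by
    rintro ⟨j, a, b⟩ ⟨j', a', b'⟩ h
    obtain ⟨rfl, u, rfl, rfl⟩ := (xRel_iff F Q c j j' a b a' b').mp h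
    exact (xRel_iff F Q c _ _ _ _ _ _).mpr ⟨rfl, u, by rw [mul_assoc], rfl⟩)

/-- The right action. -/
def rmulX (ω : XX F Q c) (s : ↥S) : XX F Q c :=
  Quotient.map (fun y => (y.1, y.2.1, y.2.2 * s)) (by
    rintro ⟨j, a, b⟩ ⟨j', a', b'⟩ h
    obtain ⟨rfl, u, rfl, rfl⟩ := (xRel_iff F Q c j j' a b a' b').mp h
    exact (xRel_iff F Q c _ _ _ _ _ _).mpr ⟨rfl, u, rfl, by rw [mul_assoc]⟩) ω

theorem lmulX_mkX (x : ↥S) (j : DC F Q c) (a b : ↥S) :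
    lmulX F Q c x (mkX F Q c j a b) = mkX F Q c j (x * a) b := rfl

theorem rmulX_mkX (j : DC F Q c) (a b s : ↥S) :
    rmulX F Q c (mkX F Q c j a b) s = mkX F Q c j a (b * s) := rfl

end construction


/-! ### The axioms -/

section axioms

variable (F : FusionSystem S) (Q : Subgroup Ω) (c : ↥S →* MulAut ↥Q)
  (hspec : ∀ j : DC F Q c, PsiSpec F Q c (rep F Q c j) (psiOf F Q c (rep F Q c j)))

/-- The projection to `Aut(Q)`. -/
noncomputable def prX : XX F Q c → MulAut ↥Q :=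
  Quotient.lift (fun y => c y.2.1 * rep F Q c y.1 * c y.2.2) (by
    rintro ⟨j, a, b⟩ ⟨j', a', b'⟩ h
    obtain ⟨rfl, u, rfl, rfl⟩ := (xRel_iff F Q c j j' a b a' b').mp h
    show c a * rep F Q c j' * c b = c (a * (Subgroup.inclusion (extOf_le S Q _) u)⁻¹) * rep F Q c j' *
      c (psiOf F Q c (rep F Q c j') u * b)
    rw [map_mul, map_mul, map_inv, (hspec j').conj u]
    group)

theorem prX_mkX (j : DC F Q c) (a b : ↥S) :
    prX F Q c hspec (mkX F Q c j a b) = c a * rep F Q c j * c b := rfl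

omit hspec in
theorem free_X (ω : XX F Q c) (s : ↥S) (h : rmulX F Q c ω s = ω) : s = 1 := by
  obtain ⟨j, a, b, rfl⟩ := exists_mkX F Q c ω
  rw [rmulX_mkX, mkX_eq_iff] at h
  obtain ⟨-, u, h1, h2⟩ := h
  have h3 : Subgroup.inclusion (extOf_le S Q (rep F Q c j)) u = 1 := by
    have := congrArg (fun t => a⁻¹ * t) h1
    simp only [inv_mul_cancel, inv_mul_cancel_left] at this
    exact inv_eq_one.mp this.symm
  have h4 : u = 1 := by
    apply Subtype.ext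
    have h5 := congrArg Subtype.val h3
    exact h5
  rw [h4, map_one, one_mul] at h2
  have := congrArg (fun t => b⁻¹ * t) h2
  simp only [inv_mul_cancel, inv_mul_cancel_left] at this
  exact this.symm

include hspec in
theorem fibre_X (hSN : S ≤ Subgroup.normalizer (Q : Set Ω))
    (hc : ∀ (s : ↥S) (x : ↥Q), ((c s x : ↥Q) : Ω) = s * x * (s : Ω)⁻¹)
    (ω ω' : XX F Q c) (h : prX F Q c hspec ω = prX F Q c hspec ω') :
    ∃ z : ↥S, c z = 1 ∧ ω' = rmulX F Q c ω z := by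
  obtain ⟨j, a, b, rfl⟩ := exists_mkX F Q c ω
  obtain ⟨j', a', b', rfl⟩ := exists_mkX F Q c ω'
  rw [prX_mkX, prX_mkX] at h
  have hj : j = j' := by
    apply eq_of_rep_eq F Q c (a'⁻¹ * a) (b * b'⁻¹)
    rw [map_mul, map_mul, map_inv, map_inv]
    calc rep F Q c j' = (c a')⁻¹ * (c a' * rep F Q c j' * c b') * (c b')⁻¹ := by group
      _ = (c a')⁻¹ * (c a * rep F Q c j * c b) * (c b')⁻¹ := by rw [h]
      _ = _ := by group
  subst hj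
  have h1 : (rep F Q c j)⁻¹ * c (a'⁻¹ * a) * rep F Q c j = c (b' * b⁻¹) := by
    rw [map_mul, map_mul, map_inv, map_inv]
    calc (rep F Q c j)⁻¹ * ((c a')⁻¹ * c a) * rep F Q c j
        = (rep F Q c j)⁻¹ * (c a')⁻¹ * (c a * rep F Q c j * c b) * (c b)⁻¹ := by group
      _ = (rep F Q c j)⁻¹ * (c a')⁻¹ * (c a' * rep F Q c j * c b') * (c b)⁻¹ := by rw [h]
      _ = _ := by group
  have hx : ((a'⁻¹ * a : ↥S) : Ω) ∈ extOf S Q (rep F Q c j) :=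
    mem_extOf_of hSN c hc (rep F Q c j) (a'⁻¹ * a) (by rw [h1]; exact ⟨_, rfl⟩)
  set u : ↥(extOf S Q (rep F Q c j)) := ⟨((a'⁻¹ * a : ↥S) : Ω), hx⟩ with hu
  have hincl : Subgroup.inclusion (extOf_le S Q (rep F Q c j)) u = a'⁻¹ * a := Subtype.ext rfl
  have h2 : c (psiOf F Q c (rep F Q c j) u) = c (b' * b⁻¹) := by
    rw [(hspec j).conj u, hincl, h1]
  have h3 : mkX F Q c j a b = mkX F Q c j a' (psiOf F Q c (rep F Q c j) u * b) := by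
    rw [← mkX_mul_left, hincl, mul_inv_cancel_left]
  refine ⟨(psiOf F Q c (rep F Q c j) u * b)⁻¹ * b', ?_, ?_⟩
  · rw [map_mul, map_inv, map_mul, h2, map_mul, map_inv]
    group
  · rw [h3, rmulX_mkX, mul_inv_cancel_left]

include hspec in
theorem qcompat_X (hQS : Q ≤ S)
    (hc : ∀ (s : ↥S) (x : ↥Q), ((c s x : ↥Q) : Ω) = s * x * (s : Ω)⁻¹)
    (ω : XX F Q c) (x : ↥S) (hx : (x : Ω) ∈ Q) :
    lmulX F Q c x ω = rmulX F Q c ω ⟨(((prX F Q c hspec ω)⁻¹ ⟨x, hx⟩ : ↥Q) : Ω),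
      hQS ((prX F Q c hspec ω)⁻¹ ⟨x, hx⟩).2⟩ := by
  obtain ⟨j, a, b, rfl⟩ := exists_mkX F Q c ω
  have hq : ((a⁻¹ * x * a : ↥S) : Ω) ∈ Q := by
    have h1 := hc a⁻¹ ⟨x, hx⟩
    have h2 : ((a⁻¹ * x * a : ↥S) : Ω) = ((c a⁻¹ ⟨x, hx⟩ : ↥Q) : Ω) := by
      rw [h1]
      simp
    rw [h2]
    exact (c a⁻¹ ⟨x, hx⟩).2
  set u : ↥(extOf S Q (rep F Q c j)) := ⟨((a⁻¹ * x * a : ↥S) : Ω), le_extOf hQS _ hq⟩ with hu
  have hincl : Subgroup.inclusion (extOf_le S Q (rep F Q c j)) u = a⁻¹ * x * a := Subtype.ext rfl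
  have h3 : mkX F Q c j (x * a) b = mkX F Q c j a (psiOf F Q c (rep F Q c j) u * b) := by
    rw [← mkX_mul_left, hincl]
    congr 1
    group
  rw [lmulX_mkX, rmulX_mkX, h3]
  congr 1
  apply Subtype.ext
  rw [prX_mkX]
  simp only [Subgroup.coe_mul]
  rw [mul_inv_rev, mul_inv_rev, ← map_inv, ← map_inv, MulAut.mul_apply, MulAut.mul_apply, hc]
  have h4 : c a⁻¹ ⟨x, hx⟩ = ⟨((a⁻¹ * x * a : ↥S) : Ω), hq⟩ := by
    apply Subtype.ext
    rw [hc]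
    simp
  rw [h4, ← (hspec j).onQ u hq]
  simp only [Subgroup.coe_inv, inv_inv]
  group

include hspec in
theorem fstab_X (ω : XX F Q c) (D : Subgroup Ω) (χ φ : ↥D →* Ω) (hχ : χ ∈ F.Hom D) (hφS : ∀ x, φ x ∈ S)
    (h : ∀ x : ↥D, lmulX F Q c ⟨χ x, (F.le_of_mem hχ).2 x⟩ ω = rmulX F Q c ω ⟨φ x, hφS x⟩) :
    φ ∈ F.Hom D := by
  obtain ⟨j, a, b, rfl⟩ := exists_mkX F Q c ω
  have hχS := (F.le_of_mem hχ).2
  have key : ∀ x : ↥D, ∃ u : ↥(extOf S Q (rep F Q c j)), (u : Ω) = (a : Ω)⁻¹ * χ x * a ∧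
      φ x = (b : Ω)⁻¹ * (psiOf F Q c (rep F Q c j) u : ↥S) * b := by
    intro x
    have h1 := h x
    rw [lmulX_mkX, rmulX_mkX, mkX_eq_iff] at h1
    obtain ⟨-, u, h2, h3⟩ := h1
    refine ⟨u, ?_, ?_⟩
    · have h5 : a * Subgroup.inclusion (extOf_le S Q (rep F Q c j)) u = ⟨χ x, hχS x⟩ * a := by
        calc a * Subgroup.inclusion (extOf_le S Q (rep F Q c j)) u
            = (⟨χ x, hχS x⟩ * a * (Subgroup.inclusion (extOf_le S Q (rep F Q c j)) u)⁻¹) *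
              Subgroup.inclusion (extOf_le S Q (rep F Q c j)) u := by rw [← h2]
          _ = ⟨χ x, hχS x⟩ * a := by rw [inv_mul_cancel_right]
      have h4 : Subgroup.inclusion (extOf_le S Q (rep F Q c j)) u = a⁻¹ * ⟨χ x, hχS x⟩ * a := by
        rw [mul_assoc, ← h5, inv_mul_cancel_left]
      have := congrArg Subtype.val h4
      simpa using this
    · have h4 : (⟨φ x, hφS x⟩ : ↥S) = b⁻¹ * psiOf F Q c (rep F Q c j) u * b := by
        rw [mul_assoc, ← h3, inv_mul_cancel_left]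
      have := congrArg Subtype.val h4
      simpa using this
  have hη₁ := F.comp_mem hχ (F.conj_mem (P := S) (g := ((a⁻¹ : ↥S) : Ω)) le_rfl (a⁻¹).2) hχS
  have hη₁x : ∀ x : ↥D, ((conjHom S ((a⁻¹ : ↥S) : Ω)).comp (χ.codRestrict S hχS)) x = (a : Ω)⁻¹ * χ x * a := by
    intro x
    show ((a⁻¹ : ↥S) : Ω) * χ x * ((a⁻¹ : ↥S) : Ω)⁻¹ = _
    simp
  have h1 : ∀ x : ↥D, ((conjHom S ((a⁻¹ : ↥S) : Ω)).comp (χ.codRestrict S hχS)) x ∈
      extOf S Q (rep F Q c j) := by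
    intro x
    obtain ⟨u, hu, -⟩ := key x
    rw [hη₁x, ← hu]
    exact u.2
  have hη₂ := F.comp_mem hη₁ (hspec j).mem h1
  have h2 : ∀ x : ↥D, ((S.subtype.comp (psiOf F Q c (rep F Q c j))).comp
      (((conjHom S ((a⁻¹ : ↥S) : Ω)).comp (χ.codRestrict S hχS)).codRestrict _ h1)) x ∈ S :=
    fun x => (psiOf F Q c (rep F Q c j) _).2
  have hη₃ := F.comp_mem hη₂ (F.conj_mem (P := S) (g := ((b⁻¹ : ↥S) : Ω)) le_rfl (b⁻¹).2) h2
  refine mem_of_eq F hη₃ (fun x => ?_)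
  obtain ⟨u, hu, hφx⟩ := key x
  rw [hφx]
  show _ = ((b⁻¹ : ↥S) : Ω) * ((psiOf F Q c (rep F Q c j) ⟨_, h1 x⟩ : ↥S) : Ω) * ((b⁻¹ : ↥S) : Ω)⁻¹
  have h5 : u = ⟨_, h1 x⟩ := by
    apply Subtype.ext
    rw [hu]
    exact (hη₁x x).symm
  rw [← h5]
  simp

end axioms


/-! ### Assembling the model biset -/

section assemble

variable (F : FusionSystem S) (Q : Subgroup Ω) (c : ↥S →* MulAut ↥Q)

/-- The model biset of a normal centric subgroup. -/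
noncomputable def theBiset (hQS : Q ≤ S) (hSN : S ≤ Subgroup.normalizer (Q : Set Ω))
    (hc : ∀ (s : ↥S) (x : ↥Q), ((c s x : ↥Q) : Ω) = s * x * (s : Ω)⁻¹)
    (hcS : ∀ s : ↥S, c s ∈ F.autGroup Q)
    (hspec : ∀ j : DC F Q c, PsiSpec F Q c (rep F Q c j) (psiOf F Q c (rep F Q c j))) :
    ModelBiset F hQS c (XX F Q c) where
  lmul := lmulX F Q c
  rmul := rmulX F Q c
  pr := prX F Q c hspec
  lmul_one ω := by
    obtain ⟨j, a, b, rfl⟩ := exists_mkX F Q c ω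
    rw [lmulX_mkX, one_mul]
  lmul_mul x y ω := by
    obtain ⟨j, a, b, rfl⟩ := exists_mkX F Q c ω
    rw [lmulX_mkX, lmulX_mkX, lmulX_mkX, mul_assoc]
  rmul_one ω := by
    obtain ⟨j, a, b, rfl⟩ := exists_mkX F Q c ω
    rw [rmulX_mkX, mul_one]
  rmul_mul ω s t := by
    obtain ⟨j, a, b, rfl⟩ := exists_mkX F Q c ω
    rw [rmulX_mkX, rmulX_mkX, rmulX_mkX, mul_assoc]
  lmul_rmul x ω s := by
    obtain ⟨j, a, b, rfl⟩ := exists_mkX F Q c ω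
    rw [rmulX_mkX, lmulX_mkX, lmulX_mkX, rmulX_mkX]
  pr_lmul x ω := by
    obtain ⟨j, a, b, rfl⟩ := exists_mkX F Q c ω
    rw [lmulX_mkX, prX_mkX, prX_mkX, map_mul, mul_assoc, mul_assoc, mul_assoc]
  pr_rmul ω s := by
    obtain ⟨j, a, b, rfl⟩ := exists_mkX F Q c ω
    rw [rmulX_mkX, prX_mkX, prX_mkX, map_mul, mul_assoc, mul_assoc, mul_assoc]
  pr_mem ω := by
    obtain ⟨j, a, b, rfl⟩ := exists_mkX F Q c ω
    rw [prX_mkX]
    exact Subgroup.mul_mem _ (Subgroup.mul_mem _ (hcS a) (rep_mem F Q c j)) (hcS b)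
  pr_surj γ hγ := by
    obtain ⟨j, s, t, h⟩ := exists_rep F Q c γ hγ
    exact ⟨mkX F Q c j s t, h.symm⟩
  free := free_X F Q c
  fibre := fibre_X F Q c hspec hSN hc
  qcompat := qcompat_X F Q c hspec hQS hc
  fstab := fstab_X F Q c hspec

end assemble

/-- **Model theorem (existence)**: a constrained saturated fusion system over a finite `p`-group has a model, living in the universe of the ambient group. -/
theorem exists_model_of_constrained.{u} {Ω : Type u} [Group Ω] {S : Subgroup Ω} [Finite S] {p : ℕ} [Fact p.Prime]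
    (hS : IsPGroup p S) (F : FusionSystem S) (hF : F.IsSaturated p) {Q : Subgroup Ω} (hQn : F.IsNormal Q)
    (hQc : F.IsCentric Q) :
    ∃ (X : Type u) (K : Subgroup (Equiv.Perm X)) (H : Subgroup ↥K) (ι : ↥S →* ↥H), F.IsModel p ↥H ι := by
  have hQS : Q ≤ S := hQn.1
  have hSN := le_normalizer_of_isNormal F hQn
  set c : ↥S →* MulAut ↥Q := (Subgroup.normalizerMonoidHom Q).comp (Subgroup.inclusion hSN) with hcdef
  have hc : ∀ (s : ↥S) (x : ↥Q), ((c s x : ↥Q) : Ω) = s * x * (s : Ω)⁻¹ := fun s x => rfl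
  have hcS : ∀ s : ↥S, c s ∈ F.autGroup Q := by
    intro s
    rw [mem_autGroup_iff F hQS]
    exact mem_of_eq F (F.conj_mem hQS s.2) (fun x => rfl)
  have hspec : ∀ j : DC F Q c, PsiSpec F Q c (rep F Q c j) (psiOf F Q c (rep F Q c j)) := fun j =>
    psiOf_spec F Q c _ (exists_psiSpec hS F hF hQc hSN c hc _ (rep_mem F Q c j))
  have : Finite (MulAut ↥Q) := finite_mulAut_of_le hQS
  have : Finite (XX F Q c) := Quotient.finite _
  obtain ⟨H, ι, hM⟩ := (theBiset F Q c hQS hSN hc hcS hspec).exists_model hS hF hQn hQc hc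
  exact ⟨XX F Q c, _, H, ι, hM⟩

end Cfsg.Agent.Helper84
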