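import Cfsg.Agent.Helper84.KNorm
import Cfsg.Agent.Lib.Cores
set_option autoImplicit false

/-! # `p`-stability of fusion systems: basic transport lemmas -/

namespace Cfsg.Agent.Helper84

open Cfsg Cfsg.FusionSystem Cfsg.Agent.Helper87

/-- Membership in `O_p(A)` seen inside the ambient group. -/
theorem mem_pCore_map_iff {M : Type*} [Group M] {p : ℕ} (A : Subgroup M) (χ : M) :
    χ ∈ (pCore p ↥A).map A.subtype ↔
      ∃ N : Subgroup M, N ≤ A ∧ (∀ a ∈ A, ∀ n ∈ N, a * n * a⁻¹ ∈ N) ∧ IsPGroup p N ∧ χ ∈ N := by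
  constructor
  · intro h
    refine ⟨(pCore p ↥A).map A.subtype, Subgroup.map_subtype_le _, ?_, ?_, h⟩
    · rintro a ha _ ⟨n, hn, rfl⟩
      have := Cfsg.Agent.Lib.pCore_characteristic (G := ↥A) p
      have hnorm : (pCore p ↥A).Normal := inferInstance
      refine ⟨⟨a, ha⟩ * n * ⟨a, ha⟩⁻¹, hnorm.conj_mem n hn ⟨a, ha⟩, ?_⟩
      simp
    · exact (Cfsg.Agent.Lib.isPGroup_pCore p).map _
  · rintro ⟨N, hNA, hnorm, hp, hχ⟩
    have hN' : (N.subgroupOf A).Normal := by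
      refine ⟨fun n hn g => ?_⟩
      rw [Subgroup.mem_subgroupOf] at hn ⊢
      have := hnorm g g.2 n hn
      simpa using this
    have hp' : IsPGroup p (N.subgroupOf A) := hp.comap_subtype
    have hle := Cfsg.Agent.Lib.le_pCore hN' hp'
    exact ⟨⟨χ, hNA hχ⟩, hle (by rw [Subgroup.mem_subgroupOf]; exact hχ), rfl⟩

/-- Transport of `O_p` along an isomorphism of ambient groups. -/
theorem mem_pCore_map_of_equiv {M M' : Type*} [Group M] [Group M'] {p : ℕ} (f : M ≃* M') (A : Subgroup M) {χ : M}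
    (h : χ ∈ (pCore p ↥A).map A.subtype) :
    f χ ∈ (pCore p ↥(A.map f.toMonoidHom)).map (A.map f.toMonoidHom).subtype := by
  rw [mem_pCore_map_iff] at h ⊢
  obtain ⟨N, hNA, hnorm, hp, hχ⟩ := h
  refine ⟨N.map f.toMonoidHom, Subgroup.map_mono hNA, ?_, hp.map _, ⟨χ, hχ, rfl⟩⟩
  rintro _ ⟨a, ha, rfl⟩ _ ⟨n, hn, rfl⟩
  exact ⟨a * n * a⁻¹, hnorm a ha n hn, by simp⟩

theorem mem_pCore_map_congr {M : Type*} [Group M] {p : ℕ} {A B : Subgroup M} (h : A = B) {χ : M}
    (hχ : χ ∈ (pCore p ↥A).map A.subtype) : χ ∈ (pCore p ↥B).map B.subtype := by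
  subst h
  exact hχ

/-- `O_p(A) ∩ B ≤ O_p(B)` for `B ≤ A`. -/
theorem mem_pCore_map_of_le {M : Type*} [Group M] {p : ℕ} {A B : Subgroup M} (hBA : B ≤ A) {χ : M}
    (hχ : χ ∈ (pCore p ↥A).map A.subtype) (hχB : χ ∈ B) : χ ∈ (pCore p ↥B).map B.subtype := by
  rw [mem_pCore_map_iff] at hχ ⊢
  obtain ⟨N, hNA, hnorm, hp, hχN⟩ := hχ
  refine ⟨N ⊓ B, inf_le_right, ?_, hp.to_le inf_le_left, ⟨hχN, hχB⟩⟩
  rintro a ha n ⟨hn, hnB⟩
  exact ⟨hnorm a (hBA ha) n hn, B.mul_mem (B.mul_mem ha hnB) (B.inv_mem ha)⟩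

/-- A `p`-element of a subgroup `A` all of whose elements commute with it lies in `O_p(A)`. -/
theorem mem_pCore_map_of_commute {M : Type*} [Group M] {p : ℕ} (A : Subgroup M) {χ : M} (hχA : χ ∈ A)
    (hcomm : ∀ a ∈ A, a * χ = χ * a) {n : ℕ} (hpow : χ ^ (p ^ n) = 1) :
    χ ∈ (pCore p ↥A).map A.subtype := by
  rw [mem_pCore_map_iff]
  refine ⟨Subgroup.zpowers χ, by rwa [Subgroup.zpowers_le], ?_, ?_, Subgroup.mem_zpowers χ⟩
  · rintro a ha _ ⟨i, rfl⟩
    have hc : Commute a χ := hcomm a ha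
    have : a * χ ^ i * a⁻¹ = χ ^ i := by
      have := (hc.zpow_right i).eq
      rw [this]; group
    rw [this]
    exact ⟨i, rfl⟩
  · rintro ⟨_, ⟨i, rfl⟩⟩
    refine ⟨n, ?_⟩
    apply Subtype.ext
    show (χ ^ i) ^ (p ^ n) = 1
    rw [← zpow_natCast, ← zpow_mul, mul_comm, zpow_mul, zpow_natCast, hpow, one_zpow]

/-- The quadratic-action condition used in the statements. -/
def IsQuad {Q : Type*} [Group Q] (χ : MulAut Q) : Prop :=
  ∀ a : Q, (χ a⁻¹) * a * (χ a⁻¹) * (χ (χ a)) = 1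

theorem IsQuad.fix {Q : Type*} [Group Q] {χ : MulAut Q} (h : IsQuad χ) (a : Q) :
    χ (a⁻¹ * χ a) = a⁻¹ * χ a := by
  have h1 := h a
  rw [map_inv] at h1
  rw [map_mul, map_inv]
  have h2 : ((χ a)⁻¹ * a) * ((χ a)⁻¹ * χ (χ a)) = 1 := by
    rw [← h1]; group
  rw [eq_inv_of_mul_eq_one_right h2, mul_inv_rev, inv_inv]

theorem IsQuad.pow_apply {Q : Type*} [Group Q] {χ : MulAut Q} (h : IsQuad χ) (a : Q) (m : ℕ) :
    (χ ^ m) a = a * (a⁻¹ * χ a) ^ m := by
  induction m with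
  | zero => simp
  | succ m ih =>
    rw [pow_succ', MulAut.mul_apply, ih, map_mul, map_pow, h.fix a, pow_succ' (a⁻¹ * χ a) m]
    simp only [mul_assoc, mul_inv_cancel_left]

theorem IsQuad.pow_card {Q : Type*} [Group Q] [Finite Q] {χ : MulAut Q} (h : IsQuad χ) :
    χ ^ Nat.card Q = 1 := by
  ext a
  rw [h.pow_apply, pow_card_eq_one', mul_one]
  rfl

theorem IsQuad.congr {Q Q' : Type*} [Group Q] [Group Q'] {χ : MulAut Q} (h : IsQuad χ) (e : Q ≃* Q') :
    IsQuad (MulAut.congr e χ) := by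
  intro a'
  obtain ⟨a, rfl⟩ := e.surjective a'
  have h1 := h a
  have e1 : ∀ y : Q, (MulAut.congr e χ) (e y) = e (χ y) := by
    intro y
    show e (χ (e.symm (e y))) = e (χ y)
    rw [e.symm_apply_apply]
  rw [← map_inv, e1, e1, e1, ← map_mul, ← map_mul, ← map_mul, h1, map_one]

variable {Ω : Type*} [Group Ω]

/-- `p`-stability of a fusion system at one subgroup. -/
def PStableAt {T : Subgroup Ω} (E : FusionSystem T) (p : ℕ) (Q : Subgroup Ω) : Prop :=
  ∀ χ : MulAut ↥Q, χ ∈ E.autGroup Q → (∀ a : ↥Q, (χ a⁻¹) * a * (χ a⁻¹) * (χ (χ a)) = 1) →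
    χ ∈ ((Cfsg.pCore p ↥(E.autGroup Q)).map (E.autGroup Q).subtype : Subgroup (MulAut ↥Q))

/-- `p`-stability transports along isomorphisms of the system. -/
theorem PStableAt.of_iso {S : Subgroup Ω} (F : FusionSystem S) {p : ℕ} {Q Q' : Subgroup Ω} (e : Q ≃* Q')
    (he : IsIso F e) (h : PStableAt F p Q') : PStableAt F p Q := by
  intro χ hχ hq
  have hχ' : MulAut.congr e χ ∈ F.autGroup Q' := by
    rw [← tr_autGroup F e he]
    exact congr_mem_tr e _ hχ
  have hq' : IsQuad (MulAut.congr e χ) := IsQuad.congr (χ := χ) hq e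
  have h1 := h _ hχ' hq'
  have h2 := mem_pCore_map_of_equiv (p := p) (MulAut.congr e.symm) (F.autGroup Q') h1
  have h3 : (F.autGroup Q').map (MulAut.congr e.symm).toMonoidHom = F.autGroup Q := tr_autGroup F e.symm he.symm
  have h4 := mem_pCore_map_congr h3 h2
  rwa [congr_symm_congr'] at h4

/-- `p`-stability at all fully normalized subgroups gives `p`-stability at all subgroups. -/
theorem PStableAt.of_fullyNormalized {S : Subgroup Ω} [Finite S] (F : FusionSystem S) {p : ℕ}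
    (h : ∀ Q : Subgroup Ω, F.IsFullyNormalized Q → PStableAt F p Q) {Q : Subgroup Ω} (hQ : Q ≤ S) :
    PStableAt F p Q := by
  obtain ⟨Q', hconj, hfn⟩ := exists_isConj_fullyNormalized F hQ
  obtain ⟨e, he⟩ := (isConj_iff F Q Q').mp hconj
  exact PStableAt.of_iso F e he (h Q' hfn)

/-- Quadratic automorphisms of a finite `p`-group are `p`-elements; in a commutative automorphism group they lie
in `O_p`. -/
theorem mem_pCore_of_isQuad_of_cyclic {p : ℕ} {Q : Subgroup Ω} [Finite Q] (hQp : IsPGroup p Q) [Fact p.Prime]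
    (hcyc : IsCyclic Q)
    (A : Subgroup (MulAut Q)) {χ : MulAut Q} (hχ : χ ∈ A) (hq : IsQuad χ) :
    χ ∈ (pCore p ↥A).map A.subtype := by
  obtain ⟨n, hn⟩ := hQp.exists_card_eq
  have hpow : χ ^ (p ^ n) = 1 := by rw [← hn]; exact hq.pow_card
  refine mem_pCore_map_of_commute A hχ (fun a _ => ?_) hpow
  apply (IsCyclic.mulAutMulEquiv Q).injective
  rw [map_mul, map_mul, mul_comm]

/-- `Aut_N(P) ≤ Aut_F(P)` for a subsystem. -/
theorem autGroup_le_of_hom_subset {S T : Subgroup Ω} (F : FusionSystem S) (N : FusionSystem T) {P : Subgroup Ω}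
    (h : N.Hom P ⊆ F.Hom P) : N.autGroup P ≤ F.autGroup P := by
  unfold FusionSystem.autGroup
  exact Subgroup.closure_mono (fun α hα => h hα)

/-- In the normalizer system `N_F(Q)`, `Aut_N(Q) = Aut_F(Q)`. -/
theorem autGroup_normalizerSystem_self {S : Subgroup Ω} (F : FusionSystem S) {Q : Subgroup Ω} (hQS : Q ≤ S)
    (N : FusionSystem (normalizerIn S Q)) (hN : F.IsNormalizerSystem Q N) : N.autGroup Q = F.autGroup Q := by
  apply le_antisymm
  · apply autGroup_le_of_hom_subset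
    rw [hN Q]
    exact fun φ hφ => hφ.1
  · unfold FusionSystem.autGroup
    apply Subgroup.closure_mono
    intro α hα
    show Q.subtype.comp α.toMonoidHom ∈ N.Hom Q
    rw [hN Q]
    have hle : Q ⊔ Q ≤ Q := sup_le le_rfl le_rfl
    refine ⟨hα, le_normalizerIn hQS, fun x => le_normalizerIn hQS (α x).2, ?_⟩
    refine ⟨(Q.subtype.comp α.toMonoidHom).comp (Subgroup.inclusion hle), restrict_mem F hα hle, fun x => rfl, ?_⟩
    ext y
    constructor
    · rintro ⟨z, -, rfl⟩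
      exact (α (Subgroup.inclusion hle z)).2
    · intro hy
      refine ⟨Subgroup.inclusion le_sup_left (α.symm ⟨y, hy⟩), ?_, ?_⟩
      · show _ ∈ Q.subgroupOf (Q ⊔ Q)
        rw [Subgroup.mem_subgroupOf]
        exact (α.symm ⟨y, hy⟩).2
      · show ((α (Subgroup.inclusion hle (Subgroup.inclusion le_sup_left (α.symm ⟨y, hy⟩))) : Q) : Ω) = y
        have : Subgroup.inclusion hle (Subgroup.inclusion le_sup_left (α.symm ⟨y, hy⟩)) = α.symm ⟨y, hy⟩ :=
          Subtype.ext rfl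
        rw [this, MulEquiv.apply_symm_apply]

end Cfsg.Agent.Helper84
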