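import Cfsg.Agent.Helper84.ModelEmbed3
import Cfsg.Agent.Helper84.ModelBiset4
import Cfsg.Agent.Helper88.FusionCentric
import Cfsg.Agent.S5096
import Cfsg.Prelude.Def_FusionReduction
import Cfsg.Prelude.Def_LocalEven
set_option autoImplicit false

/-! # Sections of the local models: it suffices to look at the fully normalized centric radical subgroups -/

namespace Cfsg.Agent.Helper84

open Cfsg Cfsg.FusionSystem Cfsg.Agent.Helper85 Cfsg.Agent.Helper87 Cfsg.Agent.Helper88.FS

/-- A group involved in a group that embeds in `G` is involved in `G`. -/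
theorem involves_of_injective {A : Type*} [Group A] {G : Type*} [Group G] {Q : Type*} [Group Q]
    (j₀ : A →* G) (hj₀ : Function.Injective j₀) (h : Cfsg.Involves Q A) : Cfsg.Involves Q G := by
  obtain ⟨K', R', hn, ⟨e₀⟩⟩ := h
  have := hn
  obtain ⟨j, hjdef⟩ : ∃ j : ↥K' →* G, j = j₀.comp K'.subtype := ⟨_, rfl⟩
  have hj : Function.Injective j := by
    rw [hjdef]
    exact hj₀.comp K'.subtype_injective
  obtain ⟨π, hπdef⟩ : ∃ π : ↥K' →* Q, π = e₀.toMonoidHom.comp (QuotientGroup.mk' (R'.subgroupOf K')) := ⟨_, rfl⟩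
  have hπ : Function.Surjective π := by
    rw [hπdef]
    exact e₀.surjective.comp (QuotientGroup.mk'_surjective _)
  let e : ↥K' ≃* j.range := MonoidHom.ofInjective hj
  let f : j.range →* Q := π.comp e.symm.toMonoidHom
  have hf : Function.Surjective f := by
    intro q
    obtain ⟨a, rfl⟩ := hπ q
    exact ⟨e a, by simp [f]⟩
  have hker : ((f.ker).map j.range.subtype).subgroupOf j.range = f.ker := by
    rw [Subgroup.subgroupOf]
    exact Subgroup.comap_map_eq_self_of_injective (Subgroup.subtype_injective _) _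
  have hn' : (((f.ker).map j.range.subtype).subgroupOf j.range).Normal := by
    rw [hker]; infer_instance
  refine ⟨j.range, (f.ker).map j.range.subtype, hn', ⟨?_⟩⟩
  exact (QuotientGroup.quotientMulEquivOfEq hker).trans (QuotientGroup.quotientKerEquivOfSurjective f hf)

/-- **Reduction to the centric radical subgroups**: if a group `H` is involved in no model of the normalizer system of any fully
normalized centric radical subgroup, then it is involved in no model of the normalizer system of any fully normalized centric subgroup. -/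
theorem not_involves_of_radical.{u} {Ω : Type u} [Group Ω] {S : Subgroup Ω} [Finite S] (p : ℕ) [Fact p.Prime]
    (hS : IsPGroup p S) (F : FusionSystem S) (hF : F.IsSaturated p) (H : Type*) [Group H]
    (h : ∀ Q : Subgroup Ω, F.IsFullyNormalized Q → F.IsCentric Q → F.IsRadical p Q →
      ∀ N : FusionSystem (normalizerIn S Q), F.IsNormalizerSystem Q N →
      ∀ (L : Type u) [Group L] (ι : ↥(normalizerIn S Q) →* L), N.IsModel p L ι → ¬ Involves H L) :
    ∀ (n : ℕ) (Q : Subgroup Ω), Nat.card S - Nat.card Q = n → F.IsFullyNormalized Q → F.IsCentric Q →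
      ∀ N : FusionSystem (normalizerIn S Q), F.IsNormalizerSystem Q N →
      ∀ (L : Type u) [Group L] (ι : ↥(normalizerIn S Q) →* L), N.IsModel p L ι → ¬ Involves H L := by
  intro n
  induction n using Nat.strong_induction_on with
  | _ n ih =>
    intro Q hn hQn hQc N hN L _ ι hL hinv
    have hQS : Q ≤ S := hQn.1
    by_cases hle : NK S Q (opAut F p Q) ≤ Q
    · obtain ⟨-, hrad⟩ := centric_radical_of_NK_le hS F hF hQn hle
      exact h Q hQn hQc hrad N hN L ι hL hinv
    · obtain ⟨O, hOdef⟩ : ∃ O : Subgroup Ω, O = NK S Q (opAut F p Q) := ⟨_, rfl⟩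
      rw [← hOdef] at hle
      have hext : AutExt F Q O := by
        rw [hOdef]
        exact autExt_NK_opAut hS F hF hQn
      have hQO : Q ≤ O := hext.1
      have hOT : O ≤ normalizerIn S Q := by
        rw [hOdef]
        exact NK_le_normalizerIn S Q _
      have hOS : O ≤ S := hOT.trans inf_le_left
      have hTO : normalizerIn S Q ≤ Subgroup.normalizer (O : Set Ω) := by
        apply Helper87.le_normalizer_of_forall_conj_mem
        intro t ht g hg
        rw [hOdef] at hg ⊢
        obtain ⟨hgS, hgN, hgK⟩ := (mem_NK_iff S Q _ g).mp hg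
        have htS : t ∈ S := ht.1
        have htN : t ∈ Subgroup.normalizer (Q : Set Ω) := ht.2
        have hN' : t * g * t⁻¹ ∈ Subgroup.normalizer (Q : Set Ω) :=
          Subgroup.mul_mem _ (Subgroup.mul_mem _ htN hgN) (Subgroup.inv_mem _ htN)
        rw [mem_NK_iff]
        refine ⟨S.mul_mem (S.mul_mem htS hgS) (S.inv_mem htS), hN', ?_⟩
        have e : conjAut Q (t * g * t⁻¹) hN' = conjAut Q t htN * conjAut Q g hgN * (conjAut Q t htN)⁻¹ := by
          show Q.normalizerMonoidHom ⟨t * g * t⁻¹, hN'⟩ =
            Q.normalizerMonoidHom ⟨t, htN⟩ * Q.normalizerMonoidHom ⟨g, hgN⟩ * (Q.normalizerMonoidHom ⟨t, htN⟩)⁻¹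
          rw [← map_inv, ← map_mul, ← map_mul]
          rfl
        rw [e]
        apply opAut_normalized F p Q _ _ _ hgK
        rw [mem_autGroup_iff F hQS]
        exact isIso_conjAut F hQS htS htN
      have hOc : F.IsCentric O := isCentric_of_le F hQc hQO hOS
      obtain ⟨O₁, hOO₁, hO₁n⟩ := exists_isConj_fullyNormalized F hOS
      have hO₁S : O₁ ≤ S := hO₁n.1
      have hO₁c : F.IsCentric O₁ := isCentric_of_isConj F hOc hOO₁
      obtain ⟨hfc, hfa⟩ := fullyAutomized_fullyCentralized_of_fullyNormalized hS F hF hO₁n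
      have hrec := receptive_of_fullyCentralized hS F hF hfc
      obtain ⟨e, he⟩ := (isConj_iff F O O₁).mp hOO₁
      obtain ⟨χ, hχ, e', he', hχe, hχval, -, -⟩ := exists_extension_normalizerIn' hS F hfa hrec e he
      -- the normalizer system of `O₁` and its model
      obtain ⟨N₁, hN₁⟩ := Cfsg.Agent.S5096.result F O₁ hO₁S
      have hT₁S : normalizerIn S O₁ ≤ S := inf_le_left
      have hfinT₁ : Finite ↥(normalizerIn S O₁) := finite_of_le hT₁S
      have hT₁p : IsPGroup p ↥(normalizerIn S O₁) := hS.to_le hT₁S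
      have hN₁sat := Cfsg.Agent.S5098.result p hS F hF O₁ hO₁n N₁ hN₁
      have hO₁norm : N₁.IsNormal O₁ := isNormal_normalizerSystem F hO₁S N₁ hN₁
      have hO₁cen : N₁.IsCentric O₁ := isCentric_normalizerSystem F hO₁c N₁ hN₁
      obtain ⟨X, K, M₀, ι₁, hL₁⟩ := exists_model_of_constrained hT₁p N₁ hN₁sat hO₁norm hO₁cen
      -- the induction hypothesis
      have hfinO : Finite ↥O := finite_of_le hOS
      have hlt : Q < O := lt_of_le_not_ge hQO hle
      have hc1 : Nat.card Q < Nat.card O := card_lt_card_of_lt hlt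
      have hc2 : Nat.card O = Nat.card O₁ := Nat.card_congr e'.toEquiv
      have hc3 : Nat.card O₁ ≤ Nat.card S := Subgroup.card_le_of_le hO₁S
      have hfree : ¬ Involves H ↥M₀ :=
        ih (Nat.card S - Nat.card O₁) (by omega) O₁ rfl hO₁n hO₁c N₁ hN₁ ↥M₀ ι₁ hL₁
      obtain ⟨M, ⟨φ⟩⟩ := exists_embedding_of_autExt p hS F hF hQn hQc hext hTO hO₁n e' he' χ hχ hχe hχval
        N hN ι hL N₁ hN₁ ι₁ hL₁
      apply hfree
      exact involves_of_injective (M.subtype.comp φ.symm.toMonoidHom)
        (M.subtype_injective.comp φ.symm.injective) hinv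

/-- The same, as a statement about `IsSectionFree`. -/
theorem isSectionFree_of_radical.{u} {Ω : Type u} [Group Ω] {S : Subgroup Ω} [Finite S] (p : ℕ) [Fact p.Prime]
    (hS : IsPGroup p S) (F : FusionSystem S) (hF : F.IsSaturated p) (H : Type*) [Group H]
    (h : ∀ Q : Subgroup Ω, F.IsFullyNormalized Q → F.IsCentric Q → F.IsRadical p Q →
      ∀ N : FusionSystem (normalizerIn S Q), F.IsNormalizerSystem Q N →
      ∀ (L : Type u) [Group L] (ι : ↥(normalizerIn S Q) →* L), N.IsModel p L ι → ¬ Involves H L) :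
    F.IsSectionFree p H := by
  intro Q hQn hQc N hN L _ ι hL
  exact not_involves_of_radical p hS F hF H h _ Q rfl hQn hQc N hN L ι hL

end Cfsg.Agent.Helper84
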