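import Cfsg.Agent.Helper84.ModelNorm1
import Cfsg.Agent.Helper84.ModelEmbed4
import Cfsg.Agent.S5086
set_option autoImplicit false

/-! # The normalizer system of a fully normalized subgroup inherits section-freeness -/

namespace Cfsg.Agent.Helper84

open Cfsg Cfsg.FusionSystem Cfsg.Agent.Helper85 Cfsg.Agent.Helper87 Cfsg.Agent.Helper88.FS

variable {Ω : Type*} [Group Ω] {S : Subgroup Ω}

/-- For `Q ≤ P ≤ N_S(Q)` with `Q` fully normalized in `F` and `P` fully normalized and centric in `N = N_F(Q)`: a model of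
`N_N(P)` is isomorphic to a subgroup (the normalizer of the image of `Q`) of a model of `N_F(P₁)`, `P₁` a fully normalized
`F`-conjugate of `P`. -/
theorem exists_embedding_normalizer [Finite S] (p : ℕ) [Fact p.Prime] (hS : IsPGroup p S) (F : FusionSystem S)
    (hF : F.IsSaturated p) {Q P P₁ : Subgroup Ω} (hQn : F.IsFullyNormalized Q) (hQP : Q ≤ P)
    (N : FusionSystem (normalizerIn S Q)) (hN : F.IsNormalizerSystem Q N)
    (hPn : N.IsFullyNormalized P) (hPc : N.IsCentric P)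
    (hP₁n : F.IsFullyNormalized P₁) (e' : ↥P ≃* ↥P₁) (he' : IsIso F e')
    (χ : ↥(normalizerIn S P) →* Ω) (hχ : χ ∈ F.Hom (normalizerIn S P))
    (hχe : ∀ x : ↥P, χ ⟨x, le_normalizerIn he'.le_left x.2⟩ = e' x)
    (hχval : ∀ x, χ x ∈ normalizerIn S P₁)
    (NP : FusionSystem (normalizerIn (normalizerIn S Q) P)) (hNP : N.IsNormalizerSystem P NP)
    {L : Type*} [Group L] (ι : ↥(normalizerIn (normalizerIn S Q) P) →* L) (hL : NP.IsModel p L ι)
    (N₁ : FusionSystem (normalizerIn S P₁)) (hN₁ : F.IsNormalizerSystem P₁ N₁)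
    {L₁ : Type*} [Group L₁] (ι₁ : ↥(normalizerIn S P₁) →* L₁) (hL₁ : N₁.IsModel p L₁ ι₁) :
    ∃ M : Subgroup L₁, Nonempty (↥M ≃* L) := by
  have hQS : Q ≤ S := hQn.1
  have hTS : normalizerIn S Q ≤ S := inf_le_left
  have hPT : P ≤ normalizerIn S Q := hPc.1
  have hPS : P ≤ S := hPT.trans hTS
  have hP₁S : P₁ ≤ S := hP₁n.1
  have hT₁S : normalizerIn S P₁ ≤ S := inf_le_left
  have hWT : normalizerIn (normalizerIn S Q) P ≤ normalizerIn S Q := inf_le_left
  have hWS : normalizerIn (normalizerIn S Q) P ≤ S := hWT.trans hTS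
  have hPW : P ≤ normalizerIn (normalizerIn S Q) P := le_normalizerIn hPT
  have hQW : Q ≤ normalizerIn (normalizerIn S Q) P := hQP.trans hPW
  have hP₁T₁ : P₁ ≤ normalizerIn S P₁ := le_normalizerIn hP₁S
  have hWN : normalizerIn (normalizerIn S Q) P ≤ Subgroup.normalizer (P : Set Ω) := inf_le_right
  have hWNQ : normalizerIn (normalizerIn S Q) P ≤ Subgroup.normalizer (Q : Set Ω) := hWT.trans inf_le_right
  have hWA : normalizerIn (normalizerIn S Q) P ≤ normalizerIn S P := le_inf hWS hWN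
  have hfinT : Finite ↥(normalizerIn S Q) := finite_of_le hTS
  have hfinW : Finite ↥(normalizerIn (normalizerIn S Q) P) := finite_of_le hWS
  have hfinT₁ : Finite ↥(normalizerIn S P₁) := finite_of_le hT₁S
  have hTp : IsPGroup p ↥(normalizerIn S Q) := hS.to_le hTS
  have hWp : IsPGroup p ↥(normalizerIn (normalizerIn S Q) P) := hS.to_le hWS
  have hT₁p : IsPGroup p ↥(normalizerIn S P₁) := hS.to_le hT₁S
  have hNsat := Cfsg.Agent.S5098.result p hS F hF Q hQn N hN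
  have hNPsat := Cfsg.Agent.S5098.result p hTp N hNsat P hPn NP hNP
  have hN₁sat := Cfsg.Agent.S5098.result p hS F hF P₁ hP₁n N₁ hN₁
  have hPcF : F.IsCentric P := isCentric_of_isCentric_normalizerSystem hS F hF hQn hQP N hN hPc
  have hP₁cF : F.IsCentric P₁ := isCentric_of_isConj F hPcF ((isConj_iff F P P₁).mpr ⟨e', he'⟩)
  have hfinL : Finite L := hL.1
  have hfinL₁ : Finite L₁ := hL₁.1
  have hinjL : Function.Injective ι := hL.2.1.1
  have hinjL₁ : Function.Injective ι₁ := hL₁.2.1.1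
  have hrealL := hL.2.1.2
  have hrealL₁ := hL₁.2.1.2
  -- the composite `W → T₁ → L₁`
  have hχT : ∀ t : ↥(normalizerIn (normalizerIn S Q) P), (χ.comp (Subgroup.inclusion hWA)) t ∈ normalizerIn S P₁ :=
    fun t => hχval _
  obtain ⟨χT, hχTdef⟩ : ∃ χT : ↥(normalizerIn (normalizerIn S Q) P) →* ↥(normalizerIn S P₁),
      χT = (χ.comp (Subgroup.inclusion hWA)).codRestrict (normalizerIn S P₁) hχT := ⟨_, rfl⟩
  have hχTx : ∀ t : ↥(normalizerIn (normalizerIn S Q) P),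
      ((χT t : ↥(normalizerIn S P₁)) : Ω) = χ ⟨t, hWA t.2⟩ := by
    intro t
    rw [hχTdef]
    rfl
  have hχTinj : Function.Injective χT := by
    intro a b hab
    have h1 : χ ⟨a, hWA a.2⟩ = χ ⟨b, hWA b.2⟩ := by
      rw [← hχTx, ← hχTx, hab]
    have h2 := F.injective_of_mem hχ h1
    have h3 : ((⟨a, hWA a.2⟩ : ↥(normalizerIn S P)) : Ω) = ((⟨b, hWA b.2⟩ : ↥(normalizerIn S P)) : Ω) :=
      congrArg Subtype.val h2
    exact Subtype.ext h3
  have hχTP : ∀ x : ↥P, ((χT ⟨x, hPW x.2⟩ : ↥(normalizerIn S P₁)) : Ω) = ((e' x : ↥P₁) : Ω) := by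
    intro x
    rw [hχTx]
    exact hχe x
  have hc₁ : FusCompat F ι₁ := fusCompat_of_isNormalizerSystem F N₁ hN₁ ι₁ hL₁.2.1
  have hcLN : FusCompat N ι := fusCompat_of_isNormalizerSystem N NP hNP ι hL.2.1
  have hcL : FusCompat F ι := by
    intro D hD φ hφ g h
    have h1 := hcLN D hD φ hφ g h
    rw [hN D] at h1
    exact h1.1
  have hc₁' : FusCompat F (ι₁.comp χT) := by
    rw [hχTdef]
    exact fusCompat_comp F hWA χ hχ hχT ι₁ hc₁
  have hinj₁' : Function.Injective (ι₁.comp χT) := hinjL₁.comp hχTinj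
  -- the subgroup `M`
  have hQWn : (Q.subgroupOf (normalizerIn (normalizerIn S Q) P)).Normal :=
    (Subgroup.normal_subgroupOf_iff_le_normalizer hQW).mpr hWNQ
  obtain ⟨QL, hQL⟩ : ∃ QL : Subgroup L₁,
      QL = (Q.subgroupOf (normalizerIn (normalizerIn S Q) P)).map (ι₁.comp χT) := ⟨_, rfl⟩
  have hmemQL : ∀ h : L₁, h ∈ QL ↔ ∃ u : ↥Q, (ι₁.comp χT) ⟨u, hQW u.2⟩ = h := by
    intro h
    rw [hQL]
    constructor
    · rintro ⟨u, hu, rfl⟩
      exact ⟨⟨u, hu⟩, rfl⟩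
    · rintro ⟨u, rfl⟩
      exact ⟨⟨u, hQW u.2⟩, u.2, rfl⟩
  have hmemM : ∀ t : ↥(normalizerIn (normalizerIn S Q) P), (ι₁.comp χT) t ∈ Subgroup.normalizer (QL : Set L₁) := by
    intro t
    rw [hQL]
    apply Subgroup.le_normalizer_map (ι₁.comp χT)
    refine ⟨t, ?_, rfl⟩
    rw [Subgroup.normalizer_eq_top]
    exact Subgroup.mem_top t
  obtain ⟨ιM, hιMdef⟩ : ∃ ιM : ↥(normalizerIn (normalizerIn S Q) P) →* ↥(Subgroup.normalizer (QL : Set L₁)),
      ιM = (ι₁.comp χT).codRestrict _ hmemM := ⟨_, rfl⟩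
  have hιMx : ∀ t, ((ιM t : ↥(Subgroup.normalizer (QL : Set L₁))) : L₁) = (ι₁.comp χT) t := by
    intro t
    rw [hιMdef]
    rfl
  have hinjM : Function.Injective ιM := by
    intro a b hab
    apply hinj₁'
    rw [← hιMx, ← hιMx, hab]
  have hcM : FusCompat F ιM := by
    intro D hD φ hφ g h
    apply hc₁' D hD φ hφ (g : L₁)
    intro x
    have := congrArg Subtype.val (h x)
    rw [hιMx] at this
    rw [this]
    simp only [Subgroup.coe_mul, Subgroup.coe_inv, hιMx]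
  refine ⟨Subgroup.normalizer (QL : Set L₁), ?_⟩
  -- images of normal subgroups lie in the `p`-cores
  have hPnorm : NP.IsNormal P := isNormal_normalizerSystem N hPT NP hNP
  have hP₁norm : N₁.IsNormal P₁ := isNormal_normalizerSystem F hP₁S N₁ hN₁
  have hP₁cen : N₁.IsCentric P₁ := isCentric_normalizerSystem F hP₁cF N₁ hN₁
  have hnL := normal_map_of_isNormal p NP ι hL hPnorm
  have hn₁ := normal_map_of_isNormal p N₁ ι₁ hL₁ hP₁norm
  have hιP : ∀ b : ↥(normalizerIn (normalizerIn S Q) P), (b : Ω) ∈ P → ι b ∈ Cfsg.pCore p L := by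
    intro b hb
    have hp : IsPGroup p ↥((P.subgroupOf (normalizerIn (normalizerIn S Q) P)).map ι) :=
      (hWp.to_subgroup _).map ι
    exact Cfsg.Agent.Lib.le_pCore hnL hp ⟨b, hb, rfl⟩
  have hιP₁ : ∀ b : ↥(normalizerIn S P₁), (b : Ω) ∈ P₁ → ι₁ b ∈ Cfsg.pCore p L₁ := by
    intro b hb
    have hp : IsPGroup p ↥((P₁.subgroupOf (normalizerIn S P₁)).map ι₁) := (hT₁p.to_subgroup _).map ι₁
    exact Cfsg.Agent.Lib.le_pCore hn₁ hp ⟨b, hb, rfl⟩
  have := hfinL
  have := hfinL₁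
  have hiso : ∃ φ : ↥(Subgroup.normalizer (QL : Set L₁)) ≃* L, ∀ s, φ (ιM s) = ι s := by
    apply exists_iso_of_induces p hS F hF hWS hPW hWN hPcF ιM ι hinjM hinjL hcM hcL ?_ ?_ ?_
      ((N.autGroup P : Subgroup (MulAut ↥P)) : Set (MulAut ↥P)) ?_ ?_ ?_ ?_
    · -- index
      obtain ⟨PL, hPL⟩ := hL.2.2.1
      rw [← hPL]
      exact PL.not_dvd_index
    · -- centralizer in `M`
      intro g hg
      have hg' : ∀ b : ↥(normalizerIn S P₁), (b : Ω) ∈ P₁ → (g : L₁) * ι₁ b = ι₁ b * (g : L₁) := by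
        intro b hb
        obtain ⟨x, hx⟩ : ∃ x : ↥P, e' x = ⟨b, hb⟩ := ⟨e'.symm ⟨b, hb⟩, e'.apply_symm_apply _⟩
        have hbx : b = χT ⟨x, hPW x.2⟩ := by
          apply Subtype.ext
          rw [hχTP, hx]
        have h1 := congrArg Subtype.val (hg ⟨x, hPW x.2⟩ x.2)
        simp only [Subgroup.coe_mul, hιMx] at h1
        rw [hbx]
        exact h1
      obtain ⟨z', hz'B, hz'g⟩ := exists_of_centralizes p hT₁p N₁ hN₁sat ι₁ hL₁ hP₁cen hιP₁ (g : L₁) hg'
      obtain ⟨x, hx⟩ : ∃ x : ↥P, e' x = ⟨z', hz'B⟩ := ⟨e'.symm ⟨z', hz'B⟩, e'.apply_symm_apply _⟩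
      refine ⟨⟨x, hPW x.2⟩, x.2, ?_⟩
      apply Subtype.ext
      rw [hιMx, ← hz'g]
      show ι₁ (χT ⟨x, hPW x.2⟩) = ι₁ z'
      congr 1
      apply Subtype.ext
      rw [hχTP, hx]
    · -- centralizer in `L`
      intro g hg
      exact exists_of_centralizes p hWp NP hNPsat ι hL (isCentric_normalizerSystem N hPc NP hNP) hιP g hg
    · -- `M` induces automorphisms of `N`
      intro g₁
      have hnorm : ∀ y : ↥P, ∃ y' : ↥P, g₁ * ιM ⟨y, hPW y.2⟩ * g₁⁻¹ = ιM ⟨y', hPW y'.2⟩ := by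
        intro y
        have h1 : (ι₁.comp χT) ⟨y, hPW y.2⟩ ∈ (P₁.subgroupOf (normalizerIn S P₁)).map ι₁ := by
          refine ⟨χT ⟨y, hPW y.2⟩, ?_, rfl⟩
          show ((χT ⟨y, hPW y.2⟩ : ↥(normalizerIn S P₁)) : Ω) ∈ P₁
          rw [hχTP]
          exact (e' y).2
        obtain ⟨b, hb, hb'⟩ := hn₁.conj_mem _ h1 (g₁ : L₁)
        obtain ⟨y', hy'⟩ : ∃ y' : ↥P, e' y' = ⟨b, hb⟩ := ⟨e'.symm ⟨b, hb⟩, e'.apply_symm_apply _⟩
        refine ⟨y', Subtype.ext ?_⟩
        simp only [Subgroup.coe_mul, Subgroup.coe_inv, hιMx]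
        rw [← hb']
        show ι₁ b = ι₁ (χT ⟨y', hPW y'.2⟩)
        congr 1
        apply Subtype.ext
        rw [hχTP, hy']
      obtain ⟨α, hα, hind⟩ := exists_induces_of_normalizes F hPW ιM hinjM hcM g₁ hnorm
      refine ⟨α, ?_, hind⟩
      show α ∈ N.autGroup P
      rw [mem_autGroup_normalizerSystem_iff F hQP hPT N hN]
      refine ⟨hα, fun x hx => ?_⟩
      have h1 : (ι₁.comp χT) ⟨x, hPW x.2⟩ ∈ QL := (hmemQL _).mpr ⟨⟨x, hx⟩, rfl⟩
      have h2 := (Subgroup.mem_normalizer_iff.mp g₁.2 _).mp h1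
      obtain ⟨u, hu⟩ := (hmemQL _).mp h2
      have h3 := congrArg Subtype.val (hind x)
      simp only [Subgroup.coe_mul, Subgroup.coe_inv, hιMx] at h3
      rw [← h3] at hu
      have h4 := hinj₁' hu
      have h5 : ((⟨u, hQW u.2⟩ : ↥(normalizerIn (normalizerIn S Q) P)) : Ω) =
          ((⟨((α x : ↥P) : Ω), hPW (α x).2⟩ : ↥(normalizerIn (normalizerIn S Q) P)) : Ω) :=
        congrArg Subtype.val h4
      have h6 : (u : Ω) = ((α x : ↥P) : Ω) := h5
      rw [← h6]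
      exact u.2
    · -- every automorphism of `N` is induced by `M`
      intro α hα
      have hα' : α ∈ N.autGroup P := hα
      obtain ⟨hαF, hαQ⟩ := (mem_autGroup_normalizerSystem_iff F hQP hPT N hN α).mp hα'
      have hαinv : α⁻¹ ∈ N.autGroup P := (N.autGroup P).inv_mem hα'
      obtain ⟨-, hαinvQ⟩ := (mem_autGroup_normalizerSystem_iff F hQP hPT N hN α⁻¹).mp hαinv
      have hβ : MulAut.congr e' α ∈ F.autGroup P₁ := by
        rw [← tr_autGroup F e' he']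
        exact congr_mem_tr e' _ hαF
      rw [← autGroup_normalizerSystem F hP₁S N₁ hN₁] at hβ
      have hβN := (mem_autGroup_iff N₁ hP₁T₁ _).mp hβ
      have hβval : ∀ y : ↥P₁, (P₁.subtype.comp ((MulAut.congr e' α : MulAut ↥P₁) : ↥P₁ ≃* ↥P₁).toMonoidHom) y ∈
          normalizerIn S P₁ := fun y => hP₁T₁ ((MulAut.congr e' α) y).2
      obtain ⟨g₁, hg₁⟩ := (hrealL₁ P₁ hP₁T₁ _ hβval).mp hβN
      have key : ∀ x : ↥P, (ι₁.comp χT) ⟨((α x : ↥P) : Ω), hPW (α x).2⟩ =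
          g₁ * (ι₁.comp χT) ⟨x, hPW x.2⟩ * g₁⁻¹ := by
        intro x
        have h1 := hg₁ (e' x)
        have h2 : (⟨((e' x : ↥P₁) : Ω), hP₁T₁ (e' x).2⟩ : ↥(normalizerIn S P₁)) =
            χT ⟨x, hPW x.2⟩ := Subtype.ext (hχTP x).symm
        have h3 : (MulAut.congr e' α) (e' x) = e' (α x) := by
          show e' (α (e'.symm (e' x))) = _
          rw [MulEquiv.symm_apply_apply]
        have h4 : (⟨(P₁.subtype.comp ((MulAut.congr e' α : MulAut ↥P₁) : ↥P₁ ≃* ↥P₁).toMonoidHom)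
            (e' x), hβval _⟩ : ↥(normalizerIn S P₁)) = χT ⟨((α x : ↥P) : Ω), hPW (α x).2⟩ := by
          apply Subtype.ext
          show (((MulAut.congr e' α) (e' x) : ↥P₁) : Ω) = _
          rw [h3]
          exact (hχTP (α x)).symm
        rw [h4, h2] at h1
        exact h1
      have hg₁M : g₁ ∈ Subgroup.normalizer (QL : Set L₁) := by
        rw [Subgroup.mem_normalizer_iff]
        intro h
        constructor
        · intro hh
          obtain ⟨u, rfl⟩ := (hmemQL h).mp hh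
          have hk : (ι₁.comp χT) ⟨((α ⟨u, hQP u.2⟩ : ↥P) : Ω), hPW (α ⟨u, hQP u.2⟩).2⟩ =
              g₁ * (ι₁.comp χT) ⟨u, hQW u.2⟩ * g₁⁻¹ := key ⟨u, hQP u.2⟩
          rw [← hk]
          exact (hmemQL _).mpr ⟨⟨_, hαQ ⟨u, hQP u.2⟩ u.2⟩, rfl⟩
        · intro hh
          obtain ⟨v, hv⟩ := (hmemQL _).mp hh
          have h1 := key (α⁻¹ ⟨v, hQP v.2⟩)
          have h2 : (⟨((α (α⁻¹ ⟨v, hQP v.2⟩) : ↥P) : Ω), hPW (α (α⁻¹ ⟨v, hQP v.2⟩)).2⟩ :
              ↥(normalizerIn (normalizerIn S Q) P)) = ⟨v, hQW v.2⟩ := by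
            apply Subtype.ext
            show ((α (α⁻¹ ⟨v, hQP v.2⟩) : ↥P) : Ω) = v
            rw [MulAut.apply_inv_self]
          rw [h2, hv] at h1
          have h3 : h = (ι₁.comp χT) ⟨((α⁻¹ ⟨v, hQP v.2⟩ : ↥P) : Ω), hPW (α⁻¹ ⟨v, hQP v.2⟩).2⟩ :=
            mul_left_cancel (mul_right_cancel h1)
          rw [h3]
          exact (hmemQL _).mpr ⟨⟨_, hαinvQ ⟨v, hQP v.2⟩ v.2⟩, rfl⟩
      refine ⟨⟨g₁, hg₁M⟩, fun x => Subtype.ext ?_⟩
      simp only [Subgroup.coe_mul, Subgroup.coe_inv, hιMx]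
      exact key x
    · -- `L` induces automorphisms of `N`
      intro g₂
      obtain ⟨α, hα, hind⟩ := exists_induces_of_normalizes N hPW ι hinjL hcLN g₂ (by
        intro y
        have h1 : ι ⟨y, hPW y.2⟩ ∈ (P.subgroupOf (normalizerIn (normalizerIn S Q) P)).map ι :=
          ⟨⟨y, hPW y.2⟩, y.2, rfl⟩
        obtain ⟨u, hu, hu'⟩ := hnL.conj_mem _ h1 g₂
        exact ⟨⟨u, hu⟩, hu'.symm⟩)
      exact ⟨α, hα, hind⟩
    · -- every automorphism of `N` is induced by `L`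
      intro α hα
      have hα' : α ∈ NP.autGroup P := by
        rw [autGroup_normalizerSystem N hPT NP hNP]
        exact hα
      have hαN := (mem_autGroup_iff NP hPW _).mp hα'
      have hαval : ∀ y : ↥P, (P.subtype.comp ((α : MulAut ↥P) : ↥P ≃* ↥P).toMonoidHom) y ∈
          normalizerIn (normalizerIn S Q) P := fun y => hPW (α y).2
      obtain ⟨g₂, hg₂⟩ := (hrealL P hPW _ hαval).mp hαN
      exact ⟨g₂, fun x => hg₂ x⟩
  obtain ⟨φ, -⟩ := hiso
  exact ⟨φ⟩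

/-- **Normalizer systems inherit section-freeness**: if `F` is `H`-free, then so is the normalizer system of every fully
normalized subgroup. -/
theorem isSectionFree_normalizerSystem.{u} {Ω : Type u} [Group Ω] {S : Subgroup Ω} [Finite S] (p : ℕ) [Fact p.Prime]
    (hS : IsPGroup p S) (F : FusionSystem S) (hF : F.IsSaturated p) (H : Type*) [Group H]
    (hfree : F.IsSectionFree p H) (Q : Subgroup Ω) (hQ : F.IsFullyNormalized Q)
    (N : FusionSystem (normalizerIn S Q)) (hN : F.IsNormalizerSystem Q N) : N.IsSectionFree p H := by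
  have hQS : Q ≤ S := hQ.1
  have hTS : normalizerIn S Q ≤ S := inf_le_left
  have hfinT : Finite ↥(normalizerIn S Q) := finite_of_le hTS
  have hTp : IsPGroup p ↥(normalizerIn S Q) := hS.to_le hTS
  have hNsat := Cfsg.Agent.S5098.result p hS F hF Q hQ N hN
  apply isSectionFree_of_radical p hTp N hNsat H
  intro P hPn hPc hPr NP hNP L _ ι hL hinv
  have hQnorm : N.IsNormal Q := isNormal_normalizerSystem F hQS N hN
  have hQP : Q ≤ P := ((Cfsg.Agent.S5086.result p hTp N hNsat Q).mp hQnorm).2 P hPc hPr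
  have hPT : P ≤ normalizerIn S Q := hPc.1
  have hPS : P ≤ S := hPT.trans hTS
  have hPcF : F.IsCentric P := isCentric_of_isCentric_normalizerSystem hS F hF hQ hQP N hN hPc
  obtain ⟨P₁, hPP₁, hP₁n⟩ := exists_isConj_fullyNormalized F hPS
  have hP₁S : P₁ ≤ S := hP₁n.1
  have hP₁c : F.IsCentric P₁ := isCentric_of_isConj F hPcF hPP₁
  obtain ⟨hfc, hfa⟩ := fullyAutomized_fullyCentralized_of_fullyNormalized hS F hF hP₁n
  have hrec := receptive_of_fullyCentralized hS F hF hfc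
  obtain ⟨e, he⟩ := (isConj_iff F P P₁).mp hPP₁
  obtain ⟨χ, hχ, e', he', hχe, hχval, -, -⟩ := exists_extension_normalizerIn' hS F hfa hrec e he
  obtain ⟨N₁, hN₁⟩ := Cfsg.Agent.S5096.result F P₁ hP₁S
  have hT₁S : normalizerIn S P₁ ≤ S := inf_le_left
  have hfinT₁ : Finite ↥(normalizerIn S P₁) := finite_of_le hT₁S
  have hT₁p : IsPGroup p ↥(normalizerIn S P₁) := hS.to_le hT₁S
  have hN₁sat := Cfsg.Agent.S5098.result p hS F hF P₁ hP₁n N₁ hN₁
  have hP₁norm : N₁.IsNormal P₁ := isNormal_normalizerSystem F hP₁S N₁ hN₁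
  have hP₁cen : N₁.IsCentric P₁ := isCentric_normalizerSystem F hP₁c N₁ hN₁
  obtain ⟨X, K, M₀, ι₁, hL₁⟩ := exists_model_of_constrained hT₁p N₁ hN₁sat hP₁norm hP₁cen
  have hfree₁ : ¬ Involves H ↥M₀ := hfree P₁ hP₁n hP₁c N₁ hN₁ ↥M₀ ι₁ hL₁
  obtain ⟨M, ⟨φ⟩⟩ := exists_embedding_normalizer p hS F hF hQ hQP N hN hPn hPc hP₁n e' he' χ hχ hχe hχval
    NP hNP ι hL N₁ hN₁ ι₁ hL₁
  apply hfree₁
  exact involves_of_injective (M.subtype.comp φ.symm.toMonoidHom)
    (M.subtype_injective.comp φ.symm.injective) hinv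

end Cfsg.Agent.Helper84
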