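import Mathlib
import Cfsg.Agent.Helper34.Gaschutz

set_option autoImplicit false

/-! # A stable-complement form of Gaschütz's theorem

If the abelian normal subgroup `K` of the finite group `E` has a complement `A` in a subgroup `U ≥ K` of index prime
to `|K|`, and `A` is *stable* (whenever `e` conjugates a subgroup of `A` into `U`, some element of `e K` conjugates it
into `A`), then `K` has a complement in `E` that contains `A`.  (Stable elements in degree one.) -/

namespace Cfsg.Agent.Helper84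

open scoped IsMulCommutative
open Cfsg.Agent.Helper34

section Stable

variable {G : Type*} [Group G] (K U A : Subgroup G) [K.Normal] [IsMulCommutative K]

/-- one factor of the averaged crossed homomorphism, for a section `τ` of `G → G ⧸ U` -/
noncomputable def tFunS (τ : G ⧸ U → G) (g : G) (q : G ⧸ U) : ↥K :=
  MulAut.conjNormal (τ (g • q)) (Gasch.kPart K A ((τ (g • q))⁻¹ * g * τ q))

/-- the averaged crossed homomorphism for a section `τ` -/
noncomputable def cFunS [Fintype (G ⧸ U)] (τ : G ⧸ U → G) (g : G) : ↥K := ∏ q : G ⧸ U, tFunS K U A τ g q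

omit [K.Normal] [IsMulCommutative K] in
theorem sec_inv_mul_mem (τ : G ⧸ U → G) (hτ : ∀ q, ((τ q : G) : G ⧸ U) = q) (g : G) (q : G ⧸ U) :
    (τ (g • q))⁻¹ * g * τ q ∈ U := by
  rw [mul_assoc, ← QuotientGroup.eq, hτ]
  conv_lhs => rw [← hτ q]
  rfl

theorem tFunS_mul (τ : G ⧸ U → G) (hτ : ∀ q, ((τ q : G) : G ⧸ U) = q) (hAK : A ⊓ K = ⊥) (hKA : K ⊔ A = U)
    (g g' : G) (q : G ⧸ U) :
    tFunS K U A τ (g * g') q = tFunS K U A τ g (g' • q) * MulAut.conjNormal g (tFunS K U A τ g' q) := by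
  unfold tFunS
  have hu1 := sec_inv_mul_mem U τ hτ g (g' • q)
  have hu2 := sec_inv_mul_mem U τ hτ g' q
  have e : (τ ((g * g') • q))⁻¹ * (g * g') * τ q =
      ((τ (g • g' • q))⁻¹ * g * τ (g' • q)) * ((τ (g' • q))⁻¹ * g' * τ q) := by
    rw [mul_smul]; group
  rw [e, Gasch.kPart_mul K A hAK _ _ (Gasch.exists_of_mem K U A hKA _ hu1) (Gasch.exists_of_mem K U A hKA _ hu2),
    map_mul, mul_smul]
  congr 1
  rw [← MulAut.mul_apply, ← MulAut.mul_apply, ← map_mul, ← map_mul]
  congr 2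
  group

theorem cFunS_mul [Fintype (G ⧸ U)] (τ : G ⧸ U → G) (hτ : ∀ q, ((τ q : G) : G ⧸ U) = q) (hAK : A ⊓ K = ⊥)
    (hKA : K ⊔ A = U) (g g' : G) :
    cFunS K U A τ (g * g') = cFunS K U A τ g * MulAut.conjNormal g (cFunS K U A τ g') := by
  unfold cFunS
  calc ∏ q : G ⧸ U, tFunS K U A τ (g * g') q
      = ∏ q : G ⧸ U, (tFunS K U A τ g (g' • q) * MulAut.conjNormal g (tFunS K U A τ g' q)) :=
        Finset.prod_congr rfl (fun q _ => tFunS_mul K U A τ hτ hAK hKA g g' q)
    _ = (∏ q : G ⧸ U, tFunS K U A τ g (g' • q)) * ∏ q : G ⧸ U, MulAut.conjNormal g (tFunS K U A τ g' q) :=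
        Finset.prod_mul_distrib
    _ = (∏ q : G ⧸ U, tFunS K U A τ g q) * MulAut.conjNormal g (∏ q : G ⧸ U, tFunS K U A τ g' q) := by
        rw [map_prod]
        congr 1
        exact Equiv.prod_comp (MulAction.toPerm g') (fun q => tFunS K U A τ g q)

theorem cFunS_of_mem [Fintype (G ⧸ U)] (τ : G ⧸ U → G) (hKU : K ≤ U) (hAK : A ⊓ K = ⊥) (k : ↥K) :
    cFunS K U A τ (k : G) = k ^ U.index := by
  unfold cFunS
  have h1 : ∀ q : G ⧸ U, tFunS K U A τ (k : G) q = k := by
    intro q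
    unfold tFunS
    rw [Gasch.smul_eq_of_mem K U hKU (k : G) k.2 q]
    have hmem : (τ q)⁻¹ * (k : G) * τ q ∈ K := by
      have := ‹K.Normal›.conj_mem _ k.2 (τ q)⁻¹
      simpa using this
    have h2 := Gasch.kPart_of_mem K A hAK ⟨_, hmem⟩
    simp only at h2
    rw [h2]
    apply Subtype.ext
    rw [MulAut.conjNormal_apply]
    simp only
    group
  rw [Finset.prod_congr rfl (fun q _ => h1 q), Finset.prod_const, Finset.card_univ,
    Subgroup.index_eq_card, Nat.card_eq_fintype_card]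

/-- for a section adapted to `A`, the averaged crossed homomorphism is trivial on `A` -/
theorem cFunS_of_mem_adapted [Fintype (G ⧸ U)] (τ : G ⧸ U → G) (hAK : A ⊓ K = ⊥)
    (hadapt : ∀ a ∈ A, ∀ q : G ⧸ U, (τ (a • q))⁻¹ * a * τ q ∈ A) (a : G) (ha : a ∈ A) :
    cFunS K U A τ a = 1 := by
  unfold cFunS
  refine Finset.prod_eq_one (fun q _ => ?_)
  unfold tFunS
  have h1 : Gasch.kPart K A ((τ (a • q))⁻¹ * a * τ q) = 1 := by
    apply Gasch.kPart_unique K A hAK
    simpa using hadapt a ha q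
  rw [h1, map_one]

end Stable

open scoped IsMulCommutative in
/-- **Stable Gaschütz, with an adapted section.** -/
theorem exists_complement_ge_of_adapted {G : Type*} [Group G] [Finite G] (K U A : Subgroup G) [K.Normal]
    [IsMulCommutative K] (hKU : K ≤ U) (hcop : (Nat.card K).Coprime U.index)
    (hAK : A ⊓ K = ⊥) (hKA : K ⊔ A = U) (τ : G ⧸ U → G) (hτ : ∀ q, ((τ q : G) : G ⧸ U) = q)
    (hadapt : ∀ a ∈ A, ∀ q : G ⧸ U, (τ (a • q))⁻¹ * a * τ q ∈ A) :
    ∃ H : Subgroup G, Subgroup.IsComplement' K H ∧ A ≤ H := by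
  classical
  let _ : Fintype (G ⧸ U) := Fintype.ofFinite _
  have hmul := cFunS_mul K U A τ hτ hAK hKA
  have hone : cFunS K U A τ 1 = 1 := by
    have := hmul 1 1
    rw [mul_one, map_one, MulAut.one_apply] at this
    exact left_eq_mul.mp this
  let H : Subgroup G :=
    { carrier := {g | cFunS K U A τ g = 1}
      mul_mem' := by
        intro a b ha hb
        simp only [Set.mem_ofPred_eq] at ha hb ⊢
        rw [hmul, ha, hb, map_one, mul_one]
      one_mem' := hone
      inv_mem' := by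
        intro a ha
        simp only [Set.mem_ofPred_eq] at ha ⊢
        have := hmul a a⁻¹
        rw [mul_inv_cancel, hone, ha, one_mul] at this
        have h2 : MulAut.conjNormal a (cFunS K U A τ a⁻¹) = MulAut.conjNormal a 1 := by
          rw [map_one]; exact this.symm
        exact (MulAut.conjNormal a).injective h2 }
  have hmemH : ∀ g : G, g ∈ H ↔ cFunS K U A τ g = 1 := fun g => Iff.rfl
  refine ⟨H, Subgroup.isComplement'_of_disjoint_and_mul_eq_univ ?_ ?_, ?_⟩
  · rw [Subgroup.disjoint_def]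
    intro x hxK hxH
    rw [hmemH] at hxH
    have h1 := cFunS_of_mem K U A τ hKU hAK ⟨x, hxK⟩
    simp only at h1
    rw [hxH] at h1
    have h2 : (powCoprime hcop) (⟨x, hxK⟩ : ↥K) = (powCoprime hcop) 1 := by
      rw [powCoprime_apply, powCoprime_apply, one_pow]
      exact h1.symm
    have h3 := (powCoprime hcop).injective h2
    exact congrArg Subtype.val h3
  · rw [Set.eq_univ_iff_forall]
    intro g
    set k : ↥K := (powCoprime hcop).symm (cFunS K U A τ g) with hk
    have hkpow : k ^ U.index = cFunS K U A τ g := by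
      rw [← powCoprime_apply hcop, hk, Equiv.apply_symm_apply]
    refine ⟨(k : G), k.2, (k : G)⁻¹ * g, ?_, by group⟩
    show (k : G)⁻¹ * g ∈ H
    rw [hmemH, hmul]
    have h1 : cFunS K U A τ ((k : G)⁻¹) = (k⁻¹) ^ U.index := by
      have := cFunS_of_mem K U A τ hKU hAK k⁻¹
      simpa using this
    have h2 : MulAut.conjNormal ((k : G)⁻¹) (cFunS K U A τ g) = cFunS K U A τ g := by
      apply Subtype.ext
      rw [MulAut.conjNormal_apply]
      have hc := mul_comm (k⁻¹) (cFunS K U A τ g)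
      have hc' := congrArg Subtype.val hc
      simp only [Subgroup.coe_mul, Subgroup.coe_inv] at hc'
      rw [hc']
      group
    rw [h1, h2, ← hkpow, inv_pow, inv_mul_cancel]
  · intro a ha
    rw [hmemH]
    exact cFunS_of_mem_adapted K U A τ hAK hadapt a ha

open scoped IsMulCommutative in
/-- **Stable Gaschütz.**  If `A` is a complement of the abelian normal subgroup `K` in `U ≥ K`, the index of `U` is
prime to `|K|`, and for every `e` some `k ∈ K` makes `e k` conjugate `A ∩ e U e⁻¹` into `A`, then `K` has a complement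
in the whole group that contains `A`. -/
theorem exists_complement_ge_of_stable {G : Type*} [Group G] [Finite G] (K U A : Subgroup G) [K.Normal]
    [IsMulCommutative K] (hKU : K ≤ U) (hcop : (Nat.card K).Coprime U.index)
    (hAK : A ⊓ K = ⊥) (hKA : K ⊔ A = U)
    (hstab : ∀ e : G, ∃ k ∈ K, ∀ a ∈ A, e⁻¹ * a * e ∈ U → (e * k)⁻¹ * a * (e * k) ∈ A) :
    ∃ H : Subgroup G, Subgroup.IsComplement' K H ∧ A ≤ H := by
  classical
  -- base points of the `A`-orbits on `G ⧸ U`
  let base : G ⧸ U → G ⧸ U := fun q =>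
    (Quotient.mk (MulAction.orbitRel ↥A (G ⧸ U)) q).out
  have hbase_rel : ∀ q, ∃ a : ↥A, a • base q = q := by
    intro q
    have h1 : (MulAction.orbitRel ↥A (G ⧸ U)) (base q) q :=
      Quotient.exact (Quotient.out_eq (Quotient.mk (MulAction.orbitRel ↥A (G ⧸ U)) q))
    rw [MulAction.orbitRel_apply] at h1
    obtain ⟨a, ha⟩ := h1
    refine ⟨a⁻¹, ?_⟩
    rw [← ha, inv_smul_smul]
  have hbase_smul : ∀ (a : ↥A) (q : G ⧸ U), base (a • q) = base q := by
    intro a q
    show (Quotient.mk (MulAction.orbitRel ↥A (G ⧸ U)) (a • q)).out =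
      (Quotient.mk (MulAction.orbitRel ↥A (G ⧸ U)) q).out
    congr 1
    apply Quotient.sound
    show (MulAction.orbitRel ↥A (G ⧸ U)) (a • q) q
    rw [MulAction.orbitRel_apply]
    exact MulAction.mem_orbit q a
  -- adapted representatives of the base points
  let ebase : G ⧸ U → G := fun b => Quotient.out b * Classical.choose (hstab (Quotient.out b))
  have hebase_mk : ∀ b : G ⧸ U, ((ebase b : G) : G ⧸ U) = b := by
    intro b
    have hk := (Classical.choose_spec (hstab (Quotient.out b))).1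
    show ((Quotient.out b * Classical.choose (hstab (Quotient.out b)) : G) : G ⧸ U) = b
    rw [QuotientGroup.mk_mul_of_mem _ (hKU hk)]
    exact QuotientGroup.out_eq' b
  have hebase_A : ∀ (b : G ⧸ U) (a : G), a ∈ A → a • b = b → (ebase b)⁻¹ * a * ebase b ∈ A := by
    intro b a ha hab
    have hspec := (Classical.choose_spec (hstab (Quotient.out b))).2 a ha
    apply hspec
    have h1 : ((a * Quotient.out b : G) : G ⧸ U) = ((Quotient.out b : G) : G ⧸ U) := by
      have h2 : ((a * Quotient.out b : G) : G ⧸ U) = a • ((Quotient.out b : G) : G ⧸ U) := rfl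
      rw [h2, QuotientGroup.out_eq', hab]
    rw [eq_comm, QuotientGroup.eq] at h1
    rw [mul_assoc]
    exact h1
  let aq : G ⧸ U → ↥A := fun q => Classical.choose (hbase_rel q)
  have haq : ∀ q, aq q • base q = q := fun q => Classical.choose_spec (hbase_rel q)
  let τ : G ⧸ U → G := fun q => (aq q : G) * ebase (base q)
  have hτ : ∀ q, ((τ q : G) : G ⧸ U) = q := by
    intro q
    have h1 : (((aq q : G) * ebase (base q) : G) : G ⧸ U) = (aq q : G) • ((ebase (base q) : G) : G ⧸ U) := rfl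
    show (((aq q : G) * ebase (base q) : G) : G ⧸ U) = q
    rw [h1, hebase_mk]
    exact haq q
  have hadapt : ∀ a ∈ A, ∀ q : G ⧸ U, (τ (a • q))⁻¹ * a * τ q ∈ A := by
    intro a ha q
    have hb : base (a • q) = base q := hbase_smul ⟨a, ha⟩ q
    show ((aq (a • q) : G) * ebase (base (a • q)))⁻¹ * a * ((aq q : G) * ebase (base q)) ∈ A
    rw [hb]
    have h1 : ((aq (a • q) : G) * ebase (base q))⁻¹ * a * ((aq q : G) * ebase (base q)) =
        (ebase (base q))⁻¹ * ((aq (a • q) : G)⁻¹ * a * (aq q : G)) * ebase (base q) := by group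
    rw [h1]
    apply hebase_A
    · exact A.mul_mem (A.mul_mem (A.inv_mem (aq (a • q)).2) ha) (aq q).2
    · have h2 : ((aq (a • q) : G)⁻¹ * a * (aq q : G)) • base q =
          (aq (a • q))⁻¹ • ((⟨a, ha⟩ : ↥A) • (aq q • base q)) := by
        rw [mul_smul, mul_smul]
        rfl
      rw [h2, haq q]
      have h3 := haq (a • q)
      rw [hb] at h3
      have h5 : (⟨a, ha⟩ : ↥A) • q = aq (a • q) • base q := h3.symm
      rw [h5, inv_smul_smul]
  exact exists_complement_ge_of_adapted K U A hKU hcop hAK hKA τ hτ hadapt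

/-- **Stable Gaschütz, relative form.**  `Z₀ ≤ M ≤ U` with `Z₀, M` normal, `M` abelian, `A ≤ U` with `A ∩ M = Z₀` and
`M A = U`; if `A` is stable then there is `H ≥ A` with `H ∩ M = Z₀` and `M H = E`. -/
theorem exists_partial_complement_of_stable {E : Type*} [Group E] [Finite E] (Z₀ M U A : Subgroup E)
    [hZ : Z₀.Normal] [hM : M.Normal] (hZM : Z₀ ≤ M) (hMU : M ≤ U)
    (hMcomm : ∀ a ∈ M, ∀ b ∈ M, a * b = b * a)
    (hAM : A ⊓ M = Z₀) (hMA : M ⊔ A = U)
    (hcop : (Nat.card M).Coprime U.index)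
    (hstab : ∀ e : E, ∃ μ ∈ M, ∀ a ∈ A, e⁻¹ * a * e ∈ U → (e * μ)⁻¹ * a * (e * μ) ∈ A) :
    ∃ H : Subgroup E, H ⊓ M = Z₀ ∧ M ⊔ H = ⊤ ∧ A ≤ H := by
  have hsurj := QuotientGroup.mk'_surjective Z₀
  have hker : (QuotientGroup.mk' Z₀).ker = Z₀ := QuotientGroup.ker_mk' Z₀
  haveI hKn : (M.map (QuotientGroup.mk' Z₀)).Normal := hM.map _ hsurj
  haveI hKc : IsMulCommutative ↥(M.map (QuotientGroup.mk' Z₀)) := by
    rw [isMulCommutative_iff]
    rintro ⟨_, a, ha, rfl⟩ ⟨_, b, hb, rfl⟩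
    apply Subtype.ext
    show (QuotientGroup.mk' Z₀) a * (QuotientGroup.mk' Z₀) b = (QuotientGroup.mk' Z₀) b * (QuotientGroup.mk' Z₀) a
    rw [← map_mul, ← map_mul, hMcomm a ha b hb]
  have hZU : Z₀ ≤ U := hZM.trans hMU
  have hcop' : (Nat.card ↥(M.map (QuotientGroup.mk' Z₀))).Coprime (U.map (QuotientGroup.mk' Z₀)).index := by
    rw [Subgroup.index_map_eq _ hsurj (hker.le.trans hZU)]
    exact Nat.Coprime.coprime_dvd_left (Subgroup.card_map_dvd _ _) hcop
  have hAK' : A.map (QuotientGroup.mk' Z₀) ⊓ M.map (QuotientGroup.mk' Z₀) = ⊥ := by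
    rw [eq_bot_iff]
    rintro x ⟨⟨a, ha, rfl⟩, ⟨μ, hμ, hμa⟩⟩
    rw [Subgroup.mem_bot]
    have h1 : μ⁻¹ * a ∈ Z₀ := by
      rw [← hker, MonoidHom.mem_ker, map_mul, map_inv, hμa, inv_mul_cancel]
    have h2 : a ∈ M := by
      have : a = μ * (μ⁻¹ * a) := by group
      rw [this]
      exact M.mul_mem hμ (hZM h1)
    have h3 : a ∈ Z₀ := by
      rw [← hAM]; exact ⟨ha, h2⟩
    rw [← MonoidHom.mem_ker, hker]
    exact h3
  have hKA' : M.map (QuotientGroup.mk' Z₀) ⊔ A.map (QuotientGroup.mk' Z₀) = U.map (QuotientGroup.mk' Z₀) := by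
    rw [← Subgroup.map_sup, hMA]
  have hmemU : ∀ g : E, (QuotientGroup.mk' Z₀) g ∈ U.map (QuotientGroup.mk' Z₀) → g ∈ U := by
    rintro g ⟨u, hu, hug⟩
    have h1 : u⁻¹ * g ∈ Z₀ := by
      rw [← hker, MonoidHom.mem_ker, map_mul, map_inv, hug, inv_mul_cancel]
    have : g = u * (u⁻¹ * g) := by group
    rw [this]
    exact U.mul_mem hu (hZU h1)
  have hstab' : ∀ e : E ⧸ Z₀, ∃ k ∈ M.map (QuotientGroup.mk' Z₀), ∀ a ∈ A.map (QuotientGroup.mk' Z₀),
      e⁻¹ * a * e ∈ U.map (QuotientGroup.mk' Z₀) → (e * k)⁻¹ * a * (e * k) ∈ A.map (QuotientGroup.mk' Z₀) := by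
    intro ebar
    obtain ⟨e, rfl⟩ := hsurj ebar
    obtain ⟨μ, hμ, hμs⟩ := hstab e
    refine ⟨_, ⟨μ, hμ, rfl⟩, ?_⟩
    rintro _ ⟨a, ha, rfl⟩ hU
    rw [← map_inv, ← map_mul, ← map_mul] at hU
    have h1 := hμs a ha (hmemU _ hU)
    refine ⟨_, h1, ?_⟩
    simp only [map_mul, map_inv]
  obtain ⟨Hb, hHc, hAH⟩ := exists_complement_ge_of_stable (M.map (QuotientGroup.mk' Z₀))
    (U.map (QuotientGroup.mk' Z₀)) (A.map (QuotientGroup.mk' Z₀)) (Subgroup.map_mono hMU) hcop' hAK' hKA' hstab'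
  refine ⟨Hb.comap (QuotientGroup.mk' Z₀), ?_, ?_, ?_⟩
  · apply le_antisymm
    · rintro x ⟨hxH, hxM⟩
      have h1 : (QuotientGroup.mk' Z₀) x ∈ M.map (QuotientGroup.mk' Z₀) ⊓ Hb := ⟨⟨x, hxM, rfl⟩, hxH⟩
      rw [disjoint_iff.mp hHc.disjoint, Subgroup.mem_bot] at h1
      rw [← hker, MonoidHom.mem_ker]
      exact h1
    · intro x hx
      refine ⟨?_, hZM hx⟩
      show (QuotientGroup.mk' Z₀) x ∈ Hb
      have : (QuotientGroup.mk' Z₀) x = 1 := by
        rw [← MonoidHom.mem_ker, hker]; exact hx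
      rw [this]
      exact Hb.one_mem
  · have h1 : M = (M.map (QuotientGroup.mk' Z₀)).comap (QuotientGroup.mk' Z₀) := by
      rw [Subgroup.comap_map_eq, hker, sup_eq_left.mpr hZM]
    rw [h1, Subgroup.comap_sup_eq _ _ _ hsurj, hHc.sup_eq_top, Subgroup.comap_top]
  · intro a ha
    exact hAH ⟨a, ha, rfl⟩

end Cfsg.Agent.Helper84
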