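import Cfsg.Agent.Helper95.Hig.Basic
import Cfsg.Prelude.Def_Transfer
import Cfsg.Prelude.Def_BaumannBlocks

/-!
# (TRI) for helper95's S3050 farm (G. Higman): a fixed-point-free element of order 3 satisfies
`y * y^σ * y^(σ²) = 1` on the normal subgroup.
-/

set_option autoImplicit false

namespace Cfsg.Agent.Helper84.Hig

open Cfsg.Agent.Helper40.SL2Hom

universe u v

section grp
variable {G : Type v} [Group G]

/-- auxiliary telescoping identity -/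
theorem TRI_telescope (σ w : G) :
    (w⁻¹ * (σ * w * σ⁻¹)) * (σ * (w⁻¹ * (σ * w * σ⁻¹)) * σ⁻¹) *
      (σ * σ * (w⁻¹ * (σ * w * σ⁻¹)) * σ⁻¹ * σ⁻¹) =
    w⁻¹ * (σ * σ * σ) * w * (σ * σ * σ)⁻¹ := by
  group

/-- (TRI) `y ↦ y⁻¹ * (σ y σ⁻¹)` is injective on `Q` (fixed-point-freeness), hence bijective (`Q` finite);
for `y = w⁻¹ * σ w σ⁻¹` the product telescopes to `w⁻¹ * σ³ w σ⁻³ = 1`. -/
theorem tri [Finite G] (Q : Subgroup G) [Q.Normal] (σ : G) (hσ : σ ^ 3 = 1)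
    (hfpf : ∀ y ∈ Q, σ * y * σ⁻¹ = y → y = 1) :
    ∀ y ∈ Q, y * (σ * y * σ⁻¹) * (σ * σ * y * σ⁻¹ * σ⁻¹) = 1 := by
  intro y hy
  have hσ3 : σ * σ * σ = 1 := by
    rw [← hσ, pow_succ, pow_succ, pow_one]
  -- the map `w ↦ w⁻¹ * σ w σ⁻¹` on `Q`
  let f : ↥Q → ↥Q := fun w =>
    ⟨(w : G)⁻¹ * (σ * (w : G) * σ⁻¹),
      Q.mul_mem (Q.inv_mem w.2) (Subgroup.Normal.conj_mem inferInstance _ w.2 σ)⟩
  have hinj : Function.Injective f := by
    intro w w' h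
    have h1 : (w : G)⁻¹ * (σ * (w : G) * σ⁻¹) = (w' : G)⁻¹ * (σ * (w' : G) * σ⁻¹) :=
      congrArg Subtype.val h
    have hu : σ * ((w' : G) * (w : G)⁻¹) * σ⁻¹ = (w' : G) * (w : G)⁻¹ := by
      have e1 : σ * ((w' : G) * (w : G)⁻¹) * σ⁻¹ =
          (σ * (w' : G) * σ⁻¹) * (σ * (w : G) * σ⁻¹)⁻¹ := by group
      have e2 : σ * (w' : G) * σ⁻¹ = (w' : G) * ((w : G)⁻¹ * (σ * (w : G) * σ⁻¹)) := by
        rw [h1]; group
      rw [e1, e2]; group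
    have h2 := hfpf _ (Q.mul_mem w'.2 (Q.inv_mem w.2)) hu
    have h3 : (w' : G) = (w : G) := by
      rw [mul_inv_eq_one] at h2; exact h2
    exact Subtype.ext h3.symm
  have hsurj : Function.Surjective f := Finite.surjective_of_injective hinj
  obtain ⟨w, hw⟩ := hsurj ⟨y, hy⟩
  have hyw : y = (w : G)⁻¹ * (σ * (w : G) * σ⁻¹) := (congrArg Subtype.val hw).symm
  rw [hyw, TRI_telescope, hσ3]
  group

end grp

end Cfsg.Agent.Helper84.Hig
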