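import Cfsg.Agent.Helper95.Hig.Basic
import Cfsg.Prelude.Def_Transfer
import Cfsg.Prelude.Def_BaumannBlocks
import Cfsg.Agent.Helper84.HIG_TRI

/-!
# (O3C) for helper95's S3050 farm (G. Higman): `σ z` has order 3 for `z ∈ Q`.
-/

set_option autoImplicit false

namespace Cfsg.Agent.Helper84.Hig

open Cfsg.Agent.Helper40.SL2Hom

universe u v

section grp
variable {G : Type v} [Group G]

/-- auxiliary: the cube of `σ z` -/
theorem O3C_cube (σ z : G) :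
    (σ * z) ^ 3 =
      (σ * z * σ⁻¹) * (σ * (σ * z * σ⁻¹) * σ⁻¹) * (σ * σ * (σ * z * σ⁻¹) * σ⁻¹ * σ⁻¹) * (σ * σ * σ) := by
  rw [pow_succ, pow_succ, pow_one]
  group

/-- (O3C) `(σ z)³ = σ³ * (σ⁻² z σ²) * (σ⁻¹ z σ) * z = (σ z σ⁻¹) * (σ⁻¹ z σ) * z` (`σ³ = 1`), which is `1` by
(TRI) for `σ` applied to `y = σ z σ⁻¹` (note `σ * σ * y * σ⁻¹ * σ⁻¹ = z`, `σ * y * σ⁻¹ = σ⁻¹ z σ`).
`σ z ≠ 1` since `σ ∉ Q` (`Q` is a 2-group, `σ` has order 3). (TRI) may be reproved inline. -/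
theorem o3c [Finite G] (Q : Subgroup G) [Q.Normal] (hQ : IsPGroup 2 ↥Q) (σ : G) (hσ : orderOf σ = 3)
    (hfpf : ∀ y ∈ Q, σ * y * σ⁻¹ = y → y = 1) (z : G) (hz : z ∈ Q) : orderOf (σ * z) = 3 := by
  have hσ3 : σ ^ 3 = 1 := by rw [← hσ]; exact pow_orderOf_eq_one σ
  have hσ3' : σ * σ * σ = 1 := by
    rw [← hσ3, pow_succ, pow_succ, pow_one]
  have hy : σ * z * σ⁻¹ ∈ Q := Subgroup.Normal.conj_mem inferInstance _ hz σ
  have h1 := tri Q σ hσ3 hfpf (σ * z * σ⁻¹) hy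
  have hcube : (σ * z) ^ 3 = 1 := by
    rw [O3C_cube, h1, hσ3', mul_one]
  have hne : σ * z ≠ 1 := by
    intro h
    have hσQ : σ ∈ Q := by
      have : σ = z⁻¹ := eq_inv_of_mul_eq_one_left h
      rw [this]; exact Q.inv_mem hz
    obtain ⟨k, hk⟩ := hQ ⟨σ, hσQ⟩
    have hk' : σ ^ (2 ^ k) = 1 := by
      have := congrArg Subtype.val hk
      simpa using this
    have hdvd : 3 ∣ 2 ^ k := by
      rw [← hσ]; exact orderOf_dvd_of_pow_eq_one hk'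
    have : 3 ∣ 2 := Nat.Prime.dvd_of_dvd_pow Nat.prime_three hdvd
    omega
  have : Fact (Nat.Prime 3) := ⟨Nat.prime_three⟩
  exact orderOf_eq_prime hcube hne

end grp

end Cfsg.Agent.Helper84.Hig
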