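import Cfsg.Agent.Helper80.Tor.Defs

/-!
# helper84: piece (ZA) of helper80's torus farm (#13336): additivity of `zact` in the matrix
-/

set_option autoImplicit false
set_option linter.unusedVariables false

namespace Cfsg.Agent.Helper84.Tor

open Cfsg.Agent.Helper18 (zact)
open Cfsg.Agent.Helper80.Tor
open Polynomial

section ZA
variable {G : Type*} [CommGroup G] {l : ℕ}

/-- (ZA) -/
theorem zact_add (M N : Matrix (Fin l) (Fin l) ℤ) (c : Fin l → G) :
    zact (M + N) c = zact M c * zact N c := by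
  ext j
  simp only [Cfsg.Agent.Helper18.zact_apply, Pi.mul_apply, Matrix.add_apply, zpow_add,
    Finset.prod_mul_distrib]

/-- (ZA) -/
theorem zact_zero (c : Fin l → G) : zact (0 : Matrix (Fin l) (Fin l) ℤ) c = 1 := by
  ext j
  simp only [Cfsg.Agent.Helper18.zact_apply, Matrix.zero_apply, zpow_zero, Finset.prod_const_one,
    Pi.one_apply]

/-- (ZA) -/
theorem zact_neg (M : Matrix (Fin l) (Fin l) ℤ) (c : Fin l → G) : zact (-M) c = (zact M c)⁻¹ := by
  ext j
  simp only [Cfsg.Agent.Helper18.zact_apply, Matrix.neg_apply, zpow_neg, Finset.prod_inv_distrib,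
    Pi.inv_apply]

/-- (ZA) -/
theorem zact_zsmul (k : ℤ) (M : Matrix (Fin l) (Fin l) ℤ) (c : Fin l → G) :
    zact (k • M) c = (zact M c) ^ k := by
  ext j
  simp only [Cfsg.Agent.Helper18.zact_apply, Matrix.smul_apply, smul_eq_mul, Pi.pow_apply]
  rw [← Finset.prod_zpow]
  apply Finset.prod_congr rfl
  intro i _
  rw [mul_comm, zpow_mul]

/-- (ZA) -/
theorem zact_pow (M : Matrix (Fin l) (Fin l) ℤ) (c : Fin l → G) (k : ℕ) :
    zact M (c ^ k) = (zact M c) ^ k := by
  rw [map_pow]

/-- (ZA) the twisted torus is the kernel of `B = 1 - q M` -/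
theorem mem_twTorus_iff (M : Matrix (Fin l) (Fin l) ℤ) (q : ℕ) (c : Fin l → G) :
    c ∈ twTorus M q ↔ zact (1 - (q : ℤ) • M) c = 1 := by
  rw [mem_twTorus, sub_eq_add_neg, zact_add, zact_neg, zact_zsmul, Cfsg.Agent.Helper18.zact_one,
    zpow_natCast, zact_pow, mul_inv_eq_one]
  exact eq_comm

end ZA

end Cfsg.Agent.Helper84.Tor
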