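import Cfsg.Agent.Helper80.Tor.Defs

/-!
# helper84: piece (EXPV) of helper80's torus farm (#13336): `r`-torsion tuples are `ζ ^ v`
-/

set_option autoImplicit false
set_option linter.unusedVariables false

namespace Cfsg.Agent.Helper84.Tor

open Cfsg.Agent.Helper18 (zact)
open Cfsg.Agent.Helper80.Tor
open Polynomial

/-- an integer power of an element of order `r` only depends on the exponent mod `r` -/
theorem zpow_eq_pow_val {G : Type*} [Group G] {r : ℕ} [Fact r.Prime] (ζ : G) (hζ : orderOf ζ = r)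
    (a : ℤ) : ζ ^ a = ζ ^ ((a : ZMod r).val) := by
  have : NeZero r := ⟨(Fact.out : r.Prime).ne_zero⟩
  rw [← zpow_natCast, ZMod.val_intCast, ← hζ, zpow_mod_orderOf]

/-- a natural power of an element of order `r` only depends on the exponent mod `r` -/
theorem pow_eq_pow_val {G : Type*} [Group G] {r : ℕ} [Fact r.Prime] (ζ : G) (hζ : orderOf ζ = r)
    (a : ℕ) : ζ ^ a = ζ ^ ((a : ZMod r).val) := by
  have := zpow_eq_pow_val ζ hζ (a : ℤ)
  rwa [zpow_natCast, Int.cast_natCast] at this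

/-- (EXPV) an `r`-torsion tuple is `ζ ^ v` -/
theorem exists_expVec {K : Type*} [Field K] {l r : ℕ} [Fact r.Prime] (c : Fin l → Kˣ) (hc1 : c ≠ 1)
    (hcr : ∀ i, c i ^ r = 1) :
    ∃ (ζ : Kˣ) (v : Fin l → ZMod r), orderOf ζ = r ∧ v ≠ 0 ∧ ∀ i, c i = ζ ^ (v i).val := by
  have hr : r.Prime := Fact.out
  have : NeZero r := ⟨hr.ne_zero⟩
  obtain ⟨i₀, hi₀⟩ : ∃ i₀, c i₀ ≠ 1 := by
    by_contra hcon
    push Not at hcon
    exact hc1 (funext hcon)
  have hord : orderOf (c i₀) = r := orderOf_eq_prime (hcr i₀) hi₀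
  have hprim : IsPrimitiveRoot (c i₀) r := by
    rw [← hord]; exact IsPrimitiveRoot.orderOf _
  have hz : Subgroup.zpowers (c i₀) = rootsOfUnity r K := hprim.zpowers_eq
  have hmem : ∀ i, ∃ k : ℤ, (c i₀) ^ k = c i := by
    intro i
    have : c i ∈ rootsOfUnity r K := by
      rw [mem_rootsOfUnity]; exact hcr i
    rw [← hz] at this
    exact Subgroup.mem_zpowers_iff.mp this
  choose k hk using hmem
  refine ⟨c i₀, fun i => ((k i : ℤ) : ZMod r), hord, ?_, ?_⟩
  · intro hv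
    have h0 : ((k i₀ : ℤ) : ZMod r) = 0 := congrFun hv i₀
    have h1 := hk i₀
    rw [zpow_eq_pow_val (c i₀) hord, h0, ZMod.val_zero, pow_zero] at h1
    exact hi₀ h1.symm
  · intro i
    rw [← zpow_eq_pow_val (c i₀) hord, hk i]

/-- (EXPV) the action of an integer matrix on `ζ ^ v` -/
theorem zact_expVec {K : Type*} [Field K] {l r : ℕ} [Fact r.Prime] (ζ : Kˣ) (hζ : orderOf ζ = r)
    (v : Fin l → ZMod r) (M : Matrix (Fin l) (Fin l) ℤ) :
    zact M (fun i => ζ ^ (v i).val) =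
      fun j => ζ ^ (Matrix.vecMul v (M.map (Int.cast : ℤ → ZMod r)) j).val := by
  have hr : r.Prime := Fact.out
  have : NeZero r := ⟨hr.ne_zero⟩
  ext j
  rw [Cfsg.Agent.Helper18.zact_apply]
  have h1 : ∏ i, (ζ ^ (v i).val) ^ M i j = ζ ^ (∑ i, ((v i).val : ℤ) * M i j) := by
    rw [Cfsg.Agent.Helper18.zpow_finset_sum]
    apply Finset.prod_congr rfl
    intro i _
    rw [zpow_mul, zpow_natCast]
  rw [h1, zpow_eq_pow_val ζ hζ]
  congr 3
  simp only [Matrix.vecMul, dotProduct, Matrix.map_apply, Int.cast_sum, Int.cast_mul,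
    Int.cast_natCast, ZMod.natCast_zmod_val]

/-- (EXPV) `v ↦ ζ ^ v` is injective -/
theorem expVec_injective {K : Type*} [Field K] {l r : ℕ} [Fact r.Prime] (ζ : Kˣ) (hζ : orderOf ζ = r)
    (v v' : Fin l → ZMod r) (h : (fun i => ζ ^ (v i).val) = fun i => ζ ^ (v' i).val) : v = v' := by
  have hr : r.Prime := Fact.out
  have : NeZero r := ⟨hr.ne_zero⟩
  funext i
  have hi : ζ ^ (v i).val = ζ ^ (v' i).val := congrFun h i
  have h1 : (v i).val < orderOf ζ := by rw [hζ]; exact ZMod.val_lt _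
  have h2 : (v' i).val < orderOf ζ := by rw [hζ]; exact ZMod.val_lt _
  exact ZMod.val_injective r (pow_injOn_Iio_orderOf h1 h2 hi)

end Cfsg.Agent.Helper84.Tor
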