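-- helper84: the normalizer of the unitriangular subgroup of `SL_n(F)` consists of upper triangular matrices,
-- which are products of a diagonal and a unitriangular element.
import Mathlib
import Cfsg.Agent.Helper42.BruhatB
import Cfsg.Agent.Helper84.PSLnTv

set_option autoImplicit false
set_option linter.unusedSectionVars false

namespace Cfsg.Agent.Helper84.PSLn

open Matrix Cfsg.Agent.Helper14.AutPSL Cfsg.Agent.Helper42

variable {n : ℕ} {F : Type*} [Field F]

/-- `b⁻¹ (1 + E_{kl}) b` is unitriangular for `b` upper triangular and `k < l` -/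
theorem conj_transGLn_unitri {b₀ : GL (Fin n) F} (hb₀ : b₀ ∈ borel F n) {k l : Fin n} (hkl : k < l)
    (i j : Fin n) (hji : j ≤ i) :
    ((b₀⁻¹ * transGLn k l hkl.ne (1 : F) * b₀ : GL (Fin n) F) : Matrix (Fin n) (Fin n) F) i j =
      if i = j then 1 else 0 := by
  have hb₁ : b₀⁻¹ ∈ borel F n := (borel F n).inv_mem hb₀
  rw [Units.val_mul, Units.val_mul, transGLn_val, transvection, Matrix.mul_add, Matrix.mul_one, Matrix.add_mul,
    ← Units.val_mul, inv_mul_cancel, Units.val_one, Matrix.add_apply, Matrix.one_apply, Matrix.mul_apply]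
  rw [Finset.sum_eq_zero, add_zero]
  intro m _
  by_cases hm : m = l
  · subst hm
    rw [Matrix.mul_single_apply_same (1 : F) k m i, mul_one]
    by_cases hik : k < i
    · rw [(mem_borel.mp hb₁) i k hik, zero_mul]
    · have hik' : i ≤ k := not_lt.mp hik
      have hjm : j < m := lt_of_le_of_lt (hji.trans hik') hkl
      rw [(mem_borel.mp hb₀) m j hjm, mul_zero]
  · rw [Matrix.mul_single_apply_of_ne (1 : F) k l i m hm, zero_mul]

/-- an element of `GL_n(F)` conjugating all unitriangular matrices into the Borel subgroup is upper triangular -/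
theorem mem_borel_of_conj_unitri (g : GL (Fin n) F)
    (hg : ∀ x : GL (Fin n) F, (∀ i j : Fin n, j ≤ i →
      (x : Matrix (Fin n) (Fin n) F) i j = if i = j then 1 else 0) → g * x * g⁻¹ ∈ borel F n) :
    g ∈ borel F n := by
  obtain ⟨u, hu, σ, b₀, hb₀, rfl⟩ := bruhat_exists g
  have hσ : StrictMono σ := by
    intro k l hkl
    have h1 := hg (b₀⁻¹ * transGLn k l hkl.ne (1 : F) * b₀) (conj_transGLn_unitri hb₀ hkl)
    rw [bruhat_conj] at h1
    have h2 : transGLn (σ k) (σ l) (fun h => hkl.ne (σ.injective h)) (1 : F) ∈ borel F n := by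
      have := (borel F n).mul_mem ((borel F n).mul_mem ((borel F n).inv_mem hu) h1) hu
      have e : u⁻¹ * (u * transGLn (σ k) (σ l) (fun h => hkl.ne (σ.injective h)) (1 : F) * u⁻¹) * u =
          transGLn (σ k) (σ l) (fun h => hkl.ne (σ.injective h)) (1 : F) := by group
      rwa [e] at this
    exact (transGLn_mem_borel_iff _ _ _).mp h2
  rw [perm_eq_one_of_strictMono σ hσ, map_one, mul_one]
  exact (borel F n).mul_mem hu hb₀

/-- the normalizer of the unitriangular group consists of upper triangular matrices -/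
theorem upper_of_mem_normalizer_UT {g : Matrix.SpecialLinearGroup (Fin n) F}
    (hg : g ∈ Subgroup.normalizer ((UT n F : Subgroup (Matrix.SpecialLinearGroup (Fin n) F)) : Set _)) :
    ∀ i j : Fin n, j < i → g.1 i j = 0 := by
  have h1 : Matrix.SpecialLinearGroup.toGL g ∈ borel F n := by
    apply mem_borel_of_conj_unitri
    intro x hx
    have hdet : (x : Matrix (Fin n) (Fin n) F).det = 1 := by
      have hbt : (x : Matrix (Fin n) (Fin n) F).BlockTriangular id := by
        intro i j hij
        have hij' : j < i := hij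
        rw [hx i j hij'.le, if_neg (ne_of_gt hij')]
      rw [det_of_isUpperTriangular hbt]
      apply Finset.prod_eq_one
      intro i _
      rw [hx i i le_rfl, if_pos rfl]
    obtain ⟨x', hx'⟩ : ∃ x' : Matrix.SpecialLinearGroup (Fin n) F, Matrix.SpecialLinearGroup.toGL x' = x :=
      ⟨⟨(x : Matrix (Fin n) (Fin n) F), hdet⟩, Units.ext rfl⟩
    have hval : x'.1 = (x : Matrix (Fin n) (Fin n) F) := by
      rw [← hx']
      rfl
    have hxU : x' ∈ UT n F := by
      rw [mem_UT, hval]
      exact hx
    have h2 := (Subgroup.mem_normalizer_iff.mp hg _).mp hxU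
    rw [mem_borel]
    intro i j hij
    have h3 := (mem_UT.mp h2) i j hij.le
    rw [if_neg (ne_of_gt hij)] at h3
    rw [← hx', ← map_inv, ← map_mul, ← map_mul]
    exact h3
  intro i j hij
  exact (mem_borel.mp h1) i j hij

/-- an upper triangular element of `SL_n(F)` is a diagonal element times a unitriangular one -/
theorem exists_dgl_mul_UT {g : Matrix.SpecialLinearGroup (Fin n) F} (hg : ∀ i j : Fin n, j < i → g.1 i j = 0) :
    ∃ (D : Fin n → F) (hD : ∏ i, D i = 1), ∃ u ∈ UT n F, g = dgl D hD * u := by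
  have hbt : g.1.BlockTriangular id := by
    intro i j hij
    exact hg i j hij
  have hD : ∏ i, g.1 i i = 1 := by
    rw [← det_of_isUpperTriangular hbt]
    exact g.2
  refine ⟨fun i => g.1 i i, hD, (dgl (fun i => g.1 i i) hD)⁻¹ * g, ?_, ?_⟩
  · rw [mem_UT]
    intro i j hji
    rw [dgl_inv, Matrix.SpecialLinearGroup.coe_mul, dgl_coe, diagonal_mul]
    by_cases hij : i = j
    · subst hij
      rw [if_pos rfl]
      exact inv_mul_cancel₀ (dgl_ne_zero _ hD i)
    · rw [if_neg hij, hg i j (lt_of_le_of_ne hji (Ne.symm hij)), mul_zero]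
  · rw [mul_inv_cancel_left]

end Cfsg.Agent.Helper84.PSLn
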