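-- helper84: generic group theory for the fusion system of `PSU_n(q)` (S5172): the local generation and the absence
-- of strongly closed subgroups pass to a quotient by a central `p'`-subgroup; a `p`-subgroup containing the
-- `p`-elements of its normalizer is a Sylow `p`-subgroup.
import Mathlib
import Cfsg.Agent.Helper84.SimpleCrit2
import Cfsg.Agent.Helper84.PSLnTv

set_option autoImplicit false
set_option linter.unusedSectionVars false

namespace Cfsg.Agent.Helper84.PSU

open Cfsg.Agent.Helper85 Cfsg.Agent.Helper84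

variable {G : Type*} [Group G]

/-- the elements of `N_G(S)` of local origin, the subgroups `R` containing their centralizers modulo `Z` -/
def LocSetZ (p : ℕ) (S Z : Subgroup G) : Set G :=
  {g : G | g ∈ Subgroup.normalizer (S : Set G) ∧
    (g ∈ S ∨ g ∈ Subgroup.centralizer (S : Set G) ∨
      ∃ R : Subgroup G, R ≤ S ∧ S ≤ Subgroup.normalizer (R : Set G) ∧
        (∀ x ∈ Subgroup.centralizer (R : Set G), ∃ r ∈ R, ∃ z ∈ Z, x = r * z) ∧
        g ∈ Subgroup.closure {x : G | x ∈ Subgroup.normalizer (R : Set G) ∧ ∃ k : ℕ, orderOf x = p ^ k})}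

/-- `N_G(S)` is generated by its elements of local origin modulo `Z` -/
def LocGenZ (p : ℕ) (S Z : Subgroup G) : Prop :=
  Subgroup.normalizer (S : Set G) ≤ Subgroup.closure (LocSetZ p S Z)

section map

variable {H : Type*} [Group H] (p : ℕ) [hp : Fact p.Prime] (f : G →* H)

/-- two `p`-elements with the same image modulo a central `p'`-subgroup are equal -/
theorem eq_of_map_eq (hker : ∀ z ∈ f.ker, ∀ g : G, g * z = z * g)
    (hp' : ∀ z ∈ f.ker, ∀ a : ℕ, z ^ (p ^ a) = 1 → z = 1) {x y : G} {a b : ℕ}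
    (hx : x ^ (p ^ a) = 1) (hy : y ^ (p ^ b) = 1) (hxy : f x = f y) : x = y := by
  have hz : x⁻¹ * y ∈ f.ker := by
    rw [MonoidHom.mem_ker, map_mul, map_inv, hxy, inv_mul_cancel]
  have hc : Commute x (x⁻¹ * y) := hker _ hz x
  have h1 : (x * (x⁻¹ * y)) ^ (p ^ (a + b)) = x ^ (p ^ (a + b)) * (x⁻¹ * y) ^ (p ^ (a + b)) := hc.mul_pow _
  rw [mul_inv_cancel_left] at h1
  have h2 : y ^ (p ^ (a + b)) = 1 := by
    rw [add_comm, pow_add, pow_mul, hy, one_pow]
  have h3 : x ^ (p ^ (a + b)) = 1 := by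
    rw [pow_add, pow_mul, hx, one_pow]
  rw [h2, h3, one_mul] at h1
  have h4 := hp' _ hz (a + b) h1.symm
  calc x = x * (x⁻¹ * y) := by rw [h4, mul_one]
    _ = y := mul_inv_cancel_left x y

theorem conj_pow_eq_one {g s : G} {a : ℕ} (hs : s ^ (p ^ a) = 1) : (g * s * g⁻¹) ^ (p ^ a) = 1 := by
  rw [conj_pow, hs, mul_one, mul_inv_cancel]

/-- an element whose image normalizes the image of a `p`-subgroup normalizes the `p`-subgroup -/
theorem mem_normalizer_of_map (hker : ∀ z ∈ f.ker, ∀ g : G, g * z = z * g)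
    (hp' : ∀ z ∈ f.ker, ∀ a : ℕ, z ^ (p ^ a) = 1 → z = 1) (S : Subgroup G)
    (hS : ∀ s ∈ S, ∃ a : ℕ, s ^ (p ^ a) = 1) {g : G}
    (hg : f g ∈ Subgroup.normalizer ((S.map f : Subgroup H) : Set H)) :
    g ∈ Subgroup.normalizer (S : Set G) := by
  have key : ∀ g : G, f g ∈ Subgroup.normalizer ((S.map f : Subgroup H) : Set H) →
      ∀ s ∈ S, g * s * g⁻¹ ∈ S := by
    intro g hg s hs
    have h1 : f g * f s * (f g)⁻¹ ∈ S.map f :=
      (Subgroup.mem_normalizer_iff.mp hg (f s)).mp (Subgroup.mem_map_of_mem f hs)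
    obtain ⟨s', hs', hs'e⟩ := h1
    obtain ⟨a, ha⟩ := hS s hs
    obtain ⟨b, hb⟩ := hS s' hs'
    have h2 : s' = g * s * g⁻¹ := by
      apply eq_of_map_eq p f hker hp' hb (conj_pow_eq_one p ha)
      rw [hs'e, map_mul, map_mul, map_inv]
    rw [← h2]
    exact hs'
  apply Cfsg.Agent.Helper84.PSLn.mem_normalizer_of_conj
  · exact key g hg
  · intro s hs
    have h1 : f g⁻¹ ∈ Subgroup.normalizer ((S.map f : Subgroup H) : Set H) := by
      rw [map_inv]
      exact inv_mem hg
    have := key g⁻¹ h1 s hs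
    rwa [inv_inv] at this

/-- the image of an element of local origin modulo the kernel is of local origin -/
theorem map_mem_locSet (hf : Function.Surjective f) (hker : ∀ z ∈ f.ker, ∀ g : G, g * z = z * g)
    (hp' : ∀ z ∈ f.ker, ∀ a : ℕ, z ^ (p ^ a) = 1 → z = 1) (S : Subgroup G)
    (hS : ∀ s ∈ S, ∃ a : ℕ, s ^ (p ^ a) = 1) {g : G} (hg : g ∈ LocSetZ p S f.ker) :
    f g ∈ LocSet p (S.map f) := by
  obtain ⟨hgN, hg'⟩ := hg
  refine ⟨Subgroup.le_normalizer_map f (Subgroup.mem_map_of_mem f hgN), ?_⟩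
  rcases hg' with h | h | ⟨R, hRS, hSR, hCR, h⟩
  · left
    exact Subgroup.mem_map_of_mem f h
  · right; left
    rw [Subgroup.mem_centralizer_iff]
    rintro _ ⟨s, hs, rfl⟩
    rw [← map_mul, ← map_mul, Subgroup.mem_centralizer_iff.mp h s hs]
  · right; right
    refine ⟨R.map f, Subgroup.map_mono hRS, ?_, ?_, ?_⟩
    · exact (Subgroup.map_mono hSR).trans (Subgroup.le_normalizer_map f)
    · intro xb hxb
      obtain ⟨x, rfl⟩ := hf xb
      have hx : x ∈ Subgroup.centralizer (R : Set G) := by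
        rw [Subgroup.mem_centralizer_iff]
        intro r hr
        obtain ⟨a, ha⟩ := hS r (hRS hr)
        have h1 : f r * f x = f x * f r :=
          Subgroup.mem_centralizer_iff.mp hxb (f r) (Subgroup.mem_map_of_mem f hr)
        have h2 : r = x * r * x⁻¹ := by
          apply eq_of_map_eq p f hker hp' ha (conj_pow_eq_one p ha)
          rw [map_mul, map_mul, map_inv, ← h1, mul_inv_cancel_right]
        calc r * x = x * r * x⁻¹ * x := by rw [← h2]
          _ = x * r := by group
      obtain ⟨r, hr, z, hz, hxe⟩ := hCR x hx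
      refine ⟨r, hr, ?_⟩
      rw [hxe, map_mul, MonoidHom.mem_ker.mp hz, mul_one]
    · have h1 : f g ∈ (Subgroup.closure {x : G | x ∈ Subgroup.normalizer (R : Set G) ∧
          ∃ k : ℕ, orderOf x = p ^ k}).map f := Subgroup.mem_map_of_mem f h
      rw [MonoidHom.map_closure] at h1
      refine Subgroup.closure_mono ?_ h1
      rintro _ ⟨x, ⟨hxN, k, hk⟩, rfl⟩
      refine ⟨Subgroup.le_normalizer_map f (Subgroup.mem_map_of_mem f hxN), ?_⟩
      have h2 : orderOf (f x) ∣ p ^ k := by
        rw [← hk]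
        exact orderOf_map_dvd f x
      obtain ⟨j, -, hj⟩ := (Nat.dvd_prime_pow hp.out).mp h2
      exact ⟨j, hj⟩

/-- local generation passes to the quotient by a central `p'`-subgroup -/
theorem locGen_map (hf : Function.Surjective f) (hker : ∀ z ∈ f.ker, ∀ g : G, g * z = z * g)
    (hp' : ∀ z ∈ f.ker, ∀ a : ℕ, z ^ (p ^ a) = 1 → z = 1) (S : Subgroup G)
    (hS : ∀ s ∈ S, ∃ a : ℕ, s ^ (p ^ a) = 1) (h : LocGenZ p S f.ker) : LocGen p (S.map f) := by
  intro gb hgb
  obtain ⟨g, rfl⟩ := hf gb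
  have hgN := mem_normalizer_of_map p f hker hp' S hS hgb
  have h1 : f g ∈ (Subgroup.closure (LocSetZ p S f.ker)).map f := Subgroup.mem_map_of_mem f (h hgN)
  rw [MonoidHom.map_closure] at h1
  refine Subgroup.closure_mono ?_ h1
  rintro _ ⟨x, hx, rfl⟩
  exact map_mem_locSet p f hf hker hp' S hS hx

omit hp in
/-- the absence of strongly closed subgroups passes to quotients -/
theorem noStrClosed_map (S : Subgroup G) (h : NoStrClosed S) :
    NoStrClosed (S.map f) := by
  intro T hTS hcl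
  have h1 := h (T.comap f ⊓ S) inf_le_right (by
    intro t ht g hg
    refine ⟨?_, hg⟩
    show f (g * t * g⁻¹) ∈ T
    rw [map_mul, map_mul, map_inv]
    apply hcl _ ht.1
    rw [← map_inv, ← map_mul, ← map_mul]
    exact Subgroup.mem_map_of_mem f hg)
  have h2 : T = (T.comap f ⊓ S).map f := by
    apply le_antisymm
    · intro t ht
      obtain ⟨s, hs, rfl⟩ := hTS ht
      exact ⟨s, ⟨ht, hs⟩, rfl⟩
    · rintro _ ⟨s, hs, rfl⟩
      exact hs.1
  rcases h1 with h1 | h1
  · left
    rw [h2, h1, Subgroup.map_bot]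
  · right
    rw [h2, h1]

end map

/-- a `p`-subgroup containing the `p`-elements of its normalizer is a Sylow `p`-subgroup -/
theorem exists_sylow_eq [Finite G] (p : ℕ) [hp : Fact p.Prime] (U : Subgroup G) (hU : IsPGroup p U)
    (hN : ∀ x ∈ Subgroup.normalizer (U : Set G), (∃ a : ℕ, x ^ (p ^ a) = 1) → x ∈ U) :
    ∃ S : Sylow p G, (S : Subgroup G) = U := by
  obtain ⟨P, hUP⟩ := hU.exists_le_sylow
  refine ⟨P, ?_⟩
  by_contra hne
  have hlt : U.subgroupOf (P : Subgroup G) < ⊤ := by
    rw [lt_top_iff_ne_top]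
    intro h
    apply hne
    apply le_antisymm _ hUP
    intro x hx
    have : (⟨x, hx⟩ : (P : Subgroup G)) ∈ U.subgroupOf (P : Subgroup G) := by
      rw [h]
      exact Subgroup.mem_top _
    exact this
  haveI : Group.IsNilpotent (P : Subgroup G) := (P.isPGroup').isNilpotent
  have hnc := normalizerCondition_of_isNilpotent (G := (P : Subgroup G)) _ hlt
  obtain ⟨x, hxN, hxU⟩ := SetLike.exists_of_lt hnc
  apply hxU
  show (x : G) ∈ U
  apply hN
  · apply Cfsg.Agent.Helper84.PSLn.mem_normalizer_of_conj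
    · intro u hu
      have h1 : (⟨u, hUP hu⟩ : (P : Subgroup G)) ∈ U.subgroupOf (P : Subgroup G) := hu
      have h2 := (Subgroup.mem_normalizer_iff.mp hxN _).mp h1
      exact h2
    · intro u hu
      have h1 : (⟨u, hUP hu⟩ : (P : Subgroup G)) ∈ U.subgroupOf (P : Subgroup G) := hu
      have h2 := (Subgroup.mem_normalizer_iff.mp (inv_mem hxN) _).mp h1
      rw [inv_inv] at h2
      exact h2
  · obtain ⟨k, hk⟩ := P.isPGroup' x
    refine ⟨k, ?_⟩
    have := congrArg Subtype.val hk
    simpa using this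

end Cfsg.Agent.Helper84.PSU
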