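-- helper84: level functions on the index type of the hyperbolic model of `SU_n(q)` and the subgroups they define: the
-- standard Sylow `p`-subgroup `U0`, the maximal parabolic `PM` stabilizing `⟨e_1..e_k⟩`, its radical `Q` and the
-- centre `R` of the radical (S5172).
import Mathlib
import Cfsg.Agent.Helper84.PSUEich
import Cfsg.Agent.Helper40.UniTri

set_option autoImplicit false
set_option linter.unusedSectionVars false

namespace Cfsg.Agent.Helper84.PSU

open Matrix Cfsg.Agent.Helper40.UT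

variable {K : Type*} [Field K] {k r : ℕ}

local notation "Vec" => (I k r → K)
local notation "Mat" => Matrix (I k r) (I k r) K

/-- the fine level function: `e_1 > e_2 > ... > e_k > w > f_k > ... > f_1` -/
def lvI : I k r → ℤ
  | Sum.inl i => -(i : ℤ)
  | Sum.inr (Sum.inl _) => -(k : ℤ)
  | Sum.inr (Sum.inr i) => (i : ℤ) - 2 * (k : ℤ)

/-- the coarse level function: `e > w > f` -/
def lvc : I k r → ℤ
  | Sum.inl _ => 0
  | Sum.inr (Sum.inl _) => -1
  | Sum.inr (Sum.inr _) => -2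

@[simp] theorem lvI_eI (i : Fin k) : lvI (eI i : I k r) = -(i : ℤ) := rfl
@[simp] theorem lvI_wI (a : Fin r) : lvI (wI a : I k r) = -(k : ℤ) := rfl
@[simp] theorem lvI_fI (i : Fin k) : lvI (fI i : I k r) = (i : ℤ) - 2 * (k : ℤ) := rfl
@[simp] theorem lvc_eI (i : Fin k) : lvc (eI i : I k r) = 0 := rfl
@[simp] theorem lvc_wI (a : Fin r) : lvc (wI a : I k r) = -1 := rfl
@[simp] theorem lvc_fI (i : Fin k) : lvc (fI i : I k r) = -2 := rfl

theorem lvI_op (x : I k r) : lvI (op x) = -2 * (k : ℤ) - lvI x := by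
  rcases x with i | a | i
  · show (i : ℤ) - 2 * (k : ℤ) = -2 * (k : ℤ) - -(i : ℤ)
    ring
  · show -(k : ℤ) = -2 * (k : ℤ) - -(k : ℤ)
    ring
  · show -(i : ℤ) = -2 * (k : ℤ) - ((i : ℤ) - 2 * (k : ℤ))
    ring

theorem lvc_op (x : I k r) : lvc (op x) = -2 - lvc x := by
  rcases x with i | a | i <;> rfl

theorem lvI_bound (x y : I k r) : lvI x < lvI y + ((2 * k + 1 : ℕ) : ℤ) := by
  have h1 : ∀ z : I k r, -2 * (k : ℤ) ≤ lvI z ∧ lvI z ≤ 0 := by
    intro z
    rcases z with i | a | i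
    · have := i.2
      simp only [lvI_eI]
      omega
    · simp only [lvI_wI]
      omega
    · have := i.2
      simp only [lvI_fI]
      omega
  have := h1 x
  have := h1 y
  push_cast
  omega

theorem lvc_bound (x y : I k r) : lvc x < lvc y + ((3 : ℕ) : ℤ) := by
  have h1 : ∀ z : I k r, -2 ≤ lvc z ∧ lvc z ≤ 0 := by
    intro z
    rcases z with i | a | i <;> simp
  have := h1 x
  have := h1 y
  push_cast
  omega

/-- a coarse raise is a fine raise -/
theorem lvI_of_lvc {x y : I k r} (h : lvc y + 1 ≤ lvc x) : lvI y + 1 ≤ lvI x := by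
  rcases x with ⟨i, hi⟩ | a | ⟨i, hi⟩ <;> rcases y with ⟨j, hj⟩ | b | ⟨j, hj⟩ <;>
    simp only [lvc_eI, lvc_wI, lvc_fI, lvI_eI, lvI_wI, lvI_fI] at h ⊢ <;> omega

/-- a fine non-lowering is a coarse non-lowering -/
theorem lvc_of_lvI {x y : I k r} (h : lvI y ≤ lvI x) : lvc y ≤ lvc x := by
  rcases x with ⟨i, hi⟩ | a | ⟨i, hi⟩ <;> rcases y with ⟨j, hj⟩ | b | ⟨j, hj⟩ <;>
    simp only [lvc_eI, lvc_wI, lvc_fI, lvI_eI, lvI_wI, lvI_fI] at h ⊢ <;> omega

theorem raisesBy_lvI_of_lvc {N : Mat} (h : RaisesBy lvc 1 N) : RaisesBy lvI 1 N := by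
  intro x y hxy
  exact lvI_of_lvc (h x y hxy)

theorem raisesBy_lvc_of_lvI {N : Mat} (h : RaisesBy lvI 0 N) : RaisesBy lvc 0 N := by
  intro x y hxy
  have := h x y hxy
  have h2 := lvc_of_lvI (x := x) (y := y) (by omega)
  omega

section char

variable (p : ℕ) [hp : Fact p.Prime] [CharP K p]

/-- unitriangular matrices have `p`-power order -/
theorem pow_eq_one_of_isUT (hk : 1 ≤ k) {lv : I k r → ℤ} (Kb : ℕ) (hK : ∀ i j, lv i < lv j + (Kb : ℤ)) {g : Mat}
    (hg : IsUT lv g) : g ^ (p ^ Kb) = 1 := by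
  haveI : Nonempty (I k r) := ⟨eI ⟨0, hk⟩⟩
  have h1 : (g - 1) ^ Kb = 0 := hg.pow_sub_one_eq_zero Kb hK
  have h2 : (g - 1) ^ (p ^ Kb) = 0 := by
    have h3 : Kb ≤ p ^ Kb := (Nat.lt_pow_self hp.out.one_lt).le
    rw [← Nat.sub_add_cancel h3, pow_add, h1, mul_zero]
  have h4 : g = (g - 1) + 1 := by abel
  have hc : Commute (g - 1) (1 : Mat) := Commute.one_right _
  rw [h4, add_pow_char_pow_of_commute _ _ hc, h2, one_pow, zero_add]

end char

variable (bar : K →+* K)

set_option quotPrecheck false in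
local notation "SUk" => ↥(SUm k r bar)

theorem mt_inv_sub_one_apply (g : SUk) (x y : I k r) :
    (mt bar g⁻¹ - 1) x y = bar ((mt bar g - 1) (op y) (op x)) := by
  rw [Matrix.sub_apply, Matrix.sub_apply, mt_inv_apply, Matrix.one_apply, Matrix.one_apply, map_sub]
  by_cases h : x = y
  · rw [if_pos h, if_pos (by rw [h]), map_one]
  · rw [if_neg h, if_neg (fun h' => h (op_injective h').symm), map_zero]

/-- level conditions pass to the inverse -/
theorem raisesBy_inv {lv : I k r → ℤ} {c : ℤ} (hlv : ∀ x, lv (op x) = c - lv x) (g : SUk) {j : ℤ}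
    (h : RaisesBy lv j (mt bar g - 1)) : RaisesBy lv j (mt bar g⁻¹ - 1) := by
  intro x y hxy
  rw [mt_inv_sub_one_apply] at hxy
  have h1 : (mt bar g - 1) (op y) (op x) ≠ 0 := by
    intro h0
    apply hxy
    rw [h0, map_zero]
  have := h _ _ h1
  rw [hlv, hlv] at this
  omega

theorem raisesBy_inv' {lv : I k r → ℤ} {c : ℤ} (hlv : ∀ x, lv (op x) = c - lv x) (g : SUk)
    (h : RaisesBy lv 0 (mt bar g)) : RaisesBy lv 0 (mt bar g⁻¹) := by
  intro x y hxy
  rw [mt_inv_apply] at hxy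
  have h1 : mt bar g (op y) (op x) ≠ 0 := by
    intro h0
    apply hxy
    rw [h0, map_zero]
  have := h _ _ h1
  rw [hlv, hlv] at this
  omega

/-- the subgroup of the elements `g` with `g - 1` raising the level by at least `j ≥ 0` -/
def lvSub (lv : I k r → ℤ) (c : ℤ) (hlv : ∀ x, lv (op x) = c - lv x) (j : ℤ) (hj : 0 ≤ j) : Subgroup SUk where
  carrier := {g | RaisesBy lv j (mt bar g - 1)}
  mul_mem' := by
    intro g h hg hh
    show RaisesBy lv j (mt bar (g * h) - 1)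
    rw [mt_mul, Cfsg.Agent.Helper40.UT.mul_sub_one]
    exact (((RaisesBy.mul hg hh).mono (by omega)).add hg).add hh
  one_mem' := by
    show RaisesBy lv j (mt bar 1 - 1)
    rw [mt_one, sub_self]
    exact raisesBy_zero j
  inv_mem' := by
    intro g hg
    exact raisesBy_inv bar hlv g hg

/-- the subgroup of the elements not lowering the level -/
def lvPar (lv : I k r → ℤ) (c : ℤ) (hlv : ∀ x, lv (op x) = c - lv x) : Subgroup SUk where
  carrier := {g | RaisesBy lv 0 (mt bar g)}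
  mul_mem' := by
    intro g h hg hh
    show RaisesBy lv 0 (mt bar (g * h))
    rw [mt_mul]
    exact (RaisesBy.mul hg hh).mono (by omega)
  one_mem' := by
    show RaisesBy lv 0 (mt bar 1)
    rw [mt_one]
    exact raisesBy_one
  inv_mem' := by
    intro g hg
    exact raisesBy_inv' bar hlv g hg

/-- the standard Sylow `p`-subgroup -/
def U0 : Subgroup SUk := lvSub bar lvI _ lvI_op 1 (by norm_num)
/-- the standard Borel subgroup -/
def B0 : Subgroup SUk := lvPar bar lvI _ lvI_op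
/-- the stabilizer of `⟨e_1, ..., e_k⟩` -/
def PM : Subgroup SUk := lvPar bar lvc _ lvc_op
/-- the radical of `PM` -/
def Q : Subgroup SUk := lvSub bar lvc _ lvc_op 1 (by norm_num)
/-- the centre of the radical of `PM` -/
def R : Subgroup SUk := lvSub bar lvc _ lvc_op 2 (by norm_num)

theorem mem_U0 {g : SUk} : g ∈ U0 bar ↔ IsUT lvI (mt bar g) := Iff.rfl
theorem mem_B0 {g : SUk} : g ∈ B0 bar ↔ RaisesBy lvI 0 (mt bar g) := Iff.rfl
theorem mem_PM {g : SUk} : g ∈ PM bar ↔ RaisesBy lvc 0 (mt bar g) := Iff.rfl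
theorem mem_Q {g : SUk} : g ∈ Q bar ↔ IsUT lvc (mt bar g) := Iff.rfl
theorem mem_R {g : SUk} : g ∈ R bar ↔ RaisesBy lvc 2 (mt bar g - 1) := Iff.rfl

theorem R_le_Q : R bar ≤ (Q bar : Subgroup SUk) := fun _ hg => RaisesBy.mono hg (by norm_num)
theorem Q_le_U0 : Q bar ≤ (U0 bar : Subgroup SUk) := fun _ hg => raisesBy_lvI_of_lvc hg
theorem U0_le_B0 : U0 bar ≤ (B0 bar : Subgroup SUk) := fun _ hg => IsUT.raises_zero hg
theorem B0_le_PM : B0 bar ≤ (PM bar : Subgroup SUk) := fun _ hg => raisesBy_lvc_of_lvI hg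
theorem U0_le_PM : U0 bar ≤ (PM bar : Subgroup SUk) := (U0_le_B0 bar).trans (B0_le_PM bar)
theorem R_le_U0 : R bar ≤ (U0 bar : Subgroup SUk) := (R_le_Q bar).trans (Q_le_U0 bar)

/-- a level-preserving element normalizes the level subgroups -/
theorem conj_mem_lvSub {lv : I k r → ℤ} {c : ℤ} (hlv : ∀ x, lv (op x) = c - lv x) {j : ℤ} (hj : 0 ≤ j)
    {g u : SUk} (hg : g ∈ lvPar bar lv c hlv) (hu : u ∈ lvSub bar lv c hlv j hj) :
    g * u * g⁻¹ ∈ lvSub bar lv c hlv j hj := by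
  show RaisesBy lv j (mt bar (g * u * g⁻¹) - 1)
  have h1 : mt bar (g * u * g⁻¹) - 1 = mt bar g * (mt bar u - 1) * mt bar g⁻¹ := by
    rw [mt_mul, mt_mul, mul_sub, sub_mul, mul_one, mt_mul_inv]
  rw [h1]
  have h2 : RaisesBy lv 0 (mt bar g⁻¹) := raisesBy_inv' bar hlv g hg
  exact ((RaisesBy.mul hg hu).mul h2).mono (by omega)

theorem lvPar_le_normalizer {lv : I k r → ℤ} {c : ℤ} (hlv : ∀ x, lv (op x) = c - lv x) {j : ℤ} (hj : 0 ≤ j) :
    lvPar bar lv c hlv ≤ Subgroup.normalizer ((lvSub bar lv c hlv j hj : Subgroup SUk) : Set SUk) := by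
  intro g hg
  rw [Subgroup.mem_normalizer_iff]
  intro u
  constructor
  · intro hu
    exact conj_mem_lvSub bar hlv hj hg hu
  · intro hu
    have := conj_mem_lvSub bar hlv hj (inv_mem hg) hu
    have e : g⁻¹ * (g * u * g⁻¹) * g⁻¹⁻¹ = u := by group
    rwa [e] at this

theorem PM_le_normalizer_Q : PM bar ≤ Subgroup.normalizer ((Q bar : Subgroup SUk) : Set SUk) :=
  lvPar_le_normalizer bar lvc_op _

theorem PM_le_normalizer_R : PM bar ≤ Subgroup.normalizer ((R bar : Subgroup SUk) : Set SUk) :=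
  lvPar_le_normalizer bar lvc_op _

theorem B0_le_normalizer_U0 : B0 bar ≤ Subgroup.normalizer ((U0 bar : Subgroup SUk) : Set SUk) :=
  lvPar_le_normalizer bar lvI_op _

theorem U0_le_normalizer_Q : U0 bar ≤ Subgroup.normalizer ((Q bar : Subgroup SUk) : Set SUk) :=
  (U0_le_PM bar).trans (PM_le_normalizer_Q bar)

section char

variable (p : ℕ) [hp : Fact p.Prime] [CharP K p]

theorem pow_eq_one_of_mem_U0 (hk : 1 ≤ k) {g : SUk} (hg : g ∈ U0 bar) : g ^ (p ^ (2 * k + 1)) = 1 := by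
  apply mt_injective
  rw [mt_pow, mt_one]
  exact pow_eq_one_of_isUT p hk (2 * k + 1) lvI_bound hg

theorem isPGroup_U0 (hk : 1 ≤ k) : IsPGroup p (U0 bar : Subgroup SUk) := by
  intro g
  refine ⟨2 * k + 1, ?_⟩
  have := pow_eq_one_of_mem_U0 bar p hk g.2
  exact Subtype.ext (by rw [Subgroup.coe_pow, this]; rfl)

end char

/-- sums over the index type -/
theorem sum_I {M : Type*} [AddCommMonoid M] (φ : I k r → M) :
    ∑ x, φ x = ∑ i, φ (eI i) + (∑ a, φ (wI a) + ∑ i, φ (fI i)) := by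
  rw [Fintype.sum_sum_type, Fintype.sum_sum_type]

/-- the diagonal blocks -/
def bA (g : Mat) : Matrix (Fin k) (Fin k) K := g.submatrix eI eI
def bM (g : Mat) : Matrix (Fin r) (Fin r) K := g.submatrix wI wI
def bD (g : Mat) : Matrix (Fin k) (Fin k) K := g.submatrix fI fI

theorem bA_apply (g : Mat) (i j : Fin k) : bA g i j = g (eI i) (eI j) := rfl
theorem bM_apply (g : Mat) (a b : Fin r) : bM g a b = g (wI a) (wI b) := rfl
theorem bD_apply (g : Mat) (i j : Fin k) : bD g i j = g (fI i) (fI j) := rfl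

theorem eq_zero_of_raisesBy {N : Mat} {j : ℤ} (h : RaisesBy lvc j N) {x y : I k r} (hxy : lvc x < lvc y + j) :
    N x y = 0 := by
  by_contra h0
  have := h x y h0
  omega

theorem bA_mul {g h : Mat} (hh : RaisesBy lvc 0 h) : bA (g * h) = bA g * bA h := by
  ext i j
  rw [bA_apply, Matrix.mul_apply, sum_I, Matrix.mul_apply]
  have h1 : ∑ a, g (eI i) (wI a) * h (wI a) (eI j) = 0 :=
    Finset.sum_eq_zero fun a _ => by rw [eq_zero_of_raisesBy hh (by simp), mul_zero]
  have h2 : ∑ l, g (eI i) (fI l) * h (fI l) (eI j) = 0 :=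
    Finset.sum_eq_zero fun a _ => by rw [eq_zero_of_raisesBy hh (by simp), mul_zero]
  rw [h1, h2, add_zero, add_zero]
  rfl

theorem bM_mul {g h : Mat} (hg : RaisesBy lvc 0 g) (hh : RaisesBy lvc 0 h) : bM (g * h) = bM g * bM h := by
  ext i j
  rw [bM_apply, Matrix.mul_apply, sum_I, Matrix.mul_apply]
  have h1 : ∑ l, g (wI i) (eI l) * h (eI l) (wI j) = 0 :=
    Finset.sum_eq_zero fun a _ => by rw [eq_zero_of_raisesBy hg (by simp), zero_mul]
  have h2 : ∑ l, g (wI i) (fI l) * h (fI l) (wI j) = 0 :=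
    Finset.sum_eq_zero fun a _ => by rw [eq_zero_of_raisesBy hh (by simp), mul_zero]
  rw [h1, h2, add_zero, zero_add]
  rfl

theorem bD_mul {g h : Mat} (hg : RaisesBy lvc 0 g) : bD (g * h) = bD g * bD h := by
  ext i j
  rw [bD_apply, Matrix.mul_apply, sum_I, Matrix.mul_apply]
  have h1 : ∑ l, g (fI i) (eI l) * h (eI l) (fI j) = 0 :=
    Finset.sum_eq_zero fun a _ => by rw [eq_zero_of_raisesBy hg (by simp), zero_mul]
  have h2 : ∑ a, g (fI i) (wI a) * h (wI a) (fI j) = 0 :=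
    Finset.sum_eq_zero fun a _ => by rw [eq_zero_of_raisesBy hg (by simp), zero_mul]
  rw [h1, h2, zero_add, zero_add]
  rfl

theorem bA_one : bA (1 : Mat) = 1 := by
  ext i j
  rw [bA_apply, Matrix.one_apply, Matrix.one_apply]
  simp

theorem bM_one : bM (1 : Mat) = 1 := by
  ext i j
  rw [bM_apply, Matrix.one_apply, Matrix.one_apply]
  simp

theorem bD_one : bD (1 : Mat) = 1 := by
  ext i j
  rw [bD_apply, Matrix.one_apply, Matrix.one_apply]
  simp

end Cfsg.Agent.Helper84.PSU
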