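-- helper84: block diagonal elements of the hyperbolic model of `SU_n(q)`: the embedding of `SL_k(q²)` and the
-- torus elements (S5172).
import Mathlib
import Cfsg.Agent.Helper84.PSULevel

set_option autoImplicit false
set_option linter.unusedSectionVars false

namespace Cfsg.Agent.Helper84.PSU

open Matrix Cfsg.Agent.Helper40.UT

variable {K : Type*} [Field K] {k r : ℕ}

local notation "Vec" => (I k r → K)
local notation "Mat" => Matrix (I k r) (I k r) K
local notation "Mk" => Matrix (Fin k) (Fin k) K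
local notation "Mr" => Matrix (Fin r) (Fin r) K

variable (bar : K →+* K)

set_option quotPrecheck false in
local notation "SUk" => ↥(SUm k r bar)

/-- the form on the images of the basis vectors -/
theorem hf_cols (g : Mat) (x y : I k r) :
    hf bar (g *ᵥ (bv x : Vec)) (g *ᵥ bv y) = ∑ z, g z x * bar (g (op z) y) := by
  unfold hf
  exact Finset.sum_congr rfl fun z _ => by rw [mulVec_bv, mulVec_bv]

/-- block diagonal matrices -/
def lvM (A : Mk) (M : Mr) (D : Mk) : Mat := Matrix.fromBlocks A 0 0 (Matrix.fromBlocks M 0 0 D)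

@[simp] theorem lvM_ee (A : Mk) (M : Mr) (D : Mk) (i j : Fin k) : lvM A M D (eI i) (eI j) = A i j := rfl
@[simp] theorem lvM_ew (A : Mk) (M : Mr) (D : Mk) (i : Fin k) (b : Fin r) : lvM A M D (eI i) (wI b) = 0 := rfl
@[simp] theorem lvM_ef (A : Mk) (M : Mr) (D : Mk) (i j : Fin k) : lvM A M D (eI i) (fI j) = 0 := rfl
@[simp] theorem lvM_we (A : Mk) (M : Mr) (D : Mk) (a : Fin r) (j : Fin k) : lvM A M D (wI a) (eI j) = 0 := rfl
@[simp] theorem lvM_ww (A : Mk) (M : Mr) (D : Mk) (a b : Fin r) : lvM A M D (wI a) (wI b) = M a b := rfl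
@[simp] theorem lvM_wf (A : Mk) (M : Mr) (D : Mk) (a : Fin r) (j : Fin k) : lvM A M D (wI a) (fI j) = 0 := rfl
@[simp] theorem lvM_fe (A : Mk) (M : Mr) (D : Mk) (i j : Fin k) : lvM A M D (fI i) (eI j) = 0 := rfl
@[simp] theorem lvM_fw (A : Mk) (M : Mr) (D : Mk) (i : Fin k) (b : Fin r) : lvM A M D (fI i) (wI b) = 0 := rfl
@[simp] theorem lvM_ff (A : Mk) (M : Mr) (D : Mk) (i j : Fin k) : lvM A M D (fI i) (fI j) = D i j := rfl

theorem lvM_mul (A A' : Mk) (M M' : Mr) (D D' : Mk) :
    lvM A M D * lvM A' M' D' = lvM (A * A') (M * M') (D * D') := by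
  unfold lvM
  rw [Matrix.fromBlocks_multiply, Matrix.fromBlocks_multiply]
  simp

theorem lvM_one : lvM (1 : Mk) (1 : Mr) (1 : Mk) = 1 := by
  unfold lvM
  rw [Matrix.fromBlocks_one, Matrix.fromBlocks_one]

theorem det_lvM (A : Mk) (M : Mr) (D : Mk) : (lvM A M D).det = A.det * (M.det * D.det) := by
  unfold lvM
  rw [Matrix.det_fromBlocks_zero₂₁, Matrix.det_fromBlocks_zero₂₁]

theorem isU_lvM {A : Mk} {M : Mr} {D : Mk} (hAD : Aᵀ * D.map bar = 1) (hDA : Dᵀ * A.map bar = 1)
    (hM : Mᵀ * M.map bar = 1) : IsU bar (lvM A M D) := by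
  have h1 : ∀ i j : Fin k, ∑ l, A l i * bar (D l j) = if i = j then 1 else 0 := by
    intro i j
    have := congrFun (congrFun hAD i) j
    rw [Matrix.mul_apply, Matrix.one_apply] at this
    exact this
  have h2 : ∀ i j : Fin k, ∑ l, D l i * bar (A l j) = if i = j then 1 else 0 := by
    intro i j
    have := congrFun (congrFun hDA i) j
    rw [Matrix.mul_apply, Matrix.one_apply] at this
    exact this
  have h3 : ∀ a b : Fin r, ∑ c, M c a * bar (M c b) = if a = b then 1 else 0 := by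
    intro a b
    have := congrFun (congrFun hM a) b
    rw [Matrix.mul_apply, Matrix.one_apply] at this
    exact this
  apply isU_of_basis
  intro x y
  rw [hf_cols, sum_I]
  rcases x with i | a | i <;> rcases y with j | b | j
  · rw [hf_bv_ee]
    simp
  · rw [hf_bv_ew]
    simp
  · rw [hf_bv_ef]
    simp only [lvM_ee, op_eI, lvM_ff, lvM_we, lvM_wf, op_wI, map_zero, mul_zero, Finset.sum_const_zero, lvM_fe,
      zero_mul, add_zero, op_fI, h1]
  · rw [hf_bv_we]
    simp
  · rw [hf_bv_ww]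
    simp only [lvM_ew, zero_mul, Finset.sum_const_zero, lvM_ww, op_wI, lvM_fw, add_zero, zero_add, h3]
  · rw [hf_bv_wf]
    simp
  · rw [hf_bv_fe]
    simp only [lvM_ef, zero_mul, Finset.sum_const_zero, lvM_wf, lvM_ff, op_fI, lvM_ee, zero_add, op_eI, h2]
  · rw [hf_bv_fw]
    simp
  · rw [hf_bv_ff]
    simp

theorem raisesBy_lvM (A : Mk) (M : Mr) (D : Mk) : RaisesBy lvc 0 (lvM A M D) := by
  intro x y hxy
  rcases x with i | a | i <;> rcases y with j | b | j <;> simp at hxy ⊢

theorem bA_lvM (A : Mk) (M : Mr) (D : Mk) : bA (lvM A M D) = A := rfl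
theorem bM_lvM (A : Mk) (M : Mr) (D : Mk) : bM (lvM A M D) = M := rfl
theorem bD_lvM (A : Mk) (M : Mr) (D : Mk) : bD (lvM A M D) = D := rfl


/-- block upper triangular matrices in block form -/
theorem det_of_raisesBy {g : Mat} (hg : RaisesBy lvc 0 g) : g.det = (bA g).det * ((bM g).det * (bD g).det) := by
  have h1 : g = Matrix.fromBlocks g.toBlocks₁₁ g.toBlocks₁₂ 0 g.toBlocks₂₂ := by
    conv_lhs => rw [← Matrix.fromBlocks_toBlocks g]
    congr 1
    ext x j
    rcases x with a | i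
    · exact eq_zero_of_raisesBy hg (x := wI a) (y := eI j) (by simp)
    · exact eq_zero_of_raisesBy hg (x := fI i) (y := eI j) (by simp)
  have h2 : g.toBlocks₂₂ = Matrix.fromBlocks g.toBlocks₂₂.toBlocks₁₁ g.toBlocks₂₂.toBlocks₁₂ 0
      g.toBlocks₂₂.toBlocks₂₂ := by
    conv_lhs => rw [← Matrix.fromBlocks_toBlocks g.toBlocks₂₂]
    congr 1
    ext i a
    exact eq_zero_of_raisesBy hg (x := fI i) (y := wI a) (by simp)
  conv_lhs => rw [h1, Matrix.det_fromBlocks_zero₂₁, h2, Matrix.det_fromBlocks_zero₂₁]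
  rfl

/-- the unitarity relations between the diagonal blocks of a block upper triangular isometry -/
theorem rel_AD {g : Mat} (hU : IsU bar g) (hg : RaisesBy lvc 0 g) : (bA g)ᵀ * (bD g).map bar = 1 := by
  ext i j
  have h := hU (bv (eI i)) (bv (fI j))
  rw [hf_cols, sum_I, hf_bv_ef] at h
  have h1 : ∑ a, g (wI a) (eI i) * bar (g (op (wI a)) (fI j)) = 0 :=
    Finset.sum_eq_zero fun a _ => by rw [eq_zero_of_raisesBy hg (by simp), zero_mul]
  have h2 : ∑ l, g (fI l) (eI i) * bar (g (op (fI l)) (fI j)) = 0 :=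
    Finset.sum_eq_zero fun a _ => by rw [eq_zero_of_raisesBy hg (by simp), zero_mul]
  rw [h1, h2, add_zero, add_zero] at h
  rw [Matrix.mul_apply, Matrix.one_apply, ← h]
  rfl

theorem rel_DA {g : Mat} (hU : IsU bar g) (hg : RaisesBy lvc 0 g) : (bD g)ᵀ * (bA g).map bar = 1 := by
  ext i j
  have h := hU (bv (fI i)) (bv (eI j))
  rw [hf_cols, sum_I, hf_bv_fe] at h
  have h1 : ∑ a, g (wI a) (fI i) * bar (g (op (wI a)) (eI j)) = 0 :=
    Finset.sum_eq_zero fun a _ => by
      rw [op_wI, eq_zero_of_raisesBy hg (x := wI a) (y := eI j) (by simp), map_zero, mul_zero]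
  have h2 : ∑ l, g (eI l) (fI i) * bar (g (op (eI l)) (eI j)) = 0 :=
    Finset.sum_eq_zero fun l _ => by
      rw [op_eI, eq_zero_of_raisesBy hg (x := fI l) (y := eI j) (by simp), map_zero, mul_zero]
  rw [h1, h2, zero_add, zero_add] at h
  rw [Matrix.mul_apply, Matrix.one_apply, ← h]
  rfl

theorem rel_MM {g : Mat} (hU : IsU bar g) (hg : RaisesBy lvc 0 g) : (bM g)ᵀ * (bM g).map bar = 1 := by
  ext a b
  have h := hU (bv (wI a)) (bv (wI b))
  rw [hf_cols, sum_I, hf_bv_ww] at h
  have h1 : ∑ l, g (eI l) (wI a) * bar (g (op (eI l)) (wI b)) = 0 :=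
    Finset.sum_eq_zero fun l _ => by
      rw [op_eI, eq_zero_of_raisesBy hg (x := fI l) (y := wI b) (by simp), map_zero, mul_zero]
  have h2 : ∑ l, g (fI l) (wI a) * bar (g (op (fI l)) (wI b)) = 0 :=
    Finset.sum_eq_zero fun l _ => by
      rw [eq_zero_of_raisesBy hg (x := fI l) (y := wI a) (by simp), zero_mul]
  rw [h1, h2, zero_add, add_zero] at h
  rw [Matrix.mul_apply, Matrix.one_apply, ← h]
  rfl

/-- block unitriangular matrices -/
theorem isUT_lvc_iff {g : Mat} : IsUT lvc g ↔ RaisesBy lvc 0 g ∧ bA g = 1 ∧ bM g = 1 ∧ bD g = 1 := by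
  constructor
  · intro h
    have key : ∀ x y : I k r, lvc x = lvc y → g x y = (1 : Mat) x y := by
      intro x y hxy
      by_contra hne
      have h1 : (g - 1) x y ≠ 0 := by
        rw [Matrix.sub_apply]
        exact sub_ne_zero.mpr hne
      have := h x y h1
      omega
    refine ⟨h.raises_zero, ?_, ?_, ?_⟩
    · ext i j
      simpa [bA_apply, Matrix.one_apply] using key (eI i) (eI j) rfl
    · ext i j
      simpa [bM_apply, Matrix.one_apply] using key (wI i) (wI j) rfl
    · ext i j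
      simpa [bD_apply, Matrix.one_apply] using key (fI i) (fI j) rfl
  · rintro ⟨h0, hA, hM, hD⟩ x y hxy
    have hA' : ∀ i j : Fin k, g (eI i) (eI j) = (1 : Mat) (eI i) (eI j) := by
      intro i j
      have := congrFun (congrFun hA i) j
      simpa [bA_apply, Matrix.one_apply] using this
    have hM' : ∀ a b : Fin r, g (wI a) (wI b) = (1 : Mat) (wI a) (wI b) := by
      intro i j
      have := congrFun (congrFun hM i) j
      simpa [bM_apply, Matrix.one_apply] using this
    have hD' : ∀ i j : Fin k, g (fI i) (fI j) = (1 : Mat) (fI i) (fI j) := by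
      intro i j
      have := congrFun (congrFun hD i) j
      simpa [bD_apply, Matrix.one_apply] using this
    by_contra hlt
    apply hxy
    rw [Matrix.sub_apply]
    rcases x with i | a | i <;> rcases y with j | b | j
    · exact sub_eq_zero.mpr (hA' i j)
    · exfalso; simp at hlt
    · exfalso; simp at hlt
    · rw [eq_zero_of_raisesBy h0 (x := wI a) (y := eI j) (by simp), Matrix.one_apply_ne (by simp), sub_self]
    · exact sub_eq_zero.mpr (hM' a b)
    · exfalso; simp at hlt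
    · rw [eq_zero_of_raisesBy h0 (x := fI i) (y := eI j) (by simp), Matrix.one_apply_ne (by simp), sub_self]
    · rw [eq_zero_of_raisesBy h0 (x := fI i) (y := wI b) (by simp), Matrix.one_apply_ne (by simp), sub_self]
    · exact sub_eq_zero.mpr (hD' i j)

/-- block diagonal elements of the model group -/
def lvE (A : Mk) (M : Mr) (D : Mk) (hAD : Aᵀ * D.map bar = 1) (hDA : Dᵀ * A.map bar = 1)
    (hM : Mᵀ * M.map bar = 1) (hdet : A.det * (M.det * D.det) = 1) : SUk :=
  ⟨⟨lvM A M D, by rw [det_lvM, hdet]⟩, isU_lvM bar hAD hDA hM⟩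

theorem mt_lvE (A : Mk) (M : Mr) (D : Mk) (hAD : Aᵀ * D.map bar = 1) (hDA : Dᵀ * A.map bar = 1)
    (hM : Mᵀ * M.map bar = 1) (hdet : A.det * (M.det * D.det) = 1) :
    mt bar (lvE bar A M D hAD hDA hM hdet) = lvM A M D := rfl

/-- the diagonal matrix with one entry `δ` -/
def dg (i₀ : Fin k) (δ : K) : Mk := Matrix.diagonal fun i => if i = i₀ then δ else 1

theorem dg_mul (i₀ : Fin k) (δ δ' : K) : dg i₀ δ * dg i₀ δ' = dg i₀ (δ * δ') := by
  unfold dg
  rw [Matrix.diagonal_mul_diagonal]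
  congr 1
  funext i
  by_cases h : i = i₀
  · rw [if_pos h, if_pos h, if_pos h]
  · rw [if_neg h, if_neg h, if_neg h, one_mul]

theorem dg_one (i₀ : Fin k) : dg i₀ (1 : K) = 1 := by
  unfold dg
  rw [← Matrix.diagonal_one]
  congr 1
  funext i
  by_cases h : i = i₀
  · rw [if_pos h]
  · rw [if_neg h]

theorem det_dg (i₀ : Fin k) (δ : K) : (dg i₀ δ).det = δ := by
  unfold dg
  rw [Matrix.det_diagonal, Finset.prod_ite_eq' Finset.univ i₀, if_pos (Finset.mem_univ _)]

theorem dg_transpose (i₀ : Fin k) (δ : K) : (dg i₀ δ)ᵀ = dg i₀ δ := Matrix.diagonal_transpose _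

theorem dg_map (i₀ : Fin k) (δ : K) : (dg i₀ δ).map bar = dg i₀ (bar δ) := by
  unfold dg
  rw [Matrix.diagonal_map (map_zero bar)]
  congr 1
  funext i
  by_cases h : i = i₀
  · simp [h]
  · simp [h]

theorem dg_apply (i₀ : Fin k) (δ : K) (i j : Fin k) :
    dg i₀ δ i j = if i = j then (if i = i₀ then δ else 1) else 0 := by
  unfold dg
  rw [Matrix.diagonal_apply]

section hb

variable (hb : ∀ x, bar (bar x) = x)
include hb

theorem map_bar_map_bar {m n : Type*} (X : Matrix m n K) : (X.map bar).map bar = X := by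
  ext i j
  rw [Matrix.map_apply, Matrix.map_apply, hb]

/-- the conjugate inverse transpose -/
def cit (A : Matrix.SpecialLinearGroup (Fin k) K) : Mk := ((A⁻¹ : Matrix.SpecialLinearGroup (Fin k) K).1)ᵀ.map bar

omit hb in
theorem cit_mul (A B : Matrix.SpecialLinearGroup (Fin k) K) : cit bar (A * B) = cit bar A * cit bar B := by
  unfold cit
  rw [_root_.mul_inv_rev, Matrix.SpecialLinearGroup.coe_mul, Matrix.transpose_mul, Matrix.map_mul]

omit hb in
theorem cit_one : cit bar (1 : Matrix.SpecialLinearGroup (Fin k) K) = 1 := by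
  unfold cit
  rw [inv_one, Matrix.SpecialLinearGroup.coe_one, Matrix.transpose_one]
  exact Matrix.map_one bar (map_zero bar) (map_one bar)

omit hb in
theorem det_cit (A : Matrix.SpecialLinearGroup (Fin k) K) : (cit bar A).det = 1 := by
  unfold cit
  have h := (RingHom.map_det bar ((A⁻¹ : Matrix.SpecialLinearGroup (Fin k) K).1)ᵀ).symm
  rw [RingHom.mapMatrix_apply] at h
  rw [h, Matrix.det_transpose, (A⁻¹).2, map_one]

theorem transpose_mul_cit (A : Matrix.SpecialLinearGroup (Fin k) K) : (A.1)ᵀ * (cit bar A).map bar = 1 := by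
  unfold cit
  rw [map_bar_map_bar bar hb, ← Matrix.transpose_mul, ← Matrix.SpecialLinearGroup.coe_mul, inv_mul_cancel,
    Matrix.SpecialLinearGroup.coe_one, Matrix.transpose_one]

theorem cit_transpose_mul (A : Matrix.SpecialLinearGroup (Fin k) K) : (cit bar A)ᵀ * (A.1).map bar = 1 := by
  unfold cit
  rw [Matrix.transpose_map, Matrix.transpose_transpose, ← Matrix.map_mul, ← Matrix.SpecialLinearGroup.coe_mul,
    inv_mul_cancel, Matrix.SpecialLinearGroup.coe_one]
  exact Matrix.map_one bar (map_zero bar) (map_one bar)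

/-- the embedding of `SL_k` -/
def lv : Matrix.SpecialLinearGroup (Fin k) K →* SUk where
  toFun A := ⟨⟨lvM A.1 (1 : Mr) (cit bar A), by rw [det_lvM, A.2, det_cit, Matrix.det_one, mul_one, mul_one]⟩,
    isU_lvM bar (transpose_mul_cit bar hb A) (cit_transpose_mul bar hb A) (by
      rw [Matrix.transpose_one, one_mul]
      exact Matrix.map_one bar (map_zero bar) (map_one bar))⟩
  map_one' := by
    apply mt_injective
    show lvM (1 : Matrix.SpecialLinearGroup (Fin k) K).1 (1 : Mr) (cit bar 1) = 1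
    rw [cit_one, Matrix.SpecialLinearGroup.coe_one, lvM_one]
  map_mul' := by
    intro A B
    apply mt_injective
    show lvM (A * B).1 (1 : Mr) (cit bar (A * B)) = lvM A.1 (1 : Mr) (cit bar A) * lvM B.1 (1 : Mr) (cit bar B)
    rw [lvM_mul, cit_mul, Matrix.SpecialLinearGroup.coe_mul, one_mul]

theorem mt_lv (A : Matrix.SpecialLinearGroup (Fin k) K) :
    mt bar (lv bar hb A : SUk) = lvM A.1 (1 : Mr) (cit bar A) := rfl

theorem lv_mem_PM (A : Matrix.SpecialLinearGroup (Fin k) K) : (lv bar hb A : SUk) ∈ PM bar := raisesBy_lvM _ _ _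

/-- the torus-like elements `diag(1,..,δ,..,1; M; 1,..,δ̄⁻¹,..,1)` -/
def hkE (i₀ : Fin k) (δ : K) (M : Mr) (hδ : δ ≠ 0) (hM : Mᵀ * M.map bar = 1)
    (hdet : δ * (M.det * (bar δ)⁻¹) = 1) : SUk :=
  lvE bar (dg i₀ δ) M (dg i₀ (bar δ)⁻¹)
    (by rw [dg_transpose, dg_map, dg_mul, map_inv₀, hb, mul_inv_cancel₀ hδ, dg_one])
    (by rw [dg_transpose, dg_map, dg_mul, inv_mul_cancel₀ (by
          intro h0
          apply hδ
          rw [← hb δ, h0, map_zero]), dg_one])
    hM (by rw [det_dg, det_dg]; exact hdet)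

theorem mt_hkE (i₀ : Fin k) (δ : K) (M : Mr) (hδ : δ ≠ 0) (hM : Mᵀ * M.map bar = 1)
    (hdet : δ * (M.det * (bar δ)⁻¹) = 1) :
    mt bar (hkE bar hb i₀ δ M hδ hM hdet) = lvM (dg i₀ δ) M (dg i₀ (bar δ)⁻¹) := rfl

theorem hkE_mem_B0 (i₀ : Fin k) (δ : K) (M : Mr) (hδ : δ ≠ 0) (hM : Mᵀ * M.map bar = 1)
    (hdet : δ * (M.det * (bar δ)⁻¹) = 1) : hkE bar hb i₀ δ M hδ hM hdet ∈ B0 bar := by
  intro x y hxy
  rw [mt_hkE] at hxy
  rcases x with i | a | i <;> rcases y with j | b | j <;> simp only [lvM_ee, lvM_ew, lvM_ef, lvM_we, lvM_ww, lvM_wf,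
    lvM_fe, lvM_fw, lvM_ff, ne_eq, not_true_eq_false] at hxy
  · rw [dg_apply] at hxy
    by_cases h : i = j
    · rw [h]
      omega
    · rw [if_neg h] at hxy
      exact absurd rfl hxy
  · simp
  · rw [dg_apply] at hxy
    by_cases h : i = j
    · rw [h]
      omega
    · rw [if_neg h] at hxy
      exact absurd rfl hxy

/-- an element of `PM` with trivial upper left and middle blocks lies in the radical -/
theorem mem_Q_of_blocks {u : SUk} (hu : u ∈ PM bar) (hA : bA (mt bar u) = 1) (hM : bM (mt bar u) = 1) :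
    u ∈ Q bar := by
  rw [mem_Q, isUT_lvc_iff]
  refine ⟨hu, hA, hM, ?_⟩
  have h1 := rel_AD bar (isU_mt bar u) hu
  rw [hA, Matrix.transpose_one, one_mul] at h1
  have h2 := congrArg (fun X => X.map bar) h1
  simp only [map_bar_map_bar bar hb] at h2
  rw [h2]
  exact Matrix.map_one bar (map_zero bar) (map_one bar)

theorem decomp_aux {g l h : SUk} (hg : g ∈ PM bar) (hl : l ∈ PM bar) (hh : h ∈ PM bar)
    (hA : bA (mt bar l) * bA (mt bar h) = bA (mt bar g)) (hM : bM (mt bar l) * bM (mt bar h) = bM (mt bar g)) :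
    g * (l * h)⁻¹ ∈ Q bar := by
  have hAD := rel_AD bar (isU_mt bar g) hg
  have hMM := rel_MM bar (isU_mt bar g) hg
  have hlh : l * h ∈ PM bar := mul_mem hl hh
  have hu : g * (l * h)⁻¹ ∈ PM bar := mul_mem hg (inv_mem hlh)
  have hg2 : mt bar g = mt bar (g * (l * h)⁻¹) * mt bar (l * h) := by
    rw [← mt_mul, inv_mul_cancel_right]
  have hAlh : bA (mt bar (l * h)) = bA (mt bar g) := by
    rw [mt_mul, bA_mul hh, hA]
  have hMlh : bM (mt bar (l * h)) = bM (mt bar g) := by
    rw [mt_mul, bM_mul hl hh, hM]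
  have hAinv : bA (mt bar g) * ((bD (mt bar g)).map bar)ᵀ = 1 := by
    have := congrArg Matrix.transpose hAD
    rw [Matrix.transpose_mul, Matrix.transpose_transpose, Matrix.transpose_one] at this
    exact mul_eq_one_comm.mp this
  have hMinv : bM (mt bar g) * ((bM (mt bar g)).map bar)ᵀ = 1 := by
    have := congrArg Matrix.transpose hMM
    rw [Matrix.transpose_mul, Matrix.transpose_transpose, Matrix.transpose_one] at this
    exact mul_eq_one_comm.mp this
  apply mem_Q_of_blocks bar hb hu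
  · have h1 : bA (mt bar g) = bA (mt bar (g * (l * h)⁻¹)) * bA (mt bar g) := by
      conv_lhs => rw [hg2, bA_mul hlh, hAlh]
    calc bA (mt bar (g * (l * h)⁻¹))
        = bA (mt bar (g * (l * h)⁻¹)) * (bA (mt bar g) * ((bD (mt bar g)).map bar)ᵀ) := by
          rw [hAinv, mul_one]
      _ = 1 := by rw [← mul_assoc, ← h1, hAinv]
  · have h1 : bM (mt bar g) = bM (mt bar (g * (l * h)⁻¹)) * bM (mt bar g) := by
      conv_lhs => rw [hg2, bM_mul hu hlh, hMlh]
    calc bM (mt bar (g * (l * h)⁻¹))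
        = bM (mt bar (g * (l * h)⁻¹)) * (bM (mt bar g) * ((bM (mt bar g)).map bar)ᵀ) := by
          rw [hMinv, mul_one]
      _ = 1 := by rw [← mul_assoc, ← h1, hMinv]

/-- the decomposition of the elements of `PM` -/
theorem exists_decomp (i₀ : Fin k) {g : SUk} (hg : g ∈ PM bar) :
    ∃ u ∈ Q bar, ∃ A' : Matrix.SpecialLinearGroup (Fin k) K, ∃ (δ : K) (hδ : δ ≠ 0)
      (hdet : δ * ((bM (mt bar g)).det * (bar δ)⁻¹) = 1),
      g = u * lv bar hb A' * hkE bar hb i₀ δ (bM (mt bar g)) hδ (rel_MM bar (isU_mt bar g) hg) hdet := by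
  have hAD := rel_AD bar (isU_mt bar g) hg
  have hMM := rel_MM bar (isU_mt bar g) hg
  have hdetAD : (bA (mt bar g)).det * bar (bD (mt bar g)).det = 1 := by
    have := congrArg Matrix.det hAD
    rw [Matrix.det_mul, Matrix.det_transpose, Matrix.det_one] at this
    have h2 := (RingHom.map_det bar (bD (mt bar g))).symm
    rw [RingHom.mapMatrix_apply] at h2
    rwa [h2] at this
  have hδ : (bA (mt bar g)).det ≠ 0 := by
    intro h0
    rw [h0, zero_mul] at hdetAD
    exact zero_ne_one hdetAD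
  have hD : (bD (mt bar g)).det = (bar (bA (mt bar g)).det)⁻¹ := by
    have h1 : bar (bD (mt bar g)).det = ((bA (mt bar g)).det)⁻¹ := eq_inv_of_mul_eq_one_right hdetAD
    rw [← hb (bD (mt bar g)).det, h1, map_inv₀]
  have hdet : (bA (mt bar g)).det * ((bM (mt bar g)).det * (bar (bA (mt bar g)).det)⁻¹) = 1 := by
    rw [← hD, ← det_of_raisesBy hg]
    exact det_mt bar g
  have hA'det : (bA (mt bar g) * dg i₀ ((bA (mt bar g)).det)⁻¹).det = 1 := by
    rw [Matrix.det_mul, det_dg, mul_inv_cancel₀ hδ]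
  obtain ⟨A', hA'⟩ : ∃ A' : Matrix.SpecialLinearGroup (Fin k) K,
      A'.1 = bA (mt bar g) * dg i₀ ((bA (mt bar g)).det)⁻¹ := ⟨⟨_, hA'det⟩, rfl⟩
  have hQ := decomp_aux bar hb hg (lv_mem_PM bar hb A')
    (B0_le_PM bar (hkE_mem_B0 bar hb i₀ (bA (mt bar g)).det (bM (mt bar g)) hδ hMM hdet))
    (by
      rw [mt_lv, bA_lvM, mt_hkE, bA_lvM, hA', mul_assoc, dg_mul, inv_mul_cancel₀ hδ, dg_one, mul_one])
    (by rw [mt_lv, bM_lvM, mt_hkE, bM_lvM, one_mul])
  refine ⟨_, hQ, A', (bA (mt bar g)).det, hδ, hdet, ?_⟩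
  rw [mul_assoc, inv_mul_cancel_right]

end hb

end Cfsg.Agent.Helper84.PSU
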