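-- helper84: the normalizer of the standard Sylow `p`-subgroup `U0` of the hyperbolic model of `SU_n(q)` lies in the
-- parabolic `PM`; `U0` is a Sylow `p`-subgroup (S5172).
import Mathlib
import Cfsg.Agent.Helper84.PSULevi
import Cfsg.Agent.Helper84.PSUGen
import Cfsg.Agent.Helper84.PSLnBorel

set_option autoImplicit false
set_option linter.unusedSectionVars false

namespace Cfsg.Agent.Helper84.PSU

open Matrix Cfsg.Agent.Helper40.UT

variable {K : Type*} [Field K] {k r : ℕ}

local notation "Vec" => (I k r → K)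
local notation "Mat" => Matrix (I k r) (I k r) K
local notation "Mk" => Matrix (Fin k) (Fin k) K
local notation "Mr" => Matrix (Fin r) (Fin r) K
local notation "SLk" => Matrix.SpecialLinearGroup (Fin k) K

variable (bar : K →+* K) (hb : ∀ x, bar (bar x) = x)

set_option quotPrecheck false in
local notation "SUk" => ↥(SUm k r bar)

/-- the vectors in the span of the `e_i` -/
def InE (v : Vec) : Prop := (∀ a : Fin r, v (wI a) = 0) ∧ ∀ i : Fin k, v (fI i) = 0

theorem inE_bv (i : Fin k) : InE (bv (eI i) : Vec) := by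
  constructor
  · intro a
    rw [bv_apply, if_neg (by simp)]
  · intro j
    rw [bv_apply, if_neg (by simp)]

theorem hf_of_inE {u v : Vec} (hu : InE u) (hv : InE v) : hf bar u v = 0 := by
  unfold hf
  rw [sum_I]
  have h1 : ∑ i, u (eI i) * bar (v (op (eI i))) = 0 :=
    Finset.sum_eq_zero fun i _ => by rw [op_eI, hv.2 i, map_zero, mul_zero]
  have h2 : ∑ a, u (wI a) * bar (v (op (wI a))) = 0 :=
    Finset.sum_eq_zero fun a _ => by rw [hu.1 a, zero_mul]
  have h3 : ∑ i, u (fI i) * bar (v (op (fI i))) = 0 :=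
    Finset.sum_eq_zero fun i _ => by rw [hu.2 i, zero_mul]
  rw [h1, h2, h3, add_zero, add_zero]

theorem hf_bv_self_eI (i : Fin k) : hf bar (bv (eI i) : Vec) (bv (eI i)) = 0 := hf_bv_ee bar i i

include hb

/-- unitary transvections -/
def tvE (u : Vec) (c : K) (huu : hf bar u u = 0) (hc : c + bar c = 0) : SUk :=
  eich bar hb u 0 c huu (hf_zero_left bar u) (by rw [hf_zero_right, add_zero, hc])

theorem av_tvE (u : Vec) (c : K) (huu : hf bar u u = 0) (hc : c + bar c = 0) (x : Vec) :
    av bar (tvE bar hb u c huu hc) x = x + (c * hf bar x u) • u := by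
  unfold tvE
  rw [av_eich, smul_zero, hf_zero_right, zero_smul, add_zero, sub_zero]

theorem mt_tvE_apply (u : Vec) (c : K) (huu : hf bar u u = 0) (hc : c + bar c = 0) (a b : I k r) :
    mt bar (tvE bar hb u c huu hc) a b = (if a = b then 1 else 0) + c * (u a * bar (u (op b))) := by
  unfold tvE
  rw [mt_eich, eichM_apply, Pi.zero_apply, Pi.zero_apply, zero_mul, map_zero, mul_zero, add_zero, sub_zero]

theorem conj_tvE (g : SUk) (u : Vec) (c : K) (huu : hf bar u u = 0) (hc : c + bar c = 0) :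
    g * tvE bar hb u c huu hc * g⁻¹ = tvE bar hb (av bar g u) c (by rw [hf_av, huu]) hc := by
  unfold tvE
  rw [conj_eich]
  exact eich_congr bar hb rfl (av_zero bar g) rfl _ _ _

theorem tvE_bv_mem_R (i : Fin k) (c : K) (hc : c + bar c = 0) :
    tvE bar hb (bv (eI i) : Vec) c (hf_bv_self_eI bar i) hc ∈ R bar := by
  intro a b hab
  rw [Matrix.sub_apply, mt_tvE_apply, Matrix.one_apply, add_sub_cancel_left, bv_apply, bv_apply] at hab
  by_cases h1 : a = eI i
  · by_cases h2 : op b = eI i
    · rw [h1, op_eq_iff.mp h2]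
      simp
    · rw [if_neg h2, map_zero, mul_zero, mul_zero] at hab
      exact absurd rfl hab
  · rw [if_neg h1, zero_mul, mul_zero] at hab
    exact absurd rfl hab

/-- the centre of a transvection lying in `U0` lies in the span of the `e_i` -/
theorem inE_of_tvE_mem_U0 {v : Vec} {c : K} (hc0 : c ≠ 0) (hvv : hf bar v v = 0) (hc : c + bar c = 0)
    (h : tvE bar hb v c hvv hc ∈ U0 bar) : InE v := by
  have key : ∀ x : I k r, v x ≠ 0 → lvI (op x) + 1 ≤ lvI x := by
    intro x hx
    apply h x (op x)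
    rw [Matrix.sub_apply, mt_tvE_apply, Matrix.one_apply, add_sub_cancel_left, op_op]
    apply mul_ne_zero hc0 (mul_ne_zero hx _)
    intro h0
    apply hx
    rw [← hb (v x), h0, map_zero]
  constructor
  · intro a
    by_contra hne
    have := key _ hne
    rw [lvI_op, lvI_wI] at this
    omega
  · intro i
    by_contra hne
    have := key _ hne
    rw [lvI_op, lvI_fI] at this
    have := i.2
    omega

/-- the normalizer of `U0` maps the `e_i` into their span -/
theorem inE_of_mem_normalizer {c : K} (hc0 : c ≠ 0) (hc : c + bar c = 0) {g : SUk}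
    (hg : g ∈ Subgroup.normalizer ((U0 bar : Subgroup SUk) : Set SUk)) (j : Fin k) :
    InE (av bar g (bv (eI j))) := by
  apply inE_of_tvE_mem_U0 bar hb hc0 (by rw [hf_av, hf_bv_self_eI]) hc
  rw [← conj_tvE bar hb g (bv (eI j)) c (hf_bv_self_eI bar j) hc]
  exact (Subgroup.mem_normalizer_iff.mp hg _).mp (R_le_U0 bar (tvE_bv_mem_R bar hb j c hc))

/-- the normalizer of `U0` lies in `PM` -/
theorem normalizer_U0_le_PM {c : K} (hc0 : c ≠ 0) (hc : c + bar c = 0) :
    Subgroup.normalizer ((U0 bar : Subgroup SUk) : Set SUk) ≤ PM bar := by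
  intro g hg x y hxy
  have h1 := fun j => inE_of_mem_normalizer bar hb hc0 hc hg j
  have h2 := fun j => inE_of_mem_normalizer bar hb hc0 hc (inv_mem hg) j
  by_contra hlt
  apply hxy
  rcases x with i | a | i <;> rcases y with j | b | j
  · exfalso; simp at hlt
  · exfalso; simp at hlt
  · exfalso; simp at hlt
  · rw [← av_bv]
    exact (h1 j).1 a
  · exfalso; simp at hlt
  · exfalso; simp at hlt
  · rw [← av_bv]
    exact (h1 j).2 i
  · have h3 : mt bar g (fI i) (wI b) = hf bar (av bar g (bv (wI b))) (bv (eI i)) := by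
      rw [hf_bv_right, op_eI, av_bv]
    rw [h3, hf_av_left, hf_bv_left, op_wI, (h2 i).1 b, map_zero]
  · exfalso; simp at hlt

omit hb in
theorem lvI_injective (hr : r ≤ 1) : Function.Injective (lvI : I k r → ℤ) := by
  intro x y hxy
  rcases x with ⟨i, hi⟩ | ⟨a, ha⟩ | ⟨i, hi⟩ <;> rcases y with ⟨j, hj⟩ | ⟨b, hb'⟩ | ⟨j, hj⟩ <;>
    simp only [lvI_eI, lvI_wI, lvI_fI] at hxy
  · have : i = j := by omega
    subst this
    rfl
  · exfalso; omega
  · exfalso; omega
  · exfalso; omega
  · have : a = b := by omega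
    subst this
    rfl
  · exfalso; omega
  · exfalso; omega
  · exfalso; omega
  · have : i = j := by omega
    subst this
    rfl

omit hb in
/-- the diagonal entries of upper triangular matrices are multiplicative -/
theorem diag_mul_of_raisesBy (hr : r ≤ 1) {g h : Mat} (hg : RaisesBy lvI 0 g) (hh : RaisesBy lvI 0 h)
    (a : I k r) : (g * h) a a = g a a * h a a := by
  rw [Matrix.mul_apply]
  apply Finset.sum_eq_single a
  · intro z _ hz
    by_contra hne
    have h1 := hg a z (left_ne_zero_of_mul hne)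
    have h2 := hh z a (right_ne_zero_of_mul hne)
    apply hz
    apply lvI_injective hr
    omega
  · intro h0
    exact absurd (Finset.mem_univ _) h0

omit hb in
theorem diag_pow_of_raisesBy (hr : r ≤ 1) {g : Mat} (hg : RaisesBy lvI 0 g) (a : I k r) (n : ℕ) :
    RaisesBy lvI 0 (g ^ n) ∧ (g ^ n) a a = (g a a) ^ n := by
  induction n with
  | zero =>
    rw [pow_zero, pow_zero]
    exact ⟨raisesBy_one, Matrix.one_apply_eq a⟩
  | succ n ih =>
    rw [pow_succ, pow_succ]
    refine ⟨(RaisesBy.mul ih.1 hg).mono (by norm_num), ?_⟩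
    rw [diag_mul_of_raisesBy hr ih.1 hg, ih.2]

omit hb in
/-- an upper triangular matrix with unit diagonal is unitriangular -/
theorem isUT_of_diag (hr : r ≤ 1) {g : Mat} (hg : RaisesBy lvI 0 g) (hd : ∀ a, g a a = 1) : IsUT lvI g := by
  intro x y hxy
  rw [Matrix.sub_apply] at hxy
  by_cases h : x = y
  · exfalso
    apply hxy
    rw [h, hd, Matrix.one_apply_eq, sub_self]
  · rw [Matrix.one_apply_ne h, sub_zero] at hxy
    have h1 := hg x y hxy
    have h2 : lvI y ≠ lvI x := fun h' => h (lvI_injective hr h').symm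
    omega

/-- the embedded unitriangular matrices lie in `U0` -/
theorem lv_mem_U0_iff (A : SLk) : (lv bar hb A : SUk) ∈ U0 bar ↔ A ∈ Cfsg.Agent.Helper14.AutPSL.UT k K := by
  rw [Cfsg.Agent.Helper14.AutPSL.mem_UT]
  constructor
  · intro h i j hji
    by_contra hne
    have h1 : (mt bar (lv bar hb A : SUk) - 1) (eI i) (eI j) ≠ 0 := by
      rw [Matrix.sub_apply, mt_lv, lvM_ee, Matrix.one_apply]
      intro h0
      apply hne
      rw [sub_eq_zero] at h0
      rw [h0]
      by_cases hij : i = j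
      · rw [if_pos hij, if_pos (by rw [hij])]
      · rw [if_neg hij, if_neg (fun h' => hij (Sum.inl.inj h'))]
    have := h _ _ h1
    rw [lvI_eI, lvI_eI] at this
    have hji' : (j : ℕ) ≤ i := hji
    omega
  · intro h
    have hinv : A⁻¹ ∈ Cfsg.Agent.Helper14.AutPSL.UT k K := inv_mem (Cfsg.Agent.Helper14.AutPSL.mem_UT.mpr h)
    rw [Cfsg.Agent.Helper14.AutPSL.mem_UT] at hinv
    intro x y hxy
    rw [Matrix.sub_apply, mt_lv] at hxy
    rcases x with i | a | i <;> rcases y with j | b | j
    · rw [lvM_ee] at hxy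
      rw [lvI_eI, lvI_eI]
      by_contra hlt
      have hji : j ≤ i := by
        rw [Fin.le_def]
        omega
      apply hxy
      rw [h i j hji, Matrix.one_apply]
      by_cases hij : i = j
      · rw [if_pos hij, if_pos (by rw [hij]), sub_self]
      · rw [if_neg hij, if_neg (fun h' => hij (Sum.inl.inj h')), sub_self]
    · exfalso
      apply hxy
      rw [lvM_ew, Matrix.one_apply_ne (by simp), sub_self]
    · exfalso
      apply hxy
      rw [lvM_ef, Matrix.one_apply_ne (by simp), sub_self]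
    · exfalso
      apply hxy
      rw [lvM_we, Matrix.one_apply_ne (by simp), sub_self]
    · exfalso
      apply hxy
      rw [lvM_ww, Matrix.one_apply, Matrix.one_apply]
      by_cases hab : a = b
      · rw [if_pos hab, if_pos (by rw [hab]), sub_self]
      · rw [if_neg hab, if_neg (fun h' => hab (Sum.inl.inj (Sum.inr.inj h'))), sub_self]
    · exfalso
      apply hxy
      rw [lvM_wf, Matrix.one_apply_ne (by simp), sub_self]
    · exfalso
      apply hxy
      rw [lvM_fe, Matrix.one_apply_ne (by simp), sub_self]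
    · exfalso
      apply hxy
      rw [lvM_fw, Matrix.one_apply_ne (by simp), sub_self]
    · rw [lvM_ff] at hxy
      rw [lvI_fI, lvI_fI]
      by_contra hlt
      have hij : i ≤ j := by
        rw [Fin.le_def]
        omega
      apply hxy
      unfold cit
      rw [Matrix.map_apply, Matrix.transpose_apply, hinv j i hij, Matrix.one_apply]
      by_cases hji : j = i
      · rw [if_pos hji, if_pos (by rw [hji]), map_one, sub_self]
      · rw [if_neg hji, if_neg (fun h' => hji (Sum.inr.inj (Sum.inr.inj h')).symm), map_zero, sub_self]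

/-- the embedded upper triangular matrices lie in `B0` -/
theorem lv_mem_B0 {A : SLk} (hA : ∀ i j : Fin k, j < i → A.1 i j = 0)
    (hA' : ∀ i j : Fin k, j < i → (A⁻¹ : SLk).1 i j = 0) : (lv bar hb A : SUk) ∈ B0 bar := by
  intro x y hxy
  rw [mt_lv] at hxy
  rcases x with i | a | i <;> rcases y with j | b | j <;>
    simp only [lvM_ee, lvM_ew, lvM_ef, lvM_we, lvM_ww, lvM_wf, lvM_fe, lvM_fw, lvM_ff, ne_eq, not_true_eq_false] at hxy
  · rw [lvI_eI, lvI_eI]
    by_contra hlt
    apply hxy
    apply hA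
    rw [Fin.lt_def]
    omega
  · rw [lvI_wI, lvI_wI, add_zero]
  · rw [lvI_fI, lvI_fI]
    by_contra hlt
    apply hxy
    unfold cit
    rw [Matrix.map_apply, Matrix.transpose_apply, hA' j i (by rw [Fin.lt_def]; omega), map_zero]

/-- an embedded element normalizing `U0` is upper triangular -/
theorem lv_mem_B0_of_normalizer {A : SLk}
    (hA : (lv bar hb A : SUk) ∈ Subgroup.normalizer ((U0 bar : Subgroup SUk) : Set SUk)) :
    (lv bar hb A : SUk) ∈ B0 bar := by
  have hN : A ∈ Subgroup.normalizer ((Cfsg.Agent.Helper14.AutPSL.UT k K : Subgroup SLk) : Set SLk) := by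
    apply Cfsg.Agent.Helper84.PSLn.mem_normalizer_of_conj
    · intro v hv
      rw [← lv_mem_U0_iff bar hb (r := r), map_mul, map_mul, map_inv]
      exact (Subgroup.mem_normalizer_iff.mp hA _).mp ((lv_mem_U0_iff bar hb v).mpr hv)
    · intro v hv
      rw [← lv_mem_U0_iff bar hb (r := r), map_mul, map_mul, map_inv]
      have := (Subgroup.mem_normalizer_iff.mp (inv_mem hA) _).mp ((lv_mem_U0_iff bar hb v).mpr hv)
      rwa [inv_inv] at this
  exact lv_mem_B0 bar hb (Cfsg.Agent.Helper84.PSLn.upper_of_mem_normalizer_UT hN)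
    (Cfsg.Agent.Helper84.PSLn.upper_of_mem_normalizer_UT (inv_mem hN))

/-- the normalizer of `U0` lies in the standard Borel subgroup -/
theorem normalizer_U0_le_B0 (hk : 1 ≤ k) {c : K} (hc0 : c ≠ 0) (hc : c + bar c = 0) :
    Subgroup.normalizer ((U0 bar : Subgroup SUk) : Set SUk) ≤ B0 bar := by
  intro g hg
  obtain ⟨u, hu, A', δ, hδ, hdet, hgd⟩ :=
    exists_decomp bar hb ⟨0, hk⟩ (normalizer_U0_le_PM bar hb hc0 hc hg)
  have hhB := hkE_mem_B0 bar hb ⟨0, hk⟩ δ (bM (mt bar g)) hδ
    (rel_MM bar (isU_mt bar g) (normalizer_U0_le_PM bar hb hc0 hc hg)) hdet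
  obtain ⟨h, hh⟩ : ∃ h : SUk, h = hkE bar hb ⟨0, hk⟩ δ (bM (mt bar g)) hδ
    (rel_MM bar (isU_mt bar g) (normalizer_U0_le_PM bar hb hc0 hc hg)) hdet := ⟨_, rfl⟩
  rw [← hh] at hgd hhB
  have huN : u ∈ Subgroup.normalizer ((U0 bar : Subgroup SUk) : Set SUk) :=
    Subgroup.le_normalizer (Q_le_U0 bar hu)
  have hhN := B0_le_normalizer_U0 bar hhB
  have hlN : (lv bar hb A' : SUk) ∈ Subgroup.normalizer ((U0 bar : Subgroup SUk) : Set SUk) := by
    have e : (lv bar hb A' : SUk) = u⁻¹ * g * h⁻¹ := by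
      rw [hgd]
      group
    rw [e]
    exact mul_mem (mul_mem (inv_mem huN) hg) (inv_mem hhN)
  rw [hgd]
  exact mul_mem (mul_mem (U0_le_B0 bar (Q_le_U0 bar hu)) (lv_mem_B0_of_normalizer bar hb hlN)) hhB

section char

variable (p : ℕ) [hp : Fact p.Prime] [CharP K p]

/-- the `p`-elements of the normalizer of `U0` lie in `U0` -/
theorem mem_U0_of_pow (hr : r ≤ 1) (hk : 1 ≤ k) {c : K} (hc0 : c ≠ 0) (hc : c + bar c = 0) {x : SUk}
    (hx : x ∈ Subgroup.normalizer ((U0 bar : Subgroup SUk) : Set SUk)) {a : ℕ} (hxa : x ^ (p ^ a) = 1) :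
    x ∈ U0 bar := by
  have hB := normalizer_U0_le_B0 bar hb hk hc0 hc hx
  apply isUT_of_diag hr hB
  intro z
  have h1 := (diag_pow_of_raisesBy hr hB z (p ^ a)).2
  have h2 : mt bar x ^ (p ^ a) = 1 := by rw [← mt_pow, hxa, mt_one]
  rw [h2, Matrix.one_apply_eq] at h1
  have h3 : (mt bar x z z - 1) ^ (p ^ a) = 0 := by
    rw [sub_pow_char_pow, ← h1, one_pow, sub_self]
  exact sub_eq_zero.mp ((pow_eq_zero_iff (pow_ne_zero _ hp.out.ne_zero)).mp h3)

/-- `U0` is a Sylow `p`-subgroup -/
theorem exists_sylow_U0 [Finite K] (hr : r ≤ 1) (hk : 1 ≤ k) {c : K} (hc0 : c ≠ 0) (hc : c + bar c = 0) :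
    ∃ S : Sylow p SUk, (S : Subgroup SUk) = U0 bar := by
  have : Finite (Matrix.SpecialLinearGroup (I k r) K) := by
    unfold Matrix.SpecialLinearGroup
    infer_instance
  apply exists_sylow_eq p (U0 bar) (isPGroup_U0 bar p hk)
  rintro x hx ⟨a, ha⟩
  exact mem_U0_of_pow bar hb p hr hk hc0 hc hx ha

end char

end Cfsg.Agent.Helper84.PSU
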