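-- helper84: the hyperbolic model of `SU_n(q)` is isomorphic to the group `SU_n(q)` of the standard hermitian form
-- (S5172).
import Mathlib
import Cfsg.Prelude.Def_Classical
import Cfsg.Agent.Helper84.PSULevel

set_option autoImplicit false
set_option linter.unusedSectionVars false
set_option linter.unusedSimpArgs false

namespace Cfsg.Agent.Helper84.PSU

open Matrix

variable {K : Type*} [Field K] {k r : ℕ}

local notation "Vec" => (I k r → K)
local notation "Mat" => Matrix (I k r) (I k r) K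

/-- the matrices acting on each pair `(e_i, f_i)` by the same `2 × 2` matrix -/
def Gm (α β γ δ : K) : Mat := Matrix.of fun x y => match x, y with
  | Sum.inl i, Sum.inl j => if i = j then α else 0
  | Sum.inl i, Sum.inr (Sum.inr j) => if i = j then β else 0
  | Sum.inr (Sum.inl s), Sum.inr (Sum.inl t) => if s = t then 1 else 0
  | Sum.inr (Sum.inr i), Sum.inl j => if i = j then γ else 0
  | Sum.inr (Sum.inr i), Sum.inr (Sum.inr j) => if i = j then δ else 0
  | _, _ => 0

@[simp] theorem Gm_ee (α β γ δ : K) (i j : Fin k) :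
    (Gm α β γ δ : Mat) (eI i) (eI j) = if i = j then α else 0 := rfl
@[simp] theorem Gm_ew (α β γ δ : K) (i : Fin k) (t : Fin r) : (Gm α β γ δ : Mat) (eI i) (wI t) = 0 := rfl
@[simp] theorem Gm_ef (α β γ δ : K) (i j : Fin k) :
    (Gm α β γ δ : Mat) (eI i) (fI j) = if i = j then β else 0 := rfl
@[simp] theorem Gm_we (α β γ δ : K) (s : Fin r) (j : Fin k) : (Gm α β γ δ : Mat) (wI s) (eI j) = 0 := rfl
@[simp] theorem Gm_ww (α β γ δ : K) (s t : Fin r) :
    (Gm α β γ δ : Mat) (wI s) (wI t) = if s = t then 1 else 0 := rfl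
@[simp] theorem Gm_wf (α β γ δ : K) (s : Fin r) (j : Fin k) : (Gm α β γ δ : Mat) (wI s) (fI j) = 0 := rfl
@[simp] theorem Gm_fe (α β γ δ : K) (i j : Fin k) :
    (Gm α β γ δ : Mat) (fI i) (eI j) = if i = j then γ else 0 := rfl
@[simp] theorem Gm_fw (α β γ δ : K) (i : Fin k) (t : Fin r) : (Gm α β γ δ : Mat) (fI i) (wI t) = 0 := rfl
@[simp] theorem Gm_ff (α β γ δ : K) (i j : Fin k) :
    (Gm α β γ δ : Mat) (fI i) (fI j) = if i = j then δ else 0 := rfl

theorem Gm_mulVec_e (α β γ δ : K) (u : Vec) (i : Fin k) :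
    (Gm α β γ δ *ᵥ u) (eI i) = α * u (eI i) + β * u (fI i) := by
  show ∑ y, (Gm α β γ δ : Mat) (eI i) y * u y = _
  rw [sum_I]
  simp

theorem Gm_mulVec_w (α β γ δ : K) (u : Vec) (s : Fin r) :
    (Gm α β γ δ *ᵥ u) (wI s) = u (wI s) := by
  show ∑ y, (Gm α β γ δ : Mat) (wI s) y * u y = _
  rw [sum_I]
  simp

theorem Gm_mulVec_f (α β γ δ : K) (u : Vec) (i : Fin k) :
    (Gm α β γ δ *ᵥ u) (fI i) = γ * u (eI i) + δ * u (fI i) := by
  show ∑ y, (Gm α β γ δ : Mat) (fI i) y * u y = _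
  rw [sum_I]
  simp

theorem Gm_mul (α β γ δ α' β' γ' δ' : K) :
    (Gm α β γ δ : Mat) * Gm α' β' γ' δ' =
      Gm (α * α' + β * γ') (α * β' + β * δ') (γ * α' + δ * γ') (γ * β' + δ * δ') := by
  apply mat_ext_mulVec
  intro u
  rw [← Matrix.mulVec_mulVec]
  funext x
  rcases x with i | s | i
  · rw [Gm_mulVec_e, Gm_mulVec_e, Gm_mulVec_e, Gm_mulVec_f]
    ring
  · rw [Gm_mulVec_w, Gm_mulVec_w, Gm_mulVec_w]
  · rw [Gm_mulVec_f, Gm_mulVec_f, Gm_mulVec_e, Gm_mulVec_f]
    ring

theorem Gm_one : (Gm (1 : K) 0 0 1 : Mat) = 1 := by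
  apply mat_ext_mulVec
  intro u
  rw [Matrix.one_mulVec]
  funext x
  rcases x with i | s | i
  · rw [Gm_mulVec_e, one_mul, zero_mul, add_zero]
  · rw [Gm_mulVec_w]
  · rw [Gm_mulVec_f, one_mul, zero_mul, zero_add]

variable (bar : K →+* K)

/-- the standard hermitian form on the index type of the model -/
def sf (u v : Vec) : K := ∑ x, u x * bar (v x)

theorem sf_Gm {α β γ δ : K} (h1 : α * bar α + γ * bar γ = 0) (h2 : α * bar β + γ * bar δ = 1)
    (h3 : β * bar α + δ * bar γ = 1) (h4 : β * bar β + δ * bar δ = 0) (u v : Vec) :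
    sf bar (Gm α β γ δ *ᵥ u) (Gm α β γ δ *ᵥ v) = hf bar u v := by
  unfold sf hf
  rw [sum_I, sum_I]
  simp only [Gm_mulVec_e, Gm_mulVec_w, Gm_mulVec_f, op_eI, op_wI, op_fI, map_add, map_mul]
  have key : ∀ i : Fin k, (α * u (eI i) + β * u (fI i)) * (bar α * bar (v (eI i)) + bar β * bar (v (fI i))) +
      (γ * u (eI i) + δ * u (fI i)) * (bar γ * bar (v (eI i)) + bar δ * bar (v (fI i))) =
      u (eI i) * bar (v (fI i)) + u (fI i) * bar (v (eI i)) := by
    intro i
    linear_combination (u (eI i) * bar (v (eI i))) * h1 + (u (eI i) * bar (v (fI i))) * h2 +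
      (u (fI i) * bar (v (eI i))) * h3 + (u (fI i) * bar (v (fI i))) * h4
  have e1 : ∀ (A B C : K), A + (B + C) = (A + C) + B := by
    intro A B C
    ring
  rw [e1, ← Finset.sum_add_distrib, Finset.sum_congr rfl (fun i _ => key i), Finset.sum_add_distrib]
  ring

/-- the transport of matrices along a base change and a reindexing -/
def psiM {n : ℕ} (e : I k r ≃ Fin n) (P P' X : Mat) : Matrix (Fin n) (Fin n) K :=
  (P * X * P').submatrix e.symm e.symm

theorem psiM_mul {n : ℕ} (e : I k r ≃ Fin n) {P P' : Mat} (hP'P : P' * P = 1) (X Y : Mat) :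
    psiM e P P' (X * Y) = psiM e P P' X * psiM e P P' Y := by
  unfold psiM
  rw [Matrix.submatrix_mul_equiv]
  congr 1
  calc P * (X * Y) * P' = P * X * (1 * (Y * P')) := by rw [Matrix.one_mul]; simp only [Matrix.mul_assoc]
    _ = P * X * P' * (P * Y * P') := by rw [← hP'P]; simp only [Matrix.mul_assoc]

theorem psiM_one {n : ℕ} (e : I k r ≃ Fin n) {P P' : Mat} (hPP' : P * P' = 1) :
    psiM e P P' 1 = 1 := by
  unfold psiM
  rw [Matrix.mul_one, hPP', Matrix.submatrix_one_equiv]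

theorem det_psiM {n : ℕ} (e : I k r ≃ Fin n) {P P' : Mat} (hPP' : P * P' = 1) (X : Mat) :
    (psiM e P P' X).det = X.det := by
  unfold psiM
  rw [Matrix.det_submatrix_equiv_self, Matrix.det_mul, Matrix.det_mul, mul_comm P.det, mul_assoc, ← Matrix.det_mul,
    hPP', Matrix.det_one, mul_one]

theorem psiM_mulVec {n : ℕ} (e : I k r ≃ Fin n) (P P' X : Mat) (u : Fin n → K) :
    (psiM e P P' X *ᵥ u) ∘ e = (P * X * P') *ᵥ (u ∘ e) := by
  unfold psiM
  rw [Matrix.submatrix_mulVec_equiv]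
  funext x
  simp

theorem psiM_injective {n : ℕ} (e : I k r ≃ Fin n) {P P' : Mat} (hPP' : P * P' = 1) (hP'P : P' * P = 1) :
    Function.Injective (psiM e P P') := by
  intro X Y h
  unfold psiM at h
  have h1 : P * X * P' = P * Y * P' := by
    ext x y
    have := congrFun (congrFun h (e x)) (e y)
    simpa using this
  calc X = P' * (P * X * P') * P := by
        rw [Matrix.mul_assoc P, ← Matrix.mul_assoc P', hP'P, Matrix.one_mul, Matrix.mul_assoc, hP'P, Matrix.mul_one]
    _ = P' * (P * Y * P') * P := by rw [h1]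
    _ = Y := by
        rw [Matrix.mul_assoc P, ← Matrix.mul_assoc P', hP'P, Matrix.one_mul, Matrix.mul_assoc, hP'P, Matrix.mul_one]

theorem hermForm_eq_sf {n : ℕ} (e : I k r ≃ Fin n) (q : ℕ) (hq : ∀ x : K, bar x = x ^ q) (u v : Fin n → K) :
    Cfsg.hermForm n K q u v = sf bar (u ∘ e) (v ∘ e) := by
  unfold Cfsg.hermForm sf
  rw [← Equiv.sum_comp e]
  apply Finset.sum_congr rfl
  intro x _
  rw [Function.comp_apply, Function.comp_apply, hq]

set_option quotPrecheck false in
local notation "SUk" => ↥(SUm k r bar)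

section iso

variable {n : ℕ} (e : I k r ≃ Fin n) (q : ℕ) (hq : ∀ x : K, bar x = x ^ q)
  {P P' : Matrix (I k r) (I k r) K} (hPP' : P * P' = 1)
  (hP'P : P' * P = 1) (hkey : ∀ u v : I k r → K, sf bar (P *ᵥ u) (P *ᵥ v) = hf bar u v)

include hq hPP' hkey in
theorem herm_psiM (g : SUk) (u v : Fin n → K) :
    Cfsg.hermForm n K q (psiM e P P' (mt bar g) *ᵥ u) (psiM e P P' (mt bar g) *ᵥ v) =
      Cfsg.hermForm n K q u v := by
  rw [hermForm_eq_sf bar e q hq, psiM_mulVec, psiM_mulVec, hermForm_eq_sf bar e q hq]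
  have h1 : ∀ a : Vec, (P * mt bar g * P') *ᵥ a = P *ᵥ (mt bar g *ᵥ (P' *ᵥ a)) := by
    intro a
    rw [Matrix.mulVec_mulVec, Matrix.mulVec_mulVec, Matrix.mul_assoc]
  have h2 : ∀ a : Vec, P *ᵥ (P' *ᵥ a) = a := by
    intro a
    rw [Matrix.mulVec_mulVec, hPP', Matrix.one_mulVec]
  rw [h1, h1, hkey, isU_mt bar g, ← hkey, h2, h2]

/-- the transport of the model group into `SU_n(q)` -/
def isoHom : SUk →* Cfsg.SU n K q where
  toFun g := ⟨⟨psiM e P P' (mt bar g), by rw [det_psiM e hPP', det_mt]⟩, herm_psiM bar e q hq hPP' hkey g⟩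
  map_one' := by
    apply Subtype.ext
    apply Subtype.ext
    show psiM e P P' (mt bar 1) = 1
    rw [mt_one, psiM_one e hPP']
  map_mul' := by
    intro g h
    apply Subtype.ext
    apply Subtype.ext
    show psiM e P P' (mt bar (g * h)) = psiM e P P' (mt bar g) * psiM e P P' (mt bar h)
    rw [mt_mul, psiM_mul e hP'P]

theorem isoHom_coe (g : SUk) :
    ((isoHom bar e q hq hPP' hP'P hkey g : Cfsg.SU n K q).1 : Matrix (Fin n) (Fin n) K) =
      psiM e P P' (mt bar g) := rfl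

theorem isoHom_injective : Function.Injective (isoHom bar e q hq hPP' hP'P hkey) := by
  intro g h hgh
  apply mt_injective
  apply psiM_injective e hPP' hP'P
  rw [← isoHom_coe bar e q hq hPP' hP'P hkey, ← isoHom_coe bar e q hq hPP' hP'P hkey, hgh]

theorem isoHom_surjective : Function.Surjective (isoHom bar e q hq hPP' hP'P hkey) := by
  intro Y
  have hY : ∀ u v : Fin n → K, Cfsg.hermForm n K q (Y.1.1 *ᵥ u) (Y.1.1 *ᵥ v) = Cfsg.hermForm n K q u v := Y.2
  have hdet : (P' * Y.1.1.submatrix e e * P).det = 1 := by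
    rw [Matrix.det_mul, Matrix.det_mul, Matrix.det_submatrix_equiv_self, Y.1.2, mul_one, ← Matrix.det_mul, hP'P,
      Matrix.det_one]
  have hsf : ∀ c d : Vec, sf bar (Y.1.1.submatrix e e *ᵥ c) (Y.1.1.submatrix e e *ᵥ d) = sf bar c d := by
    intro c d
    rw [Matrix.submatrix_mulVec_equiv, Matrix.submatrix_mulVec_equiv, ← hermForm_eq_sf bar e q hq, hY,
      hermForm_eq_sf bar e q hq]
    congr 1
    · funext x
      simp
    · funext x
      simp
  have hU : IsU bar (P' * Y.1.1.submatrix e e * P) := by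
    intro a b
    have h1 : ∀ a : Vec, P *ᵥ ((P' * Y.1.1.submatrix e e * P) *ᵥ a) = Y.1.1.submatrix e e *ᵥ (P *ᵥ a) := by
      intro a
      rw [Matrix.mulVec_mulVec, Matrix.mulVec_mulVec, Matrix.mul_assoc P', ← Matrix.mul_assoc P, hPP',
        Matrix.one_mul]
    rw [← hkey, h1, h1, hsf, hkey]
  refine ⟨⟨⟨_, hdet⟩, hU⟩, ?_⟩
  apply Subtype.ext
  apply Subtype.ext
  show psiM e P P' (P' * Y.1.1.submatrix e e * P) = Y.1.1
  unfold psiM
  have h2 : P * (P' * Y.1.1.submatrix e e * P) * P' = Y.1.1.submatrix e e := by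
    rw [Matrix.mul_assoc P', ← Matrix.mul_assoc P, hPP', Matrix.one_mul, Matrix.mul_assoc, hPP', Matrix.mul_one]
  rw [h2]
  ext i j
  simp

/-- the isomorphism given by a base change -/
noncomputable def isoEquiv : SUk ≃* Cfsg.SU n K q :=
  MulEquiv.ofBijective (isoHom bar e q hq hPP' hP'P hkey)
    ⟨isoHom_injective bar e q hq hPP' hP'P hkey, isoHom_surjective bar e q hq hPP' hP'P hkey⟩

end iso

/-- the hyperbolic model is isomorphic to `SU_n(q)` -/
theorem exists_iso (hb : ∀ x, bar (bar x) = x) (q : ℕ) (hq : ∀ x : K, bar x = x ^ q)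
    (hnm : ∀ y : K, bar y = y → ∃ t, t * bar t = y) {s₀ : K} (hs₀ : bar s₀ ≠ s₀) :
    Nonempty (SUk ≃* Cfsg.SU (2 * k + r) K q) := by
  obtain ⟨a, ha⟩ := hnm (-1) (by rw [map_neg, map_one])
  have hs0 : s₀ ≠ 0 := by
    intro h
    apply hs₀
    rw [h, map_zero]
  have hbs0 : bar s₀ ≠ 0 := by
    intro h
    apply hs0
    rw [← hb s₀, h, map_zero]
  obtain ⟨b, hbdef⟩ : ∃ b : K, b = a * (bar s₀ / s₀) := ⟨_, rfl⟩
  have hbb : b * bar b = -1 := by
    rw [hbdef, map_mul, map_div₀, hb]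
    have : a * (bar s₀ / s₀) * (bar a * (s₀ / bar s₀)) = a * bar a := by
      field_simp
    rw [this, ha]
  have hne : 1 + a * bar b ≠ 0 := by
    rw [hbdef, map_mul, map_div₀, hb]
    have : 1 + a * (bar a * (s₀ / bar s₀)) = (bar s₀ - s₀) / bar s₀ := by
      have : a * (bar a * (s₀ / bar s₀)) = (a * bar a) * (s₀ / bar s₀) := by ring
      rw [this, ha]
      field_simp
      ring
    rw [this]
    exact div_ne_zero (sub_ne_zero.mpr hs₀) hbs0
  obtain ⟨m, hmdef⟩ : ∃ m : K, m = bar ((1 + a * bar b)⁻¹) := ⟨_, rfl⟩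
  have hm : bar m * (1 + a * bar b) = 1 := by
    rw [hmdef, hb, inv_mul_cancel₀ hne]
  have hm' : m * (1 + bar a * b) = 1 := by
    have := congrArg bar hm
    rw [map_mul, map_add, map_mul, hb, hb, map_one] at this
    exact this
  have hP'P : (Gm (bar m) (bar m * bar b) 1 (bar a) : Mat) * Gm 1 m a (m * b) = 1 := by
    rw [Gm_mul, ← Gm_one]
    congr 1
    · linear_combination hm
    · linear_combination (bar m * m) * hbb
    · linear_combination ha
    · linear_combination hm'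
  have hPP' : (Gm 1 m a (m * b) : Mat) * Gm (bar m) (bar m * bar b) 1 (bar a) = 1 :=
    mul_eq_one_comm.mp hP'P
  have hkey : ∀ u v : Vec, sf bar (Gm 1 m a (m * b) *ᵥ u) (Gm 1 m a (m * b) *ᵥ v) = hf bar u v := by
    apply sf_Gm
    · rw [map_one]
      linear_combination ha
    · rw [map_mul]
      linear_combination hm
    · rw [map_one]
      linear_combination hm'
    · rw [map_mul]
      linear_combination (m * bar m) * hbb
  have hcard : Fintype.card (I k r) = 2 * k + r := by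
    simp only [Fintype.card_sum, Fintype.card_fin]
    omega
  exact ⟨isoEquiv bar (Fintype.equivFinOfCardEq hcard) q hq hPP' hP'P hkey⟩

end Cfsg.Agent.Helper84.PSU
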