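import Cfsg.Agent.Helper36.TorD.Defs
import Cfsg.Agent.Helper36.Unimod

/-!
# helper84: piece (TINJ) of helper36's TorD farm (#13634): for a unimodular Cartan matrix the
torus parametrisation `torusHom D K` is injective
-/

set_option autoImplicit false
set_option linter.unusedVariables false

namespace Cfsg.Agent.Helper84.TorD

open Cfsg Cfsg.Lie Cfsg.Agent.Helper18 Cfsg.Agent.Helper19.Cox Cfsg.Agent.Helper19.Poinc
  Cfsg.Agent.Helper80.Tor Cfsg.Agent.Helper36.TorD Cfsg.Agent.Helper36

section Fields

variable {F K : Type*} [Field F] [Fintype F] [Field K] [Fintype K] [Algebra F K]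

variable (D : ChevalleyDatum)
  (hD : D ∈ [chevG2, chevB2, chevD4, chevF4, chevE6, chevE7, chevE8])
include hD

/-- (TINJ) for a unimodular Cartan matrix the torus parametrisation is injective -/
theorem torusHom_injective (B : List (List ℤ)) (hB : Unimod.invOK D B = true)
    (hs : ∀ j < D.rank, D.simple j < D.nroots) :
    Function.Injective (torusHom D K) := by
  rw [injective_iff_map_eq_one]
  intro c hc
  have hker : c ∈ (torusChar D K).ker := by
    rw [← torusHom_ker, MonoidHom.mem_ker]
    exact hc
  rw [MonoidHom.mem_ker] at hker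
  -- the extension of `c` to `ℕ`
  let c' : ℕ → Kˣ := fun i => if h : i < D.rank then c ⟨i, h⟩ else 1
  have hc' : ∀ i : Fin D.rank, c' i.val = c i := by
    intro i
    simp only [c', i.2, dif_pos, Fin.eta]
  have hprod : ∀ j < D.rank,
      ((List.range D.rank).map fun i => c' i ^ D.cartan i (D.simple j)).prod
        ∈ (⊥ : Subgroup Kˣ) := by
    intro j hj
    rw [Subgroup.mem_bot, list_range_prod_eq]
    have h1 := congrFun hker (Sum.inr ⟨D.simple j, hs j hj⟩)
    simp only [torusChar, MonoidHom.coe_mk, OneHom.coe_mk, Sum.elim_inr, Pi.one_apply] at h1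
    rw [← h1]
    apply Finset.prod_congr rfl
    intro i _
    rw [hc']
  funext k
  have hk := Unimod.mem_of_invOK D B hB (⊥ : Subgroup Kˣ) c' hprod k.val k.2
  rw [Subgroup.mem_bot, hc'] at hk
  exact hk

end Fields

end Cfsg.Agent.Helper84.TorD
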