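-- helper84: shared definitions for S5319 (2-fusion system of PSU_3(q), q odd, is simple): the generators of the
-- Sylow 2-subgroup of GU_2(q) as elements of the subgroup GU_2(q), and the abstract involution-fusion lemma.
import Mathlib
import Cfsg.Agent.Helper37.GU2Sylow2
import Cfsg.Agent.Helper37.SU3InvC
import Cfsg.Agent.Helper85.SimpleCrit

set_option autoImplicit false

namespace Cfsg.Agent.Helper84.SU3F

open Cfsg Cfsg.Agent.Helper37.GL2S2 Cfsg.Agent.Helper37.GU2S2 Cfsg.Agent.Helper37.SU3Inv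

variable {F : Type*} [Field F] {q : ℕ} (bar : F →+* F) (hbar : ∀ x, bar x = x ^ q)

/-- the diagonal matrix `diag(a, b)` with `a, b` of norm one, as an element of `GU_2(q)` -/
def dgU (a b : Fˣ) (ha : a ^ (q + 1) = 1) (hb : b ^ (q + 1) = 1) : ↥(Cfsg.GU 2 F q) :=
  ⟨dg a b, dg_mem_GU2 bar hbar a b ha hb⟩

/-- the swap matrix as an element of `GU_2(q)` -/
def swU : ↥(Cfsg.GU 2 F q) := ⟨sw, sw_mem_GU2 bar hbar⟩

/-- the element `P diag(l, l^{-q}) P⁻¹`, `P = [[1,1],[i,-i]]`, of the nonsplit torus of `GU_2(q)` -/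
def tqU (i : F) (hi : i * i = -1) (h2 : (2 : F) ≠ 0) (hbi : bar i = i) (l : Fˣ) (hl : (l ^ q) ^ q = l) :
    ↥(Cfsg.GU 2 F q) :=
  ⟨tq i hi h2 q l, tq_mem bar hbar i hi h2 hbi l hl⟩

/-- `diag(1, -1)` as an element of `GU_2(q)` -/
def dm1U (hq : Odd q) : ↥(Cfsg.GU 2 F q) :=
  dgU bar hbar 1 (-1) (one_pow _) (by
    obtain ⟨t, ht⟩ := hq
    have : q + 1 = 2 * (t + 1) := by omega
    rw [this, pow_mul]
    simp)

@[simp] theorem dgU_val (a b : Fˣ) (ha : a ^ (q + 1) = 1) (hb : b ^ (q + 1) = 1) :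
    (dgU bar hbar a b ha hb : GL (Fin 2) F) = dg a b := rfl

@[simp] theorem swU_val : (swU bar hbar : GL (Fin 2) F) = sw := rfl

@[simp] theorem tqU_val (i : F) (hi : i * i = -1) (h2 : (2 : F) ≠ 0) (hbi : bar i = i) (l : Fˣ)
    (hl : (l ^ q) ^ q = l) : (tqU bar hbar i hi h2 hbi l hl : GL (Fin 2) F) = tq i hi h2 q l := rfl

@[simp] theorem dm1U_val (hq : Odd q) : (dm1U bar hbar hq : GL (Fin 2) F) = dm1 := rfl

/-- If all involutions of `G` are conjugate to `t₀`, a nontrivial subgroup `T` of the `2`-group `S` that is closed under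
`G`-conjugation inside `S` contains all involutions of `S`. -/
theorem mem_of_involution {G : Type*} [Group G] (S T : Subgroup G) (hTS : T ≤ S)
    (hS : ∀ s ∈ S, ∃ a : ℕ, s ^ 2 ^ a = 1) (hT1 : T ≠ ⊥)
    (hcl : ∀ t ∈ T, ∀ g : G, g * t * g⁻¹ ∈ S → g * t * g⁻¹ ∈ T) (t₀ : G)
    (hconj : ∀ x : G, x ≠ 1 → x * x = 1 → ∃ k : G, k * t₀ * k⁻¹ = x)
    {s : G} (hs : s ∈ S) (hs2 : s * s = 1) : s ∈ T := by
  by_cases hs1 : s = 1
  · rw [hs1]; exact one_mem T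
  -- an involution in `T`
  obtain ⟨t, htT, ht1, ht2⟩ : ∃ t ∈ T, t ≠ 1 ∧ t * t = 1 := by
    obtain ⟨u, huT, hu1⟩ := (Subgroup.ne_bot_iff_exists_ne_one (H := T)).mp hT1 |>.imp
      (fun u hu => hu) |> fun ⟨u, hu⟩ => (⟨u.1, u.2, fun h => hu (Subtype.ext h)⟩ : ∃ u ∈ T, u ≠ 1)
    obtain ⟨a, ha⟩ := hS u (hTS huT)
    -- least `a` with `u ^ 2 ^ a = 1`
    classical
    have hex : ∃ a : ℕ, u ^ 2 ^ a = 1 := ⟨a, ha⟩
    set m := Nat.find hex with hm
    have hm1 : u ^ 2 ^ m = 1 := Nat.find_spec hex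
    have hm0 : m ≠ 0 := by
      intro h0
      rw [h0, pow_zero, pow_one] at hm1
      exact hu1 hm1
    obtain ⟨n, hn⟩ : ∃ n, m = n + 1 := ⟨m - 1, by omega⟩
    refine ⟨u ^ 2 ^ n, T.pow_mem huT _, ?_, ?_⟩
    · intro h
      have := Nat.find_min' hex h
      omega
    · rw [← pow_add, ← two_mul, ← pow_succ', ← hn, hm1]
  obtain ⟨k, hk⟩ := hconj t ht1 ht2
  obtain ⟨k', hk'⟩ := hconj s hs1 hs2
  have e : s = (k' * k⁻¹) * t * (k' * k⁻¹)⁻¹ := by
    rw [← hk', ← hk]; group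
  rw [e]
  apply hcl t htT
  rw [← e]
  exact hs

end Cfsg.Agent.Helper84.SU3F
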