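import Cfsg.Agent.Helper84.SatCrit3
set_option autoImplicit false

/-! # Saturation criterion, step 3: all automorphisms extend, receptivity, and the final assembly -/

namespace Cfsg.Agent.Helper84

open Cfsg Cfsg.FusionSystem Cfsg.Agent.Helper87

variable {Ω : Type*} [Group Ω] {S : Subgroup Ω}

theorem nlift_refl (F : FusionSystem S) {P : Subgroup Ω} (_hPS : P ≤ S) : NLift F (MulEquiv.refl P) :=
  ⟨(normalizerIn S P).subtype, subtype_mem F inf_le_left, fun _ _ => rfl⟩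

/-- Step 2, global form: every automorphism in the system of the fully normalized member `P` extends to `R₀`. -/
theorem extR_all [Finite S] {p : ℕ} [Fact p.Prime] (hS : IsPGroup p S) (F : FusionSystem S)
    (ℋ : Set (Subgroup Ω)) (hgen : ∀ E : FusionSystem S, (∀ P ∈ ℋ, F.Hom P ⊆ E.Hom P) → F ≤ E)
    {P : Subgroup Ω} (hPS : P < S) (hPℋ : ∀ A, F.IsConj P A → A ∉ ℋ)
    (hbig : ∀ R : Subgroup Ω, R ≤ S → Nat.card P < Nat.card R →
      ∃ Q, F.IsConj R Q ∧ F.IsFullyAutomized p Q ∧ F.IsReceptive Q)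
    (hgood : ∀ A, F.IsConj P A → Good F P A) :
    ∀ α ∈ F.autGroup P, ExtR F P (NK S P (Vm F p P)) α := by
  have hPS' : P ≤ S := hPS.le
  have hPR₀ : P ≤ NK S P (Vm F p P) := le_NK_Vm hS F hPS'
  have hQ := extR_of_hom hS F hPS' hbig hgood
  have key := gen_principle F ℋ hgen P hPS hPℋ
    (fun A B e => ∀ a : A ≃* P, NLift F a → ∀ b : B ≃* P, NLift F b →
      ExtR F P (NK S P (Vm F p P)) (a.symm.trans (e.trans b)))
    (by
      intro A B D e f hA he hf hC₁ hC₂ a ha d hd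
      have hB : F.IsConj P B := isConj_trans F hA (isConj_of_isIso F e he)
      obtain ⟨b, hb⟩ := hgood B hB
      have h1 := hC₁ a ha b hb
      have h2 := hC₂ b hb d hd
      have h3 := h2.mul h1
      have h4 : (b.symm.trans (f.trans d) : MulAut P) * (a.symm.trans (e.trans b) : MulAut P) =
          a.symm.trans ((e.trans f).trans d) := by
        ext x
        simp [MulAut.mul_apply]
      rw [h4] at h3
      exact h3)
    (by
      intro A B e hA he hC b hb a ha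
      have h1 := (hC a ha b hb).inv hPR₀
      have h2 : (a.symm.trans (e.trans b) : MulAut P)⁻¹ = b.symm.trans (e.symm.trans a) := by
        ext x
        rfl
      rw [h2] at h1
      exact h1)
    (by
      intro R φ hφ A hAR hne hA B e he a ha b hb
      obtain ⟨θA, hθA, hθAx⟩ := ha
      obtain ⟨θB, hθB, hθBx⟩ := hb
      have hRS : R ≤ S := (F.le_of_mem hφ).1
      have hfinR : Finite R := finite_of_le hRS
      have hRp : IsPGroup p R := hS.to_le hRS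
      have hAS : A ≤ S := hAR.trans hRS
      have hfinA : Finite A := finite_of_le hAS
      have hlt := lt_normalizerIn hRp (lt_of_le_of_ne hAR hne)
      have hTR : normalizerIn R A ≤ R := inf_le_left
      have hAT : A ≤ normalizerIn R A := le_normalizerIn hAR
      have hTN : normalizerIn R A ≤ normalizerIn S A := inf_le_inf_right _ hRS
      have hfinT : Finite (normalizerIn R A) := finite_of_le (hTR.trans hRS)
      have hφT : φ.comp (Subgroup.inclusion hTR) ∈ F.Hom (normalizerIn R A) := restrict_mem F hφ hTR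
      have he' : ∀ x : A, ((e x : B) : Ω) = (φ.comp (Subgroup.inclusion hTR)) (Subgroup.inclusion hAT x) :=
        fun x => he x
      have hφTN : ∀ t : normalizerIn R A, (φ.comp (Subgroup.inclusion hTR)) t ∈ normalizerIn S B := fun t =>
        map_mem_normalizerIn F hφT hAT e he' t t.2.2
      have hθT : θA.comp (Subgroup.inclusion hTN) ∈ F.Hom (normalizerIn R A) := restrict_mem F hθA hTN
      have hcomp := F.comp_mem hφT hθB hφTN
      set T' : Subgroup Ω := (θA.comp (Subgroup.inclusion hTN)).range with hT'def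
      let u : normalizerIn R A ≃* T' := isoOfRange F hθT rfl
      have hu : IsIso F u := isIso_isoOfRange F hθT rfl
      have hux : ∀ t : normalizerIn R A, ((u t : T') : Ω) = θA (Subgroup.inclusion hTN t) := fun _ => rfl
      set T'' : Subgroup Ω :=
        (θB.comp ((φ.comp (Subgroup.inclusion hTR)).codRestrict (normalizerIn S B) hφTN)).range with hT''def
      let v : normalizerIn R A ≃* T'' := isoOfRange F hcomp rfl
      have hv : IsIso F v := isIso_isoOfRange F hcomp rfl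
      have hvx : ∀ t : normalizerIn R A, ((v t : T'') : Ω) =
          θB ⟨(φ.comp (Subgroup.inclusion hTR)) t, hφTN t⟩ := fun _ => rfl
      have hψ : T''.subtype.comp (u.symm.trans v).toMonoidHom ∈ F.Hom T' := hu.symm.trans hv
      have hθAN : ∀ g : normalizerIn S A, θA g ∈ normalizerIn S P := fun g =>
        map_mem_normalizerIn F hθA (le_normalizerIn hAS) a (fun x => (hθAx x _).symm) g g.2.2
      have hT'N : T' ≤ normalizerIn S P := by
        rintro _ ⟨t, rfl⟩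
        exact hθAN _
      have hPT' : P ≤ T' := by
        intro y hy
        refine ⟨Subgroup.inclusion hAT (a.symm ⟨y, hy⟩), ?_⟩
        have h1 := hθAx (a.symm ⟨y, hy⟩) (le_normalizerIn hAS (a.symm ⟨y, hy⟩).2)
        rw [MulEquiv.apply_symm_apply] at h1
        exact h1
      have hcardT' : Nat.card T' = Nat.card (normalizerIn R A) := (Nat.card_congr u.toEquiv).symm
      have hcardA : Nat.card A = Nat.card P := Nat.card_congr a.toEquiv
      have hcardlt : Nat.card A < Nat.card (normalizerIn R A) := card_lt_card_of_lt hlt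
      have hneT' : P ≠ T' := by
        intro h
        rw [← h] at hcardT'
        omega
      refine hQ _ T' hPT' hneT' hT'N _ hψ _ (fun x => ?_) rfl
      have h1 : u.symm (Subgroup.inclusion hPT' x) = Subgroup.inclusion hAT (a.symm x) := by
        rw [MulEquiv.symm_apply_eq]
        apply Subtype.ext
        rw [hux]
        have h2 := hθAx (a.symm x) (le_normalizerIn hAS (a.symm x).2)
        rw [MulEquiv.apply_symm_apply] at h2
        exact h2.symm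
      show ((b (e (a.symm x)) : P) : Ω) = ((v (u.symm (Subgroup.inclusion hPT' x)) : T'') : Ω)
      rw [h1, hvx]
      have h3 : (φ.comp (Subgroup.inclusion hTR)) (Subgroup.inclusion hAT (a.symm x)) = ((e (a.symm x) : B) : Ω) :=
        (he' _).symm
      have hBS : ((e (a.symm x) : B) : Ω) ∈ normalizerIn S B := by
        rw [← h3]
        exact hφTN _
      have h4 : (⟨(φ.comp (Subgroup.inclusion hTR)) (Subgroup.inclusion hAT (a.symm x)), hφTN _⟩ :
          normalizerIn S B) = ⟨((e (a.symm x) : B) : Ω), hBS⟩ := Subtype.ext h3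
      rw [h4, hθBx])
  intro α hα
  have hαiso : IsIso F (α : P ≃* P) := (mem_autGroup_iff F hPS' α).mp hα
  have h1 := key P P α (isConj_refl F hPS') hαiso (MulEquiv.refl P) (nlift_refl F hPS') (MulEquiv.refl P)
    (nlift_refl F hPS')
  have h2 : ((MulEquiv.refl P).symm.trans ((α : P ≃* P).trans (MulEquiv.refl P)) : MulAut P) = α := by
    ext x
    rfl
  rw [h2] at h1
  exact h1

/-- An element of `N_S(Q)` outside `Q` is carried outside `P` by a lift `θ` of `a : Q ≃* P`. -/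
theorem lift_not_mem (F : FusionSystem S) {P Q : Subgroup Ω} (hQS : Q ≤ S) (a : Q ≃* P)
    {θ : normalizerIn S Q →* Ω} (hθ : θ ∈ F.Hom (normalizerIn S Q))
    (hθx : ∀ (x : Q) (hN : (x : Ω) ∈ normalizerIn S Q), θ ⟨x, hN⟩ = a x) (h : normalizerIn S Q)
    (hh : (h : Ω) ∉ Q) : θ h ∉ P := by
  intro hg
  have h1 := hθx (a.symm ⟨θ h, hg⟩) (le_normalizerIn hQS (a.symm ⟨θ h, hg⟩).2)
  rw [MulEquiv.apply_symm_apply] at h1
  have h2 := F.injective_of_mem hθ h1
  apply hh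
  rw [← h2]
  exact (a.symm ⟨θ h, hg⟩).2

/-- `R₀` is strictly larger than `P` when `P` is not centric. -/
theorem ne_NK_Vm_of_not_centric [Finite S] {p : ℕ} [Fact p.Prime] (F : FusionSystem S)
    {P : Subgroup Ω} (hPS : P ≤ S) (hgood : ∀ A, F.IsConj P A → Good F P A) (hnc : ¬ F.IsCentric P) :
    P ≠ NK S P (Vm F p P) := by
  have h1 : ∃ Q, F.IsConj P Q ∧ ¬ centralizerIn S Q ≤ Q := by
    by_contra hcon
    exact hnc ⟨hPS, fun Q hQ => by_contra (fun h => hcon ⟨Q, hQ, h⟩)⟩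
  obtain ⟨Q, hQ, hQc⟩ := h1
  obtain ⟨h, hhC, hhQ⟩ := SetLike.not_le_iff_exists.mp hQc
  obtain ⟨a, θ, hθ, hθx⟩ := hgood Q hQ
  obtain ⟨e₀, he₀⟩ := (isConj_iff F P Q).mp hQ
  have hQS : Q ≤ S := he₀.le_right
  have hhN : h ∈ normalizerIn S Q := centralizerIn_le_normalizerIn S Q hhC
  have hgP : θ ⟨h, hhN⟩ ∉ P := lift_not_mem F hQS a hθ hθx ⟨h, hhN⟩ hhQ
  obtain ⟨hgN, hgeq⟩ := conjAut_map θ (le_normalizerIn hQS) a (fun x => hθx x _) ⟨h, hhN⟩ hhN.2
  have hone : conjAut Q h hhN.2 = 1 := (conjAut_eq_one_iff Q h hhN.2).mpr hhC.2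
  intro heq
  apply hgP
  rw [heq, mem_NK_iff]
  refine ⟨(F.le_of_mem hθ).2 _, hgN, ?_⟩
  rw [hgeq, hone, map_one]
  exact Subgroup.one_mem _

/-- `R₀` is strictly larger than `P` when some conjugate `Q` of `P` has `Aut_S(Q) ∩ O_p(Aut_F(Q))` not inside `Inn(Q)`. -/
theorem ne_NK_Vm_of_star [Finite S] {p : ℕ} [Fact p.Prime] (F : FusionSystem S)
    {P : Subgroup Ω} (hgood : ∀ A, F.IsConj P A → Good F P A) {Q : Subgroup Ω} (hQ : F.IsConj P Q)
    (hstar : ¬ (autInducedBy S Q ⊓ (pCore p ↥(F.autGroup Q)).map (F.autGroup Q).subtype ≤ Inn Q)) :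
    P ≠ NK S P (Vm F p P) := by
  obtain ⟨χ, ⟨hχS, hχV⟩, hχI⟩ := SetLike.not_le_iff_exists.mp hstar
  obtain ⟨h, hhS, hhx⟩ := (mem_autInducedBy_iff S Q χ).mp hχS
  have hhNQ : h ∈ Subgroup.normalizer (Q : Set Ω) := mem_normalizer_of_conj_eq χ h hhx
  have hχeq : χ = conjAut Q h hhNQ := eq_conjAut_of_conj_eq χ h hhx
  have hhN : h ∈ normalizerIn S Q := ⟨hhS, hhNQ⟩
  obtain ⟨a, θ, hθ, hθx⟩ := hgood Q hQ
  obtain ⟨e₀, he₀⟩ := (isConj_iff F P Q).mp hQ
  have hQS : Q ≤ S := he₀.le_right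
  have haiso : IsIso F a := NLift.isIso ⟨θ, hθ, hθx⟩ hQS
  have hhQ : h ∉ Q := by
    intro hhQ
    apply hχI
    refine ⟨⟨h, hhQ⟩, ?_⟩
    rw [hχeq]
    exact (conjAut_eq_conj Q ⟨h, hhQ⟩ hhNQ).symm
  have hgP : θ ⟨h, hhN⟩ ∉ P := lift_not_mem F hQS a hθ hθx ⟨h, hhN⟩ hhQ
  obtain ⟨hgN, hgeq⟩ := conjAut_map θ (le_normalizerIn hQS) a (fun x => hθx x _) ⟨h, hhN⟩ hhNQ
  intro heq
  apply hgP
  rw [heq, mem_NK_iff]
  refine ⟨(F.le_of_mem hθ).2 _, hgN, ?_⟩
  rw [hgeq, ← hχeq]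
  have h1 := mem_pCore_map_of_equiv (p := p) (MulAut.congr a) (F.autGroup Q) hχV
  exact mem_pCore_map_congr (map_congr_autGroup F a haiso) h1

/-- `R₀` is fully normalized with respect to the stabilizer of `P`, when `P` is fully normalized. -/
theorem isFullyKNormalized_NK_Vm [Finite S] {p : ℕ} [Fact p.Prime] (hS : IsPGroup p S) (F : FusionSystem S)
    {P : Subgroup Ω} (hP : F.IsFullyNormalized P) :
    IsFullyKNormalized F (NK S P (Vm F p P)) (stb (NK S P (Vm F p P)) P) := by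
  have hPS : P ≤ S := hP.1
  have hPR₀ : P ≤ NK S P (Vm F p P) := le_NK_Vm hS F hPS
  have hR₀S : NK S P (Vm F p P) ≤ S := NK_le S P _
  refine ⟨hR₀S, fun Q' e he => ?_⟩
  have hφ : Q'.subtype.comp e.toMonoidHom ∈ F.Hom (NK S P (Vm F p P)) := he
  obtain ⟨B, eP, heP, hePx⟩ := exists_resIso F hφ hPR₀
  have hePx' : ∀ y : P, ((eP y : B) : Ω) = ((e (Subgroup.inclusion hPR₀ y) : Q') : Ω) := hePx
  have hB : ∀ x : NK S P (Vm F p P), (x : Ω) ∈ P ↔ ((e x : Q') : Ω) ∈ B := by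
    intro x
    constructor
    · intro hx
      have h1 := hePx' ⟨x, hx⟩
      have h2 : Subgroup.inclusion hPR₀ ⟨(x : Ω), hx⟩ = x := Subtype.ext rfl
      rw [h2] at h1
      rw [← h1]
      exact (eP _).2
    · intro hx
      have h1 := hePx' (eP.symm ⟨_, hx⟩)
      rw [MulEquiv.apply_symm_apply] at h1
      have h2 : e x = e (Subgroup.inclusion hPR₀ (eP.symm ⟨_, hx⟩)) := Subtype.ext h1
      rw [e.injective h2]
      exact (eP.symm ⟨_, hx⟩).2
  have hBQ' : B ≤ Q' := by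
    intro z hz
    have h1 := hePx' (eP.symm ⟨z, hz⟩)
    rw [MulEquiv.apply_symm_apply] at h1
    have : z = ((e (Subgroup.inclusion hPR₀ (eP.symm ⟨z, hz⟩)) : Q') : Ω) := h1
    rw [this]
    exact (e _).2
  rw [tr_stb e hB]
  have h1 : NK S Q' (stb Q' B) ≤ normalizerIn S B := NK_stb_le_normalizerIn S hBQ'
  have h2 : Nat.card (normalizerIn S B) ≤ Nat.card (normalizerIn S P) := hP.2 B (isConj_of_isIso F eP heP)
  have h3 : normalizerIn S P ≤ NK S (NK S P (Vm F p P)) (stb (NK S P (Vm F p P)) P) := by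
    intro n hn
    rw [mem_NK_stb_iff S hPR₀]
    refine ⟨hn.1, ?_, hn.2⟩
    apply mem_normalizer_of_conj_mem_of_inv_conj_mem
    · intro y hy
      exact conj_mem_NK_Vm F p hPS hn hy
    · intro y hy
      have hn' : n⁻¹ ∈ normalizerIn S P := Subgroup.inv_mem _ hn
      have := conj_mem_NK_Vm F p hPS hn' hy
      rwa [inv_inv] at this
  have hfin1 : Finite (normalizerIn S B) := finite_of_le inf_le_left
  have hfin2 : Finite (NK S (NK S P (Vm F p P)) (stb (NK S P (Vm F p P)) P)) := finite_NK _ _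
  exact (Subgroup.card_le_of_le h1).trans (h2.trans (Subgroup.card_le_of_le h3))

/-- `N_S(P)` normalizes `R₀`. -/
theorem normalizerIn_le_normalizer_NK_Vm (F : FusionSystem S) (p : ℕ) {P : Subgroup Ω} (hPS : P ≤ S) {n : Ω}
    (hn : n ∈ normalizerIn S P) : n ∈ Subgroup.normalizer ((NK S P (Vm F p P) : Subgroup Ω) : Set Ω) := by
  apply mem_normalizer_of_conj_mem_of_inv_conj_mem
  · intro y hy
    exact conj_mem_NK_Vm F p hPS hn hy
  · intro y hy
    have hn' : n⁻¹ ∈ normalizerIn S P := Subgroup.inv_mem _ hn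
    have := conj_mem_NK_Vm F p hPS hn' hy
    rwa [inv_inv] at this

/-- For `g` in the extender of `φ`, the conjugation by the image of `g` under a lift, twisted by `φ ∘ a⁻¹`, is induced by `S`. -/
theorem twisted_conj_mem {A P : Subgroup Ω} (hAS : A ≤ S) (a : A ≃* P)
    {θ : normalizerIn S A →* Ω}
    (hθx : ∀ (x : A) (hN : (x : Ω) ∈ normalizerIn S A), θ ⟨x, hN⟩ = a x) {φ : A →* Ω} (f₀ : A ≃* P)
    (hf₀x : ∀ x : A, ((f₀ x : P) : Ω) = φ x) (g : Ω) (hg : g ∈ extender S A φ) (hgN : g ∈ normalizerIn S A)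
    (hθgN : θ ⟨g, hgN⟩ ∈ Subgroup.normalizer (P : Set Ω)) :
    (a.symm.trans f₀ : MulAut P) * conjAut P (θ ⟨g, hgN⟩) hθgN * (a.symm.trans f₀ : MulAut P)⁻¹ ∈
      autInducedBy S P := by
  obtain ⟨hgS, hgNA, h, hhS, hhx⟩ := (mem_extender_iff S A φ g).mp hg
  rw [mem_autInducedBy_iff]
  refine ⟨h, hhS, fun y => ?_⟩
  have hy : (a.symm.trans f₀ : MulAut P) ((a.symm.trans f₀ : MulAut P)⁻¹ y) = y := MulAut.apply_inv_self _ _ _
  rw [MulAut.mul_apply, MulAut.mul_apply]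
  generalize (a.symm.trans f₀ : MulAut P)⁻¹ y = z at hy ⊢
  have hgx : g * ((a.symm z : A) : Ω) * g⁻¹ ∈ A := (Subgroup.mem_normalizer_iff.mp hgNA _).mp (a.symm z).2
  have hc : conjAut P (θ ⟨g, hgN⟩) hθgN z = a ⟨g * ((a.symm z : A) : Ω) * g⁻¹, hgx⟩ := by
    apply Subtype.ext
    rw [conjAut_apply]
    have h1 : ((z : P) : Ω) = θ ⟨((a.symm z : A) : Ω), le_normalizerIn hAS (a.symm z).2⟩ := by
      rw [hθx (a.symm z), MulEquiv.apply_symm_apply]
    rw [h1, ← map_inv, ← map_mul, ← map_mul, ← hθx ⟨g * ((a.symm z : A) : Ω) * g⁻¹, hgx⟩ (le_normalizerIn hAS hgx)]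
    rfl
  rw [hc]
  show ((f₀ (a.symm (a ⟨_, hgx⟩)) : P) : Ω) = _
  rw [MulEquiv.symm_apply_apply, hf₀x, hhx (a.symm z) hgx, ← hy]
  show _ = h * ((f₀ (a.symm z) : P) : Ω) * h⁻¹
  rw [hf₀x]

/-- Step 3: the fully normalized member `P` is receptive. -/
theorem receptive_of_extR [Finite S] {p : ℕ} [Fact p.Prime] (hS : IsPGroup p S) (F : FusionSystem S)
    {P : Subgroup Ω} (hP : F.IsFullyNormalized P)
    (hbig : ∀ R : Subgroup Ω, R ≤ S → Nat.card P < Nat.card R →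
      ∃ Q, F.IsConj R Q ∧ F.IsFullyAutomized p Q ∧ F.IsReceptive Q)
    (hgood : ∀ A, F.IsConj P A → Good F P A)
    (hne : P ≠ NK S P (Vm F p P))
    (hext : ∀ α ∈ F.autGroup P, ExtR F P (NK S P (Vm F p P)) α) : F.IsReceptive P := by
  have hPS : P ≤ S := hP.1
  have hPR₀ : P ≤ NK S P (Vm F p P) := le_NK_Vm hS F hPS
  have hR₀S : NK S P (Vm F p P) ≤ S := NK_le S P _
  have hfinR₀ : Finite (NK S P (Vm F p P)) := finite_NK P _
  have hcard : Nat.card P < Nat.card (NK S P (Vm F p P)) := card_lt_card_of_lt (lt_of_le_of_ne hPR₀ hne)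
  obtain ⟨Q₀, hconj, hQ₀a, hQ₀r⟩ := hbig _ hR₀S hcard
  have hfkn := isFullyKNormalized_NK_Vm hS F hP
  obtain ⟨hrec, haut⟩ := kpackage hS F hconj hQ₀a hQ₀r _ hfkn
  have hnorm : ∀ n ∈ normalizerIn S P, n ∈ Subgroup.normalizer ((NK S P (Vm F p P) : Subgroup Ω) : Set Ω) :=
    fun n hn => normalizerIn_le_normalizer_NK_Vm F p hPS hn
  generalize NK S P (Vm F p P) = R₀ at hPR₀ hR₀S hfinR₀ hrec haut hnorm hext
  have hfinM : Finite (MulAut R₀) := finite_mulAut_of_le hR₀S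
  -- the restriction map
  let f : ↥(stb R₀ P ⊓ F.autGroup R₀) →* MulAut P := (rstb R₀ P hPR₀).comp (Subgroup.inclusion inf_le_left)
  have hfx : ∀ (l : ↥(stb R₀ P ⊓ F.autGroup R₀)) (x : P),
      ((f l x : P) : Ω) = (((l : MulAut R₀) ⟨x, hPR₀ x.2⟩ : R₀) : Ω) := fun _ _ => rfl
  have hASp : IsPGroup p ((stb R₀ P ⊓ autInducedBy S R₀).subgroupOf (stb R₀ P ⊓ F.autGroup R₀)) :=
    ((isPGroup_autInducedBy hS R₀).to_le inf_le_right).comap_subtype
  have hidx : ¬ p ∣ ((stb R₀ P ⊓ autInducedBy S R₀).subgroupOf (stb R₀ P ⊓ F.autGroup R₀)).index := haut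
  -- conjugation by elements of `N_S(P)`
  have hcstb : ∀ (n : Ω) (hn : n ∈ normalizerIn S P), conjAut R₀ n (hnorm n hn) ∈ stb R₀ P := fun n hn x =>
    Subgroup.mem_normalizer_iff.mp hn.2 (x : Ω)
  have hcS : ∀ (n : Ω) (hn : n ∈ normalizerIn S P), conjAut R₀ n (hnorm n hn) ∈ autInducedBy S R₀ := fun n hn =>
    conjAut_mem_autInducedBy S R₀ hn.1 (hnorm n hn)
  have hcF : ∀ (n : Ω) (hn : n ∈ normalizerIn S P), conjAut R₀ n (hnorm n hn) ∈ F.autGroup R₀ := fun n hn =>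
    autInducedBy_le_autGroup F hR₀S (hcS n hn)
  have hfc : ∀ (n : Ω) (hn : n ∈ normalizerIn S P),
      f ⟨conjAut R₀ n (hnorm n hn), hcstb n hn, hcF n hn⟩ = conjAut P n hn.2 := by
    intro n hn
    ext x
    rfl
  refine ⟨hPS, fun A φ hφ hrange => ?_⟩
  have hf₀ := isIso_isoOfRange F hφ hrange
  set f₀ : A ≃* P := isoOfRange F hφ hrange with hf₀def
  have hf₀x : ∀ x : A, ((f₀ x : P) : Ω) = φ x := fun x => rfl
  have hAS : A ≤ S := hf₀.le_left
  have hA : F.IsConj P A := isConj_symm F ⟨φ, hφ, hrange⟩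
  obtain ⟨a, θ, hθ, hθx⟩ := hgood A hA
  have haiso : IsIso F a := NLift.isIso ⟨θ, hθ, hθx⟩ hAS
  have hα : (a.symm.trans f₀ : MulAut P) ∈ F.autGroup P :=
    (mem_autGroup_iff F hPS _).mpr (haiso.symm.trans hf₀)
  obtain ⟨α', hα'F, hα'x⟩ := hext _ hα
  have hα'P : α' ∈ stb R₀ P := by
    intro x
    constructor
    · intro hx
      have h1 := hα'x ⟨x, hx⟩ x.2
      have h2 : (⟨((⟨(x : Ω), hx⟩ : P) : Ω), x.2⟩ : R₀) = x := Subtype.ext rfl
      rw [h2] at h1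
      rw [h1]
      exact ((a.symm.trans f₀ : MulAut P) _).2
    · intro hx
      have h1 := hα'x ((a.symm.trans f₀ : MulAut P)⁻¹ ⟨_, hx⟩) (hPR₀ ((a.symm.trans f₀ : MulAut P)⁻¹ ⟨_, hx⟩).2)
      rw [MulAut.apply_inv_self] at h1
      have h2 : α' ⟨_, hPR₀ ((a.symm.trans f₀ : MulAut P)⁻¹ ⟨_, hx⟩).2⟩ = α' x := Subtype.ext h1
      have h3 := α'.injective h2
      rw [← h3]
      exact ((a.symm.trans f₀ : MulAut P)⁻¹ ⟨_, hx⟩).2
  have hfα' : f ⟨α', hα'P, hα'F⟩ = (a.symm.trans f₀ : MulAut P) := by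
    ext x
    rw [hfx]
    exact hα'x x _
  generalize hαdef : (a.symm.trans f₀ : MulAut P) = α at hα hα'x hfα'
  generalize hαLdef : (⟨α', hα'P, hα'F⟩ : ↥(stb R₀ P ⊓ F.autGroup R₀)) = αL at hfα'
  -- the subgroups `W`, `D`
  have hASW : (stb R₀ P ⊓ autInducedBy S R₀).subgroupOf (stb R₀ P ⊓ F.autGroup R₀) ≤
      (autInducedBy S P).comap f := by
    intro l hl
    rw [Subgroup.mem_subgroupOf] at hl
    obtain ⟨n, hnS, hnx⟩ := (mem_autInducedBy_iff S R₀ _).mp hl.2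
    rw [Subgroup.mem_comap, mem_autInducedBy_iff]
    refine ⟨n, hnS, fun x => ?_⟩
    rw [hfx, hnx]
  have hidxW : ¬ p ∣ ((stb R₀ P ⊓ autInducedBy S R₀).subgroupOf (stb R₀ P ⊓ F.autGroup R₀)).relIndex
      ((autInducedBy S P).comap f) := fun h => hidx (h.trans (Subgroup.relIndex_dvd_index_of_le hASW))
  set D : Subgroup ↥(stb R₀ P ⊓ F.autGroup R₀) :=
    (stb R₀ P ⊓ autInducedBy S R₀).subgroupOf (stb R₀ P ⊓ F.autGroup R₀) ⊓
      (autInducedBy S P).comap ((MulAut.conj α).toMonoidHom.comp f) with hDdef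
  have hDp : IsPGroup p D := hASp.to_le inf_le_left
  have hBp : IsPGroup p (D.map (MulAut.conj αL).toMonoidHom) := hDp.map _
  have hBW : D.map (MulAut.conj αL).toMonoidHom ≤ (autInducedBy S P).comap f := by
    rintro _ ⟨d, hd, rfl⟩
    rw [Subgroup.mem_comap]
    have h1 : f ((MulAut.conj αL).toMonoidHom d) = α * f d * α⁻¹ := by
      show f (αL * d * αL⁻¹) = _
      rw [map_mul, map_mul, map_inv, hfα']
    rw [h1]
    exact hd.2
  obtain ⟨w, hwW, hwB⟩ := exists_conj_le_of_relIndex _ _ _ hASW hASp hidxW hBW hBp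
  -- the correction
  obtain ⟨nw, hnwS, hnwx⟩ := (mem_autInducedBy_iff S P _).mp (Subgroup.mem_comap.mp hwW)
  have hnwP : nw ∈ Subgroup.normalizer (P : Set Ω) := mem_normalizer_of_conj_eq _ nw hnwx
  have hnwN : nw ∈ normalizerIn S P := ⟨hnwS, hnwP⟩
  have hfw : f w = conjAut P nw hnwP := eq_conjAut_of_conj_eq _ nw hnwx
  set ωL : ↥(stb R₀ P ⊓ F.autGroup R₀) := ⟨conjAut R₀ nw (hnorm nw hnwN), hcstb nw hnwN, hcF nw hnwN⟩ with hωLdef
  have hfω : f ωL = f w := by rw [hfw]; exact hfc nw hnwN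
  have hωAS : ωL ∈ (stb R₀ P ⊓ autInducedBy S R₀).subgroupOf (stb R₀ P ⊓ F.autGroup R₀) :=
    Subgroup.mem_subgroupOf.mpr ⟨hcstb nw hnwN, hcS nw hnwN⟩
  have hfβ : f (ωL⁻¹ * w * αL) = α := by
    rw [map_mul, map_mul, map_inv, hfω, inv_mul_cancel, one_mul, hfα']
  have hβAS : ∀ d ∈ D, (ωL⁻¹ * w * αL) * d * (ωL⁻¹ * w * αL)⁻¹ ∈
      (stb R₀ P ⊓ autInducedBy S R₀).subgroupOf (stb R₀ P ⊓ F.autGroup R₀) := by
    intro d hd
    have h1 := hwB _ ⟨d, hd, rfl⟩
    have h2 : (ωL⁻¹ * w * αL) * d * (ωL⁻¹ * w * αL)⁻¹ =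
        ωL⁻¹ * (w * ((MulAut.conj αL).toMonoidHom d) * w⁻¹) * ωL := by
      show _ = ωL⁻¹ * (w * (αL * d * αL⁻¹) * w⁻¹) * ωL
      group
    rw [h2]
    exact Subgroup.mul_mem _ (Subgroup.mul_mem _ (Subgroup.inv_mem _ hωAS) h1) hωAS
  generalize ωL⁻¹ * w * αL = β at hfβ hβAS
  -- extend `β`
  have hβF : (β : MulAut R₀) ∈ F.autGroup R₀ := β.2.2
  have hφ' : R₀.subtype.comp ((β : MulAut R₀) : R₀ ≃* R₀).toMonoidHom ∈ F.Hom R₀ :=
    (mem_autGroup_iff F hR₀S _).mp hβF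
  have hrange' : (R₀.subtype.comp ((β : MulAut R₀) : R₀ ≃* R₀).toMonoidHom).range = R₀ :=
    range_subtype_comp_equiv ((β : MulAut R₀) : R₀ ≃* R₀)
  obtain ⟨ψ₃, hψ₃, hψ₃x⟩ := hrec.2 R₀ _ hφ' hrange'
  have hθN : ∀ g : normalizerIn S A, θ g ∈ normalizerIn S P := fun g =>
    map_mem_normalizerIn F hθ (le_normalizerIn hAS) a (fun x => (hθx x _).symm) g g.2.2
  have hNφ : extender S A φ ≤ normalizerIn S A := by
    intro g hg
    obtain ⟨hgS, hgN, -⟩ := (mem_extender_iff S A φ g).mp hg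
    exact ⟨hgS, hgN⟩
  have hvals : ∀ g : extender S A φ, (θ.comp (Subgroup.inclusion hNφ)) g ∈
      extender S R₀ (R₀.subtype.comp ((β : MulAut R₀) : R₀ ≃* R₀).toMonoidHom) := by
    intro g
    have hn : θ ⟨g, hNφ g.2⟩ ∈ normalizerIn S P := hθN _
    have hdD : (⟨conjAut R₀ (θ ⟨g, hNφ g.2⟩) (hnorm _ hn), hcstb _ hn, hcF _ hn⟩ :
        ↥(stb R₀ P ⊓ F.autGroup R₀)) ∈ D := by
      refine ⟨Subgroup.mem_subgroupOf.mpr ⟨hcstb _ hn, hcS _ hn⟩, ?_⟩
      show α * f _ * α⁻¹ ∈ autInducedBy S P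
      rw [hfc _ hn, ← hαdef]
      exact twisted_conj_mem hAS a hθx f₀ hf₀x g g.2 (hNφ g.2) hn.2
    have h1 := hβAS _ hdD
    have h2 : (β : MulAut R₀) * conjAut R₀ (θ ⟨g, hNφ g.2⟩) (hnorm _ hn) * (β : MulAut R₀)⁻¹ ∈
        autInducedBy S R₀ := (Subgroup.mem_subgroupOf.mp h1).2
    obtain ⟨h, hhS, hh⟩ := (mem_autInducedBy_iff S R₀ _).mp h2
    show θ ⟨g, hNφ g.2⟩ ∈ _
    rw [mem_extender_iff]
    refine ⟨hn.1, hnorm _ hn, h, hhS, fun x hx => ?_⟩
    have h3 := hh ((β : MulAut R₀) x)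
    rw [MulAut.mul_apply, MulAut.mul_apply, MulAut.inv_apply_self] at h3
    exact h3
  have hθ₀ : θ.comp (Subgroup.inclusion hNφ) ∈ F.Hom (extender S A φ) := restrict_mem F hθ hNφ
  have hψ := F.comp_mem hθ₀ hψ₃ hvals
  refine ⟨_, hψ, fun x hxA hxN => ?_⟩
  show ψ₃ ⟨θ ⟨x, hNφ hxN⟩, hvals ⟨x, hxN⟩⟩ = φ ⟨x, hxA⟩
  have h1 : θ ⟨x, hNφ hxN⟩ = a ⟨x, hxA⟩ := hθx ⟨x, hxA⟩ _
  have hE : ((a ⟨x, hxA⟩ : P) : Ω) ∈ extender S R₀ (R₀.subtype.comp ((β : MulAut R₀) : R₀ ≃* R₀).toMonoidHom) := by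
    rw [← h1]
    exact hvals ⟨x, hxN⟩
  have h2 := hψ₃x _ (hPR₀ (a ⟨x, hxA⟩).2) hE
  have h3 : (⟨θ ⟨x, hNφ hxN⟩, hvals ⟨x, hxN⟩⟩ :
      extender S R₀ (R₀.subtype.comp ((β : MulAut R₀) : R₀ ≃* R₀).toMonoidHom)) = ⟨_, hE⟩ := Subtype.ext h1
  rw [h3, h2]
  show (((β : MulAut R₀) ⟨_, hPR₀ (a ⟨x, hxA⟩).2⟩ : R₀) : Ω) = _
  rw [← hfx β (a ⟨x, hxA⟩), hfβ, ← hαdef]
  show ((f₀ (a.symm (a ⟨x, hxA⟩)) : P) : Ω) = _
  rw [MulEquiv.symm_apply_apply, hf₀x]

/-- A subgroup conjugate to `S` in the system is `S`. -/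
theorem eq_of_isConj_top [Finite S] (F : FusionSystem S) {Q : Subgroup Ω} (h : F.IsConj S Q) : Q = S := by
  obtain ⟨e, he⟩ := (isConj_iff F S Q).mp h
  have hQS : Q ≤ S := he.le_right
  have hcard : Nat.card S = Nat.card Q := Nat.card_congr e.toEquiv
  by_contra hne
  have hlt : Q < S := lt_of_le_of_ne hQS hne
  have := card_lt_card_of_lt hlt
  omega

theorem autInducedBy_self_le_inn (S : Subgroup Ω) : autInducedBy S S ≤ Inn S := by
  intro χ hχ
  obtain ⟨g, hg, hgx⟩ := (mem_autInducedBy_iff S S χ).mp hχ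
  refine ⟨⟨g, hg⟩, ?_⟩
  ext x
  rw [hgx]
  rfl

/-- The saturation criterion of Broto–Castellana–Grodal–Levi–Oliver. -/
theorem saturated_of_criterion [Finite S] (p : ℕ) [Fact p.Prime] (hS : IsPGroup p S) (F : FusionSystem S)
    (ℋ : Set (Subgroup Ω)) (hℋconj : ∀ P ∈ ℋ, ∀ Q, F.IsConj P Q → Q ∈ ℋ)
    (hsat : ∀ P ∈ ℋ, ∃ Q, F.IsConj P Q ∧ F.IsFullyAutomized p Q ∧ F.IsReceptive Q)
    (hgen : ∀ E : FusionSystem S, (∀ P ∈ ℋ, F.Hom P ⊆ E.Hom P) → F ≤ E)
    (hstar : ∀ P : Subgroup Ω, F.IsCentric P → P ∉ ℋ → ∃ Q, F.IsConj P Q ∧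
      ¬ (autInducedBy S Q ⊓ (pCore p ↥(F.autGroup Q)).map (F.autGroup Q).subtype ≤ Inn Q)) :
    F.IsSaturated p := by
  have main : ∀ n : ℕ, ∀ P : Subgroup Ω, P ≤ S → Nat.card S - Nat.card P = n →
      ∃ Q, F.IsConj P Q ∧ F.IsFullyAutomized p Q ∧ F.IsReceptive Q := by
    intro n
    induction n using Nat.strong_induction_on with
    | _ n ih =>
    intro P hPS hn
    by_cases hPℋ : P ∈ ℋ
    · exact hsat P hPℋ
    have hclass : ∀ A, F.IsConj P A → A ∉ ℋ := fun A hA hAℋ => hPℋ (hℋconj A hAℋ P (isConj_symm F hA))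
    have hbig : ∀ R : Subgroup Ω, R ≤ S → Nat.card P < Nat.card R →
        ∃ Q, F.IsConj R Q ∧ F.IsFullyAutomized p Q ∧ F.IsReceptive Q := by
      intro R hRS hlt
      have : Nat.card R ≤ Nat.card S := Subgroup.card_le_of_le hRS
      exact ih (Nat.card S - Nat.card R) (by omega) R hRS rfl
    rcases eq_or_lt_of_le hPS with heq | hlt
    · exfalso
      have hSℋ : S ∉ ℋ := heq ▸ hPℋ
      have hcen : F.IsCentric S := ⟨le_rfl, fun Q hQ => by rw [eq_of_isConj_top F hQ]; exact inf_le_left⟩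
      obtain ⟨Q, hQ, hQn⟩ := hstar S hcen hSℋ
      have hQS := eq_of_isConj_top F hQ
      subst hQS
      exact hQn (inf_le_left.trans (autInducedBy_self_le_inn _))
    obtain ⟨P', hPP', hP'n⟩ := exists_isConj_fullyNormalized F hPS
    have hP'S : P' ≤ S := hP'n.1
    have hcardPP' : Nat.card P = Nat.card P' := Cfsg.Agent.Helper84.card_eq_of_isConj F hPP'
    have hcardPS : Nat.card P < Nat.card S := card_lt_card_of_lt hlt
    have hP'lt : P' < S := by
      refine lt_of_le_of_ne hP'S (fun h => ?_)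
      rw [h] at hcardPP'
      omega
    have hclass' : ∀ A, F.IsConj P' A → A ∉ ℋ := fun A hA => hclass A (isConj_trans F hPP' hA)
    have hbig' : ∀ R : Subgroup Ω, R ≤ S → Nat.card P' < Nat.card R →
        ∃ Q, F.IsConj R Q ∧ F.IsFullyAutomized p Q ∧ F.IsReceptive Q := by
      intro R hRS hltR
      exact hbig R hRS (by omega)
    have hgood := all_good hS F ℋ hgen hP'n hP'lt hclass' hbig'
    have hne : P' ≠ NK S P' (Vm F p P') := by
      by_cases hcen : F.IsCentric P'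
      · obtain ⟨Q, hQ, hQn⟩ := hstar P' hcen (hclass' P' (isConj_refl F hP'S))
        exact ne_NK_Vm_of_star F hgood hQ hQn
      · exact ne_NK_Vm_of_not_centric F hP'S hgood hcen
    have hext := extR_all hS F ℋ hgen hP'lt hclass' hbig' hgood
    have hrec := receptive_of_extR hS F hP'n hbig' hgood hne hext
    have hltN : P' < normalizerIn S P' := lt_normalizerIn hS hP'lt
    have hNS : normalizerIn S P' ≤ S := inf_le_left
    have hfinN : Finite (normalizerIn S P') := finite_of_le hNS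
    obtain ⟨N', hconjN, hN'a, -⟩ := hbig' _ hNS (card_lt_card_of_lt hltN)
    exact ⟨P', hPP', isFullyAutomized_of_normalizer hS F hP'n hrec hconjN hN'a, hrec⟩
  intro P hPS
  exact main _ P hPS rfl

end Cfsg.Agent.Helper84
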