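-- helper84: the unitriangular subgroup of `SL_n(F)` is generated by its root elements.
import Mathlib
import Cfsg.Agent.Helper14.AutSylow3

set_option autoImplicit false
set_option linter.unusedSectionVars false

namespace Cfsg.Agent.Helper84.PSLn

open Matrix Cfsg.Agent.Helper14.AutPSL

variable {n : ℕ} {F : Type*} [Field F]

/-- the root elements `1 + r E_{ij}`, `i < j` -/
def rootSet (n : ℕ) (F : Type*) [Field F] : Set (Matrix.SpecialLinearGroup (Fin n) F) :=
  {x | ∃ (i j : Fin n) (hij : i < j) (r : F),
    x = tv (r • Pi.single i 1) (Pi.single j 1) (single_dot_smul_single (ne_of_lt hij) r)}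

/-- the positions above the diagonal with a nonzero entry -/
noncomputable def usupp (u : Matrix.SpecialLinearGroup (Fin n) F) : Finset (Fin n × Fin n) :=
  by classical exact Finset.univ.filter (fun q => q.1 < q.2 ∧ u.1 q.1 q.2 ≠ 0)

theorem mem_usupp {u : Matrix.SpecialLinearGroup (Fin n) F} {q : Fin n × Fin n} :
    q ∈ usupp u ↔ q.1 < q.2 ∧ u.1 q.1 q.2 ≠ 0 := by
  classical
  unfold usupp
  simp only [Finset.mem_filter, Finset.mem_univ, true_and]

theorem tv_single_mul_apply {i j : Fin n} (hij : i ≠ j) (r : F) (u : Matrix.SpecialLinearGroup (Fin n) F)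
    (a b : Fin n) :
    (tv (r • Pi.single i 1) (Pi.single j 1) (single_dot_smul_single hij r) * u).1 a b =
      u.1 a b + (if a = i then r else 0) * u.1 j b := by
  rw [Matrix.SpecialLinearGroup.coe_mul, tv_coe, Matrix.add_mul, Matrix.one_mul, Matrix.add_apply,
    vecMulVec_mul, vecMulVec_apply, single_one_vecMul, Matrix.row_apply, Pi.smul_apply, Pi.single_apply,
    smul_eq_mul]
  congr 2
  by_cases h : a = i
  · rw [if_pos h, if_pos h, mul_one]
  · rw [if_neg h, if_neg h, mul_zero]

theorem mem_closure_rootSet_of_card : ∀ k : ℕ, ∀ u ∈ UT n F, (usupp u).card = k →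
    u ∈ Subgroup.closure (rootSet n F) := by
  intro k
  induction k with
  | zero =>
    intro u hu hk
    have h1 : u = 1 := by
      apply Subtype.ext
      ext i j
      rw [Matrix.SpecialLinearGroup.coe_one, Matrix.one_apply]
      by_cases hji : j ≤ i
      · exact mem_UT.mp hu i j hji
      · have hij : i < j := not_le.mp hji
        rw [if_neg (ne_of_lt hij)]
        by_contra h0
        have hmem : (i, j) ∈ usupp u := mem_usupp.mpr ⟨hij, h0⟩
        rw [Finset.card_eq_zero.mp hk] at hmem
        exact absurd hmem (Finset.notMem_empty _)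
    rw [h1]
    exact one_mem _
  | succ k ih =>
    intro u hu hk
    have hne : (usupp u).Nonempty := by
      rw [← Finset.card_pos, hk]
      omega
    obtain ⟨q, hq, hmax⟩ := Finset.exists_max_image (usupp u) (fun q => q.1) hne
    obtain ⟨i, j⟩ := q
    have hij : i < j := (mem_usupp.mp hq).1
    have hrow : ∀ b, u.1 j b = if j = b then 1 else 0 := by
      intro b
      by_cases hbj : b ≤ j
      · exact mem_UT.mp hu j b hbj
      · have hjb : j < b := not_le.mp hbj
        rw [if_neg (ne_of_lt hjb)]
        by_contra h0
        have hmem : (j, b) ∈ usupp u := mem_usupp.mpr ⟨hjb, h0⟩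
        have := hmax (j, b) hmem
        exact absurd hij (not_lt.mpr this)
    have hx : tv ((-(u.1 i j)) • Pi.single i 1) (Pi.single j 1) (single_dot_smul_single (ne_of_lt hij) _) ∈
        UT n F := tv_single_mem_UT hij _
    have hu' := (UT n F).mul_mem hx hu
    have hent : ∀ a b : Fin n,
        (tv ((-(u.1 i j)) • Pi.single i 1) (Pi.single j 1) (single_dot_smul_single (ne_of_lt hij) _) * u).1 a b =
          if a = i ∧ b = j then 0 else u.1 a b := by
      intro a b
      rw [tv_single_mul_apply (ne_of_lt hij), hrow]
      by_cases ha : a = i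
      · by_cases hb : b = j
        · rw [if_pos ha, if_pos hb.symm, if_pos (show a = i ∧ b = j from ⟨ha, hb⟩), ha, hb, mul_one,
            add_neg_cancel]
        · rw [if_neg (Ne.symm hb), if_neg (show ¬(a = i ∧ b = j) from fun h => hb h.2), mul_zero, add_zero]
      · rw [if_neg ha, if_neg (show ¬(a = i ∧ b = j) from fun h => ha h.1), zero_mul, add_zero]
    have hsupp : usupp (tv ((-(u.1 i j)) • Pi.single i 1) (Pi.single j 1)
        (single_dot_smul_single (ne_of_lt hij) _) * u) = (usupp u).erase (i, j) := by
      ext ⟨a, b⟩
      rw [Finset.mem_erase, mem_usupp, mem_usupp, hent]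
      by_cases hab : a = i ∧ b = j
      · rw [if_pos hab]
        constructor
        · intro h
          exact absurd rfl h.2
        · intro h
          exfalso
          apply h.1
          rw [hab.1, hab.2]
      · rw [if_neg hab]
        constructor
        · intro h
          refine ⟨fun he => hab ?_, h⟩
          have h1 := congrArg Prod.fst he
          have h2 := congrArg Prod.snd he
          exact ⟨h1, h2⟩
        · intro h
          exact h.2
    have hcard : (usupp (tv ((-(u.1 i j)) • Pi.single i 1) (Pi.single j 1)
        (single_dot_smul_single (ne_of_lt hij) _) * u)).card = k := by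
      rw [hsupp, Finset.card_erase_of_mem hq, hk]
      rfl
    have h1 := ih _ hu' hcard
    have h2 : tv ((-(u.1 i j)) • Pi.single i 1) (Pi.single j 1) (single_dot_smul_single (ne_of_lt hij) _) ∈
        Subgroup.closure (rootSet n F) := Subgroup.subset_closure ⟨i, j, hij, _, rfl⟩
    have h3 := mul_mem (inv_mem h2) h1
    rwa [inv_mul_cancel_left] at h3

/-- the unitriangular group is generated by the root elements -/
theorem UT_le_closure_rootSet : UT n F ≤ Subgroup.closure (rootSet n F) :=
  fun u hu => mem_closure_rootSet_of_card _ u hu rfl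

end Cfsg.Agent.Helper84.PSLn
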