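import Mathlib
set_option autoImplicit false

namespace Cfsg.Agent.Helper84

/-- A `p`-subgroup `B` of a finite group `A` that is the image of a subgroup of index prime to `p` under a homomorphism
whose range contains the normalizer of `B` is a Sylow `p`-subgroup of `A`. -/
theorem exists_sylow_eq_of_map {A K : Type*} [Group A] [Finite A] [Group K] [Finite K] {p : ℕ} [Fact p.Prime]
    (B : Subgroup A) (hB : IsPGroup p B) (f : K →* A) (P : Subgroup K) (hP : ¬ p ∣ P.index)
    (hPB : P.map f = B) (hN : Subgroup.normalizer (B : Set A) ≤ f.range) :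
    ∃ R : Sylow p A, (R : Subgroup A) = B := by
  obtain ⟨T, hT⟩ := hB.exists_le_sylow
  refine ⟨T, ?_⟩
  by_contra hne
  have hlt : B < (T : Subgroup A) := lt_of_le_of_ne hT (Ne.symm hne)
  have hTp : IsPGroup p (T : Subgroup A) := T.2
  have : Group.IsNilpotent (T : Subgroup A) := hTp.isNilpotent
  have hlt' : B.subgroupOf (T : Subgroup A) < ⊤ := by
    rw [lt_top_iff_ne_top, Ne, Subgroup.subgroupOf_eq_top]
    exact not_le_of_gt hlt
  have h1 := Group.normalizerCondition_of_isNilpotent (G := (T : Subgroup A)) (B.subgroupOf (T : Subgroup A)) hlt'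
  obtain ⟨s, hs1, hs2⟩ := SetLike.exists_of_lt h1
  -- `s ∈ T` normalizes `B` but is not in `B`
  have hsB : (s : A) ∉ B := fun h => hs2 (Subgroup.mem_subgroupOf.mpr h)
  have hsN : (s : A) ∈ Subgroup.normalizer (B : Set A) := by
    rw [Subgroup.mem_normalizer_iff]
    intro b
    rw [Subgroup.mem_normalizer_iff] at hs1
    constructor
    · intro hb
      have := (hs1 ⟨b, hT hb⟩).mp (Subgroup.mem_subgroupOf.mpr hb)
      exact Subgroup.mem_subgroupOf.mp this
    · intro hb
      have hbT : b ∈ (T : Subgroup A) := by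
        have h2 : s.1 * b * s.1⁻¹ ∈ (T : Subgroup A) := hT hb
        have h3 : b = s.1⁻¹ * (s.1 * b * s.1⁻¹) * s.1 := by group
        rw [h3]
        exact (T : Subgroup A).mul_mem ((T : Subgroup A).mul_mem ((T : Subgroup A).inv_mem s.2) h2) s.2
      have := (hs1 ⟨b, hbT⟩).mpr (Subgroup.mem_subgroupOf.mpr hb)
      exact Subgroup.mem_subgroupOf.mp this
  -- the subgroup `B₁ = B ⊔ ⟨s⟩`, inside `T ⊓ N_A(B)`
  set B₁ : Subgroup A := (T : Subgroup A) ⊓ Subgroup.normalizer (B : Set A) with hB₁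
  have hBB₁ : B ≤ B₁ := le_inf hT Subgroup.le_normalizer
  have hB₁R : B₁ ≤ f.range := inf_le_right.trans hN
  have hsB₁ : (s : A) ∈ B₁ := ⟨s.2, hsN⟩
  have hB₁p : IsPGroup p B₁ := hTp.to_le inf_le_left
  -- index computations
  have hmul := Subgroup.relIndex_mul_relIndex B B₁ f.range hBB₁ hB₁R
  have hdvd1 : B.relIndex B₁ ∣ B.relIndex f.range := Dvd.intro _ hmul
  have hdvd2 : B.relIndex f.range ∣ P.index := by
    have h3 : (P.map f.rangeRestrict).index ∣ P.index :=
      Subgroup.index_map_dvd P f.rangeRestrict_surjective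
    have h4 : P.map f.rangeRestrict = B.subgroupOf f.range := by
      ext ⟨y, hy⟩
      rw [Subgroup.mem_subgroupOf, ← hPB]
      constructor
      · rintro ⟨x, hx, hxy⟩
        exact ⟨x, hx, congrArg Subtype.val hxy⟩
      · rintro ⟨x, hx, hxy⟩
        exact ⟨x, hx, Subtype.ext hxy⟩
    rw [h4] at h3
    exact h3
  have hpdvd : p ∣ B.relIndex B₁ := by
    have hne1 : B.relIndex B₁ ≠ 1 := by
      intro h1'
      rw [Subgroup.relIndex_eq_one] at h1'
      exact hsB (h1' hsB₁)
    obtain ⟨k, hk⟩ := (IsPGroup.iff_card.mp hB₁p)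
    have hd : B.relIndex B₁ ∣ Nat.card B₁ := by
      rw [Subgroup.relIndex]
      exact Subgroup.index_dvd_card _
    rw [hk] at hd
    obtain ⟨j, -, hj⟩ := (Nat.dvd_prime_pow (Fact.out : p.Prime)).mp hd
    rw [hj]
    rcases j with _ | j
    · exact absurd (by rw [hj]; rfl) hne1
    · exact dvd_pow_self p (Nat.succ_ne_zero j)
  exact hP (hpdvd.trans (hdvd1.trans hdvd2))

end Cfsg.Agent.Helper84
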