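import Cfsg.Agent.Helper87.FusionRS
import Cfsg.Agent.Helper84.SylowImage
set_option autoImplicit false

namespace Cfsg.Agent.Helper84

open Cfsg Cfsg.FusionSystem Cfsg.Agent.Helper87

/-- A subgroup containing all `p`-elements has index prime to `p`. -/
theorem not_dvd_index_of_forall_pElement {K : Type*} [Group K] [Finite K] {p : ℕ} [Fact p.Prime] (P : Subgroup K)
    (h : ∀ g : K, (∃ k : ℕ, g ^ p ^ k = 1) → g ∈ P) : ¬ p ∣ P.index := by
  obtain ⟨T⟩ : Nonempty (Sylow p K) := inferInstance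
  have hTP : (T : Subgroup K) ≤ P := by
    intro g hg
    obtain ⟨k, hk⟩ := T.2 ⟨g, hg⟩
    exact h g ⟨k, by simpa using congrArg Subtype.val hk⟩
  intro hdvd
  exact T.not_dvd_index (hdvd.trans (Subgroup.index_dvd_of_le hTP))

variable {Ω : Type*} [Group Ω] {S : Subgroup Ω}

/-- The automorphisms of the system on `N` that stabilize the subgroup `Q`. -/
def stabAut (F : FusionSystem S) (N Q : Subgroup Ω) : Subgroup (MulAut N) where
  carrier := {β | β ∈ F.autGroup N ∧ ∀ x : N, (x : Ω) ∈ Q ↔ ((β x : N) : Ω) ∈ Q}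
  one_mem' := ⟨Subgroup.one_mem _, fun _ => Iff.rfl⟩
  mul_mem' := by
    rintro a b ⟨ha, ha'⟩ ⟨hb, hb'⟩
    refine ⟨Subgroup.mul_mem _ ha hb, fun x => ?_⟩
    rw [MulAut.mul_apply, hb' x, ha' (b x)]
  inv_mem' := by
    rintro a ⟨ha, ha'⟩
    refine ⟨Subgroup.inv_mem _ ha, fun x => ?_⟩
    rw [ha' (a⁻¹ x), MulAut.apply_inv_self]

theorem mem_stabAut_iff (F : FusionSystem S) (N Q : Subgroup Ω) (β : MulAut N) :
    β ∈ stabAut F N Q ↔ β ∈ F.autGroup N ∧ ∀ x : N, (x : Ω) ∈ Q ↔ ((β x : N) : Ω) ∈ Q := Iff.rfl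

/-- Restriction of an automorphism of `N` stabilizing `Q ≤ N` to `Q`. -/
def resAutOf {N Q : Subgroup Ω} (hQN : Q ≤ N) (β : MulAut N)
    (h : ∀ x : N, (x : Ω) ∈ Q ↔ ((β x : N) : Ω) ∈ Q) : MulAut Q where
  toFun x := ⟨((β ⟨x, hQN x.2⟩ : N) : Ω), (h ⟨x, hQN x.2⟩).mp x.2⟩
  invFun y := ⟨((β.symm ⟨y, hQN y.2⟩ : N) : Ω), (h (β.symm ⟨y, hQN y.2⟩)).mpr (by
    rw [MulEquiv.apply_symm_apply]; exact y.2)⟩
  left_inv x := by
    apply Subtype.ext
    show ((β.symm ⟨((β ⟨x, hQN x.2⟩ : N) : Ω), _⟩ : N) : Ω) = x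
    have : (⟨((β ⟨x, hQN x.2⟩ : N) : Ω), hQN ((h ⟨x, hQN x.2⟩).mp x.2)⟩ : N) = β ⟨x, hQN x.2⟩ := Subtype.ext rfl
    rw [this, MulEquiv.symm_apply_apply]
  right_inv y := by
    apply Subtype.ext
    show ((β ⟨((β.symm ⟨y, hQN y.2⟩ : N) : Ω), _⟩ : N) : Ω) = y
    have : (⟨((β.symm ⟨y, hQN y.2⟩ : N) : Ω), (β.symm ⟨y, hQN y.2⟩).2⟩ : N) = β.symm ⟨y, hQN y.2⟩ := Subtype.ext rfl
    rw [this, MulEquiv.apply_symm_apply]
  map_mul' x y := by
    apply Subtype.ext
    show ((β ⟨((x * y : Q) : Ω), _⟩ : N) : Ω) = ((β ⟨x, hQN x.2⟩ : N) : Ω) * ((β ⟨y, hQN y.2⟩ : N) : Ω)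
    rw [← Subgroup.coe_mul, ← map_mul]
    rfl

theorem resAutOf_apply {N Q : Subgroup Ω} (hQN : Q ≤ N) (β : MulAut N)
    (h : ∀ x : N, (x : Ω) ∈ Q ↔ ((β x : N) : Ω) ∈ Q) (x : Q) :
    ((resAutOf hQN β h x : Q) : Ω) = ((β ⟨x, hQN x.2⟩ : N) : Ω) := rfl

/-- The restriction homomorphism from the stabilizer of `Q` in `Aut_F(N)` to `Aut(Q)`. -/
def resHom (F : FusionSystem S) {N Q : Subgroup Ω} (hQN : Q ≤ N) : stabAut F N Q →* MulAut Q where
  toFun β := resAutOf hQN β.1 β.2.2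
  map_one' := by
    ext x
    rfl
  map_mul' a b := by
    ext x
    rfl

theorem resHom_apply (F : FusionSystem S) {N Q : Subgroup Ω} (hQN : Q ≤ N) (β : stabAut F N Q) (x : Q) :
    ((resHom F hQN β x : Q) : Ω) = (((β : MulAut N) ⟨x, hQN x.2⟩ : N) : Ω) := rfl

theorem resHom_mem_autGroup (F : FusionSystem S) {N Q : Subgroup Ω} (hQN : Q ≤ N) (hNS : N ≤ S)
    (β : stabAut F N Q) : resHom F hQN β ∈ F.autGroup Q := by
  rw [mem_autGroup_iff F (hQN.trans hNS)]
  have hβ : IsIso F ((β : MulAut N) : N ≃* N) := (mem_autGroup_iff F hNS _).mp β.2.1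
  unfold IsIso at hβ ⊢
  exact mem_of_eq F (restrict_mem F hβ hQN) (fun x => rfl)

/-- `Aut_S(Q) ≤ Aut_F(Q)`. -/
theorem autInducedBy_le_autGroup (F : FusionSystem S) {Q : Subgroup Ω} (hQS : Q ≤ S) :
    autInducedBy S Q ≤ F.autGroup Q := by
  intro γ hγ
  obtain ⟨g, hg, hgx⟩ := (mem_autInducedBy_iff S Q γ).mp hγ
  rw [eq_conjAut_of_conj_eq γ g hgx, mem_autGroup_iff F hQS]
  exact isIso_conjAut F hQS hg _

/-- If `Q` is receptive, every automorphism of the system on `Q` normalizing `Aut_S(Q)` is the restriction of an automorphism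
of the system on `N_S(Q)` stabilizing `Q`. -/
theorem exists_stabAut_of_normalizes [Finite S] (F : FusionSystem S) {Q : Subgroup Ω} (hQr : F.IsReceptive Q)
    (α : MulAut Q) (hα : α ∈ F.autGroup Q)
    (hnorm : ∀ γ ∈ autInducedBy S Q, α * γ * α⁻¹ ∈ autInducedBy S Q) :
    ∃ β : stabAut F (normalizerIn S Q) Q, resHom F (le_normalizerIn hQr.1) β = α := by
  have hQS := hQr.1
  have hQN : Q ≤ normalizerIn S Q := le_normalizerIn hQS
  have hNS : normalizerIn S Q ≤ S := inf_le_left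
  have hαiso : IsIso F (α : Q ≃* Q) := (mem_autGroup_iff F hQS α).mp hα
  have hrange : (Q.subtype.comp (α : Q ≃* Q).toMonoidHom).range = Q := by
    ext y
    constructor
    · rintro ⟨x, rfl⟩
      exact (α x).2
    · intro hy
      refine ⟨α⁻¹ ⟨y, hy⟩, ?_⟩
      show ((α (α⁻¹ ⟨y, hy⟩) : Q) : Ω) = y
      rw [MulAut.apply_inv_self]
  obtain ⟨ψ, hψ, hψx⟩ := hQr.2 Q _ hαiso hrange
  have hNle : normalizerIn S Q ≤ extender S Q (Q.subtype.comp (α : Q ≃* Q).toMonoidHom) := by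
    rintro g ⟨hgS, hgN⟩
    rw [mem_extender_iff]
    refine ⟨hgS, hgN, ?_⟩
    have hc : conjAut Q g hgN ∈ autInducedBy S Q :=
      (mem_autInducedBy_iff S Q _).mpr ⟨g, hgS, fun x => rfl⟩
    obtain ⟨h, hh, hhx⟩ := (mem_autInducedBy_iff S Q _).mp (hnorm _ hc)
    refine ⟨h, hh, fun x hx => ?_⟩
    have h1 := hhx (α x)
    simp only [MulAut.mul_apply, MulAut.inv_apply_self] at h1
    show ((α ⟨g * x * g⁻¹, hx⟩ : Q) : Ω) = h * ((α x : Q) : Ω) * h⁻¹
    rw [← h1]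
    rfl
  have hψ' : ψ.comp (Subgroup.inclusion hNle) ∈ F.Hom (normalizerIn S Q) := restrict_mem F hψ hNle
  have hψ'Q : ∀ x : Q, (ψ.comp (Subgroup.inclusion hNle)) (Subgroup.inclusion hQN x) = ((α x : Q) : Ω) := by
    intro x
    exact hψx x.1 x.2 (hNle (hQN x.2))
  have hval : ∀ z : normalizerIn S Q, (ψ.comp (Subgroup.inclusion hNle)) z ∈ normalizerIn S Q := by
    intro z
    refine ⟨(F.le_of_mem hψ').2 z, ?_⟩
    refine map_mem_normalizer (ψ.comp (Subgroup.inclusion hNle)) hQN ?_ ?_ z z.2.2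
    · intro q
      rw [hψ'Q q]
      exact (α q).2
    · intro y hy
      refine ⟨α⁻¹ ⟨y, hy⟩, ?_⟩
      rw [hψ'Q, MulAut.apply_inv_self]
  have hinj : Function.Injective ((ψ.comp (Subgroup.inclusion hNle)).codRestrict (normalizerIn S Q) hval) := by
    intro a b hab
    exact F.injective_of_mem hψ' (congrArg Subtype.val hab)
  have : Finite (normalizerIn S Q) := finite_of_le hNS
  have hbij : Function.Bijective ((ψ.comp (Subgroup.inclusion hNle)).codRestrict (normalizerIn S Q) hval) :=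
    Finite.injective_iff_bijective.mp hinj
  have hβapp : ∀ z : normalizerIn S Q, (((MulEquiv.ofBijective _ hbij : MulAut (normalizerIn S Q)) z :
      normalizerIn S Q) : Ω) = (ψ.comp (Subgroup.inclusion hNle)) z := fun z => rfl
  have hβF : (MulEquiv.ofBijective _ hbij : MulAut (normalizerIn S Q)) ∈ F.autGroup (normalizerIn S Q) := by
    rw [mem_autGroup_iff F hNS]
    unfold IsIso
    exact mem_of_eq F hψ' (fun x => rfl)
  have hβQ : ∀ x : normalizerIn S Q, (x : Ω) ∈ Q ↔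
      (((MulEquiv.ofBijective _ hbij : MulAut (normalizerIn S Q)) x : normalizerIn S Q) : Ω) ∈ Q := by
    intro x
    constructor
    · intro hx
      rw [hβapp]
      have := hψ'Q ⟨x, hx⟩
      have e1 : Subgroup.inclusion hQN ⟨(x : Ω), hx⟩ = x := Subtype.ext rfl
      rw [e1] at this
      rw [this]
      exact (α ⟨x, hx⟩).2
    · intro hx
      rw [hβapp] at hx
      have h2 := hψ'Q (α⁻¹ ⟨_, hx⟩)
      rw [MulAut.apply_inv_self] at h2
      have h3 := F.injective_of_mem hψ' h2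
      rw [← h3]
      exact (α⁻¹ ⟨_, hx⟩).2
  refine ⟨⟨MulEquiv.ofBijective _ hbij, hβF, hβQ⟩, ?_⟩
  ext x
  rw [resHom_apply]
  exact hψ'Q x

/-- Key step: if `Q` is fully normalized and some conjugate `N'` of `N = N_S(Q)` is fully automized, then every `p`-element of
`Aut_F(N)` stabilizing `Q` is an inner automorphism of `N`. -/
theorem pElement_stabAut_mem [Finite S] {p : ℕ} [Fact p.Prime] (F : FusionSystem S)
    {Q : Subgroup Ω} (hQn : F.IsFullyNormalized Q) {N' : Subgroup Ω} (hconj : F.IsConj (normalizerIn S Q) N')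
    (hN'a : F.IsFullyAutomized p N') (γ : MulAut (normalizerIn S Q)) (hγ : γ ∈ stabAut F (normalizerIn S Q) Q)
    (k : ℕ) (hk : γ ^ p ^ k = 1) :
    γ ∈ autInducedBy (normalizerIn S Q) (normalizerIn S Q) := by
  have hQS := hQn.1
  have hQN : Q ≤ normalizerIn S Q := le_normalizerIn hQS
  have hNS : normalizerIn S Q ≤ S := inf_le_left
  obtain ⟨ψ, hψ⟩ := (isConj_iff F _ N').mp hconj
  obtain ⟨hN'S, T', hT'⟩ := hN'a
  have : Finite (MulAut N') := finite_mulAut_of_le hN'S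
  have : Finite (normalizerIn S Q) := finite_of_le hNS
  have : Finite N' := finite_of_le hN'S
  -- transport `γ` to `N'`
  have hγ' : MulAut.congr ψ γ ∈ F.autGroup N' := by
    rw [← map_congr_autGroup F ψ hψ]
    exact ⟨γ, hγ.1, rfl⟩
  have hγ'pow : (⟨MulAut.congr ψ γ, hγ'⟩ : F.autGroup N') ^ p ^ k = 1 := by
    apply Subtype.ext
    show (MulAut.congr ψ γ) ^ p ^ k = 1
    rw [← map_pow, hk, map_one]
  have hB : IsPGroup p (Subgroup.zpowers (⟨MulAut.congr ψ γ, hγ'⟩ : F.autGroup N')) := by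
    have h1 : orderOf (⟨MulAut.congr ψ γ, hγ'⟩ : F.autGroup N') ∣ p ^ k := orderOf_dvd_of_pow_eq_one hγ'pow
    obtain ⟨j, -, hj⟩ := (Nat.dvd_prime_pow (Fact.out : p.Prime)).mp h1
    apply IsPGroup.of_card (n := j)
    rw [Nat.card_zpowers, hj]
  obtain ⟨β, hβ⟩ := exists_conj_mem_sylow_of_isPGroup T' _ hB
  have hβγ := hβ _ (Subgroup.mem_zpowers _)
  rw [hT', Subgroup.mem_subgroupOf] at hβγ
  obtain ⟨s, hsS, hsx⟩ := (mem_autInducedBy_iff S N' _).mp hβγ
  -- the modified isomorphism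
  have hψ₁ : IsIso F (ψ.trans ((β : MulAut N') : N' ≃* N')) := hψ.trans ((mem_autGroup_iff F hN'S _).mp β.2)
  have hkey : ∀ x : normalizerIn S Q,
      (((ψ.trans ((β : MulAut N') : N' ≃* N')) (γ x) : N') : Ω) =
        s * (((ψ.trans ((β : MulAut N') : N' ≃* N')) x : N') : Ω) * s⁻¹ := by
    intro x
    rw [← hsx]
    show _ = ((((β : MulAut N') * MulAut.congr ψ γ * (β : MulAut N')⁻¹) ((β : MulAut N') (ψ x)) : N') : Ω)
    rw [MulAut.mul_apply, MulAut.inv_apply_self, MulAut.mul_apply]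
    show _ = (((β : MulAut N') (ψ (γ (ψ.symm (ψ x)))) : N') : Ω)
    rw [MulEquiv.symm_apply_apply]
    rfl
  generalize ψ.trans ((β : MulAut N') : N' ≃* N') = ψ₁ at hψ₁ hkey
  -- the image of `Q`
  have hφmem : (N'.subtype.comp ψ₁.toMonoidHom).comp (Subgroup.inclusion hQN) ∈ F.Hom Q :=
    restrict_mem F hψ₁ hQN
  have hQ₁conj : F.IsConj Q ((N'.subtype.comp ψ₁.toMonoidHom).comp (Subgroup.inclusion hQN)).range :=
    ⟨_, hφmem, rfl⟩
  have hmemQ₁ : ∀ y : Ω, y ∈ ((N'.subtype.comp ψ₁.toMonoidHom).comp (Subgroup.inclusion hQN)).range ↔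
      ∃ x : normalizerIn S Q, (x : Ω) ∈ Q ∧ ((ψ₁ x : N') : Ω) = y := by
    intro y
    constructor
    · rintro ⟨q, rfl⟩
      exact ⟨Subgroup.inclusion hQN q, q.2, rfl⟩
    · rintro ⟨x, hx, rfl⟩
      exact ⟨⟨x, hx⟩, rfl⟩
  generalize ((N'.subtype.comp ψ₁.toMonoidHom).comp (Subgroup.inclusion hQN)).range = Q₁ at hQ₁conj hmemQ₁
  have hcard : Nat.card (normalizerIn S Q₁) ≤ Nat.card (normalizerIn S Q) := hQn.2 Q₁ hQ₁conj
  -- `N'` normalizes `Q₁`
  have hconjN : ∀ g : normalizerIn S Q, ∀ z ∈ Q₁, ((ψ₁ g : N') : Ω) * z * ((ψ₁ g : N') : Ω)⁻¹ ∈ Q₁ := by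
    intro g z hz
    obtain ⟨x, hx, rfl⟩ := (hmemQ₁ z).mp hz
    rw [hmemQ₁]
    refine ⟨g * x * g⁻¹, (g.2.2 x).mp hx, ?_⟩
    rw [map_mul, map_mul, map_inv]
    rfl
  have hN'le : N' ≤ normalizerIn S Q₁ := by
    intro y hy
    refine ⟨hN'S hy, ?_⟩
    have e1 : ((ψ₁ (ψ₁.symm ⟨y, hy⟩) : N') : Ω) = y := by rw [MulEquiv.apply_symm_apply]
    have e2 : ((ψ₁ (ψ₁.symm ⟨y, hy⟩)⁻¹ : N') : Ω) = y⁻¹ := by
      rw [map_inv, MulEquiv.apply_symm_apply]; rfl
    apply mem_normalizer_of_conj_mem_of_inv_conj_mem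
    · intro z hz
      have := hconjN (ψ₁.symm ⟨y, hy⟩) z hz
      rwa [e1] at this
    · intro z hz
      have := hconjN (ψ₁.symm ⟨y, hy⟩)⁻¹ z hz
      rwa [e2, inv_inv] at this
  have : Finite (normalizerIn S Q₁) := finite_of_le inf_le_left
  have hN'eq : N' = normalizerIn S Q₁ := by
    apply Subgroup.eq_of_le_of_card_ge hN'le
    rw [← Nat.card_congr ψ₁.toEquiv]
    exact hcard
  -- `s` normalizes `Q₁`
  have hsN : s ∈ Subgroup.normalizer (Q₁ : Set Ω) := by
    apply mem_normalizer_of_conj_mem_of_inv_conj_mem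
    · intro z hz
      obtain ⟨x, hx, rfl⟩ := (hmemQ₁ z).mp hz
      rw [hmemQ₁]
      exact ⟨γ x, (hγ.2 x).mp hx, hkey x⟩
    · intro z hz
      obtain ⟨x, hx, rfl⟩ := (hmemQ₁ z).mp hz
      rw [hmemQ₁]
      refine ⟨γ⁻¹ x, (hγ.2 (γ⁻¹ x)).mpr (by rw [MulAut.apply_inv_self]; exact hx), ?_⟩
      have := hkey (γ⁻¹ x)
      rw [MulAut.apply_inv_self] at this
      rw [this]
      group
  have hsN' : s ∈ N' := by
    rw [hN'eq]
    exact ⟨hsS, hsN⟩
  -- conclusion
  rw [mem_autInducedBy_iff]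
  refine ⟨ψ₁.symm ⟨s, hsN'⟩, (ψ₁.symm ⟨s, hsN'⟩).2, fun x => ?_⟩
  have h1 : ψ₁ (γ x) = ψ₁ (ψ₁.symm ⟨s, hsN'⟩ * x * (ψ₁.symm ⟨s, hsN'⟩)⁻¹) := by
    apply Subtype.ext
    rw [hkey x, map_mul, map_mul, map_inv, MulEquiv.apply_symm_apply]
    rfl
  exact congrArg Subtype.val (ψ₁.injective h1)

/-- If `Q` is fully normalized and receptive and some conjugate of `N_S(Q)` is fully automized, then `Q` is fully automized. -/
theorem isFullyAutomized_of_normalizer [Finite S] {p : ℕ} [Fact p.Prime] (hS : IsPGroup p S) (F : FusionSystem S)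
    {Q : Subgroup Ω} (hQn : F.IsFullyNormalized Q) (hQr : F.IsReceptive Q)
    {N' : Subgroup Ω} (hconj : F.IsConj (normalizerIn S Q) N') (hN'a : F.IsFullyAutomized p N') :
    F.IsFullyAutomized p Q := by
  have hQS := hQn.1
  refine ⟨hQS, ?_⟩
  have hQN : Q ≤ normalizerIn S Q := le_normalizerIn hQS
  have hNS : normalizerIn S Q ≤ S := inf_le_left
  have : Finite (MulAut (normalizerIn S Q)) := finite_mulAut_of_le hNS
  have : Finite (MulAut Q) := finite_mulAut_of_le hQS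
  have hB : IsPGroup p ((autInducedBy S Q).subgroupOf (F.autGroup Q)) :=
    (isPGroup_autInducedBy hS Q).comap_subtype
  have hP : ¬ p ∣ ((autInducedBy (normalizerIn S Q) (normalizerIn S Q)).subgroupOf
      (stabAut F (normalizerIn S Q) Q)).index := by
    apply not_dvd_index_of_forall_pElement
    rintro g ⟨k, hk⟩
    rw [Subgroup.mem_subgroupOf]
    exact pElement_stabAut_mem F hQn hconj hN'a g.1 g.2 k (by simpa using congrArg Subtype.val hk)
  apply exists_sylow_eq_of_map _ hB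
    ((resHom F hQN).codRestrict (F.autGroup Q) (fun β => resHom_mem_autGroup F hQN hNS β)) _ hP
  · -- the image of `Inn(N)` is `Aut_S(Q)`
    ext a
    rw [Subgroup.mem_subgroupOf]
    constructor
    · rintro ⟨β, hβ, rfl⟩
      rw [SetLike.mem_coe, Subgroup.mem_subgroupOf] at hβ
      obtain ⟨t, ht, htx⟩ := (mem_autInducedBy_iff _ _ _).mp hβ
      rw [mem_autInducedBy_iff]
      refine ⟨t, hNS ht, fun x => ?_⟩
      show ((resHom F hQN β x : Q) : Ω) = _
      rw [resHom_apply, htx]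
    · intro ha
      obtain ⟨g, hgS, hgx⟩ := (mem_autInducedBy_iff S Q _).mp ha
      have hgNQ : g ∈ Subgroup.normalizer (Q : Set Ω) := mem_normalizer_of_conj_eq _ g hgx
      have hgN : g ∈ normalizerIn S Q := ⟨hgS, hgNQ⟩
      have hgNN : g ∈ Subgroup.normalizer ((normalizerIn S Q : Subgroup Ω) : Set Ω) := Subgroup.le_normalizer hgN
      have hβmem : conjAut (normalizerIn S Q) g hgNN ∈ stabAut F (normalizerIn S Q) Q := by
        refine ⟨(mem_autGroup_iff F hNS _).mpr (isIso_conjAut F hNS hgS hgNN), fun x => ?_⟩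
        rw [conjAut_apply]
        exact hgNQ x
      refine ⟨⟨_, hβmem⟩, ?_, ?_⟩
      · rw [SetLike.mem_coe, Subgroup.mem_subgroupOf, mem_autInducedBy_iff]
        exact ⟨g, hgN, fun x => rfl⟩
      · apply Subtype.ext
        ext x
        show ((resHom F hQN ⟨_, hβmem⟩ x : Q) : Ω) = _
        rw [resHom_apply, hgx]
        rfl
  · -- the normalizer of `Aut_S(Q)` is in the range
    intro a ha
    rw [Subgroup.mem_normalizer_iff] at ha
    have hnorm : ∀ γ ∈ autInducedBy S Q, (a : MulAut Q) * γ * (a : MulAut Q)⁻¹ ∈ autInducedBy S Q := by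
      intro γ hγ
      have h1 := (ha ⟨γ, autInducedBy_le_autGroup F hQS hγ⟩).mp (Subgroup.mem_subgroupOf.mpr hγ)
      exact Subgroup.mem_subgroupOf.mp h1
    obtain ⟨β, hβ⟩ := exists_stabAut_of_normalizes F hQr a.1 a.2 hnorm
    exact ⟨β, Subtype.ext hβ⟩

/-- Stancu's criterion, main induction: if `S` is fully automized and fully normalized subgroups are receptive, then fully
normalized subgroups are fully automized. -/
theorem isFullyAutomized_of_isFullyNormalized [Finite S] {p : ℕ} [Fact p.Prime] (hS : IsPGroup p S)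
    (F : FusionSystem S) (hSa : F.IsFullyAutomized p S)
    (hrec : ∀ P : Subgroup Ω, F.IsFullyNormalized P → F.IsReceptive P) :
    ∀ Q : Subgroup Ω, F.IsFullyNormalized Q → F.IsFullyAutomized p Q := by
  intro Q
  induction' hn : Nat.card S - Nat.card Q using Nat.strong_induction_on with n ih generalizing Q
  intro hQn
  have hQS := hQn.1
  rcases eq_or_lt_of_le hQS with heq | hlt
  · rw [heq]
    exact hSa
  · have hltN : Q < normalizerIn S Q := lt_normalizerIn hS hlt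
    have hNS : normalizerIn S Q ≤ S := inf_le_left
    obtain ⟨N', hconj, hN'n⟩ := exists_isConj_fullyNormalized F hNS
    obtain ⟨ψ, hψ⟩ := (isConj_iff F _ N').mp hconj
    have : Finite (normalizerIn S Q) := finite_of_le hNS
    have hc1 : Nat.card Q < Nat.card (normalizerIn S Q) := card_lt_card_of_lt hltN
    have hc2 : Nat.card (normalizerIn S Q) = Nat.card N' := Nat.card_congr ψ.toEquiv
    have hc3 : Nat.card N' ≤ Nat.card S := Subgroup.card_le_of_le hN'n.1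
    have hN'a : F.IsFullyAutomized p N' := ih (Nat.card S - Nat.card N') (by omega) N' rfl hN'n
    exact isFullyAutomized_of_normalizer hS F hQn (hrec Q hQn) hconj hN'a

end Cfsg.Agent.Helper84
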