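import Cfsg.Agent.Helper87.FusionRS
import Cfsg.Agent.Helper84.Stancu
import Cfsg.Agent.Helper84.SylowRel
set_option autoImplicit false

/-! # `K`-normalizers in fusion systems (Aschbacher–Kessar–Oliver, Part I, Section 5) -/

namespace Cfsg.Agent.Helper84

open Cfsg Cfsg.FusionSystem Cfsg.Agent.Helper87

variable {Ω : Type*} [Group Ω] {S : Subgroup Ω}

/-! ### Transport of automorphisms -/

theorem congr_apply' {Q Q' : Subgroup Ω} (e : Q ≃* Q') (f : MulAut Q) (y : Q') :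
    (MulAut.congr e f) y = e (f (e.symm y)) := rfl

theorem congr_trans' {Q Q' Q'' : Subgroup Ω} (e : Q ≃* Q') (e' : Q' ≃* Q'') (f : MulAut Q) :
    MulAut.congr (e.trans e') f = MulAut.congr e' (MulAut.congr e f) := by
  ext y
  rfl

theorem congr_self' {Q : Subgroup Ω} (α f : MulAut Q) : MulAut.congr (α : Q ≃* Q) f = α * f * α⁻¹ := by
  ext y
  rfl

theorem congr_symm_congr' {Q Q' : Subgroup Ω} (e : Q ≃* Q') (f : MulAut Q) :
    MulAut.congr e.symm (MulAut.congr e f) = f := by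
  ext y
  simp

theorem congr_congr_symm' {Q Q' : Subgroup Ω} (e : Q ≃* Q') (f : MulAut Q') :
    MulAut.congr e (MulAut.congr e.symm f) = f := by
  ext y
  simp

/-- The transport `e K e⁻¹` of a group of automorphisms along an isomorphism. -/
def tr {Q Q' : Subgroup Ω} (e : Q ≃* Q') (K : Subgroup (MulAut Q)) : Subgroup (MulAut Q') :=
  K.map (MulAut.congr e).toMonoidHom

theorem mem_tr_iff {Q Q' : Subgroup Ω} (e : Q ≃* Q') (K : Subgroup (MulAut Q)) (β : MulAut Q') :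
    β ∈ tr e K ↔ MulAut.congr e.symm β ∈ K := by
  constructor
  · rintro ⟨γ, hγ, rfl⟩
    show MulAut.congr e.symm (MulAut.congr e γ) ∈ K
    rwa [congr_symm_congr']
  · intro h
    exact ⟨_, h, congr_congr_symm' e β⟩

theorem congr_mem_tr {Q Q' : Subgroup Ω} (e : Q ≃* Q') (K : Subgroup (MulAut Q)) {γ : MulAut Q} (hγ : γ ∈ K) :
    MulAut.congr e γ ∈ tr e K := ⟨γ, hγ, rfl⟩

theorem tr_trans {Q Q' Q'' : Subgroup Ω} (e : Q ≃* Q') (e' : Q' ≃* Q'') (K : Subgroup (MulAut Q)) :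
    tr e' (tr e K) = tr (e.trans e') K := by
  ext β
  constructor
  · rintro ⟨γ, ⟨δ, hδ, rfl⟩, rfl⟩
    exact ⟨δ, hδ, congr_trans' e e' δ⟩
  · rintro ⟨δ, hδ, rfl⟩
    exact ⟨_, ⟨δ, hδ, rfl⟩, (congr_trans' e e' δ).symm⟩

theorem tr_symm_tr {Q Q' : Subgroup Ω} (e : Q ≃* Q') (K : Subgroup (MulAut Q)) : tr e.symm (tr e K) = K := by
  ext β
  rw [mem_tr_iff, mem_tr_iff]
  have : MulAut.congr e.symm (MulAut.congr e.symm.symm β) = β := congr_symm_congr' e β
  rw [this]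

theorem tr_of_mem {Q : Subgroup Ω} (K : Subgroup (MulAut Q)) {χ : MulAut Q} (hχ : χ ∈ K) :
    tr (χ : Q ≃* Q) K = K := by
  ext β
  constructor
  · rintro ⟨γ, hγ, rfl⟩
    show MulAut.congr (χ : Q ≃* Q) γ ∈ K
    rw [congr_self']
    exact K.mul_mem (K.mul_mem hχ hγ) (K.inv_mem hχ)
  · intro hβ
    refine ⟨χ⁻¹ * β * χ, K.mul_mem (K.mul_mem (K.inv_mem hχ) hβ) hχ, ?_⟩
    show MulAut.congr (χ : Q ≃* Q) (χ⁻¹ * β * χ) = β
    rw [congr_self']
    group

theorem tr_autGroup (F : FusionSystem S) {Q Q' : Subgroup Ω} (e : Q ≃* Q') (he : IsIso F e) :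
    tr e (F.autGroup Q) = F.autGroup Q' := map_congr_autGroup F e he

theorem tr_inf {Q Q' : Subgroup Ω} (e : Q ≃* Q') (K L : Subgroup (MulAut Q)) : tr e (K ⊓ L) = tr e K ⊓ tr e L :=
  Subgroup.map_inf _ _ _ (MulAut.congr e).injective

/-! ### `N_S^K(Q)` -/

/-- `N_S^K(Q)`: the elements of `S` normalizing `Q` and inducing on it an automorphism in `K`. -/
def NK (S Q : Subgroup Ω) (K : Subgroup (MulAut Q)) : Subgroup Ω :=
  S ⊓ (K.comap Q.normalizerMonoidHom).map (Subgroup.normalizer (Q : Set Ω)).subtype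

theorem mem_NK_iff (S Q : Subgroup Ω) (K : Subgroup (MulAut Q)) (g : Ω) :
    g ∈ NK S Q K ↔ g ∈ S ∧ ∃ h : g ∈ Subgroup.normalizer (Q : Set Ω), conjAut Q g h ∈ K := by
  unfold NK
  rw [Subgroup.mem_inf]
  constructor
  · rintro ⟨hS, ⟨n, hn, rfl⟩⟩
    exact ⟨hS, n.2, hn⟩
  · rintro ⟨hS, h, hK⟩
    exact ⟨hS, ⟨⟨g, h⟩, hK, rfl⟩⟩

theorem NK_le (S Q : Subgroup Ω) (K : Subgroup (MulAut Q)) : NK S Q K ≤ S := inf_le_left

theorem NK_le_normalizerIn (S Q : Subgroup Ω) (K : Subgroup (MulAut Q)) : NK S Q K ≤ normalizerIn S Q := by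
  intro g hg
  obtain ⟨hS, h, -⟩ := (mem_NK_iff S Q K g).mp hg
  exact ⟨hS, h⟩

theorem NK_top (S Q : Subgroup Ω) : NK S Q ⊤ = normalizerIn S Q := by
  ext g
  rw [mem_NK_iff]
  constructor
  · rintro ⟨hS, h, -⟩
    exact ⟨hS, h⟩
  · rintro ⟨hS, h⟩
    exact ⟨hS, h, Subgroup.mem_top _⟩

theorem conjAut_eq_one_iff (Q : Subgroup Ω) (g : Ω) (h : g ∈ Subgroup.normalizer (Q : Set Ω)) :
    conjAut Q g h = 1 ↔ g ∈ Subgroup.centralizer (Q : Set Ω) := by
  rw [Subgroup.mem_centralizer_iff]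
  constructor
  · intro h1 x hx
    have h2 : ((conjAut Q g h ⟨x, hx⟩ : Q) : Ω) = x := by rw [h1]; rfl
    rw [conjAut_apply] at h2
    calc x * g = (g * x * g⁻¹) * g := by rw [h2]
      _ = g * x := by group
  · intro h1
    ext x
    rw [conjAut_apply]
    have := h1 x x.2
    show g * (x : Ω) * g⁻¹ = x
    rw [← this]
    group

theorem NK_bot (S Q : Subgroup Ω) : NK S Q ⊥ = centralizerIn S Q := by
  ext g
  rw [mem_NK_iff]
  constructor
  · rintro ⟨hS, h, hK⟩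
    rw [Subgroup.mem_bot] at hK
    exact ⟨hS, (conjAut_eq_one_iff Q g h).mp hK⟩
  · rintro ⟨hS, h⟩
    have hN : g ∈ Subgroup.normalizer (Q : Set Ω) := Subgroup.centralizer_le_normalizer (Q : Set Ω) h
    exact ⟨hS, hN, Subgroup.mem_bot.mpr ((conjAut_eq_one_iff Q g hN).mpr h)⟩

/-- Conjugation by `φ g` on `Q'` is the transport of conjugation by `g` on `Q`, when `φ` restricts to the isomorphism `e : Q ≃* Q'`. -/
theorem conjAut_map {D Q Q' : Subgroup Ω} (φ : D →* Ω) (hQD : Q ≤ D) (e : Q ≃* Q')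
    (he : ∀ x : Q, φ (Subgroup.inclusion hQD x) = e x) (g : D)
    (hg : (g : Ω) ∈ Subgroup.normalizer (Q : Set Ω)) :
    ∃ h : φ g ∈ Subgroup.normalizer (Q' : Set Ω), conjAut Q' (φ g) h = MulAut.congr e (conjAut Q g hg) := by
  have key : ∀ y : Q', (((MulAut.congr e (conjAut Q g hg)) y : Q') : Ω) = φ g * y * (φ g)⁻¹ := by
    intro y
    rw [congr_apply', ← he]
    have h1 : Subgroup.inclusion hQD ((conjAut Q g hg) (e.symm y)) = g * Subgroup.inclusion hQD (e.symm y) * g⁻¹ :=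
      Subtype.ext rfl
    rw [h1, map_mul, map_mul, map_inv, he, MulEquiv.apply_symm_apply]
  exact ⟨mem_normalizer_of_conj_eq _ _ key, (eq_conjAut_of_conj_eq _ _ key).symm⟩

/-! ### Fully `K`-normalized and `K`-automized subgroups -/

/-- `Q` is fully `K`-normalized in the system. -/
def IsFullyKNormalized (F : FusionSystem S) (Q : Subgroup Ω) (K : Subgroup (MulAut Q)) : Prop :=
  Q ≤ S ∧ ∀ (Q' : Subgroup Ω) (e : Q ≃* Q'), IsIso F e → Nat.card (NK S Q' (tr e K)) ≤ Nat.card (NK S Q K)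

/-- `Aut_S^K(Q)` has index prime to `p` in `Aut_F^K(Q)`. -/
def IsKAutomized (F : FusionSystem S) (p : ℕ) (Q : Subgroup Ω) (K : Subgroup (MulAut Q)) : Prop :=
  ¬ p ∣ (K ⊓ autInducedBy S Q).relIndex (K ⊓ F.autGroup Q)

theorem finite_NK [Finite S] (Q : Subgroup Ω) (K : Subgroup (MulAut Q)) : Finite (NK S Q K) :=
  finite_of_le (NK_le S Q K)

/-- The extension lemma for `K`-normalizers (AKO, Proposition I.5.2(b)). -/
theorem exists_extension_NK [Finite S] {p : ℕ} [Fact p.Prime] (hS : IsPGroup p S) (F : FusionSystem S)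
    {Q Q' : Subgroup Ω} (K : Subgroup (MulAut Q)) (e : Q ≃* Q') (he : IsIso F e)
    (hrec : F.IsReceptive Q') (haut : IsKAutomized F p Q' (tr e K)) :
    ∃ χ ∈ K ⊓ F.autGroup Q, ∃ φ ∈ F.Hom (NK S Q K ⊔ Q),
      (∀ x : Q, φ (Subgroup.inclusion le_sup_right x) = e (χ x)) ∧
      (∀ g : ↥(NK S Q K ⊔ Q), (g : Ω) ∈ NK S Q K → φ g ∈ NK S Q' (tr e K)) := by
  have hQS : Q ≤ S := he.le_left
  have hQ'S : Q' ≤ S := hrec.1
  have : Finite (MulAut Q') := finite_mulAut_of_le hQ'S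
  -- the transported copy of `Aut_S^K(Q)`
  have hBp : IsPGroup p ((K ⊓ autInducedBy S Q).map (MulAut.congr e).toMonoidHom) :=
    ((isPGroup_autInducedBy hS Q).to_le inf_le_right).map _
  have hBle : (K ⊓ autInducedBy S Q).map (MulAut.congr e).toMonoidHom ≤ tr e K ⊓ F.autGroup Q' := by
    rintro _ ⟨γ, ⟨hγK, hγS⟩, rfl⟩
    refine ⟨congr_mem_tr e K hγK, ?_⟩
    rw [← tr_autGroup F e he]
    exact congr_mem_tr e _ (autInducedBy_le_autGroup F hQS hγS)
  obtain ⟨χ', hχ'A, hχ'⟩ := exists_conj_le_of_relIndex (tr e K ⊓ F.autGroup Q') (tr e K ⊓ autInducedBy S Q') _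
    (inf_le_inf_left _ (autInducedBy_le_autGroup F hQ'S)) ((isPGroup_autInducedBy hS Q').to_le inf_le_right)
    haut hBle hBp
  have hχK : MulAut.congr e.symm χ' ∈ K := (mem_tr_iff e K χ').mp hχ'A.1
  have hχF : MulAut.congr e.symm χ' ∈ F.autGroup Q := by
    rw [← tr_autGroup F e.symm he.symm]
    exact congr_mem_tr e.symm _ hχ'A.2
  have he₁ : IsIso F (e.trans (χ' : Q' ≃* Q')) := he.trans ((mem_autGroup_iff F hQ'S χ').mp hχ'A.2)
  have he₁x : ∀ x : Q, (e.trans (χ' : Q' ≃* Q')) x = e ((MulAut.congr e.symm χ') x) := by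
    intro x
    rw [congr_apply']
    simp
  -- conjugation by elements of `N_S^K(Q)`, transported
  have hconj : ∀ (g : Ω) (hg : g ∈ Subgroup.normalizer (Q : Set Ω)), g ∈ S → conjAut Q g hg ∈ K →
      MulAut.congr (e.trans (χ' : Q' ≃* Q')) (conjAut Q g hg) ∈ tr e K ⊓ autInducedBy S Q' := by
    intro g hg hgS hgK
    rw [congr_trans', congr_self']
    apply hχ'
    exact ⟨_, ⟨hgK, (mem_autInducedBy_iff S Q _).mpr ⟨g, hgS, fun x => rfl⟩⟩, rfl⟩
  have hφ₀ : Q'.subtype.comp (e.trans (χ' : Q' ≃* Q')).toMonoidHom ∈ F.Hom Q := he₁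
  have hrange : (Q'.subtype.comp (e.trans (χ' : Q' ≃* Q')).toMonoidHom).range = Q' := by
    ext y
    constructor
    · rintro ⟨x, rfl⟩
      exact ((e.trans (χ' : Q' ≃* Q')) x).2
    · intro hy
      refine ⟨(e.trans (χ' : Q' ≃* Q')).symm ⟨y, hy⟩, ?_⟩
      show (((e.trans (χ' : Q' ≃* Q')) ((e.trans (χ' : Q' ≃* Q')).symm ⟨y, hy⟩) : Q') : Ω) = y
      rw [MulEquiv.apply_symm_apply]
  obtain ⟨ψ, hψ, hψx⟩ := hrec.2 Q _ hφ₀ hrange
  have hNle : NK S Q K ≤ extender S Q (Q'.subtype.comp (e.trans (χ' : Q' ≃* Q')).toMonoidHom) := by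
    intro g hg
    obtain ⟨hgS, hgN, hgK⟩ := (mem_NK_iff S Q K g).mp hg
    rw [mem_extender_iff]
    refine ⟨hgS, hgN, ?_⟩
    obtain ⟨h, hh, hhx⟩ := (mem_autInducedBy_iff S Q' _).mp (hconj g hgN hgS hgK).2
    refine ⟨h, hh, fun x hx => ?_⟩
    have h1 := hhx ((e.trans (χ' : Q' ≃* Q')) x)
    rw [congr_apply', MulEquiv.symm_apply_apply] at h1
    exact h1
  have hle : NK S Q K ⊔ Q ≤ extender S Q (Q'.subtype.comp (e.trans (χ' : Q' ≃* Q')).toMonoidHom) :=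
    sup_le hNle (le_extender_of_mem F hφ₀)
  have hφ : ψ.comp (Subgroup.inclusion hle) ∈ F.Hom (NK S Q K ⊔ Q) := restrict_mem F hψ hle
  have hφQ : ∀ x : Q, (ψ.comp (Subgroup.inclusion hle)) (Subgroup.inclusion le_sup_right x) =
      ((e.trans (χ' : Q' ≃* Q')) x : Q') := by
    intro x
    exact hψx x.1 x.2 (hle (le_sup_right (a := NK S Q K) x.2))
  refine ⟨MulAut.congr e.symm χ', ⟨hχK, hχF⟩, _, hφ, fun x => ?_, fun g hg => ?_⟩
  · rw [hφQ x, he₁x x]
  · obtain ⟨hgS, hgN, hgK⟩ := (mem_NK_iff S Q K g).mp hg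
    obtain ⟨h, hh⟩ := conjAut_map (ψ.comp (Subgroup.inclusion hle)) le_sup_right (e.trans (χ' : Q' ≃* Q')) hφQ g hgN
    rw [mem_NK_iff]
    refine ⟨(F.le_of_mem hφ).2 g, h, ?_⟩
    rw [hh]
    exact (hconj g hgN hgS hgK).1

/-- A receptive, `K`-automized subgroup is fully `K`-normalized (AKO, Proposition I.5.2(a), one direction). -/
theorem isFullyKNormalized_of_receptive [Finite S] {p : ℕ} [Fact p.Prime] (hS : IsPGroup p S) (F : FusionSystem S)
    {Q : Subgroup Ω} (K : Subgroup (MulAut Q)) (hrec : F.IsReceptive Q) (haut : IsKAutomized F p Q K) :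
    IsFullyKNormalized F Q K := by
  refine ⟨hrec.1, fun Q' e he => ?_⟩
  have haut' : IsKAutomized F p Q (tr e.symm (tr e K)) := by rwa [tr_symm_tr]
  obtain ⟨χ, -, φ, hφ, -, hφN⟩ := exists_extension_NK hS F (tr e K) e.symm he.symm hrec haut'
  rw [tr_symm_tr] at hφN
  have : Finite (NK S Q K) := finite_NK Q K
  refine Nat.card_le_card_of_injective
    (fun g : NK S Q' (tr e K) => (⟨φ ⟨g, le_sup_left (b := Q') g.2⟩, hφN _ g.2⟩ : NK S Q K)) ?_
  intro a b hab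
  have h1 := F.injective_of_mem hφ (congrArg Subtype.val hab)
  exact Subtype.ext (congrArg (fun z : ↥(NK S Q' (tr e K) ⊔ Q') => (z : Ω)) h1)

theorem conjAut_mem_autInducedBy (S Q : Subgroup Ω) {g : Ω} (hgS : g ∈ S) (hg : g ∈ Subgroup.normalizer (Q : Set Ω)) :
    conjAut Q g hg ∈ autInducedBy S Q :=
  (mem_autInducedBy_iff S Q _).mpr ⟨g, hgS, fun _ => rfl⟩

theorem conjAut_congr (Q : Subgroup Ω) {g h : Ω} (hgh : g = h) (hg : g ∈ Subgroup.normalizer (Q : Set Ω))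
    (hh : h ∈ Subgroup.normalizer (Q : Set Ω)) : conjAut Q g hg = conjAut Q h hh := by
  subst hgh
  rfl

/-- A fully `K`-normalized subgroup of a saturated fusion system is fully centralized and `K`-automized
(AKO, Proposition I.5.2(a), the other direction). -/
theorem fullyCentralized_isKAutomized_of_isFullyKNormalized [Finite S] {p : ℕ} [Fact p.Prime] (hS : IsPGroup p S)
    (F : FusionSystem S) (hF : F.IsSaturated p) {Q : Subgroup Ω} (K : Subgroup (MulAut Q))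
    (hK : IsFullyKNormalized F Q K) : F.IsFullyCentralized Q ∧ IsKAutomized F p Q K := by
  have hQS := hK.1
  obtain ⟨Q₀, hconj, hQ₀n⟩ := exists_isConj_fullyNormalized F hQS
  obtain ⟨e₀, he₀⟩ := (isConj_iff F Q Q₀).mp hconj
  obtain ⟨hQ₀c, hQ₀a⟩ := fullyAutomized_fullyCentralized_of_fullyNormalized hS F hF hQ₀n
  have hQ₀r := receptive_of_fullyCentralized hS F hF hQ₀c
  have hQ₀S := hQ₀n.1
  have : Finite (MulAut Q₀) := finite_mulAut_of_le hQ₀S
  have hidx : ¬ p ∣ (autInducedBy S Q₀).relIndex (F.autGroup Q₀) := by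
    obtain ⟨-, T, hT⟩ := hQ₀a
    have h1 := T.not_dvd_index
    rw [hT] at h1
    exact h1
  obtain ⟨α, hαA, hα⟩ := exists_conj_inf_relIndex (F.autGroup Q₀) (autInducedBy S Q₀) (tr e₀ K)
    (autInducedBy_le_autGroup F hQ₀S) (isPGroup_autInducedBy hS Q₀) hidx
  have hcc : (MulAut.conj α).toMonoidHom = (MulAut.congr (α : Q₀ ≃* Q₀)).toMonoidHom := by
    apply MonoidHom.ext
    intro f
    show MulAut.conj α f = MulAut.congr (α : Q₀ ≃* Q₀) f
    rw [congr_self', MulAut.conj_apply]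
  have htr : (tr e₀ K).map (MulAut.conj α).toMonoidHom = tr (e₀.trans (α : Q₀ ≃* Q₀)) K := by
    rw [← tr_trans, hcc]
    rfl
  rw [htr] at hα
  have he : IsIso F (e₀.trans (α : Q₀ ≃* Q₀)) := he₀.trans ((mem_autGroup_iff F hQ₀S α).mp hαA)
  generalize e₀.trans (α : Q₀ ≃* Q₀) = e at hα he
  have haut' : IsKAutomized F p Q₀ (tr e K) := hα
  obtain ⟨χ, hχ, φ, hφ, hφQ, hφN⟩ := exists_extension_NK hS F K e he hQ₀r haut'
  have hcard := hK.2 Q₀ e he
  have : Finite (NK S Q₀ (tr e K)) := finite_NK Q₀ _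
  have : Finite (NK S Q K) := finite_NK Q K
  have hinj : Function.Injective
      (fun g : NK S Q K => (⟨φ ⟨g, le_sup_left (b := Q) g.2⟩, hφN _ g.2⟩ : NK S Q₀ (tr e K))) := by
    intro a b hab
    have h1 := F.injective_of_mem hφ (congrArg Subtype.val hab)
    exact Subtype.ext (congrArg (fun z : ↥(NK S Q K ⊔ Q) => (z : Ω)) h1)
  have hbij := hinj.bijective_of_nat_card_le hcard
  have hsurj : ∀ h ∈ NK S Q₀ (tr e K), ∃ g : ↥(NK S Q K ⊔ Q), (g : Ω) ∈ NK S Q K ∧ φ g = h := by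
    intro h hh
    obtain ⟨g, hg⟩ := hbij.2 ⟨h, hh⟩
    exact ⟨⟨g, le_sup_left (b := Q) g.2⟩, g.2, congrArg Subtype.val hg⟩
  -- the isomorphism `ε = e ∘ χ`
  have hε : IsIso F ((χ : Q ≃* Q).trans e) := ((mem_autGroup_iff F hQS χ).mp hχ.2).trans he
  have hεK : tr ((χ : Q ≃* Q).trans e) K = tr e K := by rw [← tr_trans, tr_of_mem K hχ.1]
  have hφQ' : ∀ x : Q, φ (Subgroup.inclusion le_sup_right x) = ((χ : Q ≃* Q).trans e) x := hφQ
  have key : ∀ (g : ↥(NK S Q K ⊔ Q)) (hg : (g : Ω) ∈ Subgroup.normalizer (Q : Set Ω)),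
      ∃ h : φ g ∈ Subgroup.normalizer (Q₀ : Set Ω),
        conjAut Q₀ (φ g) h = MulAut.congr ((χ : Q ≃* Q).trans e) (conjAut Q g hg) :=
    fun g hg => conjAut_map φ le_sup_right _ hφQ' g hg
  generalize (χ : Q ≃* Q).trans e = ε at hε hεK hφQ' key
  constructor
  · -- fully centralized
    refine ⟨hQS, fun Q'' hQ'' => ?_⟩
    have h1 : Nat.card (centralizerIn S Q'') ≤ Nat.card (centralizerIn S Q₀) :=
      hQ₀c.2 Q'' (isConj_trans F (isConj_symm F hconj) hQ'')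
    refine h1.trans ?_
    have : Finite (centralizerIn S Q) := finite_of_le inf_le_left
    have hCN : ∀ g ∈ centralizerIn S Q, g ∈ NK S Q K := by
      intro g hg
      rw [mem_NK_iff]
      have hgN : g ∈ Subgroup.normalizer (Q : Set Ω) := Subgroup.centralizer_le_normalizer (Q : Set Ω) hg.2
      refine ⟨hg.1, hgN, ?_⟩
      rw [(conjAut_eq_one_iff Q g hgN).mpr hg.2]
      exact K.one_mem
    have hval : ∀ g : centralizerIn S Q, φ ⟨g, le_sup_left (b := Q) (hCN g g.2)⟩ ∈ centralizerIn S Q₀ := by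
      intro g
      refine ⟨(F.le_of_mem hφ).2 _, ?_⟩
      have hgN : (g : Ω) ∈ Subgroup.normalizer (Q : Set Ω) := Subgroup.centralizer_le_normalizer (Q : Set Ω) g.2.2
      obtain ⟨h, hh⟩ := key ⟨g, le_sup_left (b := Q) (hCN g g.2)⟩ hgN
      apply (conjAut_eq_one_iff Q₀ _ h).mp
      rw [hh]
      have : conjAut Q (g : Ω) hgN = 1 := (conjAut_eq_one_iff Q g hgN).mpr g.2.2
      rw [this, map_one]
    refine Nat.card_le_card_of_surjective (fun g : centralizerIn S Q => (⟨_, hval g⟩ : centralizerIn S Q₀)) ?_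
    rintro ⟨h, hh⟩
    have hhN : h ∈ Subgroup.normalizer (Q₀ : Set Ω) := Subgroup.centralizer_le_normalizer (Q₀ : Set Ω) hh.2
    have hhNK : h ∈ NK S Q₀ (tr e K) := by
      rw [mem_NK_iff]
      refine ⟨hh.1, hhN, ?_⟩
      rw [(conjAut_eq_one_iff Q₀ h hhN).mpr hh.2]
      exact Subgroup.one_mem _
    obtain ⟨g, hgNK, hgh⟩ := hsurj h hhNK
    obtain ⟨hgS, hgN, -⟩ := (mem_NK_iff S Q K g).mp hgNK
    obtain ⟨h', hh'⟩ := key g hgN
    have h2 : conjAut Q₀ (φ g) h' = 1 := by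
      rw [conjAut_congr Q₀ hgh h' hhN]
      exact (conjAut_eq_one_iff Q₀ h hhN).mpr hh.2
    rw [hh'] at h2
    have h3 : conjAut Q (g : Ω) hgN = 1 := by
      have := (MulAut.congr ε).injective (h2.trans (map_one _).symm)
      exact this
    have hgC : (g : Ω) ∈ centralizerIn S Q := ⟨hgS, (conjAut_eq_one_iff Q g hgN).mp h3⟩
    refine ⟨⟨g, hgC⟩, Subtype.ext ?_⟩
    exact hgh
  · -- `K`-automized
    have h1 : tr ε (K ⊓ F.autGroup Q) = tr e K ⊓ F.autGroup Q₀ := by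
      rw [tr_inf, tr_autGroup F ε hε, hεK]
    have h2 : tr ε (K ⊓ autInducedBy S Q) = tr e K ⊓ autInducedBy S Q₀ := by
      ext β
      constructor
      · rintro ⟨γ, ⟨hγK, hγS⟩, rfl⟩
        obtain ⟨g, hgS, hgx⟩ := (mem_autInducedBy_iff S Q γ).mp hγS
        have hgN : g ∈ Subgroup.normalizer (Q : Set Ω) := mem_normalizer_of_conj_eq γ g hgx
        have hγ : γ = conjAut Q g hgN := eq_conjAut_of_conj_eq γ g hgx
        have hgNK : g ∈ NK S Q K := by
          rw [mem_NK_iff]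
          exact ⟨hgS, hgN, hγ ▸ hγK⟩
        obtain ⟨h, hh⟩ := key ⟨g, le_sup_left (b := Q) hgNK⟩ hgN
        refine ⟨?_, ?_⟩
        · rw [← hεK]
          exact congr_mem_tr ε K hγK
        · show MulAut.congr ε γ ∈ autInducedBy S Q₀
          rw [hγ, ← hh]
          exact conjAut_mem_autInducedBy S Q₀ ((F.le_of_mem hφ).2 _) h
      · rintro ⟨hβK, hβS⟩
        obtain ⟨h, hhS, hhx⟩ := (mem_autInducedBy_iff S Q₀ β).mp hβS
        have hhN : h ∈ Subgroup.normalizer (Q₀ : Set Ω) := mem_normalizer_of_conj_eq β h hhx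
        have hβ : β = conjAut Q₀ h hhN := eq_conjAut_of_conj_eq β h hhx
        have hhNK : h ∈ NK S Q₀ (tr e K) := by
          rw [mem_NK_iff]
          exact ⟨hhS, hhN, hβ ▸ hβK⟩
        obtain ⟨g, hgNK, hgh⟩ := hsurj h hhNK
        obtain ⟨hgS, hgN, hgK⟩ := (mem_NK_iff S Q K g).mp hgNK
        obtain ⟨h', hh'⟩ := key g hgN
        refine ⟨conjAut Q (g : Ω) hgN, ⟨hgK, conjAut_mem_autInducedBy S Q hgS hgN⟩, ?_⟩
        show MulAut.congr ε (conjAut Q (g : Ω) hgN) = β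
        rw [← hh', hβ]
        exact conjAut_congr Q₀ hgh h' hhN
    unfold IsKAutomized at haut' ⊢
    rw [← h1, ← h2] at haut'
    unfold tr at haut'
    rwa [Subgroup.relIndex_map_map_of_injective _ _ (MulAut.congr ε).injective] at haut'

end Cfsg.Agent.Helper84
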