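import Mathlib
import Cfsg.Prelude.Def_Transfer
import Cfsg.Agent.S3767
import Cfsg.Agent.Helper53.Heis

set_option autoImplicit false

/-!
# A kernel-tolerant form of S3767 (helper84, for helper52's S4306 piece (E3))

An element `x` of order prime to `p` normalizing an extraspecial `p`-group `P` of order
`p ^ (2 n + 1)`, such that every power of `x` not centralizing `P` has `C_P = Z(P)`: some positive
`m` dividing `p ^ n + 1` or `p ^ n - 1` has `x ^ m ∈ C(P)`.  (Transfer of S3767 to the holomorph-like
group `P ⋊ ⟨α⟩`, `α` the automorphism induced by `x`.)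
-/

namespace Cfsg.Agent.Helper84.PQ

open Subgroup

theorem exists_pow_mem_centralizer_extraspecial {G : Type*} [Group G] [Finite G] {p : ℕ}
    [Fact p.Prime] (P : Subgroup G)
    (hP : Cfsg.IsExtraspecial p ↥P) (n : ℕ) (hn : Nat.card P = p ^ (2 * n + 1))
    (x : G) (hx : x ∈ normalizer (P : Set G)) (hcop : (orderOf x).Coprime p)
    (hfix : ∀ k : ℕ, x ^ k ∉ centralizer (P : Set G) →
      P ⊓ centralizer {x ^ k} = (center ↥P).map P.subtype) :
    ∃ m : ℕ, 0 < m ∧ (m ∣ p ^ n + 1 ∨ m ∣ p ^ n - 1) ∧ x ^ m ∈ centralizer (P : Set G) := by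
  classical
  set xN : ↥(normalizer (P : Set G)) := ⟨x, hx⟩ with hxN
  set α : MulAut ↥P := P.normalizerMonoidHom xN with hα
  have hαpow : ∀ k : ℕ, α ^ k = P.normalizerMonoidHom (xN ^ k) := fun k => by
    rw [hα, map_pow]
  have hαapply : ∀ (k : ℕ) (q : ↥P), ((α ^ k) q : G) = x ^ k * q * (x ^ k)⁻¹ := by
    intro k q
    rw [hαpow]
    rfl
  have hαone : ∀ k : ℕ, α ^ k = 1 ↔ x ^ k ∈ centralizer (P : Set G) := by
    intro k
    rw [hαpow, ← MonoidHom.mem_ker, normalizerMonoidHom_ker, mem_subgroupOf]
    rfl
  have hfinα : IsOfFinOrder α := isOfFinOrder_of_finite α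
  set A : Subgroup (MulAut ↥P) := zpowers α with hA
  let K := ↥P ⋊[A.subtype] ↥A
  have : Finite K := Finite.of_equiv _ (SemidirectProduct.equivProd (N := ↥P) (G := ↥A)
    (φ := A.subtype)).symm
  let iL : ↥P →* K := SemidirectProduct.inl
  let iR : ↥A →* K := SemidirectProduct.inr
  have hiL : Function.Injective iL := SemidirectProduct.inl_injective
  have hiR : Function.Injective iR := SemidirectProduct.inr_injective
  set P' : Subgroup K := iL.range with hP'
  set H' : Subgroup K := iR.range with hH'
  have eP : ↥P ≃* ↥P' := MonoidHom.ofInjective hiL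
  have eA : ↥A ≃* ↥H' := MonoidHom.ofInjective hiR
  have hP'ex : Cfsg.IsExtraspecial p ↥P' := Cfsg.Agent.Helper53.isExtraspecial_of_mulEquiv eP hP
  have hn' : Nat.card P' = p ^ (2 * n + 1) := by
    rw [← hn]; exact (Nat.card_congr eP.toEquiv).symm
  have hH'cyc : IsCyclic ↥H' := by
    have : IsCyclic ↥A := by rw [hA]; infer_instance
    exact isCyclic_of_surjective eA.toMonoidHom eA.surjective
  have hcardH' : Nat.card H' = orderOf α := by
    rw [← Nat.card_zpowers α]
    exact (Nat.card_congr eA.toEquiv).symm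
  have hordα : orderOf α ∣ orderOf x := by
    have h1 : orderOf α ∣ orderOf xN := orderOf_map_dvd _ _
    have h2 : orderOf xN = orderOf x := by
      rw [← Subgroup.orderOf_coe]
    rwa [h2] at h1
  have hcop' : (Nat.card H').Coprime p := by
    rw [hcardH']
    exact Nat.Coprime.coprime_dvd_left hordα hcop
  have hP'normal : P'.Normal := by
    rw [hP', show iL = SemidirectProduct.inl from rfl, SemidirectProduct.range_inl_eq_ker_rightHom]
    infer_instance
  have hHP' : H' ≤ normalizer (P' : Set K) := by
    rw [normalizer_eq_top]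
    exact le_top
  have hfix' : ∀ y ∈ H', y ≠ 1 →
      P' ⊓ centralizer {y} = (center ↥P').map P'.subtype := by
    rintro y ⟨a, rfl⟩ hy
    have ha1 : a ≠ 1 := by
      rintro rfl
      exact hy (map_one iR)
    obtain ⟨k, hk⟩ : ∃ k : ℕ, α ^ k = (a : MulAut ↥P) := by
      have h1 : (a : MulAut ↥P) ∈ zpowers α := a.2
      rw [← hfinα.mem_powers_iff_mem_zpowers] at h1
      exact h1
    have hk1 : α ^ k ≠ 1 := by
      intro h
      apply ha1
      apply Subtype.ext
      rw [← hk, h]
      rfl
    have hxk : x ^ k ∉ centralizer (P : Set G) := fun h => hk1 ((hαone k).mpr h)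
    have hfk := hfix k hxk
    -- fixed points of `α ^ k` are the centre
    have hfixq : ∀ q : ↥P, (α ^ k) q = q ↔ q ∈ center ↥P := by
      intro q
      have h1 : (q : G) ∈ P ⊓ centralizer {x ^ k} ↔ (q : G) ∈ (center ↥P).map P.subtype := by
        rw [hfk]
      rw [mem_inf, mem_centralizer_iff] at h1
      have h2 : (q : G) ∈ (center ↥P).map P.subtype ↔ q ∈ center ↥P := by
        constructor
        · rintro ⟨q', hq', hqq⟩
          have : q' = q := Subtype.ext hqq
          rwa [← this]
        · intro hq
          exact ⟨q, hq, rfl⟩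
      rw [← h2, ← h1]
      constructor
      · intro h
        refine ⟨q.2, ?_⟩
        intro g hg
        rw [Set.mem_singleton_iff] at hg
        subst hg
        have h3 : ((α ^ k) q : G) = q := congrArg Subtype.val h
        rw [hαapply] at h3
        calc x ^ k * q = (x ^ k * q * (x ^ k)⁻¹) * x ^ k := by group
          _ = q * x ^ k := by rw [h3]
      · rintro ⟨-, h⟩
        apply Subtype.ext
        rw [hαapply]
        have h3 := h (x ^ k) (Set.mem_singleton _)
        rw [h3]
        group
    ext w
    constructor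
    · rintro ⟨⟨q, rfl⟩, hw⟩
      replace hw : iL q ∈ centralizer {iR a} := hw
      rw [mem_centralizer_iff] at hw
      have h1 := hw (iR a) (Set.mem_singleton _)
      -- `inr a * inl q = inl q * inr a`
      have h2 : (a : MulAut ↥P) q = q := by
        have := congrArg SemidirectProduct.left h1
        change (1 : ↥P) * (A.subtype a) q = q * (A.subtype 1) 1 at this
        simpa using this
      rw [← hk] at h2
      have hq := (hfixq q).mp h2
      have hcen : (⟨iL q, ⟨q, rfl⟩⟩ : ↥P') ∈ center ↥P' := by
        rw [mem_center_iff]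
        rintro ⟨_, ⟨q', rfl⟩⟩
        apply Subtype.ext
        show iL q' * iL q = iL q * iL q'
        rw [← map_mul, ← map_mul, mem_center_iff.mp hq q']
      exact ⟨⟨iL q, ⟨q, rfl⟩⟩, hcen, rfl⟩
    · rintro ⟨⟨_, ⟨q, rfl⟩⟩, hc, rfl⟩
      have hq : q ∈ center ↥P := by
        rw [mem_center_iff]
        intro q'
        have := mem_center_iff.mp hc ⟨iL q', ⟨q', rfl⟩⟩
        have h2 : iL q' * iL q = iL q * iL q' := congrArg Subtype.val this
        rw [← map_mul, ← map_mul] at h2
        exact hiL h2
      have h2 := (hfixq q).mpr hq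
      rw [hk] at h2
      refine ⟨⟨q, rfl⟩, ?_⟩
      show iL q ∈ centralizer {iR a}
      rw [mem_centralizer_iff]
      intro g hg
      rw [Set.mem_singleton_iff] at hg
      subst hg
      show iR a * iL q = iL q * iR a
      apply SemidirectProduct.ext
      · change (1 : ↥P) * (A.subtype a) q = q * (A.subtype 1) 1
        simpa using h2
      · change a * 1 = 1 * a
        simp
  have key := Cfsg.Agent.S3767.result P' H' hP'ex n hn' hH'cyc hcop' hHP' hfix'
  rw [hcardH'] at key
  refine ⟨orderOf α, hfinα.orderOf_pos, key, ?_⟩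
  rw [← hαone]
  exact pow_orderOf_eq_one α

end Cfsg.Agent.Helper84.PQ
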