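import Mathlib
import Cfsg.Agent.Helper52.PQDefs
import Cfsg.Prelude.Def_Transfer
import Cfsg.Agent.Helper84.PQE3a
import Cfsg.Agent.Helper17.OrbitCount
import Cfsg.Agent.Helper1.CoprimeAction

set_option autoImplicit false

/-!
# S4306, piece (E3) `lemmaE3` (helper84 for helper52)

In the exceptional Fermat configuration `ECfg`, once `P = [Q, b]` is extraspecial of order
`2 ^ (2 n + 1)`, `t = 2 ^ n + 1`, `Z(P) = C_P(b) = Z`, and `b` acts trivially on `R / C_R(Q)`:
contradiction.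
-/

namespace Cfsg.Agent.Helper84.PQ

open Subgroup Cfsg.Agent.Helper1.Shult Cfsg.Agent.Helper52.PQ
open scoped commutatorElement

section general

variable {H : Type*} [Group H]

theorem mem_normalizer_commutator {X Y : Subgroup H} {g : H}
    (hX : g ∈ normalizer (X : Set H)) (hY : g ∈ normalizer (Y : Set H)) :
    g ∈ normalizer ((⁅X, Y⁆ : Subgroup H) : Set H) := by
  have key : ∀ g : H, g ∈ normalizer (X : Set H) → g ∈ normalizer (Y : Set H) →
      ∀ c ∈ ⁅X, Y⁆, g * c * g⁻¹ ∈ ⁅X, Y⁆ := by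
    intro g hX hY c hc
    have h1 : X.map (MulAut.conj g).toMonoidHom ≤ X := by
      rintro _ ⟨a, ha, rfl⟩
      exact (mem_normalizer_iff.mp hX a).mp ha
    have h2 : Y.map (MulAut.conj g).toMonoidHom ≤ Y := by
      rintro _ ⟨a, ha, rfl⟩
      exact (mem_normalizer_iff.mp hY a).mp ha
    have h3 : g * c * g⁻¹ ∈ (⁅X, Y⁆).map (MulAut.conj g).toMonoidHom := ⟨c, hc, rfl⟩
    rw [Subgroup.map_commutator] at h3
    exact Subgroup.commutator_mono h1 h2 h3
  rw [mem_normalizer_iff]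
  intro c
  constructor
  · exact key g hX hY c
  · intro h
    have := key g⁻¹ (inv_mem hX) (inv_mem hY) _ h
    simpa [mul_assoc] using this

theorem mem_normalizer_inf {X Y : Subgroup H} {g : H}
    (hX : g ∈ normalizer (X : Set H)) (hY : g ∈ normalizer (Y : Set H)) :
    g ∈ normalizer ((X ⊓ Y : Subgroup H) : Set H) := by
  rw [mem_normalizer_iff] at hX hY ⊢
  intro c
  rw [mem_inf, mem_inf, hX c, hY c]

theorem mem_normalizer_centralizer {X : Subgroup H} {g : H}
    (hX : g ∈ normalizer (X : Set H)) : g ∈ normalizer ((centralizer (X : Set H) : Subgroup H) : Set H) := by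
  have key : ∀ g : H, g ∈ normalizer (X : Set H) → ∀ y ∈ centralizer (X : Set H),
      g * y * g⁻¹ ∈ centralizer (X : Set H) := by
    intro g hg y hy
    rw [mem_centralizer_iff] at hy ⊢
    intro q hq
    have hq' : g⁻¹ * q * g ∈ X := by
      have := (mem_normalizer_iff.mp (inv_mem hg) q).mp hq
      simpa using this
    have h1 := hy _ hq'
    calc q * (g * y * g⁻¹) = g * ((g⁻¹ * q * g) * y) * g⁻¹ := by group
      _ = g * (y * (g⁻¹ * q * g)) * g⁻¹ := by rw [h1]
      _ = g * y * g⁻¹ * q := by group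
  rw [mem_normalizer_iff]
  intro c
  constructor
  · exact key g hX c
  · intro h
    have := key g⁻¹ (inv_mem hX) _ h
    simpa [mul_assoc] using this

theorem mem_normalizer_centralizer_singleton {g h : H} (hc : g * h = h * g) :
    g ∈ normalizer ((centralizer ({h} : Set H) : Subgroup H) : Set H) := by
  have key : ∀ g : H, g * h = h * g → ∀ y ∈ centralizer ({h} : Set H),
      g * y * g⁻¹ ∈ centralizer ({h} : Set H) := by
    intro g hg y hy
    rw [mem_centralizer_iff] at hy ⊢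
    intro q hq
    rw [Set.mem_singleton_iff] at hq
    subst hq
    have h1 := hy q (Set.mem_singleton q)
    have hg' : g⁻¹ * q = q * g⁻¹ := by
      calc g⁻¹ * q = g⁻¹ * (q * g) * g⁻¹ := by group
        _ = g⁻¹ * (g * q) * g⁻¹ := by rw [hg]
        _ = q * g⁻¹ := by group
    calc q * (g * y * g⁻¹) = (q * g) * y * g⁻¹ := by group
      _ = (g * q) * y * g⁻¹ := by rw [hg]
      _ = g * (q * y) * g⁻¹ := by group
      _ = g * (y * q) * g⁻¹ := by rw [h1]
      _ = g * y * (q * g⁻¹) := by group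
      _ = g * y * (g⁻¹ * q) := by rw [hg']
      _ = g * y * g⁻¹ * q := by group
  have hinv : g⁻¹ * h = h * g⁻¹ := by
    calc g⁻¹ * h = g⁻¹ * (h * g) * g⁻¹ := by group
      _ = g⁻¹ * (g * h) * g⁻¹ := by rw [hc]
      _ = h * g⁻¹ := by group
  rw [mem_normalizer_iff]
  intro c
  constructor
  · exact key g hc c
  · intro h'
    have := key g⁻¹ hinv _ h'
    simpa [mul_assoc] using this

theorem centralizer_zpowers_eq (b : H) :
    centralizer ((zpowers b : Subgroup H) : Set H) = centralizer {b} := by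
  ext y
  simp only [mem_centralizer_iff]
  constructor
  · intro h g hg
    rw [Set.mem_singleton_iff] at hg
    subst hg
    exact h _ (mem_zpowers _)
  · intro h g hg
    obtain ⟨k, rfl⟩ := mem_zpowers_iff.mp hg
    have hc : Commute b y := h b (Set.mem_singleton b)
    exact (hc.zpow_left k).eq

theorem mem_normalizer_zpowers_of_commute {b c : H} (hc : c * b = b * c) :
    c ∈ normalizer ((zpowers b : Subgroup H) : Set H) := by
  rw [mem_normalizer_iff]
  intro a
  have key : ∀ a ∈ zpowers b, c * a * c⁻¹ = a := by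
    intro a ha
    obtain ⟨k, rfl⟩ := mem_zpowers_iff.mp ha
    have h1 : Commute c b := hc
    have h2 : c * b ^ k = b ^ k * c := (h1.zpow_right k).eq
    rw [h2]; group
  constructor
  · intro ha
    rw [key a ha]; exact ha
  · intro ha
    have h1 := key _ ha
    have h2 : c * a * c⁻¹ = a := by
      have : c * (c * a * c⁻¹) * c⁻¹ = c * a * c⁻¹ := h1
      have h3 : c⁻¹ * (c * (c * a * c⁻¹) * c⁻¹) * c = c⁻¹ * (c * a * c⁻¹) * c := by rw [this]
      simpa [mul_assoc] using h3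
    rw [← h2]; exact ha

theorem map_center_subtype_eq (P : Subgroup H) :
    (center ↥P).map P.subtype = P ⊓ centralizer (P : Set H) := by
  ext y
  constructor
  · rintro ⟨q, hq, rfl⟩
    have hq' : q ∈ center ↥P := hq
    have h1 : (q : H) ∈ centralizer (P : Set H) := by
      rw [mem_centralizer_iff]
      intro p hp
      have := mem_center_iff.mp hq' ⟨p, hp⟩
      exact congrArg Subtype.val this
    exact ⟨q.2, h1⟩
  · rintro ⟨hyP, hyc⟩
    have hyP' : y ∈ P := hyP
    have hyc' : y ∈ centralizer (P : Set H) := hyc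
    have h1 : (⟨y, hyP'⟩ : ↥P) ∈ center ↥P := by
      rw [mem_center_iff]
      intro p
      apply Subtype.ext
      exact (mem_centralizer_iff.mp hyc') p p.2
    exact ⟨⟨y, hyP'⟩, h1, rfl⟩

theorem eq_zero_or_eq_of_dvd {n d : ℕ} (hd : d ≤ 2 * n) (h : 2 ^ n + 1 ∣ 2 ^ d - 1) :
    d = 0 ∨ d = 2 * n := by
  by_contra hcon
  push Not at hcon
  obtain ⟨hd0, hd2⟩ := hcon
  have hdpos : 0 < d := Nat.pos_of_ne_zero hd0
  have hdlt : d < 2 * n := lt_of_le_of_ne hd hd2
  rcases le_or_gt d n with hdn | hdn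
  · have h1 : 2 ^ d ≤ 2 ^ n := Nat.pow_le_pow_right (by norm_num) hdn
    have h2 : 2 ^ 1 ≤ 2 ^ d := Nat.pow_le_pow_right (by norm_num) hdpos
    have h3 := Nat.le_of_dvd (by omega) h
    omega
  · obtain ⟨e, rfl⟩ : ∃ e, d = n + e := ⟨d - n, by omega⟩
    have hen : e < n := by omega
    have hA : 1 ≤ 2 ^ n := Nat.one_le_two_pow
    have hB : 1 ≤ 2 ^ e := Nat.one_le_two_pow
    have hAB : 1 ≤ 2 ^ n * 2 ^ e := Nat.mul_pos hA hB
    have h1 : 2 ^ (n + e) - 1 + (2 ^ e + 1) = 2 ^ e * (2 ^ n + 1) := by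
      rw [pow_add, mul_add, mul_one, mul_comm (2 ^ e) (2 ^ n)]
      omega
    have h2 : 2 ^ n + 1 ∣ 2 ^ (n + e) - 1 + (2 ^ e + 1) := by
      rw [h1]; exact dvd_mul_left _ _
    have h3 : 2 ^ n + 1 ∣ 2 ^ e + 1 := (Nat.dvd_add_right h).mp h2
    have h4 := Nat.le_of_dvd (by omega) h3
    have h5 : 2 ^ e < 2 ^ n := Nat.pow_lt_pow_right (by norm_num) hen
    omega

end general


section main

variable {H : Type*} [Group H] [Finite H]

/-- Irreducibility of `b` on `P / Z`: a `b`-invariant subgroup between `Z` and `P` is `Z` or `P`. -/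
theorem irr_of_fermat {t n : ℕ} [Fact t.Prime] (ht2 : t ≠ 2) {b : H} {P Z : Subgroup H}
    (ob : orderOf b = t) (hZcard : Nat.card Z = 2)
    (hCb : P ⊓ centralizer {b} = Z)
    (hn : t = 2 ^ n + 1) (hcard : Nat.card ↥P = 2 ^ (2 * n + 1))
    (Y : Subgroup H) (hZY : Z ≤ Y) (hYP : Y ≤ P) (hbY : b ∈ normalizer (Y : Set H)) :
    Y = Z ∨ Y = P := by
  have ht : t.Prime := Fact.out
  have hKt : IsPGroup t (zpowers b) :=
    IsPGroup.of_card (n := 1) (by rw [Nat.card_zpowers, ob, pow_one])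
  have hmod := Cfsg.Agent.Helper17.card_modEq_card_inf_centralizer (zpowers b) Y hKt
    (zpowers_le.mpr hbY)
  have hYc : Y ⊓ centralizer ((zpowers b : Subgroup H) : Set H) = Z := by
    rw [centralizer_zpowers_eq]
    apply le_antisymm
    · rw [← hCb]
      exact inf_le_inf_right _ hYP
    · refine le_inf hZY ?_
      rw [← hCb]
      exact inf_le_right
  rw [hYc, hZcard] at hmod
  have hdvd : Nat.card Y ∣ 2 ^ (2 * n + 1) := by
    rw [← hcard]; exact Subgroup.card_dvd_of_le hYP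
  obtain ⟨e, he, hYe⟩ := (Nat.dvd_prime_pow Nat.prime_two).mp hdvd
  have h2Y : 2 ∣ Nat.card Y := by
    rw [← hZcard]; exact Subgroup.card_dvd_of_le hZY
  have he1 : 1 ≤ e := by
    rcases Nat.eq_zero_or_pos e with h | h
    · rw [hYe, h, pow_zero] at h2Y
      exact absurd h2Y (by norm_num)
    · exact h
  obtain ⟨d, rfl⟩ : ∃ d, e = d + 1 := ⟨e - 1, by omega⟩
  have hcop2 : Nat.Coprime t 2 := (Nat.coprime_primes ht Nat.prime_two).mpr ht2
  have h1 : 2 ^ d ≡ 1 [MOD t] := by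
    have h2 : 2 * 2 ^ d ≡ 2 * 1 [MOD t] := by
      rw [hYe, pow_succ, mul_comm] at hmod
      simpa using hmod
    exact Nat.ModEq.cancel_left_of_coprime hcop2 h2
  have h3 : t ∣ 2 ^ d - 1 := (Nat.modEq_iff_dvd' Nat.one_le_two_pow).mp h1.symm
  rw [hn] at h3
  rcases eq_zero_or_eq_of_dvd (by omega) h3 with h0 | h0
  · left
    subst h0
    symm
    apply Subgroup.eq_of_le_of_card_ge hZY
    rw [hYe, hZcard]; norm_num
  · right
    apply Subgroup.eq_of_le_of_card_ge hYP
    rw [hYe, hcard, h0]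

/-- `C_P(h)` is `Z` or `P` for `h` commuting with `b` and centralizing `Z`. -/
theorem cent_dichotomy {t n : ℕ} [Fact t.Prime] (ht2 : t ≠ 2) {b : H} {P Z : Subgroup H}
    (ob : orderOf b = t) (hZcard : Nat.card Z = 2) (hZP : Z ≤ P)
    (hbP : b ∈ normalizer (P : Set H)) (hCb : P ⊓ centralizer {b} = Z)
    (hn : t = 2 ^ n + 1) (hcard : Nat.card ↥P = 2 ^ (2 * n + 1))
    (h : H) (hbh : b * h = h * b) (hhZ : ∀ z ∈ Z, h * z = z * h) :
    P ⊓ centralizer {h} = Z ∨ h ∈ centralizer (P : Set H) := by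
  have hbY : b ∈ normalizer ((P ⊓ centralizer {h} : Subgroup H) : Set H) :=
    mem_normalizer_inf hbP (mem_normalizer_centralizer_singleton hbh)
  have hZY : Z ≤ P ⊓ centralizer {h} := by
    refine le_inf hZP ?_
    intro z hz
    rw [mem_centralizer_iff]
    intro g hg
    rw [Set.mem_singleton_iff] at hg; subst hg
    exact hhZ z hz
  rcases irr_of_fermat ht2 ob hZcard hCb hn hcard _ hZY inf_le_left hbY with h1 | h1
  · left; exact h1
  · right
    rw [mem_centralizer_iff]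
    intro p hp
    have : p ∈ P ⊓ centralizer {h} := by rw [h1]; exact hp
    have h2 := mem_centralizer_iff.mp this.2 h (Set.mem_singleton h)
    exact h2.symm

/-- the claim of (E3): an element of `R` commuting with `b` centralizes `P = [Q, b]`. -/
theorem claim_centralizes {ℓ u t : ℕ} [Fact ℓ.Prime] [Fact u.Prime] {b : H} {W Q Z R : Subgroup H}
    (e : ECfg ℓ u t b W Q Z R)
    (hP : Cfsg.IsExtraspecial 2 ↥(⁅Q, zpowers b⁆)) (hZP : Z ≤ ⁅Q, zpowers b⁆)
    (hcen : ⁅Q, zpowers b⁆ ⊓ centralizer ((⁅Q, zpowers b⁆ : Subgroup H) : Set H) = Z)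
    (hCb : ⁅Q, zpowers b⁆ ⊓ centralizer {b} = Z)
    (n : ℕ) (hn : t = 2 ^ n + 1) (hcard : Nat.card ↥(⁅Q, zpowers b⁆) = 2 ^ (2 * n + 1))
    (c : H) (hcR : c ∈ R) (hbc : b * c = c * b) :
    c ∈ centralizer ((⁅Q, zpowers b⁆ : Subgroup H) : Set H) := by
  classical
  by_contra hc
  have : Fact t.Prime := ⟨e.ht⟩
  have ht : t.Prime := e.ht
  have hu : u.Prime := Fact.out
  have hn1 : 1 ≤ n := by
    rcases Nat.eq_zero_or_pos n with h | h
    · exfalso; rw [h] at hn; exact e.ht2 (by rw [hn]; norm_num)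
    · exact h
  have hbB : b ∈ normalizer ((zpowers b : Subgroup H) : Set H) := le_normalizer (mem_zpowers b)
  have hbP : b ∈ normalizer ((⁅Q, zpowers b⁆ : Subgroup H) : Set H) :=
    mem_normalizer_commutator e.hbQ hbB
  have hcP : c ∈ normalizer ((⁅Q, zpowers b⁆ : Subgroup H) : Set H) :=
    mem_normalizer_commutator (e.hRQ hcR) (mem_normalizer_zpowers_of_commute hbc.symm)
  have hcomm : Commute b c := hbc
  obtain ⟨k, hk⟩ : ∃ k : ℕ, c ^ (u ^ k) = 1 := by
    obtain ⟨k, hk⟩ := e.hR ⟨c, hcR⟩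
    exact ⟨k, by simpa using congrArg Subtype.val hk⟩
  have hxpow : ∀ j : ℕ, (b * c) ^ j = b ^ j * c ^ j := fun j => hcomm.mul_pow j
  have hxN : b * c ∈ normalizer ((⁅Q, zpowers b⁆ : Subgroup H) : Set H) :=
    Subgroup.mul_mem _ hbP hcP
  have hbt : b ^ t = 1 := by rw [← e.ob]; exact pow_orderOf_eq_one b
  have hxord : orderOf (b * c) ∣ t * u ^ k := by
    apply orderOf_dvd_of_pow_eq_one
    rw [hxpow, pow_mul, hbt, one_pow, one_mul, mul_comm, pow_mul, hk, one_pow]
  have hcop : (orderOf (b * c)).Coprime 2 := by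
    apply Nat.Coprime.coprime_dvd_left hxord
    apply Nat.Coprime.mul_left
    · exact (Nat.coprime_primes ht Nat.prime_two).mpr e.ht2
    · exact Nat.Coprime.pow_left _ ((Nat.coprime_primes hu Nat.prime_two).mpr e.hu2)
  have hZb : ∀ z ∈ Z, b * z = z * b := by
    intro z hz
    have : z ∈ ⁅Q, zpowers b⁆ ⊓ centralizer {b} := by rw [hCb]; exact hz
    exact mem_centralizer_iff.mp this.2 b (Set.mem_singleton b)
  have hZc : ∀ z ∈ Z, c * z = z * c := by
    intro z hz
    have := e.hRZ hcR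
    exact (mem_centralizer_iff.mp this z hz).symm
  have hfix : ∀ j : ℕ, (b * c) ^ j ∉ centralizer ((⁅Q, zpowers b⁆ : Subgroup H) : Set H) →
      ⁅Q, zpowers b⁆ ⊓ centralizer {(b * c) ^ j} =
        (center ↥(⁅Q, zpowers b⁆)).map (⁅Q, zpowers b⁆).subtype := by
    intro j hj
    rw [map_center_subtype_eq, hcen]
    have hbx : b * (b * c) ^ j = (b * c) ^ j * b := by
      have : Commute b (b * c) := (Commute.refl b).mul_right hcomm
      exact (this.pow_right j).eq
    have hxZ : ∀ z ∈ Z, (b * c) ^ j * z = z * (b * c) ^ j := by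
      intro z hz
      have h1 : Commute (b * c) z :=
        (show Commute b z from hZb z hz).mul_left (show Commute c z from hZc z hz)
      exact (h1.pow_left j).eq
    rcases cent_dichotomy e.ht2 e.ob e.hZcard hZP hbP hCb hn hcard ((b * c) ^ j) hbx hxZ
      with h1 | h1
    · exact h1
    · exact absurd h1 hj
  obtain ⟨m, hm0, hmdvd, hxm⟩ :=
    exists_pow_mem_centralizer_extraspecial _ hP n hcard (b * c) hxN hcop hfix
  have hPneZ : (⁅Q, zpowers b⁆ : Subgroup H) ≠ Z := by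
    intro h
    have h1 : Nat.card ↥(⁅Q, zpowers b⁆ : Subgroup H) = 2 := by rw [h]; exact e.hZcard
    rw [hcard] at h1
    have h2 : 2 ^ 3 ≤ 2 ^ (2 * n + 1) := Nat.pow_le_pow_right (by norm_num) (by omega)
    omega
  have hbnot : b ∉ centralizer ((⁅Q, zpowers b⁆ : Subgroup H) : Set H) := by
    intro hb
    apply hPneZ
    rw [← hCb]
    apply le_antisymm
    · refine le_inf le_rfl ?_
      intro p hp
      rw [mem_centralizer_iff]
      intro g hg; rw [Set.mem_singleton_iff] at hg; subst hg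
      exact (mem_centralizer_iff.mp hb p hp).symm
    · exact inf_le_left
  have htm : t ∣ m := by
    by_contra htm
    have h1 : ((b * c) ^ m) ^ (u ^ k) ∈ centralizer ((⁅Q, zpowers b⁆ : Subgroup H) : Set H) :=
      pow_mem hxm _
    have h2 : ((b * c) ^ m) ^ (u ^ k) = b ^ (m * u ^ k) := by
      rw [← pow_mul, hxpow, mul_comm m (u ^ k), pow_mul c, hk, one_pow, mul_one]
    rw [h2] at h1
    have h3 : (m * u ^ k).Coprime (orderOf b) := by
      rw [e.ob]
      apply Nat.Coprime.symm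
      rw [Nat.Prime.coprime_iff_not_dvd ht]
      intro h
      rcases (Nat.Prime.dvd_mul ht).mp h with h | h
      · exact htm h
      · have := Nat.Prime.dvd_of_dvd_pow ht h
        exact e.hut ((Nat.prime_dvd_prime_iff_eq ht hu).mp this).symm
    obtain ⟨s, hs⟩ := exists_pow_eq_self_of_coprime h3
    apply hbnot
    have h4 := pow_mem h1 s
    rwa [hs] at h4
  have hum : u ∣ m := by
    by_contra hum
    have hbm : b ^ m = 1 := by
      rw [← e.ob] at htm
      exact orderOf_dvd_iff_pow_eq_one.mp htm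
    have h1 : c ^ m ∈ centralizer ((⁅Q, zpowers b⁆ : Subgroup H) : Set H) := by
      have := hxm
      rwa [hxpow, hbm, one_mul] at this
    have hordc : orderOf c ∣ u ^ k := orderOf_dvd_of_pow_eq_one hk
    obtain ⟨i, -, hi⟩ := (Nat.dvd_prime_pow hu).mp hordc
    have h3 : m.Coprime (orderOf c) := by
      rw [hi]
      apply Nat.Coprime.pow_right
      apply Nat.Coprime.symm
      rwa [Nat.Prime.coprime_iff_not_dvd hu]
    obtain ⟨s, hs⟩ := exists_pow_eq_self_of_coprime h3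
    apply hc
    have h4 := pow_mem h1 s
    rwa [hs] at h4
  have htu : t * u ∣ m :=
    Nat.Coprime.mul_dvd_of_dvd_of_dvd ((Nat.coprime_primes ht hu).mpr (Ne.symm e.hut)) htm hum
  have hu2 : 2 ≤ u := hu.two_le
  have h2n : 2 ^ 1 ≤ 2 ^ n := Nat.pow_le_pow_right (by norm_num) hn1
  have h2 : t * 2 ≤ t * u := Nat.mul_le_mul_left t hu2
  rcases hmdvd with h | h
  · have h1 := Nat.le_of_dvd (by omega) (htu.trans h)
    omega
  · have h1 := Nat.le_of_dvd (by omega) (htu.trans h)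
    omega

/-- **(E3)** of helper52's S4306 skeleton. -/
theorem lemmaE3 {ℓ u t : ℕ} [Fact ℓ.Prime] [Fact u.Prime] {b : H} {W Q Z R : Subgroup H}
    (e : ECfg ℓ u t b W Q Z R)
    (hP : Cfsg.IsExtraspecial 2 ↥(⁅Q, zpowers b⁆)) (hZP : Z ≤ ⁅Q, zpowers b⁆)
    (hcen : ⁅Q, zpowers b⁆ ⊓ centralizer ((⁅Q, zpowers b⁆ : Subgroup H) : Set H) = Z)
    (hCb : ⁅Q, zpowers b⁆ ⊓ centralizer {b} = Z)
    (n : ℕ) (hn : t = 2 ^ n + 1) (hcard : Nat.card ↥(⁅Q, zpowers b⁆) = 2 ^ (2 * n + 1))
    (hRb : ∀ x ∈ R, x⁻¹ * (b * x * b⁻¹) ∈ centralizer (Q : Set H)) : False := by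
  classical
  have ht : t.Prime := e.ht
  have hu : u.Prime := Fact.out
  have hn1 : 1 ≤ n := by
    rcases Nat.eq_zero_or_pos n with h | h
    · exfalso; rw [h] at hn; exact e.ht2 (by rw [hn]; norm_num)
    · exact h
  -- `P ≤ Q`
  have hPQ : (⁅Q, zpowers b⁆ : Subgroup H) ≤ Q := by
    rw [Subgroup.commutator_le]
    intro g hg a ha
    have haQ : a ∈ normalizer (Q : Set H) := (zpowers_le.mpr e.hbQ) ha
    have h1 : a * g⁻¹ * a⁻¹ ∈ Q := (mem_normalizer_iff.mp haQ g⁻¹).mp (Q.inv_mem hg)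
    have e1 : ⁅g, a⁆ = g * (a * g⁻¹ * a⁻¹) := by rw [commutatorElement_def]; group
    rw [e1]; exact Q.mul_mem hg h1
  -- `D = C_R(Q)`
  set D : Subgroup H := R ⊓ centralizer (Q : Set H) with hD
  have hnormD : ∀ g : H, g ∈ normalizer (R : Set H) → g ∈ normalizer (Q : Set H) →
      g ∈ normalizer (D : Set H) := fun g hgR hgQ =>
    mem_normalizer_inf hgR (mem_normalizer_centralizer hgQ)
  have hbD : b ∈ normalizer (D : Set H) := hnormD b e.hbR e.hbQ
  have hRD : R ≤ normalizer (D : Set H) := fun x hx => hnormD x (le_normalizer hx) (e.hRQ hx)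
  -- every element of `R` centralizes `P`
  have hRP : R ≤ centralizer ((⁅Q, zpowers b⁆ : Subgroup H) : Set H) := by
    intro x hx
    -- the subgroup of `a` with `a x a⁻¹ x⁻¹ ∈ D`
    let T : Subgroup H :=
      { carrier := {a | a ∈ normalizer (D : Set H) ∧ a * x * a⁻¹ * x⁻¹ ∈ D}
        one_mem' := ⟨one_mem _, by simp⟩
        mul_mem' := by
          rintro a a' ⟨ha, hax⟩ ⟨ha', hax'⟩
          refine ⟨mul_mem ha ha', ?_⟩
          have h1 : a * (a' * x * a'⁻¹ * x⁻¹) * a⁻¹ ∈ D := (mem_normalizer_iff.mp ha _).mp hax'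
          have h2 := D.mul_mem h1 hax
          have e1 : a * (a' * x * a'⁻¹ * x⁻¹) * a⁻¹ * (a * x * a⁻¹ * x⁻¹) =
              a * a' * x * (a * a')⁻¹ * x⁻¹ := by group
          rwa [e1] at h2
        inv_mem' := by
          rintro a ⟨ha, hax⟩
          refine ⟨inv_mem ha, ?_⟩
          have h1 : a⁻¹ * (a * x * a⁻¹ * x⁻¹) * a⁻¹⁻¹ ∈ D :=
            (mem_normalizer_iff.mp (inv_mem ha) _).mp hax
          have h2 := D.inv_mem h1
          have e1 : (a⁻¹ * (a * x * a⁻¹ * x⁻¹) * a⁻¹⁻¹)⁻¹ = a⁻¹ * x * a⁻¹⁻¹ * x⁻¹ := by group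
          rwa [e1] at h2 }
    have hbT : b ∈ T := by
      refine ⟨hbD, ?_⟩
      have h1 : x⁻¹ * (b * x * b⁻¹) ∈ D := by
        refine ⟨R.mul_mem (R.inv_mem hx) ((mem_normalizer_iff.mp e.hbR x).mp hx), hRb x hx⟩
      have h2 : x * (x⁻¹ * (b * x * b⁻¹)) * x⁻¹ ∈ D := (mem_normalizer_iff.mp (hRD hx) _).mp h1
      have e1 : x * (x⁻¹ * (b * x * b⁻¹)) * x⁻¹ = b * x * b⁻¹ * x⁻¹ := by group
      rwa [e1] at h2
    have hAT : zpowers b ≤ T := zpowers_le.mpr hbT
    have hAD : zpowers b ≤ normalizer (D : Set H) := zpowers_le.mpr hbD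
    obtain ⟨kD, hkD⟩ := (e.hR.to_le (inf_le_left : D ≤ R)).exists_card_eq
    have hcop : (Nat.card (zpowers b)).Coprime (Nat.card D) := by
      rw [Nat.card_zpowers, e.ob, hkD]
      exact Nat.Coprime.pow_right _ ((Nat.coprime_primes ht hu).mpr (Ne.symm e.hut))
    have hsolv : Group.IsSolvable ↥(zpowers b) ∨ Group.IsSolvable ↥D := Or.inl inferInstance
    obtain ⟨d, hdD, hdx⟩ := Cfsg.Agent.Helper1.exists_mem_coset_centralizer (zpowers b) D hAD hcop
      hsolv x (fun a ha => ⟨a * x * a⁻¹ * x⁻¹, (hAT ha).2, by group⟩)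
    have hbc : b * (d * x) = d * x * b :=
      mem_centralizer_iff.mp hdx b (mem_zpowers b)
    have hcl := claim_centralizes e hP hZP hcen hCb n hn hcard (d * x)
      (R.mul_mem hdD.1 hx) hbc
    have hdP : d ∈ centralizer ((⁅Q, zpowers b⁆ : Subgroup H) : Set H) :=
      centralizer_le (by exact_mod_cast hPQ) hdD.2
    have e1 : x = d⁻¹ * (d * x) := by group
    rw [e1]
    exact mul_mem (inv_mem hdP) hcl
  -- an element of `P` outside `Z`
  have hex : ∃ g ∈ (⁅Q, zpowers b⁆ : Subgroup H), g ∉ Z := by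
    by_contra hcon
    push Not at hcon
    have h1 : (⁅Q, zpowers b⁆ : Subgroup H) = Z := le_antisymm hcon hZP
    have h2 : Nat.card ↥(⁅Q, zpowers b⁆ : Subgroup H) = 2 := by rw [h1]; exact e.hZcard
    rw [hcard] at h2
    have h3 : 2 ^ 3 ≤ 2 ^ (2 * n + 1) := Nat.pow_le_pow_right (by norm_num) (by omega)
    omega
  obtain ⟨g, hgP, hgZ⟩ := hex
  apply hgZ
  apply e.hQR g (hPQ hgP)
  intro x hx
  have h1 : g * x = x * g := mem_centralizer_iff.mp (hRP hx) g hgP
  have e1 : g⁻¹ * (x * g * x⁻¹) = 1 := by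
    rw [← h1]; group
  rw [e1]
  exact one_mem _

end main

end Cfsg.Agent.Helper84.PQ
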