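import Mathlib
import Cfsg.Agent.Helper54.SCG.Defs

/-!
# helper84: leaf (V4) of helper54's SCG farm (S3921)

A group with `SC`, a central involution `t`, a Sylow 2-subgroup `S` that is a four-group and
contains every involution, is a 2-group (every element has order dividing 4).
-/

set_option autoImplicit false

namespace Cfsg.Agent.Helper84.SCG

open Cfsg.Agent.Helper54.SCG

/-- in a non-cyclic group of order 4 every element squares to 1 -/
theorem V4_sq_eq_one {C : Type*} [Group C] [Finite C] (S : Subgroup C)
    (hS4 : Nat.card ↥S = 4) (hSn : ¬ IsCyclic ↥S) (x : C) (hx : x ∈ S) : x * x = 1 := by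
  have hdvd : orderOf (⟨x, hx⟩ : ↥S) ∣ 4 := by
    rw [← hS4]; exact orderOf_dvd_natCard _
  have hle : orderOf (⟨x, hx⟩ : ↥S) ≤ 4 := Nat.le_of_dvd (by norm_num) hdvd
  have hne4 : orderOf (⟨x, hx⟩ : ↥S) ≠ 4 := by
    intro h4
    apply hSn
    exact isCyclic_of_orderOf_eq_card (⟨x, hx⟩ : ↥S) (by rw [h4, hS4])
  have h2 : orderOf (⟨x, hx⟩ : ↥S) ∣ 2 := by
    interval_cases h : orderOf (⟨x, hx⟩ : ↥S)
    · simp at hdvd
    · norm_num
    · norm_num
    · norm_num at hdvd
    · exact absurd rfl hne4
  have h3 : (⟨x, hx⟩ : ↥S) ^ 2 = 1 := orderOf_dvd_iff_pow_eq_one.mp h2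
  have h4 : x ^ 2 = 1 := by
    have := congrArg Subtype.val h3
    simpa using this
  rwa [pow_two] at h4

/-- the elements of a non-cyclic group of order 4 containing the involution `t` and an element
`s ∉ {1, t}` -/
theorem V4_enum {C : Type*} [Group C] [Finite C] (S : Subgroup C)
    (hS4 : Nat.card ↥S = 4) (t s : C) (ht1 : t ≠ 1) (htS : t ∈ S) (hsS : s ∈ S) (hs1 : s ≠ 1)
    (hst : s ≠ t) (ht2 : t * t = 1) (x : C) (hx : x ∈ S) :
    x = 1 ∨ x = t ∨ x = s ∨ x = t * s := by
  classical
  let A : Finset C := {1, t, s, t * s}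
  have hA4 : A.card = 4 := by
    have h1 : (1 : C) ≠ t := fun h => ht1 h.symm
    have h2 : (1 : C) ≠ s := fun h => hs1 h.symm
    have h3 : (1 : C) ≠ t * s := by
      intro h
      apply hst
      have : t * (t * s) = t * 1 := by rw [← h]
      rw [← mul_assoc, ht2, one_mul, mul_one] at this
      exact this
    have h4 : t ≠ s := fun h => hst h.symm
    have h5 : t ≠ t * s := by
      intro h
      apply hs1
      have : t * 1 = t * s := by rw [mul_one]; exact h
      exact (mul_left_cancel this).symm
    have h6 : s ≠ t * s := by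
      intro h
      apply ht1
      have : 1 * s = t * s := by rw [one_mul]; exact h
      exact (mul_right_cancel this).symm
    simp only [A]
    rw [Finset.card_insert_of_notMem, Finset.card_insert_of_notMem, Finset.card_insert_of_notMem,
      Finset.card_singleton]
    · simp only [Finset.mem_singleton]; exact h6
    · simp only [Finset.mem_insert, Finset.mem_singleton, not_or]; exact ⟨h4, h5⟩
    · simp only [Finset.mem_insert, Finset.mem_singleton, not_or]; exact ⟨h1, h2, h3⟩
  have hsub : (↑A : Set C) ⊆ (S : Set C) := by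
    intro y hy
    simp only [A, Finset.coe_insert, Finset.coe_singleton, Set.mem_insert_iff,
      Set.mem_singleton_iff] at hy
    rcases hy with rfl | rfl | rfl | rfl
    · exact S.one_mem
    · exact htS
    · exact hsS
    · exact S.mul_mem htS hsS
  have hcard : (S : Set C).ncard ≤ (↑A : Set C).ncard := by
    rw [Set.ncard_coe_finset, hA4, ← hS4]
    exact le_of_eq (Nat.card_coe_set_eq (S : Set C)).symm
  have heq : (↑A : Set C) = (S : Set C) :=
    Set.eq_of_subset_of_ncard_le hsub hcard (Set.toFinite _)
  have hxA : x ∈ (↑A : Set C) := by rw [heq]; exact hx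
  simpa [A] using hxA

/-- (V4) ROUTE: S = {1, t, b, tb} has exponent 2, is normal (a conjugate of an involution is an involution, hence in S),
C_C(S) ≤ S by SC; g b g⁻¹ ∈ {b, tb} so C_C(b) = C_C(S) has index ≤ 2 in C. -/
theorem V4_isPGroup_of_sylow_four {C : Type*} [Group C] [Finite C] (hsc : SC C) (t : C)
    (ht : orderOf t = 2) (htz : ∀ g : C, g * t = t * g) (S : Sylow 2 C)
    (hS4 : Nat.card ↥(S : Subgroup C) = 4) (hSn : ¬ IsCyclic ↥(S : Subgroup C))
    (hinv : ∀ b : C, orderOf b = 2 → b ∈ (S : Subgroup C)) : IsPGroup 2 C := by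
  have ht1 : t ≠ 1 := by
    intro h; rw [h, orderOf_one] at ht; norm_num at ht
  have ht2 : t * t = 1 := by
    have := pow_orderOf_eq_one t
    rwa [ht, pow_two] at this
  have htS : t ∈ (S : Subgroup C) := hinv t ht
  have hsq := V4_sq_eq_one (S : Subgroup C) hS4 hSn
  -- nonidentity elements of `S` are involutions
  have hord : ∀ x ∈ (S : Subgroup C), x ≠ 1 → orderOf x = 2 := by
    intro x hx hx1
    have h2 : x ^ 2 = 1 := by rw [pow_two]; exact hsq x hx
    exact orderOf_eq_prime h2 hx1
  -- conjugates of elements of `S` lie in `S`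
  have hconj : ∀ g : C, ∀ x ∈ (S : Subgroup C), g * x * g⁻¹ ∈ (S : Subgroup C) := by
    intro g x hx
    by_cases hx1 : x = 1
    · rw [hx1]; simp only [mul_one, mul_inv_cancel]; exact (S : Subgroup C).one_mem
    · apply hinv
      have : orderOf (g * x * g⁻¹) = orderOf x := by
        have := orderOf_injective (MulAut.conj g).toMonoidHom (MulAut.conj g).injective x
        simpa [MulAut.conj_apply] using this
      rw [this]
      exact hord x hx hx1
  -- the square of every element centralizes `S`
  have hcent : ∀ g : C, g * g ∈ Subgroup.centralizer ((S : Subgroup C) : Set C) := by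
    intro g
    rw [Subgroup.mem_centralizer_iff]
    intro s hs
    have hsS : s ∈ (S : Subgroup C) := hs
    by_cases hs1 : s = 1
    · rw [hs1]; simp
    by_cases hst : s = t
    · rw [hst]
      calc t * (g * g) = (t * g) * g := by rw [mul_assoc]
        _ = (g * t) * g := by rw [htz g]
        _ = g * (t * g) := by rw [mul_assoc]
        _ = g * (g * t) := by rw [htz g]
        _ = g * g * t := by rw [mul_assoc]
    -- `g s g⁻¹` is `s` or `t s`
    have hc := hconj g s hsS
    rcases V4_enum (S : Subgroup C) hS4 t s ht1 htS hsS hs1 hst ht2 _ hc with h | h | h | h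
    · exfalso
      apply hs1
      have : g⁻¹ * (g * s * g⁻¹) * g = g⁻¹ * 1 * g := by rw [h]
      simpa [mul_assoc] using this
    · exfalso
      apply hst
      have h' : g * s = t * g := by
        have := congrArg (· * g) h
        simpa [mul_assoc] using this
      rw [← htz g] at h'
      exact mul_left_cancel h'
    · -- `g s = s g`
      have h' : g * s = s * g := by
        have := congrArg (· * g) h
        simpa [mul_assoc] using this
      calc s * (g * g) = (s * g) * g := by rw [mul_assoc]
        _ = (g * s) * g := by rw [h']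
        _ = g * (s * g) := by rw [mul_assoc]
        _ = g * (g * s) := by rw [h']
        _ = g * g * s := by rw [mul_assoc]
    · -- `g s = t s g`
      have h' : g * s = t * s * g := by
        have := congrArg (· * g) h
        simpa [mul_assoc] using this
      have h'' : s * g = t * (g * s) := by
        rw [h', ← mul_assoc, ← mul_assoc, ht2, one_mul]
      calc s * (g * g) = (s * g) * g := by rw [mul_assoc]
        _ = t * (g * s) * g := by rw [h'']
        _ = t * (g * (s * g)) := by rw [mul_assoc, mul_assoc]
        _ = t * (g * (t * (g * s))) := by rw [h'']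
        _ = t * ((g * t) * (g * s)) := by rw [mul_assoc]
        _ = t * ((t * g) * (g * s)) := by rw [htz g]
        _ = (t * t) * (g * (g * s)) := by simp only [mul_assoc]
        _ = g * g * s := by rw [ht2, one_mul, mul_assoc]
  have hle : Subgroup.centralizer ((S : Subgroup C) : Set C) ≤ (S : Subgroup C) :=
    hsc (S : Subgroup C) hSn
  intro g
  refine ⟨2, ?_⟩
  have hg2 : g * g ∈ (S : Subgroup C) := hle (hcent g)
  have := hsq (g * g) hg2
  calc g ^ 2 ^ 2 = g ^ 4 := by norm_num
    _ = (g * g) * (g * g) := by
        rw [show (4 : ℕ) = 2 + 2 from rfl, pow_add, pow_two]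
    _ = 1 := this

end Cfsg.Agent.Helper84.SCG
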