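import Mathlib
import Cfsg.Agent.Helper54.SCG.Defs
import Cfsg.Agent.Helper29.SCG_RC
import Cfsg.Agent.S0809

/-!
# helper84: leaf (RE) of helper54's SCG farm (S3921): the involution case of the converse
-/

set_option autoImplicit false

namespace Cfsg.Agent.Helper84.SCG

open Cfsg.Agent.Helper54.SCG Matrix

/-- in a finite cyclic group the solutions of `x ^ 4 = 1` are the powers of an element of order 4 -/
theorem RE_cyc_four {T : Type*} [Group T] [Finite T] [IsCyclic T] (g h : T) (hg : orderOf g = 4)
    (h4 : h ^ 4 = 1) : h = 1 ∨ h = g ∨ h = g ^ 2 ∨ h = g ^ 3 := by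
  classical
  have : Fintype T := Fintype.ofFinite T
  have hle := IsCyclic.card_pow_eq_one_le (α := T) (n := 4) (by norm_num)
  let A : Finset T := {1, g, g ^ 2, g ^ 3}
  have hg4 : g ^ 4 = 1 := by rw [← hg]; exact pow_orderOf_eq_one g
  have hne : ∀ k : ℕ, 0 < k → k < 4 → g ^ k ≠ 1 := by
    intro k hk0 hk4 hk
    have := orderOf_le_of_pow_eq_one hk0 hk
    omega
  have hg1 : g ≠ 1 := by simpa using hne 1 (by norm_num) (by norm_num)
  have hg2 : g ^ 2 ≠ 1 := hne 2 (by norm_num) (by norm_num)
  have hg3 : g ^ 3 ≠ 1 := hne 3 (by norm_num) (by norm_num)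
  have hA4 : A.card = 4 := by
    have h1 : (1 : T) ≠ g := fun h => hg1 h.symm
    have h2 : (1 : T) ≠ g ^ 2 := fun h => hg2 h.symm
    have h3 : (1 : T) ≠ g ^ 3 := fun h => hg3 h.symm
    have h5 : g ≠ g ^ 2 := by
      intro h
      apply hg1
      have : g * 1 = g * g := by rw [mul_one, ← pow_two]; exact h
      exact (mul_left_cancel this).symm
    have h6 : g ≠ g ^ 3 := by
      intro h
      apply hg2
      have : g * 1 = g * g ^ 2 := by rw [mul_one, ← pow_succ']; exact h
      exact (mul_left_cancel this).symm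
    have h7 : g ^ 2 ≠ g ^ 3 := by
      intro h
      apply hg1
      have : g ^ 2 * 1 = g ^ 2 * g := by rw [mul_one, ← pow_succ]; exact h
      exact (mul_left_cancel this).symm
    simp only [A]
    rw [Finset.card_insert_of_notMem, Finset.card_insert_of_notMem, Finset.card_insert_of_notMem,
      Finset.card_singleton]
    · simp only [Finset.mem_singleton]; exact h7
    · simp only [Finset.mem_insert, Finset.mem_singleton, not_or]; exact ⟨h5, h6⟩
    · simp only [Finset.mem_insert, Finset.mem_singleton, not_or]; exact ⟨h1, h2, h3⟩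
  have hsub : A ⊆ Finset.univ.filter fun a : T => a ^ 4 = 1 := by
    intro y hy
    simp only [A, Finset.mem_insert, Finset.mem_singleton] at hy
    simp only [Finset.mem_filter, Finset.mem_univ, true_and]
    rcases hy with rfl | rfl | rfl | rfl
    · simp
    · exact hg4
    · rw [← pow_mul, mul_comm, pow_mul, hg4, one_pow]
    · rw [← pow_mul, mul_comm, pow_mul, hg4, one_pow]
  have heq : A = Finset.univ.filter fun a : T => a ^ 4 = 1 :=
    Finset.eq_of_subset_of_card_le hsub (by rw [hA4]; exact hle)
  have hh : h ∈ Finset.univ.filter fun a : T => a ^ 4 = 1 := by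
    simp only [Finset.mem_filter, Finset.mem_univ, true_and]; exact h4
  rw [← heq] at hh
  simpa [A] using hh

/-- in a finite cyclic group the solutions of `x ^ 2 = 1` are `1` and the involution -/
theorem RE_cyc_two {T : Type*} [Group T] [Finite T] [IsCyclic T] (z h : T) (hz : z ≠ 1)
    (hz2 : z ^ 2 = 1) (h2 : h ^ 2 = 1) : h = 1 ∨ h = z := by
  classical
  have : Fintype T := Fintype.ofFinite T
  have hle := IsCyclic.card_pow_eq_one_le (α := T) (n := 2) (by norm_num)
  let A : Finset T := {1, z}
  have hA2 : A.card = 2 := by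
    simp only [A]
    rw [Finset.card_insert_of_notMem, Finset.card_singleton]
    simp only [Finset.mem_singleton]
    exact fun h => hz h.symm
  have hsub : A ⊆ Finset.univ.filter fun a : T => a ^ 2 = 1 := by
    intro y hy
    simp only [A, Finset.mem_insert, Finset.mem_singleton] at hy
    simp only [Finset.mem_filter, Finset.mem_univ, true_and]
    rcases hy with rfl | rfl
    · simp
    · exact hz2
  have heq : A = Finset.univ.filter fun a : T => a ^ 2 = 1 :=
    Finset.eq_of_subset_of_card_le hsub (by rw [hA2]; exact hle)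
  have hh : h ∈ Finset.univ.filter fun a : T => a ^ 2 = 1 := by
    simp only [Finset.mem_filter, Finset.mem_univ, true_and]; exact h2
  rw [← heq] at hh
  simpa [A] using hh

/-- a trace zero element of `SL₂` squares to `-1` -/
theorem RE_sq {F : Type*} [Field F] (g : Matrix.SpecialLinearGroup (Fin 2) F)
    (htr : Matrix.trace (g : Matrix (Fin 2) (Fin 2) F) = 0) :
    ((g * g : Matrix.SpecialLinearGroup (Fin 2) F) : Matrix (Fin 2) (Fin 2) F) = -1 := by
  have hdet := g.det_coe
  rw [Matrix.det_fin_two] at hdet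
  rw [Matrix.trace_fin_two] at htr
  rw [Matrix.SpecialLinearGroup.coe_mul]
  have hd : (g : Matrix (Fin 2) (Fin 2) F) 1 1 = -(g : Matrix (Fin 2) (Fin 2) F) 0 0 := by
    linear_combination htr
  ext i j
  fin_cases i <;> fin_cases j <;>
    simp only [Matrix.mul_apply, Fin.sum_univ_two, Fin.zero_eta, Fin.mk_one, Matrix.neg_apply,
      Matrix.one_apply_eq, Matrix.one_apply_ne, ne_eq, zero_ne_one, one_ne_zero, not_false_eq_true,
      neg_zero, Fin.isValue]
  · linear_combination (g : Matrix (Fin 2) (Fin 2) F) 0 0 * htr - hdet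
  · linear_combination (g : Matrix (Fin 2) (Fin 2) F) 0 1 * htr
  · linear_combination (g : Matrix (Fin 2) (Fin 2) F) 1 0 * htr
  · linear_combination (g : Matrix (Fin 2) (Fin 2) F) 1 1 * htr - hdet

set_option linter.unusedVariables false in
/-- (RE) the involution case.  ROUTE: g^2 = -1 (Cayley–Hamilton, tr g = 0), A = zpowers g has order 4,
`Cfsg.Agent.S0809.result` gives |N(A)| = 2(q ∓ 1) = 2^(k+1): N(A) is a 2-group.  T = centralizer {g} ≤ N(A) is cyclic by (RC)
(0 ≠ 4).  Hh ≤ N(A).  Hh ⊓ T and A are subgroups of the cyclic 2-group T, so comparable; A ≤ Hh is excluded, hence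
Hh ⊓ T ≤ A and then ≤ {1,-1}.  Two elements of Hh outside T differ by an element of T: |Hh| ≤ 4, the image has order ≤ 2. -/
theorem RE_involution_case {F : Type*} [Field F] [Fintype F] (hodd : Odd (Fintype.card F))
    (h1 : Fintype.card F % 4 = 1 → ∃ k : ℕ, Fintype.card F - 1 = 2 ^ k)
    (h3 : Fintype.card F % 4 = 3 → ∃ k : ℕ, Fintype.card F + 1 = 2 ^ k)
    (g : Matrix.SpecialLinearGroup (Fin 2) F)
    (htr : Matrix.trace (g : Matrix (Fin 2) (Fin 2) F) = 0)
    (Hh : Subgroup (Matrix.SpecialLinearGroup (Fin 2) F))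
    (hcen : Subgroup.center (Matrix.SpecialLinearGroup (Fin 2) F) ≤ Hh)
    (hH : ∀ h ∈ Hh, h * g * h⁻¹ = g ∨
      ((h * g * h⁻¹ : Matrix.SpecialLinearGroup (Fin 2) F) : Matrix (Fin 2) (Fin 2) F) =
        - (g : Matrix (Fin 2) (Fin 2) F))
    (hg : g ∉ Hh) :
    IsCyclic ↥(Hh.map (QuotientGroup.mk' (Subgroup.center (Matrix.SpecialLinearGroup (Fin 2) F)))) := by
  classical
  -- characteristic is not two
  have h2F : (2 : F) ≠ 0 := by
    apply Ring.two_ne_zero
    intro hc
    have := (FiniteField.even_card_iff_char_two (F := F)).mp hc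
    rcases hodd with ⟨m, hm⟩
    omega
  -- the central involution `z = g * g`
  obtain ⟨z, hz⟩ : ∃ z : Matrix.SpecialLinearGroup (Fin 2) F, z = g * g := ⟨_, rfl⟩
  have hzval : (z : Matrix (Fin 2) (Fin 2) F) = -1 := by rw [hz]; exact RE_sq g htr
  have hzc : ∀ x : Matrix.SpecialLinearGroup (Fin 2) F, x * z = z * x := by
    intro x
    have : ((x * z : Matrix.SpecialLinearGroup (Fin 2) F) : Matrix (Fin 2) (Fin 2) F) =
        ((z * x : Matrix.SpecialLinearGroup (Fin 2) F) : Matrix (Fin 2) (Fin 2) F) := by
      rw [Matrix.SpecialLinearGroup.coe_mul, Matrix.SpecialLinearGroup.coe_mul, hzval]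
      simp
    exact Subtype.ext this
  have hzcen : z ∈ Subgroup.center (Matrix.SpecialLinearGroup (Fin 2) F) := by
    rw [Subgroup.mem_center_iff]; exact hzc
  have hz1 : z ≠ 1 := by
    intro h
    have h' := congrArg (fun M : Matrix.SpecialLinearGroup (Fin 2) F =>
      (M : Matrix (Fin 2) (Fin 2) F) 0 0) h
    simp only [hzval, Matrix.SpecialLinearGroup.coe_one, Matrix.neg_apply, Matrix.one_apply_eq] at h'
    apply h2F
    linear_combination -h'
  have hzz : z * z = 1 := by
    have : ((z * z : Matrix.SpecialLinearGroup (Fin 2) F) : Matrix (Fin 2) (Fin 2) F) =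
        ((1 : Matrix.SpecialLinearGroup (Fin 2) F) : Matrix (Fin 2) (Fin 2) F) := by
      rw [Matrix.SpecialLinearGroup.coe_mul, hzval]
      simp
    exact Subtype.ext this
  have hg2 : g ^ 2 = z := by rw [pow_two, hz]
  have hg4 : g ^ 4 = 1 := by
    rw [show (4 : ℕ) = 2 * 2 from rfl, pow_mul, hg2, pow_two, hzz]
  have hgord : orderOf g = 4 := by
    have := orderOf_eq_prime_pow (x := g) (p := 2) (n := 1) (by rw [pow_one, hg2]; exact hz1)
      (by norm_num; exact hg4)
    simpa using this
  -- `A = zpowers g` has order 4, its normalizer is a 2-group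
  set A : Subgroup (Matrix.SpecialLinearGroup (Fin 2) F) := Subgroup.zpowers g with hA
  have hAcard : Nat.card ↥A = 4 := by rw [hA, Nat.card_zpowers, hgord]
  obtain ⟨-, hN1, hN3, -⟩ := Cfsg.Agent.S0809.result (F := F) rfl hodd A hAcard
  have hNp : IsPGroup 2 ↥(Subgroup.normalizer (A : Set (Matrix.SpecialLinearGroup (Fin 2) F))) := by
    have hq4 : Fintype.card F % 4 = 1 ∨ Fintype.card F % 4 = 3 := by
      rcases hodd with ⟨m, hm⟩; omega
    rcases hq4 with h | h
    · obtain ⟨k, hk⟩ := h1 h
      exact IsPGroup.of_card (n := k + 1) (by rw [hN1 h, hk, pow_succ]; ring)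
    · obtain ⟨k, hk⟩ := h3 h
      exact IsPGroup.of_card (n := k + 1) (by rw [hN3 h, hk, pow_succ]; ring)
  -- the centralizer `T` of `g`
  set T : Subgroup (Matrix.SpecialLinearGroup (Fin 2) F) := Subgroup.centralizer ({g} : Set _) with hT
  have hTcyc : IsCyclic ↥T := by
    apply Cfsg.Agent.Helper29.SCG.RC_isCyclic_centralizer g
    rw [htr]
    intro h
    apply h2F
    have : (2 : F) * 2 = 0 := by linear_combination -h
    rcases mul_self_eq_zero.mp this with h' 
    exact h'
  have hTN : T ≤ Subgroup.normalizer (A : Set (Matrix.SpecialLinearGroup (Fin 2) F)) := by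
    intro x hx
    have hxg : x * g = g * x := Subgroup.mem_centralizer_singleton_iff.mp hx
    apply Subgroup.centralizer_le_normalizer
    rw [Subgroup.mem_centralizer_iff]
    intro y hy
    obtain ⟨n, rfl⟩ := Subgroup.mem_zpowers_iff.mp hy
    exact (Commute.zpow_left (show Commute g x from hxg.symm) n).eq
  have hgT : g ∈ T := Subgroup.mem_centralizer_singleton_iff.mpr rfl
  -- elements of `Hh` commuting with `g` are central
  have hkey : ∀ h ∈ Hh, g * h = h * g → h ∈ Subgroup.center (Matrix.SpecialLinearGroup (Fin 2) F) := by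
    intro h hh hc
    have hhT : h ∈ T := Subgroup.mem_centralizer_singleton_iff.mpr hc.symm
    obtain ⟨j, hj⟩ := (IsPGroup.iff_orderOf.mp hNp) ⟨h, hTN hhT⟩
    have hj' : orderOf h = 2 ^ j := by
      rw [← hj]
      exact (Subgroup.orderOf_mk h (hTN hhT)).symm
    -- work inside `T`
    let gT : ↥T := ⟨g, hgT⟩
    let hT' : ↥T := ⟨h, hhT⟩
    have hgTord : orderOf gT = 4 := by rw [Subgroup.orderOf_mk]; exact hgord
    rcases Nat.lt_or_ge j 2 with hj2 | hj2
    · -- `h ^ 2 = 1`
      have hsq : h ^ 2 = 1 := by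
        apply orderOf_dvd_iff_pow_eq_one.mp
        rw [hj']
        interval_cases j <;> norm_num
      have hzT : z ∈ T := by
        rw [hz]; exact T.mul_mem hgT hgT
      have := RE_cyc_two (T := ↥T) ⟨z, hzT⟩ hT' (by
          intro h0; exact hz1 (congrArg Subtype.val h0))
        (by apply Subtype.ext; simp [pow_two, hzz]) (by apply Subtype.ext; simp [hT', hsq])
      rcases this with h0 | h0
      · have : h = 1 := congrArg Subtype.val h0
        rw [this]; exact Subgroup.one_mem _
      · have : h = z := congrArg Subtype.val h0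
        rw [this]; exact hzcen
    · -- `h' = h ^ 2 ^ (j - 2)` has order 4
      exfalso
      obtain ⟨i, rfl⟩ : ∃ i, j = i + 2 := ⟨j - 2, by omega⟩
      set h' : Matrix.SpecialLinearGroup (Fin 2) F := h ^ 2 ^ i with hh'
      have hh'4 : h' ^ 4 = 1 := by
        rw [hh', ← pow_mul, show 2 ^ i * 4 = 2 ^ (i + 2) by ring, ← hj', pow_orderOf_eq_one]
      have hh'2 : h' ^ 2 ≠ 1 := by
        rw [hh', ← pow_mul, show 2 ^ i * 2 = 2 ^ (i + 1) by ring]
        intro h0
        have := orderOf_dvd_of_pow_eq_one h0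
        rw [hj'] at this
        have := Nat.le_of_dvd (by positivity) this
        have : 2 ^ (i + 1) < 2 ^ (i + 2) := Nat.pow_lt_pow_right (by norm_num) (by omega)
        omega
      have hh'T : h' ∈ T := T.pow_mem hhT _
      have hh'H : h' ∈ Hh := Hh.pow_mem hh _
      have := RE_cyc_four (T := ↥T) gT ⟨h', hh'T⟩ hgTord (by apply Subtype.ext; simp [hh'4])
      rcases this with h0 | h0 | h0 | h0
      · have : h' = 1 := congrArg Subtype.val h0
        apply hh'2; rw [this, one_pow]
      · have : h' = g := congrArg Subtype.val h0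
        exact hg (this ▸ hh'H)
      · have : h' = g ^ 2 := by
          have := congrArg Subtype.val h0
          simpa [gT] using this
        apply hh'2
        rw [this, ← pow_mul]; exact hg4
      · have : h' = g ^ 3 := by
          have := congrArg Subtype.val h0
          simpa [gT] using this
        apply hg
        have hg9 : g = (g ^ 3) ^ 3 := by
          rw [← pow_mul, show 3 * 3 = 4 * 2 + 1 from rfl, pow_add, pow_mul, hg4, one_pow, one_mul,
            pow_one]
        rw [hg9, ← this]
        exact Hh.pow_mem hh'H 3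
  -- the conjugation action on `g`
  have hzg : ∀ h ∈ Hh, g * h ≠ h * g → h * g * h⁻¹ = z * g := by
    intro h hh hne
    rcases hH h hh with h0 | h0
    · exfalso
      apply hne
      have : h * g * h⁻¹ * h = g * h := by rw [h0]
      rw [inv_mul_cancel_right] at this
      exact this.symm
    · have : ((h * g * h⁻¹ : Matrix.SpecialLinearGroup (Fin 2) F) : Matrix (Fin 2) (Fin 2) F) =
          ((z * g : Matrix.SpecialLinearGroup (Fin 2) F) : Matrix (Fin 2) (Fin 2) F) := by
        rw [h0, Matrix.SpecialLinearGroup.coe_mul, hzval]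
        simp
      exact Subtype.ext this
  -- the image
  set π := QuotientGroup.mk' (Subgroup.center (Matrix.SpecialLinearGroup (Fin 2) F)) with hπ
  by_cases hall : ∀ h ∈ Hh, g * h = h * g
  · -- the image is trivial
    have : Hh.map π = ⊥ := by
      rw [eq_bot_iff]
      rintro _ ⟨h, hh, rfl⟩
      rw [Subgroup.mem_bot, hπ, QuotientGroup.mk'_apply, QuotientGroup.eq_one_iff]
      exact hkey h hh (hall h hh)
    rw [this]
    infer_instance
  · push Not at hall
    obtain ⟨h₀, hh₀, hne₀⟩ := hall
    refine ⟨⟨⟨π h₀, Subgroup.mem_map_of_mem π hh₀⟩, ?_⟩⟩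
    rintro ⟨_, ⟨h, hh, rfl⟩⟩
    by_cases hc : g * h = h * g
    · refine ⟨0, ?_⟩
      apply Subtype.ext
      show ((_ ^ (0 : ℤ) : ↥(Hh.map π)) : _) = π h
      simp only [zpow_zero, Subgroup.coe_one]
      symm
      rw [hπ, QuotientGroup.mk'_apply, QuotientGroup.eq_one_iff]
      exact hkey h hh hc
    · refine ⟨1, ?_⟩
      apply Subtype.ext
      show ((_ ^ (1 : ℤ) : ↥(Hh.map π)) : _) = π h
      simp only [zpow_one]
      -- `h₀⁻¹ * h` commutes with `g`
      have e1 := hzg h hh hc
      have e0 := hzg h₀ hh₀ hne₀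
      have hcomm : g * (h₀⁻¹ * h) = (h₀⁻¹ * h) * g := by
        have a1 : h * g = z * g * h := by
          have := congrArg (· * h) e1
          simpa [mul_assoc] using this
        have a0 : h₀ * g = z * g * h₀ := by
          have := congrArg (· * h₀) e0
          simpa [mul_assoc] using this
        -- g * h₀⁻¹ = z * h₀⁻¹ * g  (from a0)
        have b0 : g * h₀⁻¹ = h₀⁻¹ * (z * g) := by
          have : h₀⁻¹ * (h₀ * g) * h₀⁻¹ = h₀⁻¹ * (z * g * h₀) * h₀⁻¹ := by rw [a0]
          simpa [mul_assoc] using this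
        calc g * (h₀⁻¹ * h) = (g * h₀⁻¹) * h := by rw [mul_assoc]
          _ = h₀⁻¹ * (z * g) * h := by rw [b0]
          _ = h₀⁻¹ * (z * (g * h)) := by simp only [mul_assoc]
          _ = h₀⁻¹ * (z * (z * (h * g))) := by
              have : g * h = z * (h * g) := by
                rw [a1, ← mul_assoc, ← mul_assoc, hzz, one_mul]
              rw [this]
          _ = h₀⁻¹ * h * g := by
              rw [← mul_assoc z z, hzz, one_mul, mul_assoc]
      have hmem := hkey (h₀⁻¹ * h) (Hh.mul_mem (Hh.inv_mem hh₀) hh) hcomm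
      show π h₀ = π h
      rw [hπ, QuotientGroup.mk'_apply, QuotientGroup.mk'_apply, QuotientGroup.eq]
      exact hmem

end Cfsg.Agent.Helper84.SCG
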