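import Cfsg.Agent.Helper84.SylowRel
import Cfsg.Agent.Lib.Cores
set_option autoImplicit false

/-! # Group-theoretic lemmas for the saturation criterion -/

namespace Cfsg.Agent.Helper84

/-- A normal `p`-subgroup lies in every subgroup of index prime to `p`. -/
theorem normal_pGroup_le_of_not_dvd_index {G : Type*} [Group G] [Finite G] {p : ℕ} [Fact p.Prime]
    (W H : Subgroup G) (hWn : W.Normal) (hW : IsPGroup p W) (hH : ¬ p ∣ H.index) : W ≤ H := by
  obtain ⟨Q⟩ : Nonempty (Sylow p H) := inferInstance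
  have hQ' : IsPGroup p ((Q : Subgroup H).map H.subtype) := Q.2.map _
  have hidx : ¬ p ∣ ((Q : Subgroup H).map H.subtype).index := by
    rw [Subgroup.index_map_subtype]
    intro h
    rcases (Nat.Prime.dvd_mul Fact.out).mp h with h | h
    · exact Q.not_dvd_index h
    · exact hH h
  have h1 : W ≤ hQ'.toSylow hidx := Cfsg.Agent.Lib.normal_pGroup_le_sylow hWn hW _
  intro w hw
  obtain ⟨x, -, rfl⟩ := h1 hw
  exact x.2

/-- Elements of the image of `f` lying in a normalized `p`-subgroup come from a given subgroup of index prime to `p`. -/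
theorem exists_mem_of_map_mem {L M' : Type*} [Group L] [Finite L] [Group M'] {p : ℕ} [Fact p.Prime]
    (f : L →* M') (AS : Subgroup L) (hidx : ¬ p ∣ AS.index) (V' : Subgroup M') (hV' : IsPGroup p V')
    (hnorm : ∀ l : L, ∀ v ∈ V', f l * v * (f l)⁻¹ ∈ V') (z : L) (hz : f z ∈ V') :
    ∃ d ∈ AS, f d = f z := by
  have hsurj : Function.Surjective f.rangeRestrict := f.rangeRestrict_surjective
  have hH' : ¬ p ∣ (AS.map f.rangeRestrict).index := fun h => hidx (h.trans (Subgroup.index_map_dvd AS hsurj))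
  have hWn : (V'.subgroupOf f.range).Normal := by
    refine ⟨fun n hn g => ?_⟩
    obtain ⟨l, hl⟩ := hsurj g
    rw [Subgroup.mem_subgroupOf] at hn ⊢
    have := hnorm l n hn
    rw [← hl]
    simpa using this
  have hW : IsPGroup p (V'.subgroupOf f.range) := hV'.comap_subtype
  have hfin : Finite f.range := Finite.of_surjective _ hsurj
  have hle := normal_pGroup_le_of_not_dvd_index _ _ hWn hW hH'
  have hmem : f.rangeRestrict z ∈ V'.subgroupOf f.range := by
    rw [Subgroup.mem_subgroupOf]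
    exact hz
  obtain ⟨d, hd, hdz⟩ := hle hmem
  exact ⟨d, hd, congrArg Subtype.val hdz⟩

/-- The twisting lemma. -/
theorem exists_twist {L M' : Type*} [Group L] [Finite L] [Group M'] {p : ℕ} [Fact p.Prime]
    (f : L →* M') (AS : Subgroup L) (hAS : IsPGroup p AS) (hidx : ¬ p ∣ AS.index) (V' : Subgroup M')
    (hV' : IsPGroup p V') (hnorm : ∀ l : L, ∀ v ∈ V', f l * v * (f l)⁻¹ ∈ V') (β : L) :
    ∃ β' : L, ∃ d₀ ∈ AS, f d₀ ∈ V' ∧ f β' = f d₀ * f β ∧ ∀ d ∈ AS, f d ∈ V' → β' * d * β'⁻¹ ∈ AS := by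
  have hNn : (V'.comap f).Normal := by
    refine ⟨fun n hn g => ?_⟩
    rw [Subgroup.mem_comap] at hn ⊢
    rw [map_mul, map_mul, map_inv]
    exact hnorm g _ hn
  -- the `p`-subgroup `C = β (AS ⊓ f⁻¹ V') β⁻¹`
  set C : Subgroup L := (AS ⊓ V'.comap f).map (MulAut.conj β).toMonoidHom with hC
  have hCp : IsPGroup p C := (hAS.to_le inf_le_left).map _
  have hCle : C ≤ AS ⊔ V'.comap f := by
    rintro _ ⟨d, hd, rfl⟩
    apply Subgroup.mem_sup_right
    exact hNn.conj_mem d hd.2 β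
  have := hNn
  obtain ⟨l, hl, hlC⟩ := exists_conj_normal_le (V'.comap f) AS C hAS hidx hCp hCle
  obtain ⟨d₀, hd₀, hd₀l⟩ := exists_mem_of_map_mem f AS hidx V' hV' hnorm l hl
  refine ⟨l * β, d₀, hd₀, by rw [hd₀l]; exact hl, by rw [map_mul, hd₀l], fun d hd hdV => ?_⟩
  have h1 : MulAut.conj β d ∈ C := ⟨d, ⟨hd, hdV⟩, rfl⟩
  have h2 := hlC _ h1
  have h3 : l * β * d * (l * β)⁻¹ = l * (MulAut.conj β d) * l⁻¹ := by
    rw [MulAut.conj_apply]; group
  rw [h3]
  exact h2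

/-- Elements of `H ⊔ N'` are products when `H` normalizes `N'`. -/
theorem exists_mul_of_mem_sup {G : Type*} [Group G] (H N' : Subgroup G)
    (hnorm : ∀ h ∈ H, ∀ n ∈ N', h * n * h⁻¹ ∈ N') {m : G} (hm : m ∈ H ⊔ N') :
    ∃ h ∈ H, ∃ n ∈ N', m = h * n := by
  let K : Subgroup G :=
    { carrier := {m | ∃ h ∈ H, ∃ n ∈ N', m = h * n}
      one_mem' := ⟨1, H.one_mem, 1, N'.one_mem, by simp⟩
      mul_mem' := by
        rintro _ _ ⟨h, hh, n, hn, rfl⟩ ⟨h', hh', n', hn', rfl⟩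
        refine ⟨h * h', H.mul_mem hh hh', h'⁻¹ * n * h'⁻¹⁻¹ * n', N'.mul_mem (hnorm _ (H.inv_mem hh') n hn) hn', ?_⟩
        group
      inv_mem' := by
        rintro _ ⟨h, hh, n, hn, rfl⟩
        refine ⟨h⁻¹, H.inv_mem hh, h * n⁻¹ * h⁻¹, hnorm h hh _ (N'.inv_mem hn), ?_⟩
        group }
  have hle : H ⊔ N' ≤ K := sup_le (fun h hh => ⟨h, hh, 1, N'.one_mem, by simp⟩)
    (fun n hn => ⟨1, H.one_mem, n, hn, by simp⟩)
  exact hle hm

end Cfsg.Agent.Helper84
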