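import Cfsg.Agent.Helper84.SatCrit2
import Cfsg.Agent.Helper84.SatCritGrp
import Cfsg.Agent.Helper87.FusionAlperin
set_option autoImplicit false

/-! # Saturation criterion, step 2: every automorphism of the fully normalized member extends to `R₀` -/

namespace Cfsg.Agent.Helper84

open Cfsg Cfsg.FusionSystem Cfsg.Agent.Helper87

variable {Ω : Type*} [Group Ω] {S : Subgroup Ω}

/-- `O_p(Aut_F(P))` as a subgroup of `Aut(P)`. -/
def Vm (F : FusionSystem S) (p : ℕ) (P : Subgroup Ω) : Subgroup (MulAut P) :=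
  (pCore p ↥(F.autGroup P)).map (F.autGroup P).subtype

theorem Vm_le (F : FusionSystem S) (p : ℕ) (P : Subgroup Ω) : Vm F p P ≤ F.autGroup P :=
  Subgroup.map_subtype_le _

theorem isPGroup_Vm (F : FusionSystem S) (p : ℕ) (P : Subgroup Ω) : IsPGroup p (Vm F p P) :=
  (Cfsg.Agent.Lib.isPGroup_pCore p).map _

theorem Vm_conj_mem (F : FusionSystem S) (p : ℕ) (P : Subgroup Ω) {γ v : MulAut P} (hγ : γ ∈ F.autGroup P)
    (hv : v ∈ Vm F p P) : γ * v * γ⁻¹ ∈ Vm F p P := by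
  obtain ⟨v', hv', rfl⟩ := hv
  have := Cfsg.Agent.Lib.pCore_characteristic (G := ↥(F.autGroup P)) p
  have hn : (pCore p ↥(F.autGroup P)).Normal := inferInstance
  exact ⟨⟨γ, hγ⟩ * v' * ⟨γ, hγ⟩⁻¹, hn.conj_mem v' hv' ⟨γ, hγ⟩, rfl⟩

theorem inn_le_Vm {p : ℕ} (hS : IsPGroup p S) (F : FusionSystem S) {P : Subgroup Ω} (hPS : P ≤ S) :
    Inn P ≤ Vm F p P := by
  intro ν hν
  unfold Vm
  rw [mem_pCore_map_iff]
  refine ⟨Inn P, inn_le_autGroup F hPS, fun a _ n hn => ?_, ?_, hν⟩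
  · obtain ⟨g, rfl⟩ := hn
    refine ⟨a g, ?_⟩
    ext x
    simp [MulAut.conj_apply]
  have hP : IsPGroup p P := hS.to_le hPS
  exact hP.of_surjective (MulAut.conj : P →* MulAut P).rangeRestrict (MonoidHom.rangeRestrict_surjective _)

theorem conjAut_eq_conj (P : Subgroup Ω) (x : P) (h : (x : Ω) ∈ Subgroup.normalizer (P : Set Ω)) :
    conjAut P x h = MulAut.conj x := by
  ext y
  rfl

theorem conjAut_mul (P : Subgroup Ω) {g k : Ω} (hg : g ∈ Subgroup.normalizer (P : Set Ω))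
    (hk : k ∈ Subgroup.normalizer (P : Set Ω)) :
    conjAut P (g * k) (Subgroup.mul_mem _ hg hk) = conjAut P g hg * conjAut P k hk := by
  ext y
  show g * k * (y : Ω) * (g * k)⁻¹ = g * (k * y * k⁻¹) * g⁻¹
  group

theorem conjAut_inv (P : Subgroup Ω) {g : Ω} (hg : g ∈ Subgroup.normalizer (P : Set Ω)) :
    conjAut P g⁻¹ (Subgroup.inv_mem _ hg) = (conjAut P g hg)⁻¹ := by
  rw [eq_inv_iff_mul_eq_one, ← conjAut_mul]
  ext y
  show g⁻¹ * g * (y : Ω) * (g⁻¹ * g)⁻¹ = y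
  group

theorem le_NK_Vm {p : ℕ} (hS : IsPGroup p S) (F : FusionSystem S) {P : Subgroup Ω} (hPS : P ≤ S) :
    P ≤ NK S P (Vm F p P) := by
  intro x hx
  rw [mem_NK_iff]
  refine ⟨hPS hx, Subgroup.le_normalizer hx, ?_⟩
  rw [conjAut_eq_conj P ⟨x, hx⟩]
  exact inn_le_Vm hS F hPS ⟨_, rfl⟩

/-- `N_S(P)` normalizes `R₀`. -/
theorem conj_mem_NK_Vm (F : FusionSystem S) (p : ℕ) {P : Subgroup Ω} (hPS : P ≤ S) {n g : Ω}
    (hn : n ∈ normalizerIn S P) (hg : g ∈ NK S P (Vm F p P)) : n * g * n⁻¹ ∈ NK S P (Vm F p P) := by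
  obtain ⟨hgS, hgN, hgK⟩ := (mem_NK_iff S P _ g).mp hg
  rw [mem_NK_iff]
  refine ⟨S.mul_mem (S.mul_mem hn.1 hgS) (S.inv_mem hn.1),
    Subgroup.mul_mem _ (Subgroup.mul_mem _ hn.2 hgN) (Subgroup.inv_mem _ hn.2), ?_⟩
  rw [conjAut_mul P (Subgroup.mul_mem _ hn.2 hgN) (Subgroup.inv_mem _ hn.2), conjAut_mul P hn.2 hgN,
    conjAut_inv P hn.2]
  exact Vm_conj_mem F p P (autInducedBy_le_autGroup F hPS (conjAut_mem_autInducedBy S P hn.1 hn.2)) hgK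

/-- `γ ∈ Aut(P)` extends to an automorphism of `R₀` in the system. -/
def ExtR (F : FusionSystem S) (P R₀ : Subgroup Ω) (γ : MulAut P) : Prop :=
  ∃ β : MulAut R₀, β ∈ F.autGroup R₀ ∧ ∀ (x : P) (hx : (x : Ω) ∈ R₀), ((β ⟨x, hx⟩ : R₀) : Ω) = γ x

theorem ExtR.mul {F : FusionSystem S} {P R₀ : Subgroup Ω} {γ₁ γ₂ : MulAut P} (h₁ : ExtR F P R₀ γ₁)
    (h₂ : ExtR F P R₀ γ₂) : ExtR F P R₀ (γ₁ * γ₂) := by
  obtain ⟨β₁, hβ₁, h₁x⟩ := h₁
  obtain ⟨β₂, hβ₂, h₂x⟩ := h₂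
  refine ⟨β₁ * β₂, Subgroup.mul_mem _ hβ₁ hβ₂, fun x hx => ?_⟩
  rw [MulAut.mul_apply, MulAut.mul_apply]
  have h3 : ((γ₂ x : P) : Ω) ∈ R₀ := by rw [← h₂x x hx]; exact (β₂ ⟨x, hx⟩).2
  have h4 : β₂ ⟨x, hx⟩ = ⟨((γ₂ x : P) : Ω), h3⟩ := Subtype.ext (h₂x x hx)
  rw [h4, h₁x (γ₂ x) h3]

theorem ExtR.inv {F : FusionSystem S} {P R₀ : Subgroup Ω} (hPR₀ : P ≤ R₀) {γ : MulAut P} (h : ExtR F P R₀ γ) :
    ExtR F P R₀ γ⁻¹ := by
  obtain ⟨β, hβ, hx⟩ := h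
  refine ⟨β⁻¹, Subgroup.inv_mem _ hβ, fun x hxR => ?_⟩
  have h1 := hx (γ⁻¹ x) (hPR₀ (γ⁻¹ x).2)
  rw [MulAut.apply_inv_self] at h1
  have h2 : β ⟨((γ⁻¹ x : P) : Ω), hPR₀ (γ⁻¹ x).2⟩ = ⟨x, hxR⟩ := Subtype.ext h1
  rw [← h2, MulAut.inv_apply_self]

/-- An injective endomorphism coming from the system is an automorphism of the system. -/
theorem exists_aut_of_maps_into (F : FusionSystem S) {D A : Subgroup Ω} [Finite A] {ψ : D →* Ω}
    (hψ : ψ ∈ F.Hom D) (hAD : A ≤ D) (h : ∀ x : A, ψ (Subgroup.inclusion hAD x) ∈ A) :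
    ∃ γ : MulAut A, γ ∈ F.autGroup A ∧ ∀ x : A, ((γ x : A) : Ω) = ψ (Subgroup.inclusion hAD x) := by
  have hres := restrict_mem F hψ hAD
  have hAS : A ≤ S := (F.le_of_mem hres).1
  let f : A →* A := (ψ.comp (Subgroup.inclusion hAD)).codRestrict A h
  have hinj : Function.Injective f := by
    intro a b hab
    exact F.injective_of_mem hres (congrArg Subtype.val hab)
  have hbij : Function.Bijective f := ⟨hinj, Finite.surjective_of_injective hinj⟩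
  refine ⟨MulEquiv.ofBijective f hbij, ?_, fun x => rfl⟩
  rw [mem_autGroup_iff F hAS]
  unfold IsIso
  exact mem_of_eq F hres (fun x => rfl)

/-- Case `R₀ ≤ R`. -/
theorem extR_of_le [Finite S] (F : FusionSystem S) (p : ℕ) {P R : Subgroup Ω} (hPR : P ≤ R)
    (hR₀R : NK S P (Vm F p P) ≤ R) {ψ : R →* Ω} (hψ : ψ ∈ F.Hom R) (γ : MulAut P)
    (hγ : ∀ x : P, ((γ x : P) : Ω) = ψ (Subgroup.inclusion hPR x)) : ExtR F P (NK S P (Vm F p P)) γ := by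
  have hRS : R ≤ S := (F.le_of_mem hψ).1
  have hPS : P ≤ S := hPR.trans hRS
  have hγF : γ ∈ F.autGroup P := by
    rw [mem_autGroup_iff F hPS]
    unfold IsIso
    exact mem_of_eq F (restrict_mem F hψ hPR) (fun x => hγ x)
  have hfin : Finite (NK S P (Vm F p P)) := finite_NK P _
  have hmaps : ∀ g : NK S P (Vm F p P), ψ (Subgroup.inclusion hR₀R g) ∈ NK S P (Vm F p P) := by
    intro g
    obtain ⟨hgS, hgN, hgK⟩ := (mem_NK_iff S P _ g).mp g.2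
    obtain ⟨h, hh⟩ := conjAut_map ψ hPR (γ : P ≃* P) (fun x => (hγ x).symm) (Subgroup.inclusion hR₀R g) hgN
    rw [mem_NK_iff]
    refine ⟨(F.le_of_mem hψ).2 _, h, ?_⟩
    rw [hh, congr_self']
    exact Vm_conj_mem F p P hγF hgK
  obtain ⟨β, hβ, hβx⟩ := exists_aut_of_maps_into F hψ hR₀R hmaps
  refine ⟨β, hβ, fun x hx => ?_⟩
  rw [hβx, hγ]
  rfl

/-- Restriction to `A` of the automorphisms of `T` stabilizing `A`. -/
def rstb (T A : Subgroup Ω) (hAT : A ≤ T) : ↥(stb T A) →* MulAut A where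
  toFun β := resAutOf hAT β.1 β.2
  map_one' := by
    ext x
    rfl
  map_mul' a b := by
    ext x
    rfl

theorem rstb_apply (T A : Subgroup Ω) (hAT : A ≤ T) (β : ↥(stb T A)) (x : A) :
    ((rstb T A hAT β x : A) : Ω) = (((β : MulAut T) ⟨x, hAT x.2⟩ : T) : Ω) := rfl

theorem rstb_mem_autGroup (F : FusionSystem S) {T A : Subgroup Ω} (hAT : A ≤ T) (hTS : T ≤ S) (β : ↥(stb T A))
    (hβ : (β : MulAut T) ∈ F.autGroup T) : rstb T A hAT β ∈ F.autGroup A := by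
  rw [mem_autGroup_iff F (hAT.trans hTS)]
  have hβiso : IsIso F ((β : MulAut T) : T ≃* T) := (mem_autGroup_iff F hTS _).mp hβ
  unfold IsIso at hβiso ⊢
  exact mem_of_eq F (restrict_mem F hβiso hAT) (fun x => rfl)

/-- Every pair `(R, P)` with `P ≤ R ≤ N_S(P)` is conjugate, by an isomorphism carrying `P` onto `P`, to a pair `(R', P)` with
`R' ≤ N_S(P)` fully normalized with respect to the stabilizer of `P`. -/
theorem exists_fkn_in_N [Finite S] (F : FusionSystem S) {P : Subgroup Ω}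
    (hgood : ∀ A, F.IsConj P A → Good F P A) {R : Subgroup Ω} (hPR : P ≤ R) (hRN : R ≤ normalizerIn S P) :
    ∃ (R' : Subgroup Ω) (e : R ≃* R'), IsIso F e ∧ R' ≤ normalizerIn S P ∧ P ≤ R' ∧
      (∀ x : R, (x : Ω) ∈ P ↔ ((e x : R') : Ω) ∈ P) ∧ IsFullyKNormalized F R' (stb R' P) := by
  have hRS : R ≤ S := hRN.trans inf_le_left
  obtain ⟨Rs, es, hes, hfkn⟩ := exists_fullyKNormalized F hRS (stb R P)
  have hφ : Rs.subtype.comp es.toMonoidHom ∈ F.Hom R := hes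
  obtain ⟨As, as, has, hasx⟩ := exists_resIso F hφ hPR
  have hasx' : ∀ y : P, ((as y : As) : Ω) = ((es (Subgroup.inclusion hPR y) : Rs) : Ω) := hasx
  have hAs : ∀ x : R, (x : Ω) ∈ P ↔ ((es x : Rs) : Ω) ∈ As := by
    intro x
    constructor
    · intro hx
      have h1 := hasx' ⟨x, hx⟩
      have h2 : Subgroup.inclusion hPR ⟨(x : Ω), hx⟩ = x := Subtype.ext rfl
      rw [h2] at h1
      rw [← h1]
      exact (as _).2
    · intro hx
      have h1 := hasx' (as.symm ⟨_, hx⟩)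
      rw [MulEquiv.apply_symm_apply] at h1
      have h2 : es x = es (Subgroup.inclusion hPR (as.symm ⟨_, hx⟩)) := Subtype.ext h1
      rw [es.injective h2]
      exact (as.symm ⟨_, hx⟩).2
  have htr : tr es (stb R P) = stb Rs As := tr_stb es hAs
  rw [htr] at hfkn
  have hAsRs : As ≤ Rs := by
    intro z hz
    have h1 := hasx' (as.symm ⟨z, hz⟩)
    rw [MulEquiv.apply_symm_apply] at h1
    show z ∈ Rs
    have : z = ((es (Subgroup.inclusion hPR (as.symm ⟨z, hz⟩)) : Rs) : Ω) := h1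
    rw [this]
    exact (es _).2
  have hRsS : Rs ≤ S := hes.le_right
  have hAsS : As ≤ S := hAsRs.trans hRsS
  obtain ⟨a, θ, hθ, hθx⟩ := hgood As (isConj_of_isIso F as has)
  have hRsN : Rs ≤ normalizerIn S As := by
    intro z hz
    have h1 := map_mem_normalizerIn F hφ hPR as hasx (es.symm ⟨z, hz⟩) (hRN (es.symm ⟨z, hz⟩).2).2
    have h2 : (Rs.subtype.comp es.toMonoidHom) (es.symm ⟨z, hz⟩) = z := by
      show ((es (es.symm ⟨z, hz⟩) : Rs) : Ω) = z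
      rw [MulEquiv.apply_symm_apply]
    rwa [h2] at h1
  have hθ₀ : θ.comp (Subgroup.inclusion hRsN) ∈ F.Hom Rs := restrict_mem F hθ hRsN
  set R' : Subgroup Ω := (θ.comp (Subgroup.inclusion hRsN)).range with hR'def
  let e₂ : Rs ≃* R' := isoOfRange F hθ₀ rfl
  have he₂ : IsIso F e₂ := isIso_isoOfRange F hθ₀ rfl
  have he₂x : ∀ y : Rs, ((e₂ y : R') : Ω) = θ (Subgroup.inclusion hRsN y) := fun _ => rfl
  have hθN : ∀ g : normalizerIn S As, θ g ∈ normalizerIn S P := fun g =>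
    map_mem_normalizerIn F hθ (le_normalizerIn hAsS) a (fun x => (hθx x _).symm) g g.2.2
  have hAs₂ : ∀ y : Rs, (y : Ω) ∈ As ↔ ((e₂ y : R') : Ω) ∈ P := by
    intro y
    rw [he₂x]
    constructor
    · intro hy
      have h1 := hθx ⟨y, hy⟩ (hRsN y.2)
      have h2 : Subgroup.inclusion hRsN y = ⟨((⟨(y : Ω), hy⟩ : As) : Ω), hRsN y.2⟩ := Subtype.ext rfl
      rw [h2, h1]
      exact (a _).2
    · intro hy
      have h1 := hθx (a.symm ⟨_, hy⟩) (le_normalizerIn hAsS (a.symm ⟨_, hy⟩).2)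
      rw [MulEquiv.apply_symm_apply] at h1
      have h2 := F.injective_of_mem hθ h1
      have h3 : ((a.symm ⟨_, hy⟩ : As) : Ω) = y := congrArg (fun z : normalizerIn S As => (z : Ω)) h2
      rw [← h3]
      exact (a.symm ⟨_, hy⟩).2
  have hR'N : R' ≤ normalizerIn S P := by
    rintro _ ⟨y, rfl⟩
    exact hθN _
  have hR'S : R' ≤ S := hR'N.trans inf_le_left
  have hPR' : P ≤ R' := by
    intro y hy
    have h1 := hθx (a.symm ⟨y, hy⟩) (le_normalizerIn hAsS (a.symm ⟨y, hy⟩).2)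
    rw [MulEquiv.apply_symm_apply] at h1
    refine ⟨⟨_, hAsRs (a.symm ⟨y, hy⟩).2⟩, ?_⟩
    exact h1
  refine ⟨R', es.trans e₂, hes.trans he₂, hR'N, hPR', fun x => ?_, hR'S, fun Q'' e'' he'' => ?_⟩
  · rw [hAs x, hAs₂ (es x)]
    rfl
  · have h1 := hfkn.2 Q'' (e₂.trans e'') (he₂.trans he'')
    rw [← tr_trans, tr_stb e₂ hAs₂] at h1
    refine h1.trans ?_
    have hle : NK S Rs (stb Rs As) ≤ normalizerIn S As := NK_stb_le_normalizerIn S hAsRs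
    have hfin : Finite (NK S R' (stb R' P)) := finite_NK R' _
    refine Nat.card_le_card_of_injective (fun g : NK S Rs (stb Rs As) =>
      (⟨θ ⟨g, hle g.2⟩, ?_⟩ : NK S R' (stb R' P))) ?_
    · obtain ⟨hgS, hgRs, hgAs⟩ := (mem_NK_stb_iff S hAsRs g).mp g.2
      rw [mem_NK_stb_iff S hPR']
      exact ⟨(hθN _).1, (map_mem_normalizerIn F hθ hRsN e₂ he₂x ⟨g, hle g.2⟩ hgRs).2, (hθN _).2⟩
    · intro g g' h
      have h1 := F.injective_of_mem hθ (congrArg Subtype.val h)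
      exact Subtype.ext (congrArg (fun z : normalizerIn S As => (z : Ω)) h1)

/-- Normalizer growth inside `R1 R₀`. -/
theorem card_lt_card_normalizerIn_sup [Finite S] {p : ℕ} [Fact p.Prime] (hS : IsPGroup p S) {R1 R₀ : Subgroup Ω}
    (hR1S : R1 ≤ S) (hR₀S : R₀ ≤ S) (hnorm : ∀ r ∈ R1, ∀ x ∈ R₀, r * x * r⁻¹ ∈ R₀) (hnle : ¬ R₀ ≤ R1) :
    Nat.card R1 < Nat.card (normalizerIn R₀ R1 ⊔ R1 : Subgroup Ω) := by
  have hMS : R1 ⊔ R₀ ≤ S := sup_le hR1S hR₀S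
  have hfinM : Finite (R1 ⊔ R₀ : Subgroup Ω) := finite_of_le hMS
  have hMp : IsPGroup p (R1 ⊔ R₀ : Subgroup Ω) := hS.to_le hMS
  have hlt : R1 < R1 ⊔ R₀ := by
    refine lt_of_le_of_ne le_sup_left (fun h => hnle ?_)
    rw [h]
    exact le_sup_right
  have h1 := lt_normalizerIn hMp hlt
  obtain ⟨m, hm, hmR1⟩ := SetLike.exists_of_lt h1
  obtain ⟨r, hr, r₀, hr₀, rfl⟩ := exists_mul_of_mem_sup R1 R₀ hnorm hm.1
  have hr₀N : r₀ ∈ Subgroup.normalizer (R1 : Set Ω) := by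
    have h2 : r₀ = r⁻¹ * (r * r₀) := by group
    rw [h2]
    exact Subgroup.mul_mem _ (Subgroup.inv_mem _ (Subgroup.le_normalizer hr)) hm.2
  have hr₀R1 : r₀ ∉ R1 := fun h => hmR1 (R1.mul_mem hr h)
  have hlt2 : R1 < normalizerIn R₀ R1 ⊔ R1 := by
    refine lt_of_le_of_ne le_sup_right (fun h => hr₀R1 ?_)
    rw [h]
    exact Subgroup.mem_sup_left ⟨hr₀, hr₀N⟩
  have hfin2 : Finite (normalizerIn R₀ R1 ⊔ R1 : Subgroup Ω) :=
    finite_of_le (sup_le (inf_le_left.trans hR₀S) hR1S)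
  exact card_lt_card_of_lt hlt2

/-- The statement to be proved by downward induction: restrictions to `P` of maps of the system defined on `R`, `P < R ≤ N_S(P)`,
carrying `P` onto `P`, extend to automorphisms of `R₀`. -/
def QStmt (F : FusionSystem S) (p : ℕ) (P : Subgroup Ω) (m : ℕ) : Prop :=
  ∀ (R : Subgroup Ω) (hPR : P ≤ R), P ≠ R → R ≤ normalizerIn S P → ∀ (ψ : R →* Ω), ψ ∈ F.Hom R →
    ∀ γ : MulAut P, (∀ x : P, ((γ x : P) : Ω) = ψ (Subgroup.inclusion hPR x)) →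
      Nat.card S - Nat.card R = m → ExtR F P (NK S P (Vm F p P)) γ

/-- The case of an automorphism of a fully normalized pair. -/
theorem extR_of_fkn [Finite S] {p : ℕ} [Fact p.Prime] (hS : IsPGroup p S) (F : FusionSystem S) {P : Subgroup Ω}
    (hPS : P ≤ S)
    (hbig : ∀ R : Subgroup Ω, R ≤ S → Nat.card P < Nat.card R →
      ∃ Q, F.IsConj R Q ∧ F.IsFullyAutomized p Q ∧ F.IsReceptive Q)
    (n : ℕ) (ih : ∀ m < n, QStmt F p P m) {R1 : Subgroup Ω} (hPR1 : P ≤ R1) (hne : P ≠ R1)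
    (hR1N : R1 ≤ normalizerIn S P) (hfkn : IsFullyKNormalized F R1 (stb R1 P)) (β : MulAut R1)
    (hβF : β ∈ F.autGroup R1) (hβP : β ∈ stb R1 P) (γ : MulAut P)
    (hγ : ∀ x : P, ((γ x : P) : Ω) = ((β ⟨x, hPR1 x.2⟩ : R1) : Ω)) (hn : Nat.card S - Nat.card R1 = n) :
    ExtR F P (NK S P (Vm F p P)) γ := by
  have hR1S : R1 ≤ S := hR1N.trans inf_le_left
  have hR₀S : NK S P (Vm F p P) ≤ S := NK_le S P _
  have hPR₀ : P ≤ NK S P (Vm F p P) := le_NK_Vm hS F hPS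
  have hfinR1 : Finite R1 := finite_of_le hR1S
  by_cases hle : NK S P (Vm F p P) ≤ R1
  · have hψ : R1.subtype.comp (β : R1 ≃* R1).toMonoidHom ∈ F.Hom R1 := (mem_autGroup_iff F hR1S β).mp hβF
    exact extR_of_le F p hPR1 hle hψ γ (fun x => hγ x)
  have hcard : Nat.card P < Nat.card R1 := card_lt_card_of_lt (lt_of_le_of_ne hPR1 hne)
  obtain ⟨Q₀, hconj, hQ₀a, hQ₀r⟩ := hbig R1 hR1S hcard
  obtain ⟨hrec, haut⟩ := kpackage hS F hconj hQ₀a hQ₀r _ hfkn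
  have hfinM : Finite (MulAut R1) := finite_mulAut_of_le hR1S
  let f : ↥(stb R1 P ⊓ F.autGroup R1) →* MulAut P := (rstb R1 P hPR1).comp (Subgroup.inclusion inf_le_left)
  have hfx : ∀ (l : ↥(stb R1 P ⊓ F.autGroup R1)) (x : P),
      ((f l x : P) : Ω) = (((l : MulAut R1) ⟨x, hPR1 x.2⟩ : R1) : Ω) := fun _ _ => rfl
  have hfF : ∀ l : ↥(stb R1 P ⊓ F.autGroup R1), f l ∈ F.autGroup P := fun l =>
    rstb_mem_autGroup F hPR1 hR1S ⟨l.1, l.2.1⟩ l.2.2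
  have hAS : IsPGroup p ((stb R1 P ⊓ autInducedBy S R1).subgroupOf (stb R1 P ⊓ F.autGroup R1)) :=
    ((isPGroup_autInducedBy hS R1).to_le inf_le_right).comap_subtype
  have hidx : ¬ p ∣ ((stb R1 P ⊓ autInducedBy S R1).subgroupOf (stb R1 P ⊓ F.autGroup R1)).index := haut
  obtain ⟨β', d₀, hd₀, hd₀V, hfβ', hβ'AS⟩ := exists_twist f _ hAS hidx (Vm F p P) (isPGroup_Vm F p P)
    (fun l v hv => Vm_conj_mem F p P (hfF l) hv) ⟨β, hβP, hβF⟩
  -- `d₀` is conjugation by an element of `R₀`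
  have hd₀' : (d₀ : MulAut R1) ∈ stb R1 P ⊓ autInducedBy S R1 := Subgroup.mem_subgroupOf.mp hd₀
  obtain ⟨g, hgS, hgx⟩ := (mem_autInducedBy_iff S R1 _).mp hd₀'.2
  have hgR1 : g ∈ Subgroup.normalizer (R1 : Set Ω) := mem_normalizer_of_conj_eq _ g hgx
  have hd₀eq : (d₀ : MulAut R1) = conjAut R1 g hgR1 := eq_conjAut_of_conj_eq _ g hgx
  have hgNK : g ∈ NK S R1 (stb R1 P) := (mem_NK_iff S R1 _ g).mpr ⟨hgS, hgR1, hd₀eq ▸ hd₀'.1⟩
  obtain ⟨-, -, hgP⟩ := (mem_NK_stb_iff S hPR1 g).mp hgNK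
  have hfd₀ : f d₀ = conjAut P g hgP := by
    ext x
    rw [hfx, hgx]
    rfl
  have hgR₀ : g ∈ NK S P (Vm F p P) := (mem_NK_iff S P _ g).mpr ⟨hgS, hgP, hfd₀ ▸ hd₀V⟩
  have hExt0 : ExtR F P (NK S P (Vm F p P)) (f d₀) := by
    refine ⟨conjAut _ g (Subgroup.le_normalizer hgR₀), ?_, fun x hx => ?_⟩
    · rw [mem_autGroup_iff F hR₀S]
      exact isIso_conjAut F hR₀S hgS _
    · rw [hfd₀]
      rfl
  -- extend `β'`
  have hβ'F : (β' : MulAut R1) ∈ F.autGroup R1 := β'.2.2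
  have hφ' : R1.subtype.comp ((β' : MulAut R1) : R1 ≃* R1).toMonoidHom ∈ F.Hom R1 :=
    (mem_autGroup_iff F hR1S _).mp hβ'F
  have hrange : (R1.subtype.comp ((β' : MulAut R1) : R1 ≃* R1).toMonoidHom).range = R1 :=
    range_subtype_comp_equiv ((β' : MulAut R1) : R1 ≃* R1)
  obtain ⟨ψ₃, hψ₃, hψ₃x⟩ := hrec.2 R1 _ hφ' hrange
  have hM₁le : normalizerIn (NK S P (Vm F p P)) R1 ⊔ R1 ≤
      extender S R1 (R1.subtype.comp ((β' : MulAut R1) : R1 ≃* R1).toMonoidHom) := by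
    refine sup_le ?_ (le_extender_of_mem F hφ')
    rintro g' ⟨hg'R₀, hg'R1⟩
    obtain ⟨hg'S, hg'P, hg'K⟩ := (mem_NK_iff S P _ g').mp hg'R₀
    have hdstb : conjAut R1 g' hg'R1 ∈ stb R1 P := by
      obtain ⟨-, h, hK⟩ := (mem_NK_iff S R1 _ g').mp ((mem_NK_stb_iff S hPR1 g').mpr ⟨hg'S, hg'R1, hg'P⟩)
      exact hK
    have hdS : conjAut R1 g' hg'R1 ∈ autInducedBy S R1 := conjAut_mem_autInducedBy S R1 hg'S hg'R1
    have hdF : conjAut R1 g' hg'R1 ∈ F.autGroup R1 := autInducedBy_le_autGroup F hR1S hdS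
    have hfd : f ⟨conjAut R1 g' hg'R1, hdstb, hdF⟩ = conjAut P g' hg'P := by
      ext x
      rfl
    have h1 := hβ'AS ⟨conjAut R1 g' hg'R1, hdstb, hdF⟩ (Subgroup.mem_subgroupOf.mpr ⟨hdstb, hdS⟩)
      (by rw [hfd]; exact hg'K)
    have h2 : (β' : MulAut R1) * conjAut R1 g' hg'R1 * (β' : MulAut R1)⁻¹ ∈ autInducedBy S R1 :=
      (Subgroup.mem_subgroupOf.mp h1).2
    obtain ⟨h, hhS, hh⟩ := (mem_autInducedBy_iff S R1 _).mp h2
    rw [mem_extender_iff]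
    refine ⟨hg'S, hg'R1, h, hhS, fun x hx => ?_⟩
    have h3 := hh ((β' : MulAut R1) x)
    rw [MulAut.mul_apply, MulAut.mul_apply, MulAut.inv_apply_self] at h3
    exact h3
  have hψ₄ := restrict_mem F hψ₃ hM₁le
  have hPM₁ : P ≤ normalizerIn (NK S P (Vm F p P)) R1 ⊔ R1 := hPR1.trans le_sup_right
  have hM₁N : normalizerIn (NK S P (Vm F p P)) R1 ⊔ R1 ≤ normalizerIn S P :=
    sup_le (inf_le_left.trans (NK_le_normalizerIn S P _)) hR1N
  have hM₁S : normalizerIn (NK S P (Vm F p P)) R1 ⊔ R1 ≤ S := hM₁N.trans inf_le_left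
  have hfinM₁ : Finite (normalizerIn (NK S P (Vm F p P)) R1 ⊔ R1 : Subgroup Ω) := finite_of_le hM₁S
  have hlt := card_lt_card_normalizerIn_sup hS hR1S hR₀S
    (fun r hr x hx => conj_mem_NK_Vm F p hPS (hR1N hr) hx) hle
  have hleS : Nat.card (normalizerIn (NK S P (Vm F p P)) R1 ⊔ R1 : Subgroup Ω) ≤ Nat.card S :=
    Subgroup.card_le_of_le hM₁S
  have hneM₁ : P ≠ normalizerIn (NK S P (Vm F p P)) R1 ⊔ R1 := by
    intro h
    rw [← h] at hlt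
    omega
  have hExt3 : ExtR F P (NK S P (Vm F p P)) (f β') := by
    refine ih _ (by omega) _ hPM₁ hneM₁ hM₁N _ hψ₄ (f β') (fun x => ?_) rfl
    rw [hfx]
    exact (hψ₃x (x : Ω) (hPR1 x.2) (hM₁le (hPM₁ x.2))).symm
  have hγeq : γ = (f d₀)⁻¹ * f β' := by
    rw [hfβ', inv_mul_cancel_left]
    ext x
    rw [hγ, hfx]
  rw [hγeq]
  exact (hExt0.inv hPR₀).mul hExt3

/-- Step 2: maps of the system defined on overgroups of `P` inside `N_S(P)` and carrying `P` onto `P` restrict on `P` to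
automorphisms that extend to `R₀`. -/
theorem extR_of_hom [Finite S] {p : ℕ} [Fact p.Prime] (hS : IsPGroup p S) (F : FusionSystem S) {P : Subgroup Ω}
    (hPS : P ≤ S)
    (hbig : ∀ R : Subgroup Ω, R ≤ S → Nat.card P < Nat.card R →
      ∃ Q, F.IsConj R Q ∧ F.IsFullyAutomized p Q ∧ F.IsReceptive Q)
    (hgood : ∀ A, F.IsConj P A → Good F P A) : ∀ n, QStmt F p P n := by
  intro n
  induction n using Nat.strong_induction_on with
  | _ n ih =>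
  intro R hPR hne hRN ψ hψ γ hγ hn
  by_cases hle : NK S P (Vm F p P) ≤ R
  · exact extR_of_le F p hPR hle hψ γ hγ
  have hRneN : R ≠ normalizerIn S P := fun h => hle (h ▸ NK_le_normalizerIn S P _)
  have hRS : R ≤ S := hRN.trans inf_le_left
  have hPR₀ : P ≤ NK S P (Vm F p P) := le_NK_Vm hS F hPS
  have hfinR : Finite R := finite_of_le hRS
  have hfinP : Finite P := finite_of_le hPS
  have hfinN : Finite (normalizerIn S P) := finite_of_le inf_le_left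
  have hcardPR : Nat.card P < Nat.card R := card_lt_card_of_lt (lt_of_le_of_ne hPR hne)
  have hcardRN : Nat.card R < Nat.card (normalizerIn S P) := card_lt_card_of_lt (lt_of_le_of_ne hRN hRneN)
  obtain ⟨R1, e1, he1, hR1N, hPR1, he1P, hfkn⟩ := exists_fkn_in_N F hgood hPR hRN
  have hcardR1 : Nat.card R1 = Nat.card R := (Nat.card_congr e1.toEquiv).symm
  obtain ⟨Q₀, hconj0, hQ₀a, hQ₀r⟩ := hbig R hRS hcardPR
  have hconj1 : F.IsConj R1 Q₀ := isConj_trans F (isConj_symm F (isConj_of_isIso F e1 he1)) hconj0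
  obtain ⟨hrec, haut⟩ := kpackage hS F hconj1 hQ₀a hQ₀r _ hfkn
  -- first extension
  have htr1 : tr e1 (stb R P) = stb R1 P := tr_stb e1 he1P
  have haut1 : IsKAutomized F p R1 (tr e1 (stb R P)) := by rw [htr1]; exact haut
  obtain ⟨χ₁, hχ₁, ψ₁, hψ₁, hψ₁R, -⟩ := exists_extension_NK hS F (stb R P) e1 he1 hrec haut1
  have hPD₁ : P ≤ NK S R (stb R P) ⊔ R := hPR.trans le_sup_right
  have hD₁N : NK S R (stb R P) ⊔ R ≤ normalizerIn S P := sup_le (NK_stb_le_normalizerIn S hPR) hRN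
  have hD₁S : NK S R (stb R P) ⊔ R ≤ S := hD₁N.trans inf_le_left
  have hlt₁ := card_lt_card_NK_sup hS hPR hRN hRneN
  have hleS₁ : Nat.card (NK S R (stb R P) ⊔ R : Subgroup Ω) ≤ Nat.card S := Subgroup.card_le_of_le hD₁S
  have hψ₁x : ∀ x : P, ψ₁ (Subgroup.inclusion hPD₁ x) = ((e1 (χ₁ ⟨x, hPR x.2⟩) : R1) : Ω) := fun x =>
    hψ₁R ⟨x, hPR x.2⟩
  have hψ₁P : ∀ x : P, ψ₁ (Subgroup.inclusion hPD₁ x) ∈ P := by
    intro x
    rw [hψ₁x]
    exact (he1P _).mp ((hχ₁.1 _).mp x.2)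
  obtain ⟨γ₁, -, hγ₁x⟩ := exists_aut_of_maps_into F hψ₁ hPD₁ hψ₁P
  have hneD₁ : P ≠ NK S R (stb R P) ⊔ R := by
    intro h
    rw [← h] at hlt₁
    omega
  have hExt1 : ExtR F P (NK S P (Vm F p P)) γ₁ :=
    ih _ (by omega) _ hPD₁ hneD₁ hD₁N ψ₁ hψ₁ γ₁ hγ₁x rfl
  -- the image of `R`
  set R' : Subgroup Ω := ψ.range with hR'def
  let v : R ≃* R' := isoOfRange F hψ rfl
  have hv : IsIso F v := isIso_isoOfRange F hψ rfl
  have hvx : ∀ x : R, ((v x : R') : Ω) = ψ x := fun _ => rfl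
  have hR'N : R' ≤ normalizerIn S P := by
    rintro _ ⟨r, rfl⟩
    exact map_mem_normalizerIn F hψ hPR (γ : P ≃* P) hγ r (hRN r.2).2
  have hPR' : P ≤ R' := by
    intro y hy
    have h1 := hγ (γ.symm ⟨y, hy⟩)
    rw [MulEquiv.apply_symm_apply] at h1
    exact ⟨_, h1.symm⟩
  have hvP : ∀ x : R, (x : Ω) ∈ P ↔ ((v x : R') : Ω) ∈ P := by
    intro x
    rw [hvx]
    constructor
    · intro hx
      have h1 := hγ ⟨x, hx⟩
      have h2 : Subgroup.inclusion hPR ⟨(x : Ω), hx⟩ = x := Subtype.ext rfl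
      rw [h2] at h1
      rw [← h1]
      exact (γ _).2
    · intro hx
      have h1 := hγ (γ.symm ⟨_, hx⟩)
      rw [MulEquiv.apply_symm_apply] at h1
      have h2 := F.injective_of_mem hψ h1
      rw [h2]
      exact (γ.symm ⟨_, hx⟩).2
  let e2 : R' ≃* R1 := v.symm.trans e1
  have he2 : IsIso F e2 := hv.symm.trans he1
  have he2P : ∀ y : R', (y : Ω) ∈ P ↔ ((e2 y : R1) : Ω) ∈ P := by
    intro y
    have h1 := hvP (v.symm y)
    rw [MulEquiv.apply_symm_apply] at h1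
    rw [← h1]
    exact he1P (v.symm y)
  have htr2 : tr e2 (stb R' P) = stb R1 P := tr_stb e2 he2P
  have haut2 : IsKAutomized F p R1 (tr e2 (stb R' P)) := by rw [htr2]; exact haut
  obtain ⟨χ₂, hχ₂, ψ₂, hψ₂, hψ₂R, -⟩ := exists_extension_NK hS F (stb R' P) e2 he2 hrec haut2
  have hcardR' : Nat.card R' = Nat.card R := (Nat.card_congr v.toEquiv).symm
  have hR'neN : R' ≠ normalizerIn S P := by
    intro h
    rw [h] at hcardR'
    omega
  have hPD₂ : P ≤ NK S R' (stb R' P) ⊔ R' := hPR'.trans le_sup_right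
  have hD₂N : NK S R' (stb R' P) ⊔ R' ≤ normalizerIn S P := sup_le (NK_stb_le_normalizerIn S hPR') hR'N
  have hD₂S : NK S R' (stb R' P) ⊔ R' ≤ S := hD₂N.trans inf_le_left
  have hlt₂ := card_lt_card_NK_sup hS hPR' hR'N hR'neN
  have hleS₂ : Nat.card (NK S R' (stb R' P) ⊔ R' : Subgroup Ω) ≤ Nat.card S := Subgroup.card_le_of_le hD₂S
  have hψ₂x : ∀ x : P, ψ₂ (Subgroup.inclusion hPD₂ x) = ((e2 (χ₂ ⟨x, hPR' x.2⟩) : R1) : Ω) := fun x =>
    hψ₂R ⟨x, hPR' x.2⟩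
  have hψ₂P : ∀ x : P, ψ₂ (Subgroup.inclusion hPD₂ x) ∈ P := by
    intro x
    rw [hψ₂x]
    exact (he2P _).mp ((hχ₂.1 _).mp x.2)
  obtain ⟨γ₂, -, hγ₂x⟩ := exists_aut_of_maps_into F hψ₂ hPD₂ hψ₂P
  have hneD₂ : P ≠ NK S R' (stb R' P) ⊔ R' := by
    intro h
    rw [← h] at hlt₂
    omega
  have hExt2 : ExtR F P (NK S P (Vm F p P)) γ₂ :=
    ih _ (by omega) _ hPD₂ hneD₂ hD₂N ψ₂ hψ₂ γ₂ hγ₂x rfl
  -- the automorphism `β` of `R1`
  let f₁ : R ≃* R1 := (χ₁ : R ≃* R).trans e1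
  let f₂ : R' ≃* R1 := (χ₂ : R' ≃* R').trans e2
  have hf₁ : IsIso F f₁ := ((mem_autGroup_iff F hRS χ₁).mp hχ₁.2).trans he1
  have hf₂ : IsIso F f₂ := ((mem_autGroup_iff F (hR'N.trans inf_le_left) χ₂).mp hχ₂.2).trans he2
  have hf₁P : ∀ x : R, (x : Ω) ∈ P ↔ ((f₁ x : R1) : Ω) ∈ P := fun x => (hχ₁.1 x).trans (he1P (χ₁ x))
  have hf₂P : ∀ x : R', (x : Ω) ∈ P ↔ ((f₂ x : R1) : Ω) ∈ P := fun x => (hχ₂.1 x).trans (he2P (χ₂ x))
  let β : MulAut R1 := f₁.symm.trans (v.trans f₂)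
  have hR1S : R1 ≤ S := hR1N.trans inf_le_left
  have hβF : β ∈ F.autGroup R1 := by
    rw [mem_autGroup_iff F hR1S]
    exact hf₁.symm.trans (hv.trans hf₂)
  have hβP : β ∈ stb R1 P := by
    intro y
    have h1 := hf₁P (f₁.symm y)
    rw [MulEquiv.apply_symm_apply] at h1
    rw [← h1, hvP (f₁.symm y), hf₂P (v (f₁.symm y))]
    rfl
  have hfinR1 : Finite R1 := finite_of_le hR1S
  have hneR1 : P ≠ R1 := by
    intro h
    rw [← h] at hcardR1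
    omega
  have hExtβ : ExtR F P (NK S P (Vm F p P)) (rstb R1 P hPR1 ⟨β, hβP⟩) :=
    extR_of_fkn hS F hPS hbig n ih hPR1 hneR1 hR1N hfkn β hβF hβP _ (fun x => rfl) (by rw [hcardR1]; exact hn)
  have hrel : γ₂ * γ = rstb R1 P hPR1 ⟨β, hβP⟩ * γ₁ := by
    ext x
    rw [MulAut.mul_apply, MulAut.mul_apply, hγ₂x, rstb_apply]
    have h1 : Subgroup.inclusion hPD₂ (γ x) = Subgroup.inclusion le_sup_right (v (Subgroup.inclusion hPR x)) :=
      Subtype.ext (hγ x)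
    rw [h1, hψ₂R]
    have h2 : (⟨((γ₁ x : P) : Ω), hPR1 (γ₁ x).2⟩ : R1) = f₁ (Subgroup.inclusion hPR x) := by
      apply Subtype.ext
      show ((γ₁ x : P) : Ω) = _
      rw [hγ₁x, hψ₁x]
      rfl
    rw [h2]
    show _ = ((f₂ (v (f₁.symm (f₁ (Subgroup.inclusion hPR x)))) : R1) : Ω)
    rw [MulEquiv.symm_apply_apply]
    rfl
  have hγeq : γ = γ₂⁻¹ * (rstb R1 P hPR1 ⟨β, hβP⟩ * γ₁) := by
    rw [← hrel, inv_mul_cancel_left]
  rw [hγeq]
  exact (hExt2.inv hPR₀).mul (hExtβ.mul hExt1)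

end Cfsg.Agent.Helper84
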