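-- helper84: the radical `Q1` of the stabilizer of `⟨e_1⟩` in the hyperbolic model of `SU_n(q)`; the centralizers of
-- `Q` and of `Q1` (S5172).
import Mathlib
import Cfsg.Agent.Helper84.PSUNorm

set_option autoImplicit false
set_option linter.unusedSectionVars false

namespace Cfsg.Agent.Helper84.PSU

open Matrix Cfsg.Agent.Helper40.UT

variable {K : Type*} [Field K] {k r : ℕ}

local notation "Vec" => (I k r → K)
local notation "Mat" => Matrix (I k r) (I k r) K
local notation "Mk" => Matrix (Fin k) (Fin k) K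
local notation "Mr" => Matrix (Fin r) (Fin r) K
local notation "SLk" => Matrix.SpecialLinearGroup (Fin k) K

/-- the level function of the flag `⟨e_{i₁}⟩ < e_{i₁}^⊥` -/
def lv1 (i₁ : Fin k) : I k r → ℤ
  | Sum.inl i => if i = i₁ then 0 else -1
  | Sum.inr (Sum.inl _) => -1
  | Sum.inr (Sum.inr i) => if i = i₁ then -2 else -1

theorem lv1_eI (i₁ i : Fin k) : lv1 i₁ (eI i : I k r) = if i = i₁ then 0 else -1 := rfl
theorem lv1_wI (i₁ : Fin k) (a : Fin r) : lv1 i₁ (wI a : I k r) = -1 := rfl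
theorem lv1_fI (i₁ i : Fin k) : lv1 i₁ (fI i : I k r) = if i = i₁ then -2 else -1 := rfl

theorem lv1_op (i₁ : Fin k) (x : I k r) : lv1 i₁ (op x) = -2 - lv1 i₁ x := by
  rcases x with i | a | i
  · rw [op_eI, lv1_fI, lv1_eI]
    split_ifs <;> norm_num
  · rw [op_wI, lv1_wI]
    norm_num
  · rw [op_fI, lv1_fI, lv1_eI]
    split_ifs <;> norm_num

theorem lv1_eq_zero_iff (i₁ : Fin k) (x : I k r) : lv1 i₁ x = 0 ↔ x = eI i₁ := by
  rcases x with i | a | i
  · rw [lv1_eI]
    constructor
    · intro h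
      by_cases hi : i = i₁
      · rw [hi]
      · rw [if_neg hi] at h
        omega
    · intro h
      rw [if_pos (Sum.inl.inj h)]
  · rw [lv1_wI]
    constructor
    · intro h; omega
    · intro h; cases h
  · rw [lv1_fI]
    constructor
    · intro h
      split_ifs at h <;> omega
    · intro h; cases h

theorem lv1_eq_neg_two_iff (i₁ : Fin k) (x : I k r) : lv1 i₁ x = -2 ↔ x = fI i₁ := by
  rcases x with i | a | i
  · rw [lv1_eI]
    constructor
    · intro h
      split_ifs at h <;> omega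
    · intro h; cases h
  · rw [lv1_wI]
    constructor
    · intro h; omega
    · intro h; cases h
  · rw [lv1_fI]
    constructor
    · intro h
      by_cases hi : i = i₁
      · rw [hi]
      · rw [if_neg hi] at h
        omega
    · intro h
      rw [if_pos (Sum.inr.inj (Sum.inr.inj h))]

theorem lv1_range (i₁ : Fin k) (x : I k r) : -2 ≤ lv1 i₁ x ∧ lv1 i₁ x ≤ 0 := by
  rcases x with i | a | i
  · rw [lv1_eI]
    split_ifs <;> norm_num
  · rw [lv1_wI]
    norm_num
  · rw [lv1_fI]
    split_ifs <;> norm_num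

variable (bar : K →+* K) (hb : ∀ x, bar (bar x) = x)

set_option quotPrecheck false in
local notation "SUk" => ↥(SUm k r bar)

/-- the stabilizer of `⟨e_{i₁}⟩` -/
def P1 (i₁ : Fin k) : Subgroup SUk := lvPar bar (lv1 i₁) _ (lv1_op i₁)
/-- the radical of the stabilizer of `⟨e_{i₁}⟩` -/
def Q1 (i₁ : Fin k) : Subgroup SUk := lvSub bar (lv1 i₁) _ (lv1_op i₁) 1 (by norm_num)

theorem mem_P1 {i₁ : Fin k} {g : SUk} : g ∈ P1 bar i₁ ↔ RaisesBy (lv1 i₁) 0 (mt bar g) := Iff.rfl
theorem mem_Q1 {i₁ : Fin k} {g : SUk} : g ∈ Q1 bar i₁ ↔ IsUT (lv1 i₁) (mt bar g) := Iff.rfl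

theorem P1_le_normalizer_Q1 (i₁ : Fin k) :
    P1 bar i₁ ≤ Subgroup.normalizer ((Q1 bar i₁ : Subgroup SUk) : Set SUk) :=
  lvPar_le_normalizer bar (lv1_op i₁) _

/-- an element fixing `e_{i₁}` stabilizes the flag -/
theorem mem_P1_of_fix {i₁ : Fin k} {g : SUk} (hg : av bar g (bv (eI i₁)) = bv (eI i₁)) : g ∈ P1 bar i₁ := by
  intro x y hxy
  by_contra hlt
  have hx := lv1_range (r := r) i₁ x
  have hy := lv1_range (r := r) i₁ y
  apply hxy
  by_cases h1 : lv1 i₁ y = 0
  · rw [lv1_eq_zero_iff] at h1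
    rw [h1, ← av_bv, hg, bv_apply, if_neg]
    intro h2
    rw [h2, h1] at hlt
    omega
  · have h2 : lv1 i₁ x = -2 := by omega
    rw [lv1_eq_neg_two_iff] at h2
    have h3 : mt bar g (fI i₁) y = hf bar (av bar g (bv y)) (bv (eI i₁)) := by
      rw [hf_bv_right, op_eI, av_bv]
    rw [h2, h3]
    conv_lhs => rw [← hg]
    rw [hf_av, hf_bv_bv, if_neg]
    intro h4
    rw [h4, op_eI, h2] at hlt
    omega

theorem lvI_eq_zero_iff (hk : 1 ≤ k) (x : I k r) : lvI x = 0 ↔ x = eI ⟨0, hk⟩ := by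
  rcases x with ⟨i, hi⟩ | a | ⟨i, hi⟩
  · rw [lvI_eI]
    constructor
    · intro h
      have : i = 0 := by
        simp only at h
        omega
      subst this
      rfl
    · intro h
      have := Sum.inl.inj h
      rw [Fin.mk.injEq] at this
      subst this
      simp
  · rw [lvI_wI]
    constructor
    · intro h; omega
    · intro h; cases h
  · rw [lvI_fI]
    constructor
    · intro h
      simp only at h
      omega
    · intro h; cases h

theorem lvI_eq_min_iff (hk : 1 ≤ k) (x : I k r) : lvI x = -2 * (k : ℤ) ↔ x = fI ⟨0, hk⟩ := by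
  rcases x with ⟨i, hi⟩ | a | ⟨i, hi⟩
  · rw [lvI_eI]
    constructor
    · intro h
      simp only at h
      omega
    · intro h; cases h
  · rw [lvI_wI]
    constructor
    · intro h; omega
    · intro h; cases h
  · rw [lvI_fI]
    constructor
    · intro h
      have : i = 0 := by
        simp only at h
        omega
      subst this
      rfl
    · intro h
      have := Sum.inr.inj (Sum.inr.inj h)
      rw [Fin.mk.injEq] at this
      subst this
      simp

theorem lvI_range (x : I k r) : -2 * (k : ℤ) ≤ lvI x ∧ lvI x ≤ 0 := by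
  rcases x with ⟨i, hi⟩ | a | ⟨i, hi⟩
  · rw [lvI_eI]
    simp only
    omega
  · rw [lvI_wI]
    omega
  · rw [lvI_fI]
    simp only
    omega

/-- `Q1` at the first index lies in `U0` -/
theorem Q1_le_U0 (hk : 1 ≤ k) : Q1 bar (⟨0, hk⟩ : Fin k) ≤ (U0 bar : Subgroup SUk) := by
  intro g hg x y hxy
  have h1 := hg x y hxy
  have hx := lv1_range (r := r) ⟨0, hk⟩ x
  have hy := lv1_range (r := r) ⟨0, hk⟩ y
  have hx' := lvI_range x
  have hy' := lvI_range y
  by_cases h2 : lv1 ⟨0, hk⟩ x = 0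
  · have h3 : lvI x = 0 := (lvI_eq_zero_iff hk x).mpr ((lv1_eq_zero_iff _ x).mp h2)
    have h4 : lvI y ≠ 0 := by
      intro h5
      have := (lv1_eq_zero_iff (⟨0, hk⟩ : Fin k) y).mpr ((lvI_eq_zero_iff hk y).mp h5)
      omega
    omega
  · have h3 : lv1 ⟨0, hk⟩ y = -2 := by omega
    have h4 : lvI y = -2 * (k : ℤ) := (lvI_eq_min_iff hk y).mpr ((lv1_eq_neg_two_iff _ y).mp h3)
    have h5 : lvI x ≠ -2 * (k : ℤ) := by
      intro h6
      have := (lv1_eq_neg_two_iff (⟨0, hk⟩ : Fin k) x).mpr ((lvI_eq_min_iff hk x).mp h6)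
      omega
    omega

/-- `U0` stabilizes the flag at the first index -/
theorem U0_le_P1 (hk : 1 ≤ k) : U0 bar ≤ (P1 bar (⟨0, hk⟩ : Fin k) : Subgroup SUk) := by
  intro g hg x y hxy
  by_cases hxy' : x = y
  · rw [hxy']
    omega
  have h0 : (mt bar g - 1) x y ≠ 0 := by
    rw [Matrix.sub_apply, Matrix.one_apply_ne hxy', sub_zero]
    exact hxy
  have h1 := hg x y h0
  have hx := lv1_range (r := r) ⟨0, hk⟩ x
  have hy := lv1_range (r := r) ⟨0, hk⟩ y
  have hx' := lvI_range x
  have hy' := lvI_range y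
  by_contra hlt
  by_cases h2 : lv1 ⟨0, hk⟩ y = 0
  · have h3 : lvI y = 0 := (lvI_eq_zero_iff hk y).mpr ((lv1_eq_zero_iff _ y).mp h2)
    omega
  · have h3 : lv1 ⟨0, hk⟩ x = -2 := by omega
    have h4 : lvI x = -2 * (k : ℤ) := (lvI_eq_min_iff hk x).mpr ((lv1_eq_neg_two_iff _ x).mp h3)
    omega

theorem U0_le_normalizer_Q1 (hk : 1 ≤ k) :
    U0 bar ≤ Subgroup.normalizer ((Q1 bar (⟨0, hk⟩ : Fin k) : Subgroup SUk) : Set SUk) :=
  (U0_le_P1 bar hk).trans (P1_le_normalizer_Q1 bar _)

theorem eichM_sub_one_apply (u y : Vec) (c : K) (a b : I k r) :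
    (eichM bar u y c - 1) a b = y a * bar (u (op b)) - u a * bar (y (op b)) + c * (u a * bar (u (op b))) := by
  rw [Matrix.sub_apply, eichM_apply, Matrix.one_apply]
  ring

include hb

/-- commuting with an Eichler element -/
theorem eichM_eq_of_comm {x : SUk} {u y : Vec} {c : K} (huu : hf bar u u = 0) (hyu : hf bar y u = 0)
    (hc : c + bar c + hf bar y y = 0)
    (h : x * eich bar hb u y c huu hyu hc = eich bar hb u y c huu hyu hc * x) :
    eichM bar (av bar x u) (av bar x y) c = eichM bar u y c := by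
  have h1 : x * eich bar hb u y c huu hyu hc * x⁻¹ = eich bar hb u y c huu hyu hc := by
    rw [h, mul_inv_cancel_right]
  rw [conj_eich] at h1
  have := congrArg (mt bar) h1
  rwa [mt_eich, mt_eich] at this

omit hb in
theorem eq_smul_bv_of_rk_eq {z : I k r} {v : Vec}
    (h : ∀ a b : I k r, v a * bar (v b) = (bv z : Vec) a * bar ((bv z : Vec) b)) :
    ∃ l : K, l * bar l = 1 ∧ v = l • (bv z : Vec) := by
  have h1 : v z * bar (v z) = 1 := by
    rw [h z z, bv_apply, if_pos rfl, map_one, mul_one]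
  have h2 : bar (v z) ≠ 0 := right_ne_zero_of_mul_eq_one h1
  refine ⟨v z, h1, ?_⟩
  funext a
  rw [Pi.smul_apply, bv_apply, smul_eq_mul]
  by_cases ha : a = z
  · rw [if_pos ha, mul_one, ha]
  · rw [if_neg ha, mul_zero]
    have := h a z
    rw [bv_apply, if_neg ha, zero_mul] at this
    exact (mul_eq_zero.mp this).resolve_right h2

/-- an element commuting with a transvection with centre a basis vector scales that vector -/
theorem exists_smul_of_comm_tvE {x : SUk} {z : I k r} (hzz : hf bar (bv z : Vec) (bv z) = 0) {c : K} (hc0 : c ≠ 0)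
    (hc : c + bar c = 0) (h : x * tvE bar hb (bv z) c hzz hc = tvE bar hb (bv z) c hzz hc * x) :
    ∃ l : K, l * bar l = 1 ∧ av bar x (bv z) = l • (bv z : Vec) := by
  have h1 := eichM_eq_of_comm bar hb hzz (hf_zero_left bar _) (by rw [hf_zero_right, add_zero, hc]) h
  apply eq_smul_bv_of_rk_eq bar
  intro a b
  have h2 := congrFun (congrFun h1 a) (op b)
  rw [eichM_apply, eichM_apply, av_zero, op_op] at h2
  simp only [Pi.zero_apply, zero_mul, map_zero, mul_zero, add_zero, sub_zero] at h2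
  have h3 := add_left_cancel h2
  exact mul_left_cancel₀ hc0 h3

omit hb in
/-- membership of Eichler elements with centre `e_i` in the radical `Q` -/
theorem isUT_lvc_eichM (i : Fin k) {y : Vec} (hy : ∀ j : Fin k, y (fI j) = 0) (c : K) :
    IsUT lvc (eichM bar (bv (eI i)) y c) := by
  intro a b hab
  rw [eichM_sub_one_apply, bv_apply, bv_apply] at hab
  by_cases h1 : op b = eI i
  · have hb' : b = fI i := by rw [← op_op b, h1]; rfl
    rw [hb']
    rcases a with j | a' | j
    · simp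
    · simp
    · exfalso
      apply hab
      have hne : ¬ ((Sum.inr (Sum.inr j) : I k r) = eI i) := by simp
      rw [hy j, if_neg hne]
      simp
  · rw [if_neg h1, map_zero, mul_zero, mul_zero, mul_zero, add_zero, zero_sub, neg_ne_zero] at hab
    have h2 : a = eI i := by
      by_contra h2
      rw [if_neg h2, zero_mul] at hab
      exact hab rfl
    have h3 : y (op b) ≠ 0 := by
      intro h0
      rw [h0, map_zero, mul_zero] at hab
      exact hab rfl
    rw [h2]
    rcases b with j | b' | j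
    · exfalso
      exact h3 (hy j)
    · simp
    · simp

theorem eich_mem_Q (i : Fin k) {y : Vec} (hy : ∀ j : Fin k, y (fI j) = 0) (c : K)
    (hyu : hf bar y (bv (eI i)) = 0) (hc : c + bar c + hf bar y y = 0) :
    eich bar hb (bv (eI i)) y c (hf_bv_self_eI bar i) hyu hc ∈ Q bar := by
  rw [mem_Q, mt_eich]
  exact isUT_lvc_eichM bar i hy c

omit hb in
/-- membership of Eichler elements with centre `e_{i₁}` in `Q1` -/
theorem isUT_lv1_eichM (i₁ : Fin k) {y : Vec} (hy : y (fI i₁) = 0) (c : K) :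
    IsUT (lv1 i₁) (eichM bar (bv (eI i₁)) y c) := by
  intro a b hab
  rw [eichM_sub_one_apply, bv_apply, bv_apply] at hab
  have ha := lv1_range (r := r) i₁ a
  have hb' := lv1_range (r := r) i₁ b
  by_cases h1 : op b = eI i₁
  · have hb2 : b = fI i₁ := by rw [← op_op b, h1]; rfl
    have h2 : lv1 i₁ b = -2 := (lv1_eq_neg_two_iff i₁ b).mpr hb2
    have h3 : lv1 i₁ a ≠ -2 := by
      intro h4
      rw [lv1_eq_neg_two_iff] at h4
      apply hab
      have hne : ¬ ((fI i₁ : I k r) = eI i₁) := by simp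
      rw [h4, hy, if_neg hne]
      simp
    omega
  · rw [if_neg h1, map_zero, mul_zero, mul_zero, mul_zero, add_zero, zero_sub, neg_ne_zero] at hab
    have h2 : a = eI i₁ := by
      by_contra h2
      rw [if_neg h2, zero_mul] at hab
      exact hab rfl
    have h3 : lv1 i₁ a = 0 := (lv1_eq_zero_iff i₁ a).mpr h2
    have h4 : lv1 i₁ b ≠ 0 := by
      intro h5
      rw [lv1_eq_zero_iff] at h5
      apply hab
      rw [h5, op_eI, hy, map_zero, mul_zero]
    omega

theorem eich_mem_Q1 (i₁ : Fin k) {y : Vec} (hy : y (fI i₁) = 0) (c : K)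
    (hyu : hf bar y (bv (eI i₁)) = 0) (hc : c + bar c + hf bar y y = 0) :
    eich bar hb (bv (eI i₁)) y c (hf_bv_self_eI bar i₁) hyu hc ∈ Q1 bar i₁ := by
  rw [mem_Q1, mt_eich]
  exact isUT_lv1_eichM bar i₁ hy c

omit hb in
theorem smul_one_rel {n : Type*} [Fintype n] [DecidableEq n] {l : K} (hN : l * bar l = 1) :
    (l • (1 : Matrix n n K))ᵀ * (l • (1 : Matrix n n K)).map bar = 1 := by
  rw [Matrix.smul_one_eq_diagonal, Matrix.diagonal_transpose, Matrix.diagonal_map (map_zero bar),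
    Matrix.diagonal_mul_diagonal]
  simp only [hN]
  exact Matrix.diagonal_one

omit hb in
theorem det_smul_one {n : Type*} [Fintype n] [DecidableEq n] (l : K) :
    (l • (1 : Matrix n n K)).det = l ^ Fintype.card n := by
  rw [Matrix.det_smul, Matrix.det_one, mul_one]

omit hb in
/-- the scalar elements of the model group -/
def scE (l : K) (hN : l * bar l = 1) (hdet : l ^ (2 * k + r) = 1) : SUk :=
  lvE bar (l • (1 : Mk)) (l • (1 : Mr)) (l • (1 : Mk)) (smul_one_rel bar hN) (smul_one_rel bar hN)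
    (smul_one_rel bar hN) (by
      rw [det_smul_one, det_smul_one, Fintype.card_fin, Fintype.card_fin, ← pow_add, ← pow_add, ← hdet]
      congr 1
      ring)

omit hb in
theorem mt_scE (l : K) (hN : l * bar l = 1) (hdet : l ^ (2 * k + r) = 1) :
    mt bar (scE bar l hN hdet : SUk) = l • (1 : Mat) := by
  unfold scE
  rw [mt_lvE]
  ext x y
  rcases x with i | a | i <;> rcases y with j | b | j <;>
    simp [Matrix.smul_apply, Matrix.one_apply]

omit hb in
theorem scE_mem_PM (l : K) (hN : l * bar l = 1) (hdet : l ^ (2 * k + r) = 1) :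
    (scE bar l hN hdet : SUk) ∈ PM bar := raisesBy_lvM _ _ _

omit hb in
theorem scE_comm (l : K) (hN : l * bar l = 1) (hdet : l ^ (2 * k + r) = 1) (g : SUk) :
    g * scE bar l hN hdet = scE bar l hN hdet * g := by
  apply mt_injective
  rw [mt_mul, mt_mul, mt_scE, Matrix.mul_smul, Matrix.smul_mul, mul_one, one_mul]

/-- the centralizer of the radical `Q` -/
theorem centralizer_Q_le (hk : 1 ≤ k) {c₀ : K} (hc₀ : c₀ ≠ 0) (hc₀' : c₀ + bar c₀ = 0) {c₁ : K}
    (hc₁ : c₁ + bar c₁ + 1 = 0) {x : SUk} (hx : ∀ u ∈ Q bar, x * u = u * x) :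
    ∃ q ∈ Q bar, ∃ (l : K) (hN : l * bar l = 1) (hdet : l ^ (2 * k + r) = 1), x = q * scE bar l hN hdet := by
  have ha : ∀ i : Fin k, ∃ l : K, l * bar l = 1 ∧ av bar x (bv (eI i)) = l • (bv (eI i) : Vec) := by
    intro i
    exact exists_smul_of_comm_tvE bar hb (hf_bv_self_eI bar i) hc₀ hc₀'
      (hx _ (R_le_Q bar (tvE_bv_mem_R bar hb i c₀ hc₀')))
  choose lam hlamN hlam using ha
  have hlam0 : ∀ i, bar (lam i) ≠ 0 := fun i => right_ne_zero_of_mul_eq_one (hlamN i)
  have hbb : ∀ i j : Fin k, lam j = lam i := by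
    intro i j
    by_cases hij : i = j
    · rw [hij]
    have hyu : hf bar (bv (eI j) : Vec) (bv (eI i)) = 0 := hf_bv_ee bar j i
    have hc : (0 : K) + bar 0 + hf bar (bv (eI j) : Vec) (bv (eI j)) = 0 := by
      rw [hf_bv_ee, map_zero, add_zero, add_zero]
    have hmem := eich_mem_Q bar hb i (y := (bv (eI j) : Vec)) (fun l => by rw [bv_apply, if_neg (by simp)]) 0 hyu hc
    have h1 := eichM_eq_of_comm bar hb (hf_bv_self_eI bar i) hyu hc (hx _ hmem)
    rw [hlam, hlam] at h1
    have h2 := congrFun (congrFun h1 (eI j)) (fI i)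
    rw [eichM_apply, eichM_apply] at h2
    have hne : ¬ ((eI j : I k r) = eI i) := fun h' => hij (Sum.inl.inj h').symm
    simp only [Pi.smul_apply, bv_apply, op_fI, if_true, if_neg hne, smul_eq_mul, mul_one, mul_zero, zero_mul,
      sub_zero, add_zero, map_one, map_zero, zero_add, reduceCtorEq, if_false, map_mul] at h2
    have h3 : lam j * bar (lam i) = lam i * bar (lam i) := by
      rw [hlamN i]
      exact h2
    exact mul_right_cancel₀ (hlam0 i) h3
  have hl : ∀ i, av bar x (bv (eI i)) = lam ⟨0, hk⟩ • (bv (eI i) : Vec) := by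
    intro i
    rw [hlam i, hbb ⟨0, hk⟩ i]
  have hlN := hlamN ⟨0, hk⟩
  obtain ⟨l, hle⟩ : ∃ l, l = lam ⟨0, hk⟩ := ⟨_, rfl⟩
  rw [← hle] at hl hlN
  have hw : ∀ (a : Fin r) (a' : I k r), a' ≠ eI ⟨0, hk⟩ →
      av bar x (bv (wI a)) a' = l * (bv (wI a) : Vec) a' := by
    intro a a' ha'
    have hyu : hf bar (bv (wI a) : Vec) (bv (eI ⟨0, hk⟩)) = 0 := hf_bv_we bar a _
    have hc : c₁ + bar c₁ + hf bar (bv (wI a) : Vec) (bv (wI a)) = 0 := by
      rw [hf_bv_ww, if_pos rfl, hc₁]
    have hmem := eich_mem_Q bar hb ⟨0, hk⟩ (y := (bv (wI a) : Vec)) (fun l => by rw [bv_apply, if_neg (by simp)]) c₁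
      hyu hc
    have h1 := eichM_eq_of_comm bar hb (hf_bv_self_eI bar _) hyu hc (hx _ hmem)
    rw [hl] at h1
    have h2 := congrFun (congrFun h1 a') (fI ⟨0, hk⟩)
    rw [eichM_apply, eichM_apply] at h2
    simp only [Pi.smul_apply, bv_apply, op_fI, if_true, if_neg ha', smul_eq_mul, mul_one, mul_zero, zero_mul,
      sub_zero, add_zero, map_one, map_zero] at h2
    have h3 := add_left_cancel h2
    calc av bar x (bv (wI a)) a' = av bar x (bv (wI a)) a' * (bar l * l) := by rw [mul_comm (bar l), hlN, mul_one]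
      _ = l * (bv (wI a) : Vec) a' := by
        rw [← mul_assoc, h3, bv_apply]
        ring
  have hxe : ∀ (j : Fin k) (a' : I k r), mt bar x a' (eI j) = l * (bv (eI j) : Vec) a' := by
    intro j a'
    rw [← av_bv, hl, Pi.smul_apply, smul_eq_mul]
  have hxw : ∀ (a : Fin r) (a' : I k r), a' ≠ eI ⟨0, hk⟩ → mt bar x a' (wI a) = l * (bv (wI a) : Vec) a' := by
    intro a a' ha'
    rw [← av_bv, hw a a' ha']
  have hPM : x ∈ PM bar := by
    intro a' b' hab
    by_contra hlt
    apply hab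
    rcases a' with i | a | i <;> rcases b' with j | b | j
    · exfalso; simp at hlt
    · exfalso; simp at hlt
    · exfalso; simp at hlt
    · rw [hxe, bv_apply, if_neg (by simp), mul_zero]
    · exfalso; simp at hlt
    · exfalso; simp at hlt
    · rw [hxe, bv_apply, if_neg (by simp), mul_zero]
    · rw [hxw b _ (by simp), bv_apply, if_neg (by simp), mul_zero]
    · exfalso; simp at hlt
  have hA : bA (mt bar x) = l • (1 : Mk) := by
    ext i j
    rw [bA_apply, hxe, bv_apply, Matrix.smul_apply, Matrix.one_apply, smul_eq_mul]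
    by_cases hij : i = j
    · rw [if_pos hij, if_pos (by rw [hij])]
    · rw [if_neg hij, if_neg (fun h' => hij (Sum.inl.inj h'))]
  have hM : bM (mt bar x) = l • (1 : Mr) := by
    ext a b
    rw [bM_apply, hxw b _ (by simp), bv_apply, Matrix.smul_apply, Matrix.one_apply, smul_eq_mul]
    by_cases hab : a = b
    · rw [if_pos hab, if_pos (by rw [hab])]
    · rw [if_neg hab, if_neg (fun h' => hab (Sum.inl.inj (Sum.inr.inj h')))]
  have hl0 : l ≠ 0 := left_ne_zero_of_mul_eq_one hlN
  have hD : bD (mt bar x) = l • (1 : Mk) := by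
    have h1 := rel_AD bar (isU_mt bar x) hPM
    rw [hA, Matrix.transpose_smul, Matrix.transpose_one, Matrix.smul_mul, one_mul] at h1
    have h2 : (bD (mt bar x)).map bar = l⁻¹ • (1 : Mk) := by
      rw [← h1, smul_smul, inv_mul_cancel₀ hl0, one_smul]
    have h3 := congrArg (fun X => X.map bar) h2
    simp only [map_bar_map_bar bar hb] at h3
    rw [h3]
    ext i j
    rw [Matrix.map_apply, Matrix.smul_apply, Matrix.smul_apply, Matrix.one_apply, smul_eq_mul, smul_eq_mul, map_mul,
      map_inv₀]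
    have h4 : (bar l)⁻¹ = l := by
      rw [inv_eq_iff_eq_inv]
      exact eq_inv_of_mul_eq_one_right hlN
    rw [h4]
    by_cases hij : i = j
    · rw [if_pos hij, map_one]
    · rw [if_neg hij, map_zero]
  have hdet : l ^ (2 * k + r) = 1 := by
    have h1 := det_of_raisesBy hPM
    rw [det_mt, hA, hM, hD, det_smul_one, det_smul_one, Fintype.card_fin, Fintype.card_fin, ← pow_add, ← pow_add] at h1
    rw [h1]
    congr 1
    ring
  have hQ := decomp_aux bar hb hPM (one_mem (PM bar)) (scE_mem_PM bar l hlN hdet)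
    (by rw [mt_one, bA_one, one_mul, mt_scE, hA]
        ext i j
        rw [bA_apply, Matrix.smul_apply, Matrix.smul_apply, Matrix.one_apply, Matrix.one_apply]
        by_cases hij : i = j
        · rw [if_pos hij, if_pos (by rw [hij])]
        · rw [if_neg hij, if_neg (fun h' => hij (Sum.inl.inj h'))])
    (by rw [mt_one, bM_one, one_mul, mt_scE, hM]
        ext a b
        rw [bM_apply, Matrix.smul_apply, Matrix.smul_apply, Matrix.one_apply, Matrix.one_apply]
        by_cases hab : a = b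
        · rw [if_pos hab, if_pos (by rw [hab])]
        · rw [if_neg hab, if_neg (fun h' => hab (Sum.inl.inj (Sum.inr.inj h')))])
  refine ⟨_, hQ, l, hlN, hdet, ?_⟩
  rw [one_mul, inv_mul_cancel_right]

theorem tvE_mem_Q1 (i₁ : Fin k) (c : K) (hc : c + bar c = 0) :
    tvE bar hb (bv (eI i₁) : Vec) c (hf_bv_self_eI bar i₁) hc ∈ Q1 bar i₁ := by
  unfold tvE
  exact eich_mem_Q1 bar hb i₁ (y := (0 : Vec)) rfl c _ _

/-- an element centralizing `Q1` and scaling `e_{i₁}` scales the basis vectors other than `f_{i₁}` -/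
theorem smul_of_centralizer_Q1 (i₁ : Fin k) (htr : ∀ y : K, bar y = y → ∃ t, t + bar t = y) {s₀ : K}
    (hs₀ : bar s₀ ≠ s₀) {x : SUk} (hx : ∀ u ∈ Q1 bar i₁, x * u = u * x) {l : K} (hlN : l * bar l = 1)
    (hl : av bar x (bv (eI i₁)) = l • (bv (eI i₁) : Vec)) {y : I k r} (hye : y ≠ eI i₁) (hyf : y ≠ fI i₁) :
    av bar x (bv y) = l • (bv y : Vec) := by
  have hfy : (bv y : Vec) (fI i₁) = 0 := by rw [bv_apply, if_neg (fun h => hyf h.symm)]
  have hey : (bv y : Vec) (eI i₁) = 0 := by rw [bv_apply, if_neg (fun h => hye h.symm)]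
  have key : ∀ s : K, ∃ c : K, eichM bar (l • (bv (eI i₁) : Vec)) (s • av bar x (bv y)) c =
      eichM bar (bv (eI i₁)) (s • (bv y : Vec)) c := by
    intro s
    have hyu : hf bar (s • (bv y : Vec)) (bv (eI i₁)) = 0 := by
      rw [hf_bv_right, op_eI, Pi.smul_apply, hfy, smul_zero]
    have hfix : bar (-(hf bar (s • (bv y : Vec)) (s • bv y))) = -(hf bar (s • (bv y : Vec)) (s • bv y)) := by
      rw [map_neg, hf_conj bar hb]
    obtain ⟨c, hc⟩ := htr _ hfix
    have hc' : c + bar c + hf bar (s • (bv y : Vec)) (s • bv y) = 0 := by rw [hc, neg_add_cancel]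
    have hmem := eich_mem_Q1 bar hb i₁ (y := s • (bv y : Vec)) (by rw [Pi.smul_apply, hfy, smul_zero]) c hyu hc'
    have h1 := eichM_eq_of_comm bar hb (hf_bv_self_eI bar i₁) hyu hc' (hx _ hmem)
    rw [hl, av_smul] at h1
    exact ⟨c, h1⟩
  have hl0 : bar l ≠ 0 := right_ne_zero_of_mul_eq_one hlN
  -- the entries away from `e_{i₁}`
  have h1 : ∀ a : I k r, a ≠ eI i₁ → av bar x (bv y) a = l * (bv y : Vec) a := by
    intro a ha
    obtain ⟨c, hc⟩ := key 1
    have h2 := congrFun (congrFun hc a) (fI i₁)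
    rw [eichM_apply, eichM_apply] at h2
    simp only [Pi.smul_apply, bv_apply, op_fI, if_true, if_neg ha, smul_eq_mul, mul_one, mul_zero, zero_mul,
      sub_zero, add_zero, map_one, one_mul] at h2
    have h3 := add_left_cancel h2
    calc av bar x (bv y) a = av bar x (bv y) a * (bar l * l) := by rw [mul_comm (bar l), hlN, mul_one]
      _ = l * (bv y : Vec) a := by
        rw [← mul_assoc, h3, bv_apply]
        ring
  -- the entry at `e_{i₁}`
  have h2 : ∀ s : K, s * (av bar x (bv y) (eI i₁) * bar l) = bar (s * (av bar x (bv y) (eI i₁) * bar l)) := by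
    intro s
    obtain ⟨c, hc⟩ := key s
    have h3 := congrFun (congrFun hc (eI i₁)) (fI i₁)
    rw [eichM_apply, eichM_apply] at h3
    have hne : ¬ ((eI i₁ : I k r) = fI i₁) := by simp
    simp only [Pi.smul_apply, smul_eq_mul, hey, op_fI] at h3
    simp only [bv_apply, if_true, if_neg hne, mul_one, mul_zero, zero_mul, sub_zero, add_zero, map_one, zero_add,
      map_mul, map_zero, hb] at h3
    rw [map_mul, map_mul, hb]
    linear_combination h3 - c * hlN
  have h3 : av bar x (bv y) (eI i₁) = 0 := by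
    have h4 := h2 1
    rw [one_mul] at h4
    have h5 := h2 s₀
    rw [map_mul, ← h4] at h5
    have h6 : (s₀ - bar s₀) * (av bar x (bv y) (eI i₁) * bar l) = 0 := by linear_combination h5
    rcases mul_eq_zero.mp h6 with h7 | h7
    · exact absurd (sub_eq_zero.mp h7).symm hs₀
    · exact (mul_eq_zero.mp h7).resolve_right hl0
  funext a
  rw [Pi.smul_apply, smul_eq_mul]
  by_cases ha : a = eI i₁
  · rw [ha, h3, hey, mul_zero]
  · exact h1 a ha

/-- the centralizer of `Q1` -/
theorem centralizer_Q1_form (i₁ : Fin k) {c₀ : K} (hc₀ : c₀ ≠ 0) (hc₀' : c₀ + bar c₀ = 0)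
    (htr : ∀ y : K, bar y = y → ∃ t, t + bar t = y) {s₀ : K} (hs₀ : bar s₀ ≠ s₀) {x : SUk}
    (hx : ∀ u ∈ Q1 bar i₁, x * u = u * x) :
    ∃ l c : K, l * bar l = 1 ∧
      ∀ a b : I k r, mt bar x a b = if a = b then l else (if a = eI i₁ ∧ b = fI i₁ then c else 0) := by
  obtain ⟨l, hlN, hl⟩ := exists_smul_of_comm_tvE bar hb (hf_bv_self_eI bar i₁) hc₀ hc₀'
    (hx _ (tvE_mem_Q1 bar hb i₁ c₀ hc₀'))
  have hl0 : l ≠ 0 := left_ne_zero_of_mul_eq_one hlN
  have hxi : ∀ u ∈ Q1 bar i₁, x⁻¹ * u = u * x⁻¹ := by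
    intro u hu
    have := hx u hu
    calc x⁻¹ * u = x⁻¹ * (u * x) * x⁻¹ := by group
      _ = x⁻¹ * (x * u) * x⁻¹ := by rw [this]
      _ = u * x⁻¹ := by group
  have hlN' : bar l * bar (bar l) = 1 := by rw [hb, mul_comm, hlN]
  have hli : av bar x⁻¹ (bv (eI i₁)) = bar l • (bv (eI i₁) : Vec) := by
    apply av_injective bar x
    rw [av_av_inv, av_smul, hl, smul_smul, mul_comm, hlN, one_smul]
  have h1 : ∀ y : I k r, y ≠ fI i₁ → av bar x (bv y) = l • (bv y : Vec) := by
    intro y hy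
    by_cases hye : y = eI i₁
    · rw [hye, hl]
    · exact smul_of_centralizer_Q1 bar hb i₁ htr hs₀ hx hlN hl hye hy
  have h2 : ∀ y : I k r, y ≠ fI i₁ → av bar x⁻¹ (bv y) = bar l • (bv y : Vec) := by
    intro y hy
    by_cases hye : y = eI i₁
    · rw [hye, hli]
    · exact smul_of_centralizer_Q1 bar hb i₁ htr hs₀ hxi hlN' hli hye hy
  refine ⟨l, mt bar x (eI i₁) (fI i₁), hlN, ?_⟩
  intro a b
  by_cases hbf : b = fI i₁
  · by_cases hae : a = eI i₁
    · rw [hae, hbf, if_neg (by simp), if_pos ⟨rfl, rfl⟩]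
    · have h3 : mt bar x a (fI i₁) = hf bar (av bar x (bv (fI i₁))) (bv (op a)) := by
        rw [hf_bv_right, op_op, av_bv]
      have hopa : op a ≠ fI i₁ := by
        intro h
        apply hae
        rw [← op_op a, h]
        rfl
      rw [hbf, h3, hf_av_left, h2 _ hopa, hf_smul_right, hb, hf_bv_bv, op_op]
      by_cases haf : a = fI i₁
      · rw [if_pos haf, if_pos haf.symm, mul_one]
      · rw [if_neg haf, if_neg (fun h => haf h.symm), mul_zero, if_neg (fun h => hae h.1)]
  · rw [← av_bv, h1 b hbf, Pi.smul_apply, bv_apply, smul_eq_mul]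
    by_cases hab : a = b
    · rw [if_pos hab, if_pos hab, mul_one]
    · rw [if_neg hab, if_neg hab, mul_zero, if_neg (fun h => hbf h.2)]

/-- `Q1` contains its centralizer modulo the scalars -/
theorem centralizer_Q1_le (i₁ : Fin k) {c₀ : K} (hc₀ : c₀ ≠ 0) (hc₀' : c₀ + bar c₀ = 0)
    (htr : ∀ y : K, bar y = y → ∃ t, t + bar t = y) {s₀ : K} (hs₀ : bar s₀ ≠ s₀) {x : SUk}
    (hx : ∀ u ∈ Q1 bar i₁, x * u = u * x) :
    ∃ q ∈ Q1 bar i₁, ∃ (l : K) (hN : l * bar l = 1) (hdet : l ^ (2 * k + r) = 1), x = q * scE bar l hN hdet := by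
  obtain ⟨l, c, hlN, hform⟩ := centralizer_Q1_form bar hb i₁ hc₀ hc₀' htr hs₀ hx
  have hl0 : l ≠ 0 := left_ne_zero_of_mul_eq_one hlN
  have hPM : x ∈ PM bar := by
    intro a b hab
    rw [hform] at hab
    by_cases h : a = b
    · rw [h]
      omega
    · rw [if_neg h] at hab
      by_cases h2 : a = eI i₁ ∧ b = fI i₁
      · rw [h2.1, h2.2]
        simp
      · rw [if_neg h2] at hab
        exact absurd rfl hab
  have hA : bA (mt bar x) = l • (1 : Mk) := by
    ext i j
    rw [bA_apply, hform, Matrix.smul_apply, Matrix.one_apply, smul_eq_mul]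
    by_cases hij : i = j
    · rw [if_pos hij, if_pos (by rw [hij]), mul_one]
    · rw [if_neg hij, if_neg (fun h' => hij (Sum.inl.inj h')), mul_zero, if_neg (by simp)]
  have hM : bM (mt bar x) = l • (1 : Mr) := by
    ext a b
    rw [bM_apply, hform, Matrix.smul_apply, Matrix.one_apply, smul_eq_mul]
    by_cases hab : a = b
    · rw [if_pos hab, if_pos (by rw [hab]), mul_one]
    · rw [if_neg hab, if_neg (fun h' => hab (Sum.inl.inj (Sum.inr.inj h'))), mul_zero, if_neg (by simp)]
  have hD : bD (mt bar x) = l • (1 : Mk) := by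
    ext i j
    rw [bD_apply, hform, Matrix.smul_apply, Matrix.one_apply, smul_eq_mul]
    by_cases hij : i = j
    · rw [if_pos hij, if_pos (by rw [hij]), mul_one]
    · rw [if_neg hij, if_neg (fun h' => hij (Sum.inr.inj (Sum.inr.inj h'))), mul_zero, if_neg (by simp)]
  have hdet : l ^ (2 * k + r) = 1 := by
    have h1 := det_of_raisesBy hPM
    rw [det_mt, hA, hM, hD, det_smul_one, det_smul_one, Fintype.card_fin, Fintype.card_fin, ← pow_add, ← pow_add] at h1
    rw [h1]
    congr 1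
    ring
  refine ⟨x * (scE bar l hlN hdet)⁻¹, ?_, l, hlN, hdet, by rw [inv_mul_cancel_right]⟩
  have h1 : l • mt bar (x * (scE bar l hlN hdet)⁻¹) = mt bar x := by
    have h2 : mt bar (x * (scE bar l hlN hdet)⁻¹) * mt bar (scE bar l hlN hdet) = mt bar x := by
      rw [← mt_mul, inv_mul_cancel_right]
    rw [mt_scE, Matrix.mul_smul, mul_one] at h2
    exact h2
  intro a b hab
  have h3 : mt bar (x * (scE bar l hlN hdet)⁻¹) a b = l⁻¹ * mt bar x a b := by
    rw [← h1, Matrix.smul_apply, smul_eq_mul, ← mul_assoc, inv_mul_cancel₀ hl0, one_mul]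
  rw [Matrix.sub_apply, h3, hform, Matrix.one_apply] at hab
  by_cases h : a = b
  · exfalso
    apply hab
    rw [if_pos h, if_pos h, inv_mul_cancel₀ hl0, sub_self]
  · rw [if_neg h, if_neg h, sub_zero] at hab
    by_cases h2 : a = eI i₁ ∧ b = fI i₁
    · rw [h2.1, h2.2, lv1_eI, lv1_fI, if_pos rfl, if_pos rfl]
      norm_num
    · rw [if_neg h2, mul_zero] at hab
      exact absurd rfl hab

/-- the centre of `U0` consists of transvections with centre `e_1` -/
theorem center_U0_form (hk : 1 ≤ k) {c₀ : K} (hc₀ : c₀ ≠ 0) (hc₀' : c₀ + bar c₀ = 0)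
    (htr : ∀ y : K, bar y = y → ∃ t, t + bar t = y) {s₀ : K} (hs₀ : bar s₀ ≠ s₀) {z : SUk} (hz : z ∈ U0 bar)
    (hzc : ∀ u ∈ U0 bar, z * u = u * z) :
    ∃ (c : K) (hc : c + bar c = 0), z = tvE bar hb (bv (eI ⟨0, hk⟩)) c (hf_bv_self_eI bar _) hc := by
  obtain ⟨l, c, hlN, hform⟩ := centralizer_Q1_form bar hb ⟨0, hk⟩ hc₀ hc₀' htr hs₀
    (fun u hu => hzc u (Q1_le_U0 bar hk hu))
  have hl1 : l = 1 := by
    by_contra hne
    have h1 : (mt bar z - 1) (eI ⟨0, hk⟩) (eI ⟨0, hk⟩) ≠ 0 := by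
      rw [Matrix.sub_apply, hform, if_pos rfl, Matrix.one_apply_eq]
      exact sub_ne_zero.mpr hne
    have := hz _ _ h1
    omega
  have hc : c + bar c = 0 := by
    have h1 := hf_av bar z (bv (fI ⟨0, hk⟩)) (bv (fI ⟨0, hk⟩))
    rw [hf_bv_ff] at h1
    have h2 : av bar z (bv (fI ⟨0, hk⟩)) = (bv (fI ⟨0, hk⟩) : Vec) + c • bv (eI ⟨0, hk⟩) := by
      funext a
      rw [av_bv, hform, Pi.add_apply, Pi.smul_apply, bv_apply, bv_apply, smul_eq_mul, hl1]
      by_cases h3 : a = fI ⟨0, hk⟩
      · rw [if_pos h3, if_pos h3, h3, if_neg (by simp), mul_zero, add_zero]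
      · rw [if_neg h3, if_neg h3, zero_add]
        by_cases h4 : a = eI ⟨0, hk⟩
        · rw [if_pos ⟨h4, rfl⟩, if_pos h4, mul_one]
        · rw [if_neg (fun h => h4 h.1), if_neg h4, mul_zero]
    rw [h2, hf_add_left, hf_add_right, hf_add_right, hf_smul_left, hf_smul_left, hf_smul_right, hf_smul_right,
      hf_bv_ff, hf_bv_fe, hf_bv_ef, hf_bv_ee, if_pos rfl] at h1
    linear_combination h1
  refine ⟨c, hc, ?_⟩
  apply mt_injective
  ext a b
  rw [hform, mt_tvE_apply, bv_apply, bv_apply, hl1]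
  by_cases h : a = b
  · rw [if_pos h, if_pos h]
    by_cases h2 : a = eI ⟨0, hk⟩
    · rw [if_pos h2, if_neg, map_zero, mul_zero, mul_zero, add_zero]
      rw [← h, h2]
      simp
    · rw [if_neg h2, zero_mul, mul_zero, add_zero]
  · rw [if_neg h, if_neg h, zero_add]
    by_cases h2 : a = eI ⟨0, hk⟩ ∧ b = fI ⟨0, hk⟩
    · rw [if_pos h2, if_pos h2.1, if_pos (by rw [h2.2]; rfl), map_one, mul_one, mul_one]
    · rw [if_neg h2]
      by_cases h3 : a = eI ⟨0, hk⟩
      · rw [if_pos h3, if_neg, map_zero, mul_zero, mul_zero]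
        intro h4
        apply h2
        refine ⟨h3, ?_⟩
        rw [← op_op b, h4]
        rfl
      · rw [if_neg h3, zero_mul, mul_zero]

end Cfsg.Agent.Helper84.PSU
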