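-- helper84: the torus elements of the hyperbolic model of `SU_n(q)` attached to one hyperbolic pair are products of
-- Eichler elements of `p`-power order fixing the other basis vectors (S5172).
import Mathlib
import Cfsg.Agent.Helper84.PSUCent

set_option autoImplicit false
set_option linter.unusedSectionVars false

namespace Cfsg.Agent.Helper84.PSU

open Matrix Cfsg.Agent.Helper40.UT

variable {K : Type*} [Field K] {k r : ℕ}

local notation "Vec" => (I k r → K)
local notation "Mat" => Matrix (I k r) (I k r) K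
local notation "Mk" => Matrix (Fin k) (Fin k) K
local notation "Mr" => Matrix (Fin r) (Fin r) K
local notation "SLk" => Matrix.SpecialLinearGroup (Fin k) K

variable (bar : K →+* K) (hb : ∀ x, bar (bar x) = x)

set_option quotPrecheck false in
local notation "SUk" => ↥(SUm k r bar)

/-- the vectors in the span of the `w_a` -/
def InW (v : Vec) : Prop := (∀ i : Fin k, v (eI i) = 0) ∧ ∀ i : Fin k, v (fI i) = 0

theorem inW_zero : InW (0 : Vec) := ⟨fun _ => rfl, fun _ => rfl⟩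

theorem InW.smul {v : Vec} (hv : InW v) (c : K) : InW (c • v) :=
  ⟨fun i => by rw [Pi.smul_apply, hv.1 i, smul_zero], fun i => by rw [Pi.smul_apply, hv.2 i, smul_zero]⟩

theorem inW_bv (a : Fin r) : InW (bv (wI a) : Vec) :=
  ⟨fun i => by rw [bv_apply, if_neg (by simp)], fun i => by rw [bv_apply, if_neg (by simp)]⟩

theorem hf_inW_bv_e {v : Vec} (hv : InW v) (i : Fin k) : hf bar v (bv (eI i)) = 0 := by
  rw [hf_bv_right, op_eI, hv.2 i]

theorem hf_inW_bv_f {v : Vec} (hv : InW v) (i : Fin k) : hf bar v (bv (fI i)) = 0 := by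
  rw [hf_bv_right, op_fI, hv.1 i]

theorem hf_bv_e_inW {v : Vec} (hv : InW v) (i : Fin k) : hf bar (bv (eI i)) v = 0 := by
  rw [hf_bv_left, op_eI, hv.2 i, map_zero]

theorem hf_bv_f_inW {v : Vec} (hv : InW v) (i : Fin k) : hf bar (bv (fI i)) v = 0 := by
  rw [hf_bv_left, op_fI, hv.1 i, map_zero]

theorem hf_bv_self_fI (i : Fin k) : hf bar (bv (fI i) : Vec) (bv (fI i)) = 0 := hf_bv_ff bar i i

/-- an element fixing all the `e_i` and `f_i` is trivial -/
theorem eq_one_of_fix (hr : r ≤ 1) {u : SUk} (he : ∀ i : Fin k, av bar u (bv (eI i)) = bv (eI i))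
    (hf' : ∀ i : Fin k, av bar u (bv (fI i)) = bv (fI i)) : u = 1 := by
  have hcol_e : ∀ (i : Fin k) (x : I k r), mt bar u x (eI i) = (1 : Mat) x (eI i) := by
    intro i x
    rw [← av_bv, he, bv_apply, Matrix.one_apply]
  have hcol_f : ∀ (i : Fin k) (x : I k r), mt bar u x (fI i) = (1 : Mat) x (fI i) := by
    intro i x
    rw [← av_bv, hf', bv_apply, Matrix.one_apply]
  have hwe : ∀ (a : Fin r) (i : Fin k), mt bar u (eI i) (wI a) = 0 := by
    intro a i
    have h1 : mt bar u (eI i) (wI a) = hf bar (av bar u (bv (wI a))) (bv (fI i)) := by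
      rw [hf_bv_right, op_fI, av_bv]
    rw [h1]
    conv_lhs => rw [← hf' i]
    rw [hf_av, hf_bv_wf]
  have hwf : ∀ (a : Fin r) (i : Fin k), mt bar u (fI i) (wI a) = 0 := by
    intro a i
    have h1 : mt bar u (fI i) (wI a) = hf bar (av bar u (bv (wI a))) (bv (eI i)) := by
      rw [hf_bv_right, op_eI, av_bv]
    rw [h1]
    conv_lhs => rw [← he i]
    rw [hf_av, hf_bv_we]
  have hPM : RaisesBy lvc 0 (mt bar u) := by
    intro x y hxy
    by_contra hlt
    apply hxy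
    rcases x with i | a | i <;> rcases y with j | b | j
    · exfalso; simp at hlt
    · exfalso; simp at hlt
    · exfalso; simp at hlt
    · rw [hcol_e, Matrix.one_apply_ne (by simp)]
    · exfalso; simp at hlt
    · exfalso; simp at hlt
    · rw [hcol_e, Matrix.one_apply_ne (by simp)]
    · exact hwf b i
    · exfalso; simp at hlt
  have hA : bA (mt bar u) = 1 := by
    ext i j
    rw [bA_apply, hcol_e]
    simp [Matrix.one_apply]
  have hD : bD (mt bar u) = 1 := by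
    ext i j
    rw [bD_apply, hcol_f]
    simp [Matrix.one_apply]
  have hdet := det_of_raisesBy hPM
  rw [det_mt, hA, hD, Matrix.det_one, one_mul, mul_one] at hdet
  apply mt_injective
  rw [mt_one]
  ext x y
  rcases y with j | b | j
  · exact hcol_e j x
  · rcases x with i | a | i
    · rw [hwe, Matrix.one_apply_ne (by simp)]
    · have hab : a = b := by
        apply Fin.ext
        have := a.2
        have := b.2
        omega
      subst hab
      have h1 : (bM (mt bar u)).det = bM (mt bar u) a a := by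
        have hr1 : r = 1 := by
          have := a.2
          omega
        subst hr1
        rw [Matrix.det_fin_one]
        congr 1 <;> exact Subsingleton.elim _ _
      have h2 : mt bar u (Sum.inr (Sum.inl a)) (Sum.inr (Sum.inl a)) = bM (mt bar u) a a := rfl
      rw [Matrix.one_apply_eq, h2, ← h1, ← hdet]
    · rw [hwf, Matrix.one_apply_ne (by simp)]
  · exact hcol_f j x

/-- two elements with the same action on the `e_i` and `f_i` are equal -/
theorem eq_of_av_eq (hr : r ≤ 1) {g h : SUk} (he : ∀ i : Fin k, av bar g (bv (eI i)) = av bar h (bv (eI i)))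
    (hf' : ∀ i : Fin k, av bar g (bv (fI i)) = av bar h (bv (fI i))) : g = h := by
  have h1 : h⁻¹ * g = 1 := by
    apply eq_one_of_fix bar hr
    · intro i
      rw [av_mul, he, av_inv_av]
    · intro i
      rw [av_mul, hf', av_inv_av]
  calc g = h * (h⁻¹ * g) := by group
    _ = h := by rw [h1, mul_one]

include hb

section char

variable (p : ℕ) [hp : Fact p.Prime] [CharP K p]

omit hp in
theorem eichM_pow_aux {u y : Vec} (c : K) (huu : hf bar u u = 0) (hyu : hf bar y u = 0) (m : ℕ) :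
    ∃ c' : K, eichM bar u y c ^ m = eichM bar u ((m : K) • y) c' := by
  induction m with
  | zero =>
    refine ⟨0, ?_⟩
    rw [pow_zero, Nat.cast_zero, zero_smul, eichM_zero_zero]
  | succ m ih =>
    obtain ⟨c', hc'⟩ := ih
    refine ⟨c' + c - hf bar y ((m : K) • y), ?_⟩
    rw [pow_succ, hc', eichM_mul bar hb c' c huu (by rw [hf_smul_left, hyu, mul_zero]) hyu, Nat.cast_succ, add_smul,
      one_smul]

omit hp in
theorem eichM_zero_pow {u : Vec} (c : K) (huu : hf bar u u = 0) (m : ℕ) :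
    eichM bar u 0 c ^ m = eichM bar u 0 ((m : K) * c) := by
  induction m with
  | zero => rw [pow_zero, Nat.cast_zero, zero_mul, eichM_zero_zero]
  | succ m ih =>
    rw [pow_succ, ih, eichM_mul bar hb _ _ huu (hf_zero_left bar u) (hf_zero_left bar u), hf_zero_left, sub_zero,
      add_zero, Nat.cast_succ]
    congr 1
    ring

omit hp in
/-- Eichler elements have order dividing `p²` -/
theorem eich_pow (u y : Vec) (c : K) (huu : hf bar u u = 0) (hyu : hf bar y u = 0)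
    (hc : c + bar c + hf bar y y = 0) : eich bar hb u y c huu hyu hc ^ (p ^ 2) = 1 := by
  apply mt_injective
  rw [mt_pow, mt_one, mt_eich, pow_two, pow_mul]
  obtain ⟨c', hc'⟩ := eichM_pow_aux bar hb c huu hyu p
  rw [hc', CharP.cast_eq_zero, zero_smul, eichM_zero_pow bar hb c' huu, CharP.cast_eq_zero, zero_mul, eichM_zero_zero]

theorem eich_mem_pset (hk : 1 ≤ k) (u y : Vec) (c : K) (huu : hf bar u u = 0) (hyu : hf bar y u = 0)
    (hc : c + bar c + hf bar y y = 0) (h1 : hf bar (bv (eI ⟨0, hk⟩)) u = 0) (h2 : hf bar (bv (eI ⟨0, hk⟩)) y = 0) :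
    eich bar hb u y c huu hyu hc ∈ {x : SUk | x ∈ Subgroup.normalizer ((Q1 bar (⟨0, hk⟩ : Fin k) : Subgroup SUk) : Set SUk) ∧
      ∃ j : ℕ, orderOf x = p ^ j} := by
  refine ⟨P1_le_normalizer_Q1 bar _ (mem_P1_of_fix bar ?_), ?_⟩
  · rw [av_eich, h1, h2, zero_smul, zero_smul, mul_zero, zero_smul, add_zero, sub_zero, add_zero]
  · have h3 : orderOf (eich bar hb u y c huu hyu hc) ∣ p ^ 2 := orderOf_dvd_of_pow_eq_one (eich_pow bar hb p u y c huu hyu hc)
    obtain ⟨j, -, hj⟩ := (Nat.dvd_prime_pow hp.out).mp h3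
    exact ⟨j, hj⟩

end char

theorem adm_aux {c N : K} (hc0 : c ≠ 0) (hc : c + bar c + N = 0) (l : K) (hl : l * bar l = c⁻¹ * (bar c)⁻¹) :
    (bar c)⁻¹ + bar ((bar c)⁻¹) + l * bar l * N = 0 := by
  have hbc0 : bar c ≠ 0 := by
    intro h0
    apply hc0
    rw [← hb c, h0, map_zero]
  rw [map_inv₀, hb, hl]
  field_simp
  linear_combination hc

theorem av_eich_e_e (i i' : Fin k) {ω : Vec} (hω : InW ω) (c : K) (huu : hf bar (bv (eI i) : Vec) (bv (eI i)) = 0)
    (hyu : hf bar ω (bv (eI i)) = 0) (hc : c + bar c + hf bar ω ω = 0) :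
    av bar (eich bar hb (bv (eI i)) ω c huu hyu hc) (bv (eI i')) = bv (eI i') := by
  rw [av_eich, hf_bv_ee, hf_bv_e_inW bar hω, zero_smul, zero_smul, mul_zero, zero_smul, add_zero, sub_zero, add_zero]

theorem av_eich_e_f (i : Fin k) {ω : Vec} (hω : InW ω) (c : K) (huu : hf bar (bv (eI i) : Vec) (bv (eI i)) = 0)
    (hyu : hf bar ω (bv (eI i)) = 0) (hc : c + bar c + hf bar ω ω = 0) :
    av bar (eich bar hb (bv (eI i)) ω c huu hyu hc) (bv (fI i)) = bv (fI i) + ω + c • bv (eI i) := by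
  rw [av_eich, hf_bv_fe, if_pos rfl, hf_bv_f_inW bar hω, one_smul, zero_smul, mul_one, sub_zero]

theorem av_eich_e_f_ne {i i' : Fin k} (hi : i' ≠ i) {ω : Vec} (hω : InW ω) (c : K)
    (huu : hf bar (bv (eI i) : Vec) (bv (eI i)) = 0)
    (hyu : hf bar ω (bv (eI i)) = 0) (hc : c + bar c + hf bar ω ω = 0) :
    av bar (eich bar hb (bv (eI i)) ω c huu hyu hc) (bv (fI i')) = bv (fI i') := by
  rw [av_eich, hf_bv_fe, if_neg hi, hf_bv_f_inW bar hω, zero_smul, zero_smul, mul_zero, zero_smul, add_zero, sub_zero,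
    add_zero]

theorem av_eich_e_w (i : Fin k) {ω v : Vec} (hv : InW v) (c : K) (huu : hf bar (bv (eI i) : Vec) (bv (eI i)) = 0)
    (hyu : hf bar ω (bv (eI i)) = 0) (hc : c + bar c + hf bar ω ω = 0) :
    av bar (eich bar hb (bv (eI i)) ω c huu hyu hc) v = v - hf bar v ω • bv (eI i) := by
  rw [av_eich, hf_inW_bv_e bar hv, zero_smul, mul_zero, zero_smul, add_zero, add_zero]

theorem av_eich_f_f (i i' : Fin k) {ω : Vec} (hω : InW ω) (c : K) (huu : hf bar (bv (fI i) : Vec) (bv (fI i)) = 0)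
    (hyu : hf bar ω (bv (fI i)) = 0) (hc : c + bar c + hf bar ω ω = 0) :
    av bar (eich bar hb (bv (fI i)) ω c huu hyu hc) (bv (fI i')) = bv (fI i') := by
  rw [av_eich, hf_bv_ff, hf_bv_f_inW bar hω, zero_smul, zero_smul, mul_zero, zero_smul, add_zero, sub_zero, add_zero]

theorem av_eich_f_e (i : Fin k) {ω : Vec} (hω : InW ω) (c : K) (huu : hf bar (bv (fI i) : Vec) (bv (fI i)) = 0)
    (hyu : hf bar ω (bv (fI i)) = 0) (hc : c + bar c + hf bar ω ω = 0) :
    av bar (eich bar hb (bv (fI i)) ω c huu hyu hc) (bv (eI i)) = bv (eI i) + ω + c • bv (fI i) := by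
  rw [av_eich, hf_bv_ef, if_pos rfl, hf_bv_e_inW bar hω, one_smul, zero_smul, mul_one, sub_zero]

theorem av_eich_f_e_ne {i i' : Fin k} (hi : i' ≠ i) {ω : Vec} (hω : InW ω) (c : K)
    (huu : hf bar (bv (fI i) : Vec) (bv (fI i)) = 0)
    (hyu : hf bar ω (bv (fI i)) = 0) (hc : c + bar c + hf bar ω ω = 0) :
    av bar (eich bar hb (bv (fI i)) ω c huu hyu hc) (bv (eI i')) = bv (eI i') := by
  rw [av_eich, hf_bv_ef, if_neg hi, hf_bv_e_inW bar hω, zero_smul, zero_smul, mul_zero, zero_smul, add_zero, sub_zero,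
    add_zero]

theorem av_eich_f_w (i : Fin k) {ω v : Vec} (hv : InW v) (c : K) (huu : hf bar (bv (fI i) : Vec) (bv (fI i)) = 0)
    (hyu : hf bar ω (bv (fI i)) = 0) (hc : c + bar c + hf bar ω ω = 0) :
    av bar (eich bar hb (bv (fI i)) ω c huu hyu hc) v = v - hf bar v ω • bv (fI i) := by
  rw [av_eich, hf_inW_bv_f bar hv, zero_smul, mul_zero, zero_smul, add_zero, add_zero]

section char

variable (p : ℕ) [hp : Fact p.Prime] [CharP K p]

/-- the monomial elements swapping `e_{i₀}` and `f_{i₀}` -/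
theorem exists_nE (hk : 1 ≤ k) {i₀ : Fin k} (hi₀ : i₀ ≠ ⟨0, hk⟩) {ω : Vec} (hω : InW ω) {c : K} (hc0 : c ≠ 0)
    (hc : c + bar c + hf bar ω ω = 0) :
    ∃ n : SUk, n ∈ Subgroup.closure {x : SUk |
        x ∈ Subgroup.normalizer ((Q1 bar (⟨0, hk⟩ : Fin k) : Subgroup SUk) : Set SUk) ∧ ∃ j : ℕ, orderOf x = p ^ j} ∧
      av bar n (bv (eI i₀)) = c • (bv (fI i₀) : Vec) ∧ av bar n (bv (fI i₀)) = (bar c)⁻¹ • (bv (eI i₀) : Vec) ∧
      (∀ i, i ≠ i₀ → av bar n (bv (eI i)) = (bv (eI i) : Vec)) ∧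
      (∀ i, i ≠ i₀ → av bar n (bv (fI i)) = (bv (fI i) : Vec)) := by
  have hbc0 : bar c ≠ 0 := by
    intro h0
    apply hc0
    rw [← hb c, h0, map_zero]
  have hN : hf bar ω ω = -c - bar c := by linear_combination hc
  have hω₁ : InW ((-c⁻¹) • ω) := hω.smul _
  have hω₂ : InW ((-(bar c)⁻¹) • ω) := hω.smul _
  have hc₁ : (bar c)⁻¹ + bar ((bar c)⁻¹) + hf bar ((-c⁻¹) • ω) ((-c⁻¹) • ω) = 0 := by
    rw [hf_smul_left, hf_smul_right, ← mul_assoc]
    apply adm_aux bar hb hc0 hc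
    rw [map_neg, map_inv₀, neg_mul_neg]
  have hc₂ : (bar c)⁻¹ + bar ((bar c)⁻¹) + hf bar ((-(bar c)⁻¹) • ω) ((-(bar c)⁻¹) • ω) = 0 := by
    rw [hf_smul_left, hf_smul_right, ← mul_assoc]
    apply adm_aux bar hb hc0 hc
    rw [map_neg, map_inv₀, hb, neg_mul_neg, mul_comm]
  have hi₀' : (⟨0, hk⟩ : Fin k) ≠ i₀ := fun h => hi₀ h.symm
  have hX₁ := eich_mem_pset bar hb p hk (bv (eI i₀)) ((-c⁻¹) • ω) (bar c)⁻¹ (hf_bv_self_eI bar i₀)
    (hf_inW_bv_e bar hω₁ i₀) hc₁ (hf_bv_ee bar _ _) (hf_bv_e_inW bar hω₁ _)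
  have hY := eich_mem_pset bar hb p hk (bv (fI i₀)) ω c (hf_bv_self_fI bar i₀)
    (hf_inW_bv_f bar hω i₀) hc (by rw [hf_bv_ef, if_neg hi₀']) (hf_bv_e_inW bar hω _)
  have hX₂ := eich_mem_pset bar hb p hk (bv (eI i₀)) ((-(bar c)⁻¹) • ω) (bar c)⁻¹ (hf_bv_self_eI bar i₀)
    (hf_inW_bv_e bar hω₂ i₀) hc₂ (hf_bv_ee bar _ _) (hf_bv_e_inW bar hω₂ _)
  refine ⟨_, mul_mem (mul_mem (Subgroup.subset_closure hX₁) (Subgroup.subset_closure hY))
    (Subgroup.subset_closure hX₂), ?_, ?_, ?_, ?_⟩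
  · rw [av_mul, av_mul, av_eich_e_e bar hb i₀ i₀ hω₂, av_eich_f_e bar hb i₀ hω, av_add, av_add, av_smul,
      av_eich_e_e bar hb i₀ i₀ hω₁, av_eich_e_w bar hb i₀ hω, av_eich_e_f bar hb i₀ hω₁, hf_smul_right, hN]
    funext z
    simp only [Pi.add_apply, Pi.sub_apply, Pi.smul_apply, smul_eq_mul, map_neg, map_inv₀]
    field_simp
    ring
  · have s2 : av bar (eich bar hb (bv (fI i₀)) ω c (hf_bv_self_fI bar i₀) (hf_inW_bv_f bar hω i₀) hc)
        ((bv (fI i₀) : Vec) + (-(bar c)⁻¹) • ω + (bar c)⁻¹ • bv (eI i₀)) = (bar c)⁻¹ • (bv (eI i₀) : Vec) := by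
      rw [av_add, av_add, av_smul, av_smul, av_eich_f_f bar hb i₀ i₀ hω, av_eich_f_w bar hb i₀ hω,
        av_eich_f_e bar hb i₀ hω, hN]
      funext z
      simp only [Pi.add_apply, Pi.sub_apply, Pi.smul_apply, smul_eq_mul]
      field_simp
      ring
    rw [av_mul, av_mul, av_eich_e_f bar hb i₀ hω₂, s2, av_smul, av_eich_e_e bar hb i₀ i₀ hω₁]
  · intro i hi
    rw [av_mul, av_mul, av_eich_e_e bar hb i₀ i hω₂, av_eich_f_e_ne bar hb hi hω, av_eich_e_e bar hb i₀ i hω₁]
  · intro i hi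
    rw [av_mul, av_mul, av_eich_e_f_ne bar hb hi hω₂, av_eich_f_f bar hb i₀ i hω, av_eich_e_f_ne bar hb hi hω₁]

end char

theorem av_hkE_e (i₀ : Fin k) (δ : K) (M : Mr) (hδ : δ ≠ 0) (hM : Mᵀ * M.map bar = 1)
    (hdet : δ * (M.det * (bar δ)⁻¹) = 1) (j : Fin k) :
    av bar (hkE bar hb i₀ δ M hδ hM hdet) (bv (eI j)) = (if j = i₀ then δ else 1) • (bv (eI j) : Vec) := by
  funext z
  rw [av_bv, mt_hkE, Pi.smul_apply, bv_apply, smul_eq_mul]
  rcases z with i | a | i
  · rw [lvM_ee, dg_apply]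
    by_cases hij : i = j
    · subst hij
      simp
    · have hne : ¬ ((Sum.inl i : I k r) = eI j) := fun h => hij (Sum.inl.inj h)
      rw [if_neg hij, if_neg hne, mul_zero]
  · have hne : ¬ ((Sum.inr (Sum.inl a) : I k r) = eI j) := by simp
    rw [lvM_we, if_neg hne, mul_zero]
  · have hne : ¬ ((Sum.inr (Sum.inr i) : I k r) = eI j) := by simp
    rw [lvM_fe, if_neg hne, mul_zero]

theorem av_hkE_f (i₀ : Fin k) (δ : K) (M : Mr) (hδ : δ ≠ 0) (hM : Mᵀ * M.map bar = 1)
    (hdet : δ * (M.det * (bar δ)⁻¹) = 1) (j : Fin k) :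
    av bar (hkE bar hb i₀ δ M hδ hM hdet) (bv (fI j)) = (if j = i₀ then (bar δ)⁻¹ else 1) • (bv (fI j) : Vec) := by
  funext z
  rw [av_bv, mt_hkE, Pi.smul_apply, bv_apply, smul_eq_mul]
  rcases z with i | a | i
  · have hne : ¬ ((Sum.inl i : I k r) = fI j) := by simp
    rw [lvM_ef, if_neg hne, mul_zero]
  · have hne : ¬ ((Sum.inr (Sum.inl a) : I k r) = fI j) := by simp
    rw [lvM_wf, if_neg hne, mul_zero]
  · rw [lvM_ff, dg_apply]
    by_cases hij : i = j
    · subst hij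
      simp
    · have hne : ¬ ((Sum.inr (Sum.inr i) : I k r) = fI j) := fun h => hij (Sum.inr.inj (Sum.inr.inj h))
      rw [if_neg hij, if_neg hne, mul_zero]

section char

variable (p : ℕ) [hp : Fact p.Prime] [CharP K p]

/-- the torus elements at an index other than the first are generated by `p`-elements normalizing `Q1` -/
theorem hkE_mem_closure (hr : r ≤ 1) (hk : 1 ≤ k) {i₀ : Fin k} (hi₀ : i₀ ≠ ⟨0, hk⟩) (δ : K) (M : Mr) (hδ : δ ≠ 0)
    (hM : Mᵀ * M.map bar = 1) (hdet : δ * (M.det * (bar δ)⁻¹) = 1) {ω ω' : Vec} (hω : InW ω) (hω' : InW ω')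
    {c c' : K} (hc0 : c ≠ 0) (hc'0 : c' ≠ 0) (hc : c + bar c + hf bar ω ω = 0)
    (hc' : c' + bar c' + hf bar ω' ω' = 0) (hδc : δ * bar c = c') :
    hkE bar hb i₀ δ M hδ hM hdet ∈ Subgroup.closure {x : SUk |
        x ∈ Subgroup.normalizer ((Q1 bar (⟨0, hk⟩ : Fin k) : Subgroup SUk) : Set SUk) ∧ ∃ j : ℕ, orderOf x = p ^ j} := by
  obtain ⟨n, hn, hne, hnf, hne', hnf'⟩ := exists_nE bar hb p hk hi₀ hω hc0 hc
  obtain ⟨n', hn', hn'e, hn'f, hn'e', hn'f'⟩ := exists_nE bar hb p hk hi₀ hω' hc'0 hc'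
  have hbc0 : bar c ≠ 0 := by
    intro h0
    apply hc0
    rw [← hb c, h0, map_zero]
  have hbc'0 : bar c' ≠ 0 := by
    intro h0
    apply hc'0
    rw [← hb c', h0, map_zero]
  have heq : hkE bar hb i₀ δ M hδ hM hdet = n * n' := by
    apply eq_of_av_eq bar hr
    · intro i
      rw [av_hkE_e, av_mul]
      by_cases hi : i = i₀
      · rw [if_pos hi, hi, hn'e, av_smul, hnf, smul_smul, ← hδc]
        congr 1
        field_simp
      · rw [if_neg hi, one_smul, hn'e' i hi, hne' i hi]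
    · intro i
      rw [av_hkE_f, av_mul]
      by_cases hi : i = i₀
      · rw [if_pos hi, hi, hn'f, av_smul, hne, smul_smul, ← hδc, map_mul, hb]
        congr 1
        field_simp
      · rw [if_neg hi, one_smul, hn'f' i hi, hnf' i hi]
  rw [heq]
  exact mul_mem hn hn'

end char

end Cfsg.Agent.Helper84.PSU

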