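-- helper84: the normalizer of the standard Sylow `p`-subgroup of the hyperbolic model of `SU_n(q)` is generated by
-- elements of local origin modulo the scalars (S5172).
import Mathlib
import Cfsg.Agent.Helper84.PSUTorus
import Cfsg.Agent.Helper5.SLn

set_option autoImplicit false
set_option linter.unusedSectionVars false

namespace Cfsg.Agent.Helper84.PSU

open Matrix Cfsg.Agent.Helper40.UT

variable {K : Type*} [Field K] {k r : ℕ}

local notation "Vec" => (I k r → K)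
local notation "Mat" => Matrix (I k r) (I k r) K
local notation "Mk" => Matrix (Fin k) (Fin k) K
local notation "Mr" => Matrix (Fin r) (Fin r) K
local notation "SLk" => Matrix.SpecialLinearGroup (Fin k) K

variable (bar : K →+* K) (hb : ∀ x, bar (bar x) = x)

set_option quotPrecheck false in
local notation "SUk" => ↥(SUm k r bar)

include hb

/-- the parameters of the torus elements -/
theorem exists_params (hr : r ≤ 1) {c₀ : K} (hc₀ : c₀ ≠ 0) (hc₀' : c₀ + bar c₀ = 0)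
    (hnm : ∀ y : K, bar y = y → ∃ t, t * bar t = y) {δ : K} (hδ : δ ≠ 0) (M : Mr)
    (hdet : δ * (M.det * (bar δ)⁻¹) = 1) :
    ∃ (ω ω' : Vec) (c c' : K), InW ω ∧ InW ω' ∧ c ≠ 0 ∧ c' ≠ 0 ∧ c + bar c + hf bar ω ω = 0 ∧
      c' + bar c' + hf bar ω' ω' = 0 ∧ δ * bar c = c' := by
  have hbδ : bar δ ≠ 0 := by
    intro h0
    apply hδ
    rw [← hb δ, h0, map_zero]
  rcases Nat.le_one_iff_eq_zero_or_eq_one.mp hr with rfl | rfl
  · have hM : M.det = 1 := Matrix.det_isEmpty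
    rw [hM, one_mul] at hdet
    have hδfix : bar δ = δ := by
      field_simp at hdet
      exact hdet.symm
    have hbc₀ : bar c₀ ≠ 0 := by
      intro h0
      apply hc₀
      rw [← hb c₀, h0, map_zero]
    refine ⟨0, 0, c₀, δ * bar c₀, inW_zero, inW_zero, hc₀, mul_ne_zero hδ hbc₀, ?_, ?_, rfl⟩
    · rw [hf_zero_left, add_zero, hc₀']
    · rw [hf_zero_left, add_zero, map_mul, hb, hδfix]
      linear_combination δ * hc₀'
  · obtain ⟨s, hs⟩ := hnm (-(1 + bar 1)) (by rw [map_neg, map_add, hb, add_comm])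
    obtain ⟨s', hs'⟩ := hnm (-(δ + bar δ)) (by rw [map_neg, map_add, hb, add_comm])
    refine ⟨s • bv (wI 0), s' • bv (wI 0), 1, δ, (inW_bv 0).smul s, (inW_bv 0).smul s', one_ne_zero, hδ, ?_, ?_, ?_⟩
    · rw [hf_smul_left, hf_smul_right, hf_bv_ww, if_pos rfl, mul_one, hs]
      ring
    · rw [hf_smul_left, hf_smul_right, hf_bv_ww, if_pos rfl, mul_one, hs']
      ring
    · rw [map_one, mul_one]

section char

variable (p : ℕ) [hp : Fact p.Prime] [CharP K p]

omit hp in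
theorem lv_transvection_pow {i j : Fin k} (hij : i ≠ j) (a : K) :
    (lv bar hb (Matrix.SpecialLinearGroup.transvection hij a) : SUk) ^ p = 1 := by
  rw [← map_pow, Cfsg.Agent.Helper14.AutPSL.transvection_eq_tv, Cfsg.Agent.Helper84.PSLn.tv_pow_char p, map_one]

/-- the images of the embedded `SL_k` are generated by `p`-elements normalizing the radical `Q` -/
theorem lv_mem_closure (hk : 2 ≤ k) (A : SLk) :
    (lv bar hb A : SUk) ∈ Subgroup.closure {x : SUk |
      x ∈ Subgroup.normalizer ((Q bar : Subgroup SUk) : Set SUk) ∧ ∃ j : ℕ, orderOf x = p ^ j} := by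
  haveI : Nontrivial (Fin k) := Fin.nontrivial_iff_two_le.mpr hk
  refine Cfsg.Agent.Helper5.transvection_induction (fun A => (lv bar hb A : SUk) ∈ Subgroup.closure {x : SUk |
      x ∈ Subgroup.normalizer ((Q bar : Subgroup SUk) : Set SUk) ∧ ∃ j : ℕ, orderOf x = p ^ j}) ?_ ?_ A
  · intro i j hij a
    apply Subgroup.subset_closure
    refine ⟨PM_le_normalizer_Q bar (lv_mem_PM bar hb _), ?_⟩
    have h1 : orderOf (lv bar hb (Matrix.SpecialLinearGroup.transvection hij a) : SUk) ∣ p :=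
      orderOf_dvd_of_pow_eq_one (lv_transvection_pow bar hb p hij a)
    rcases (Nat.dvd_prime hp.out).mp h1 with h2 | h2
    · exact ⟨0, by rw [h2, pow_zero]⟩
    · exact ⟨1, by rw [h2, pow_one]⟩
  · intro A A' hA hA'
    show (lv bar hb (A * A') : SUk) ∈ _
    rw [map_mul]
    exact mul_mem hA hA'

/-- the normalizer of `U0` is generated by elements of local origin modulo the scalars -/
theorem locGenZ_U0 (hr : r ≤ 1) (hk : 2 ≤ k) {c₀ : K} (hc₀ : c₀ ≠ 0) (hc₀' : c₀ + bar c₀ = 0)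
    (htr : ∀ y : K, bar y = y → ∃ t, t + bar t = y) (hnm : ∀ y : K, bar y = y → ∃ t, t * bar t = y)
    {s₀ : K} (hs₀ : bar s₀ ≠ s₀) (Z : Subgroup SUk)
    (hZ : ∀ (l : K) (hN : l * bar l = 1) (hdet : l ^ (2 * k + r) = 1), scE bar l hN hdet ∈ Z) :
    LocGenZ p (U0 bar : Subgroup SUk) Z := by
  have hk1 : 1 ≤ k := by omega
  intro g hg
  have hgPM := normalizer_U0_le_PM bar hb hc₀ hc₀' hg
  obtain ⟨u, hu, A', δ, hδ, hdet, hgd⟩ := exists_decomp bar hb ⟨1, hk⟩ hgPM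
  have hhB := hkE_mem_B0 bar hb ⟨1, hk⟩ δ (bM (mt bar g)) hδ (rel_MM bar (isU_mt bar g) hgPM) hdet
  obtain ⟨ω, ω', c, c', hω, hω', hc0, hc'0, hc, hc', hδc⟩ :=
    exists_params bar hb hr hc₀ hc₀' hnm hδ (bM (mt bar g)) hdet
  have hi₀ : (⟨1, hk⟩ : Fin k) ≠ ⟨0, hk1⟩ := by
    intro h
    have := congrArg Fin.val h
    simp at this
  have hhC := hkE_mem_closure bar hb p hr hk1 hi₀ δ (bM (mt bar g)) hδ (rel_MM bar (isU_mt bar g) hgPM) hdet
    hω hω' hc0 hc'0 hc hc' hδc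
  obtain ⟨h, hh⟩ : ∃ h : SUk, h = hkE bar hb ⟨1, hk⟩ δ (bM (mt bar g)) hδ
    (rel_MM bar (isU_mt bar g) hgPM) hdet := ⟨_, rfl⟩
  rw [← hh] at hgd hhB hhC
  have huN : u ∈ Subgroup.normalizer ((U0 bar : Subgroup SUk) : Set SUk) :=
    Subgroup.le_normalizer (Q_le_U0 bar hu)
  have hhN := B0_le_normalizer_U0 bar hhB
  have hlN : (lv bar hb A' : SUk) ∈ Subgroup.normalizer ((U0 bar : Subgroup SUk) : Set SUk) := by
    have e : (lv bar hb A' : SUk) = u⁻¹ * g * h⁻¹ := by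
      rw [hgd]
      group
    rw [e]
    exact mul_mem (mul_mem (inv_mem huN) hg) (inv_mem hhN)
  obtain ⟨c₁, hc₁⟩ := htr (-1) (by rw [map_neg, map_one])
  have hc₁' : c₁ + bar c₁ + 1 = 0 := by rw [hc₁, neg_add_cancel]
  rw [hgd]
  refine mul_mem (mul_mem ?_ ?_) ?_
  · apply Subgroup.subset_closure
    exact ⟨huN, Or.inl (Q_le_U0 bar hu)⟩
  · apply Subgroup.subset_closure
    refine ⟨hlN, Or.inr (Or.inr ⟨Q bar, Q_le_U0 bar, U0_le_normalizer_Q bar, ?_, lv_mem_closure bar hb p hk A'⟩)⟩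
    intro x hx
    obtain ⟨q, hq, l, hN, hdet', hxe⟩ := centralizer_Q_le bar hb hk1 hc₀ hc₀' hc₁'
      (fun v hv => (Subgroup.mem_centralizer_iff.mp hx v hv).symm)
    exact ⟨q, hq, _, hZ l hN hdet', hxe⟩
  · apply Subgroup.subset_closure
    refine ⟨hhN, Or.inr (Or.inr ⟨Q1 bar ⟨0, hk1⟩, Q1_le_U0 bar hk1, U0_le_normalizer_Q1 bar hk1, ?_, hhC⟩)⟩
    intro x hx
    obtain ⟨q, hq, l, hN, hdet', hxe⟩ := centralizer_Q1_le bar hb ⟨0, hk1⟩ hc₀ hc₀' htr hs₀
      (fun v hv => (Subgroup.mem_centralizer_iff.mp hx v hv).symm)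
    exact ⟨q, hq, _, hZ l hN hdet', hxe⟩

end char

end Cfsg.Agent.Helper84.PSU
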