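-- helper84: the centre `R` of the radical of the maximal parabolic of the hyperbolic model of `SU_n(q)` is
-- generated by its unitary transvections; matrices with a prescribed first column (S5172).
import Mathlib
import Cfsg.Agent.Helper84.PSUTorus

set_option autoImplicit false
set_option linter.unusedSectionVars false

namespace Cfsg.Agent.Helper84.PSU

open Matrix Cfsg.Agent.Helper40.UT

variable {K : Type*} [Field K] {k r : ℕ}

local notation "Vec" => (I k r → K)
local notation "Mat" => Matrix (I k r) (I k r) K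
local notation "Mk" => Matrix (Fin k) (Fin k) K
local notation "Mr" => Matrix (Fin r) (Fin r) K
local notation "SLk" => Matrix.SpecialLinearGroup (Fin k) K

/-- a matrix of determinant one with a prescribed first column -/
theorem exists_sl_col (hk : 2 ≤ k) (v : Fin k → K) (hv : v ≠ 0) :
    ∃ A : SLk, ∀ i, A.1 i ⟨0, by omega⟩ = v i := by
  have hk1 : 1 ≤ k := by omega
  have h01 : (⟨0, hk1⟩ : Fin k) ≠ ⟨1, hk⟩ := by
    intro h
    have := congrArg Fin.val h
    simp at this
  have key : ∀ v : Fin k → K, v ⟨0, hk1⟩ ≠ 0 → ∃ A : SLk, ∀ i, A.1 i ⟨0, hk1⟩ = v i := by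
    intro v hv0
    obtain ⟨M, hM⟩ : ∃ M : Mk, M = Matrix.of fun i j =>
      if j = ⟨0, hk1⟩ then v i else if j = ⟨1, hk⟩ then (if i = ⟨1, hk⟩ then (v ⟨0, hk1⟩)⁻¹ else 0)
      else if i = j then 1 else 0 := ⟨_, rfl⟩
    have hMa : ∀ i j, M i j = if j = ⟨0, hk1⟩ then v i else if j = ⟨1, hk⟩ then
        (if i = ⟨1, hk⟩ then (v ⟨0, hk1⟩)⁻¹ else 0) else if i = j then 1 else 0 := by
      intro i j
      rw [hM]
      rfl
    have hBT : M.BlockTriangular OrderDual.toDual := by
      intro i j hij
      have hij' : i < j := hij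
      rw [hMa]
      have hj0 : j ≠ ⟨0, hk1⟩ := by
        intro h
        rw [h, Fin.lt_def] at hij'
        simp at hij'
      rw [if_neg hj0]
      by_cases hj1 : j = ⟨1, hk⟩
      · rw [if_pos hj1, if_neg]
        intro h
        rw [h, hj1] at hij'
        exact lt_irrefl _ hij'
      · rw [if_neg hj1, if_neg (ne_of_lt hij')]
    have hdet : M.det = 1 := by
      rw [Matrix.det_of_lowerTriangular M hBT,
        Finset.prod_eq_mul (⟨0, hk1⟩ : Fin k) ⟨1, hk⟩ h01 _ (fun h => absurd (Finset.mem_univ _) h)
          (fun h => absurd (Finset.mem_univ _) h)]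
      · rw [hMa, hMa, if_pos rfl, if_neg (Ne.symm h01), if_pos rfl, if_pos rfl, mul_inv_cancel₀ hv0]
      · intro c _ hc
        rw [hMa, if_neg hc.1, if_neg hc.2, if_pos rfl]
    refine ⟨⟨M, hdet⟩, fun i => ?_⟩
    show M i _ = _
    rw [hMa, if_pos rfl]
  by_cases hv0 : v ⟨0, hk1⟩ = 0
  · obtain ⟨i, hi⟩ : ∃ i, v i ≠ 0 := by
      by_contra hcon
      push Not at hcon
      exact hv (funext hcon)
    have hi0 : (⟨0, hk1⟩ : Fin k) ≠ i := by
      intro h
      rw [← h] at hi
      exact hi hv0
    obtain ⟨A', hA'⟩ := key ((Matrix.SpecialLinearGroup.transvection hi0 (1 : K)).1 *ᵥ v) (by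
      rw [Matrix.SpecialLinearGroup.transvection_coe, Matrix.add_mulVec, Matrix.one_mulVec, Pi.add_apply, hv0,
        zero_add, Matrix.single_mulVec, Function.update_self]
      simpa using hi)
    refine ⟨(Matrix.SpecialLinearGroup.transvection hi0 (1 : K))⁻¹ * A', fun l => ?_⟩
    have h1 : ∀ l, A'.1 l ⟨0, hk1⟩ = ((Matrix.SpecialLinearGroup.transvection hi0 (1 : K)).1 *ᵥ v) l := hA'
    have h2 : (fun l => A'.1 l ⟨0, hk1⟩) = (Matrix.SpecialLinearGroup.transvection hi0 (1 : K)).1 *ᵥ v := funext h1
    have h3 : ((Matrix.SpecialLinearGroup.transvection hi0 (1 : K))⁻¹ * A').1 l ⟨0, hk1⟩ =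
        (((Matrix.SpecialLinearGroup.transvection hi0 (1 : K))⁻¹).1 *ᵥ (fun l => A'.1 l ⟨0, hk1⟩)) l := by
      rw [Matrix.SpecialLinearGroup.coe_mul, Matrix.mul_apply]
      rfl
    rw [h3, h2, Matrix.mulVec_mulVec, ← Matrix.SpecialLinearGroup.coe_mul, inv_mul_cancel,
      Matrix.SpecialLinearGroup.coe_one, Matrix.one_mulVec]
  · exact key v hv0

/-- the embedding of `K^k` as the span of the `e_i` -/
def embE (v : Fin k → K) : Vec := Sum.elim v (fun _ => 0)

@[simp] theorem embE_eI (v : Fin k → K) (i : Fin k) : (embE v : Vec) (eI i) = v i := rfl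
@[simp] theorem embE_wI (v : Fin k → K) (a : Fin r) : (embE v : Vec) (wI a) = 0 := rfl
@[simp] theorem embE_fI (v : Fin k → K) (i : Fin k) : (embE v : Vec) (fI i) = 0 := rfl

theorem inE_embE (v : Fin k → K) : InE (embE v : Vec) := ⟨fun _ => rfl, fun _ => rfl⟩

theorem embE_zero : (embE (0 : Fin k → K) : Vec) = 0 := by
  funext x
  rcases x with i | a | i <;> rfl

theorem embE_add (v v' : Fin k → K) : (embE (v + v') : Vec) = embE v + embE v' := by
  funext x
  rcases x with i | a | i
  · rfl
  · exact (add_zero (0 : K)).symm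
  · exact (add_zero (0 : K)).symm

theorem embE_smul (c : K) (v : Fin k → K) : (embE (c • v) : Vec) = c • embE v := by
  funext x
  rcases x with i | a | i
  · rfl
  · exact (mul_zero c).symm
  · exact (mul_zero c).symm

theorem embE_single (i : Fin k) : (embE (Pi.single i (1 : K)) : Vec) = bv (eI i) := by
  funext x
  rcases x with j | a | j
  · rw [embE_eI, bv_apply, Pi.single_apply]
    by_cases h : j = i
    · rw [if_pos h, if_pos (by rw [h])]
    · rw [if_neg h, if_neg (fun h' => h (Sum.inl.inj h'))]
  · rw [embE_wI, bv_apply, if_neg (by simp)]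
  · rw [embE_fI, bv_apply, if_neg (by simp)]

/-- the embedding of the `k × k` matrices as the upper right block -/
def EF (C : Mk) : Mat := Matrix.of fun x y => match x, y with
  | Sum.inl i, Sum.inr (Sum.inr j) => C i j
  | _, _ => 0

@[simp] theorem EF_ee (C : Mk) (i j : Fin k) : (EF C : Mat) (eI i) (eI j) = 0 := rfl
@[simp] theorem EF_ew (C : Mk) (i : Fin k) (b : Fin r) : (EF C : Mat) (eI i) (wI b) = 0 := rfl
@[simp] theorem EF_ef (C : Mk) (i j : Fin k) : (EF C : Mat) (eI i) (fI j) = C i j := rfl
@[simp] theorem EF_w (C : Mk) (a : Fin r) (y : I k r) : (EF C : Mat) (wI a) y = 0 := rfl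
@[simp] theorem EF_f (C : Mk) (i : Fin k) (y : I k r) : (EF C : Mat) (fI i) y = 0 := rfl

theorem EF_add (C C' : Mk) : (EF (C + C') : Mat) = EF C + EF C' := by
  ext x y
  rcases x with i | a | i <;> rcases y with j | b | j <;> simp [EF]

theorem EF_neg (C : Mk) : (EF (-C) : Mat) = -EF C := by
  ext x y
  rcases x with i | a | i <;> rcases y with j | b | j <;> simp [EF]

theorem EF_zero : (EF (0 : Mk) : Mat) = 0 := by
  ext x y
  rcases x with i | a | i <;> rcases y with j | b | j <;> simp [EF]

theorem EF_mul_EF (C C' : Mk) : (EF C : Mat) * EF C' = 0 := by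
  ext x y
  rw [Matrix.mul_apply, Matrix.zero_apply]
  apply Finset.sum_eq_zero
  intro z _
  rcases z with i | a | i
  · rcases x with i' | a' | i' <;> simp [EF]
  · simp
  · simp

theorem EF_injective : Function.Injective (EF : Mk → Mat) := by
  intro C C' h
  ext i j
  have := congrFun (congrFun h (eI i)) (fI j)
  simpa using this

variable (bar : K →+* K) (hb : ∀ x, bar (bar x) = x)

set_option quotPrecheck false in
local notation "SUk" => ↥(SUm k r bar)

/-- the sesquilinear outer product of two vectors of `K^k` -/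
def oP (a b : Fin k → K) : Mk := Matrix.of fun i j => a i * bar (b j)

theorem oP_apply (a b : Fin k → K) (i j : Fin k) : oP bar a b i j = a i * bar (b j) := rfl

theorem oP_add_add (a b : Fin k → K) :
    oP bar (a + b) (a + b) = oP bar a a + oP bar a b + oP bar b a + oP bar b b := by
  ext i j
  simp only [oP_apply, Matrix.add_apply, Pi.add_apply, map_add]
  ring

theorem oP_single_single (i j : Fin k) (l l' : K) :
    oP bar (l • Pi.single i (1 : K)) (l' • Pi.single j (1 : K)) = Matrix.single i j (l * bar l') := by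
  ext x y
  rw [oP_apply, Matrix.single_apply, Pi.smul_apply, Pi.smul_apply, Pi.single_apply, Pi.single_apply, smul_eq_mul,
    smul_eq_mul]
  by_cases hx : x = i
  · by_cases hy : y = j
    · simp [hx, hy]
    · have : ¬ j = y := fun h => hy h.symm
      simp [hx, hy, this]
  · have : ¬ i = x := fun h => hx h.symm
    simp [hx, this]

theorem rk_embE (a b : Fin k → K) : rk bar (embE a : Vec) (embE b) = EF (oP bar a b) := by
  ext x y
  rw [rk_apply]
  rcases x with i | a' | i <;> rcases y with j | b' | j <;> simp [EF, oP_apply]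

include hb

/-- the unitary transvections with centre in the span of the `e_i` -/
def tvI (v : Fin k → K) (c : K) (hc : c + bar c = 0) : SUk :=
  tvE bar hb (embE v) c (hf_of_inE bar (inE_embE v) (inE_embE v)) hc

theorem mt_tvI (v : Fin k → K) (c : K) (hc : c + bar c = 0) :
    mt bar (tvI bar hb v c hc : SUk) - 1 = EF (c • oP bar v v) := by
  ext x y
  unfold tvI
  rw [Matrix.sub_apply, mt_tvE_apply, Matrix.one_apply, add_sub_cancel_left]
  rcases x with i | a' | i <;> rcases y with j | b' | j <;> simp [EF, oP_apply]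

theorem tvI_congr {v v' : Fin k → K} {c c' : K} (hv : v = v') (hcc : c = c') (hc : c + bar c = 0) :
    (tvI bar hb v c hc : SUk) = tvI bar hb v' c' (by rw [← hcc]; exact hc) := by
  subst hv hcc
  rfl

omit hb in
/-- elements whose matrix differs from `1` only in the upper right block lie in `R` -/
theorem mem_R_of_EF {g : SUk} {C : Mk} (h : mt bar g - 1 = EF C) : g ∈ R bar := by
  intro x y hxy
  rw [h] at hxy
  rcases x with i | a' | i <;> rcases y with j | b' | j <;> simp [EF] at hxy ⊢

theorem tvI_mem_R (v : Fin k → K) (c : K) (hc : c + bar c = 0) : (tvI bar hb v c hc : SUk) ∈ R bar :=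
  mem_R_of_EF bar (mt_tvI bar hb v c hc)

omit hb in
theorem eq_EF_of_mem_R {g : SUk} (hg : g ∈ R bar) :
    mt bar g - 1 = EF (Matrix.of fun i j => (mt bar g - 1) (eI i) (fI j)) := by
  ext x y
  rcases x with i | a' | i <;> rcases y with j | b' | j
  · exact eq_zero_of_raisesBy hg (by simp)
  · exact eq_zero_of_raisesBy hg (by simp)
  · rfl
  · exact eq_zero_of_raisesBy hg (by simp)
  · exact eq_zero_of_raisesBy hg (by simp)
  · exact eq_zero_of_raisesBy hg (by simp)
  · exact eq_zero_of_raisesBy hg (by simp)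
  · exact eq_zero_of_raisesBy hg (by simp)
  · exact eq_zero_of_raisesBy hg (by simp)

omit hb in
theorem mt_inv_of_EF {g : SUk} {C : Mk} (h : mt bar g - 1 = EF C) : mt bar g⁻¹ - 1 = EF (-C) := by
  have hg : mt bar g = 1 + EF C := by rw [← h]; abel
  have h1 : mt bar g * (1 - EF C) = 1 := by
    have e : (1 + EF C : Mat) * (1 - EF C) = 1 - EF C * EF C := by noncomm_ring
    rw [hg, e, EF_mul_EF, sub_zero]
  have h2 : mt bar g⁻¹ = 1 - EF C := by
    calc mt bar g⁻¹ = mt bar g⁻¹ * (mt bar g * (1 - EF C)) := by rw [h1, mul_one]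
      _ = 1 - EF C := by rw [← mul_assoc, mt_inv_mul, one_mul]
  rw [h2, EF_neg]
  abel

omit hb in
theorem mt_mul_of_EF {g g' : SUk} {C C' : Mk} (h : mt bar g - 1 = EF C) (h' : mt bar g' - 1 = EF C') :
    mt bar (g * g') - 1 = EF (C + C') := by
  have hg : mt bar g = 1 + EF C := by rw [← h]; abel
  have hg' : mt bar g' = 1 + EF C' := by rw [← h']; abel
  have e : (1 + EF C : Mat) * (1 + EF C') - 1 = EF C + EF C' + EF C * EF C' := by noncomm_ring
  rw [mt_mul, hg, hg', e, EF_mul_EF, add_zero, EF_add]

omit hb in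
/-- the elements of `R` have skew-hermitian upper right blocks -/
theorem skew_of_EF {g : SUk} {C : Mk} (h : mt bar g - 1 = EF C) (i j : Fin k) : C i j = -bar (C j i) := by
  have h1 := mt_inv_sub_one_apply bar g (eI i) (fI j)
  rw [mt_inv_of_EF bar h, h, op_fI, op_eI, EF_ef, EF_ef, Matrix.neg_apply] at h1
  rw [← h1, neg_neg]

omit hb in
/-- the additive group of the upper right blocks of the elements of a subgroup -/
def efSub (T : Subgroup SUk) : AddSubgroup Mk where
  carrier := {C | ∃ g ∈ T, mt bar g - 1 = EF C}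
  add_mem' := by
    rintro C C' ⟨g, hg, hgC⟩ ⟨g', hg', hgC'⟩
    exact ⟨g * g', mul_mem hg hg', mt_mul_of_EF bar hgC hgC'⟩
  zero_mem' := ⟨1, one_mem _, by rw [mt_one, sub_self, EF_zero]⟩
  neg_mem' := by
    rintro C ⟨g, hg, hgC⟩
    exact ⟨g⁻¹, inv_mem hg, mt_inv_of_EF bar hgC⟩

omit hb in
theorem mem_efSub {T : Subgroup SUk} {C : Mk} : C ∈ efSub bar T ↔ ∃ g ∈ T, mt bar g - 1 = EF C := Iff.rfl

omit hb in
theorem sum_single_sub (C : Mk) (t : K) :
    ∑ i, ∑ j, (Matrix.single i j (t * C i j) - Matrix.single j i (bar (t * C i j))) =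
      Matrix.of fun x y => t * C x y - bar t * bar (C y x) := by
  ext x y
  simp only [Matrix.sum_apply, Matrix.sub_apply, Matrix.single_apply, Matrix.of_apply, Finset.sum_sub_distrib]
  congr 1
  · rw [Finset.sum_eq_single x, Finset.sum_eq_single y]
    · rw [if_pos ⟨rfl, rfl⟩]
    · intro b _ hb'
      rw [if_neg (fun h => hb' h.2)]
    · intro h
      exact absurd (Finset.mem_univ _) h
    · intro b _ hb'
      apply Finset.sum_eq_zero
      intro c _
      rw [if_neg (fun h => hb' h.1)]
    · intro h
      exact absurd (Finset.mem_univ _) h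
  · rw [Finset.sum_eq_single y, Finset.sum_eq_single x]
    · rw [if_pos ⟨rfl, rfl⟩, map_mul]
    · intro b _ hb'
      rw [if_neg (fun h => hb' h.1)]
    · intro h
      exact absurd (Finset.mem_univ _) h
    · intro b _ hb'
      apply Finset.sum_eq_zero
      intro c _
      rw [if_neg (fun h => hb' h.2)]
    · intro h
      exact absurd (Finset.mem_univ _) h

/-- a subgroup containing the unitary transvections with centre in the span of the `e_i` contains `R` -/
theorem R_le_of_tvI (T : Subgroup SUk) {c₀ : K} (hc₀ : c₀ ≠ 0) (hc₀' : c₀ + bar c₀ = 0)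
    (htr : ∀ y : K, bar y = y → ∃ t, t + bar t = y)
    (h : ∀ (v : Fin k → K) (c : K) (hc : c + bar c = 0), tvI bar hb v c hc ∈ T) : R bar ≤ T := by
  have hbc₀ : bar c₀ = -c₀ := by linear_combination hc₀'
  have hoP : ∀ (v : Fin k → K) (c : K), c + bar c = 0 → c • oP bar v v ∈ efSub bar T := by
    intro v c hc
    exact ⟨_, h v c hc, mt_tvI bar hb v c hc⟩
  have hΨ : ∀ (i j : Fin k) (s : K), Matrix.single i j s - Matrix.single j i (bar s) ∈ efSub bar T := by
    intro i j s
    by_cases hij : i = j
    · subst hij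
      have h1 := hoP ((1 : K) • Pi.single i (1 : K)) (s - bar s) (by rw [map_sub, hb]; ring)
      rw [oP_single_single, map_one, mul_one, Matrix.smul_single, smul_eq_mul, mul_one] at h1
      have h2 : Matrix.single i i s - Matrix.single i i (bar s) = Matrix.single i i (s - bar s) := by
        ext x y
        simp only [Matrix.sub_apply, Matrix.single_apply]
        split_ifs <;> simp
      rw [h2]
      exact h1
    · have h1 := hoP ((1 : K) • Pi.single i (1 : K) + (-bar s / c₀) • Pi.single j (1 : K)) c₀ hc₀'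
      have h2 := hoP ((1 : K) • Pi.single i (1 : K)) c₀ hc₀'
      have h3 := hoP ((-bar s / c₀) • Pi.single j (1 : K)) c₀ hc₀'
      have h4 := (efSub bar T).sub_mem ((efSub bar T).sub_mem h1 h2) h3
      have h5 : c₀ • oP bar ((1 : K) • Pi.single i (1 : K) + (-bar s / c₀) • Pi.single j (1 : K))
          ((1 : K) • Pi.single i (1 : K) + (-bar s / c₀) • Pi.single j (1 : K)) -
          c₀ • oP bar ((1 : K) • Pi.single i (1 : K)) ((1 : K) • Pi.single i (1 : K)) -
          c₀ • oP bar ((-bar s / c₀) • Pi.single j (1 : K)) ((-bar s / c₀) • Pi.single j (1 : K)) =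
          Matrix.single i j s - Matrix.single j i (bar s) := by
        rw [oP_add_add, oP_single_single, oP_single_single, oP_single_single, oP_single_single]
        have e1 : c₀ * (1 * bar (-bar s / c₀)) = s := by
          rw [map_div₀, map_neg, hb, hbc₀]
          field_simp
        have e2 : c₀ * (-bar s / c₀ * bar 1) = -bar s := by
          rw [map_one]
          field_simp
        ext x y
        simp only [Matrix.sub_apply, Matrix.add_apply, Matrix.smul_apply, Matrix.single_apply, smul_eq_mul]
        by_cases hxy : i = x ∧ j = y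
        · have hn : ¬(j = x ∧ i = y) := fun h' => hij (hxy.1.trans h'.1.symm)
          have hn1 : ¬(i = x ∧ i = y) := fun h' => hij (h'.2.trans hxy.2.symm)
          have hn2 : ¬(j = x ∧ j = y) := fun h' => hij (hxy.1.trans h'.1.symm)
          simp only [if_pos hxy, if_neg hn, if_neg hn1, if_neg hn2]
          linear_combination e1
        · by_cases hyx : j = x ∧ i = y
          · have hn1 : ¬(i = x ∧ i = y) := fun h' => hij (h'.1.trans hyx.1.symm)
            have hn2 : ¬(j = x ∧ j = y) := fun h' => hij (hyx.2.trans h'.2.symm)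
            simp only [if_neg hxy, if_pos hyx, if_neg hn1, if_neg hn2]
            linear_combination e2
          · simp only [if_neg hxy, if_neg hyx]
            ring
      rw [← h5]
      exact h4
  obtain ⟨t₁, ht₁⟩ := htr 1 (map_one bar)
  intro g hg
  have hgC := eq_EF_of_mem_R bar hg
  have hskew := skew_of_EF bar hgC
  have hmem : (Matrix.of fun i j => (mt bar g - 1) (eI i) (fI j) : Mk) ∈ efSub bar T := by
    have h1 : (Matrix.of fun i j => (mt bar g - 1) (eI i) (fI j) : Mk) =
        ∑ i, ∑ j, (Matrix.single i j (t₁ * (mt bar g - 1) (eI i) (fI j)) -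
          Matrix.single j i (bar (t₁ * (mt bar g - 1) (eI i) (fI j)))) := by
      have := sum_single_sub bar (Matrix.of fun i j => (mt bar g - 1) (eI i) (fI j) : Mk) t₁
      simp only [Matrix.of_apply] at this
      rw [this]
      ext x y
      have h2 := hskew y x
      simp only [Matrix.of_apply] at h2 ⊢
      have h3 : bar ((mt bar g - 1) (eI y) (fI x)) = -(mt bar g - 1) (eI x) (fI y) := by
        rw [h2, map_neg, hb]
      rw [h3]
      linear_combination (-(mt bar g - 1) (eI x) (fI y)) * ht₁
    rw [h1]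
    apply AddSubgroup.sum_mem
    intro i _
    apply AddSubgroup.sum_mem
    intro j _
    exact hΨ i j _
  obtain ⟨g', hg'T, hg'⟩ := hmem
  have : g' = g := by
    apply mt_injective
    have := hg'.trans hgC.symm
    exact sub_left_injective this
  rw [← this]
  exact hg'T

end Cfsg.Agent.Helper84.PSU
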