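-- helper84: no proper nontrivial subgroup of the standard Sylow `p`-subgroup of the hyperbolic model of `SU_n(q)`
-- is strongly closed (S5172).
import Mathlib
import Cfsg.Agent.Helper25.PGroupBasic
import Cfsg.Agent.Helper14.AutGen
import Cfsg.Agent.Helper84.PSUSCa
import Cfsg.Agent.Helper84.PSUCent
import Cfsg.Agent.Helper84.PSLnGenU
import Cfsg.Agent.Helper85.SimpleCrit

set_option autoImplicit false
set_option linter.unusedSectionVars false
set_option linter.unusedSimpArgs false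

namespace Cfsg.Agent.Helper84.PSU

open Matrix Cfsg.Agent.Helper40.UT

variable {K : Type*} [Field K] {k r : ℕ}

local notation "Vec" => (I k r → K)
local notation "Mat" => Matrix (I k r) (I k r) K
local notation "Mk" => Matrix (Fin k) (Fin k) K
local notation "Mr" => Matrix (Fin r) (Fin r) K
local notation "SLk" => Matrix.SpecialLinearGroup (Fin k) K

variable (bar : K →+* K) (hb : ∀ x, bar (bar x) = x)

set_option quotPrecheck false in
local notation "SUk" => ↥(SUm k r bar)

include hb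

/-- the action of the embedded `SL_k` on the span of the `e_i` -/
theorem av_lv_embE (A : SLk) (v : Fin k → K) : av bar (lv bar hb A : SUk) (embE v) = embE (A.1 *ᵥ v) := by
  funext x
  unfold av
  rw [mt_lv]
  rcases x with i | a | i
  · show ∑ y, lvM A.1 (1 : Mr) (cit bar A) (eI i) y * (embE v : Vec) y = ∑ j, A.1 i j * v j
    rw [sum_I]
    simp
  · show ∑ y, lvM A.1 (1 : Mr) (cit bar A) (wI a) y * (embE v : Vec) y = 0
    rw [sum_I]
    simp
  · show ∑ y, lvM A.1 (1 : Mr) (cit bar A) (fI i) y * (embE v : Vec) y = 0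
    rw [sum_I]
    simp

theorem tvE_congr {u u' : Vec} {c c' : K} (hu : u = u') (hcc : c = c') (huu : hf bar u u = 0)
    (hc : c + bar c = 0) :
    tvE bar hb u c huu hc = tvE bar hb u' c' (by rw [← hu]; exact huu) (by rw [← hcc]; exact hc) := by
  subst hu hcc
  rfl

theorem conj_lv_tvI (A : SLk) (v : Fin k → K) (c : K) (hc : c + bar c = 0) :
    (lv bar hb A : SUk) * tvI bar hb v c hc * (lv bar hb A)⁻¹ = tvI bar hb (A.1 *ᵥ v) c hc := by
  unfold tvI
  rw [conj_tvE]
  exact tvE_congr bar hb (av_lv_embE bar hb A v) rfl _ _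

theorem tvI_smul (l : K) (v : Fin k → K) (c : K) (hc : c + bar c = 0) :
    (tvI bar hb (l • v) c hc : SUk) = tvI bar hb v (c * (l * bar l))
      (by rw [map_mul, map_mul, hb]; linear_combination (l * bar l) * hc) := by
  apply mt_injective
  have h1 := mt_tvI bar hb (r := r) (l • v) c hc
  have h2 := mt_tvI bar hb (r := r) v (c * (l * bar l))
    (by rw [map_mul, map_mul, hb]; linear_combination (l * bar l) * hc)
  have h3 : c • oP bar (l • v) (l • v) = (c * (l * bar l)) • oP bar v v := by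
    ext i j
    simp only [Matrix.smul_apply, oP_apply, Pi.smul_apply, smul_eq_mul, map_mul]
    ring
  rw [h3] at h1
  exact sub_left_injective (h1.trans h2.symm)

theorem tvI_eq_one {v : Fin k → K} {c : K} (hc : c + bar c = 0) (h : c • oP bar v v = 0) :
    (tvI bar hb v c hc : SUk) = 1 := by
  apply mt_injective
  have h1 := mt_tvI bar hb (r := r) v c hc
  rw [h, EF_zero] at h1
  rw [mt_one]
  exact sub_eq_zero.mp h1

/-- a strongly closed subgroup containing a nontrivial central transvection contains all the transvections of `R` -/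
theorem tvI_mem_of_strClosed (hk : 2 ≤ k) (hnm : ∀ y : K, bar y = y → ∃ t, t * bar t = y) (T : Subgroup SUk)
    (hcl : ∀ t ∈ T, ∀ g : SUk, g * t * g⁻¹ ∈ U0 bar → g * t * g⁻¹ ∈ T) {c : K} (hc0 : c ≠ 0)
    (hc : c + bar c = 0)
    (hz : (tvI bar hb (Pi.single (⟨0, by omega⟩ : Fin k) 1) c hc : SUk) ∈ T) :
    ∀ (v : Fin k → K) (c' : K) (hc' : c' + bar c' = 0), (tvI bar hb v c' hc' : SUk) ∈ T := by
  have hk1 : 1 ≤ k := by omega
  have claim1 : ∀ (c₁ : K) (hc₁ : c₁ + bar c₁ = 0),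
      (tvI bar hb (Pi.single (⟨0, hk1⟩ : Fin k) 1) c₁ hc₁ : SUk) ∈ T →
      ∀ v : Fin k → K, v ≠ 0 → (tvI bar hb v c₁ hc₁ : SUk) ∈ T := by
    intro c₁ hc₁ h1 v hv
    obtain ⟨A, hA⟩ := exists_sl_col hk v hv
    have hAv : A.1 *ᵥ Pi.single (⟨0, hk1⟩ : Fin k) (1 : K) = v := by
      funext i
      rw [Matrix.mulVec_single_one]
      exact hA i
    have h3 : (lv bar hb A : SUk) * tvI bar hb (Pi.single (⟨0, hk1⟩ : Fin k) 1) c₁ hc₁ * (lv bar hb A)⁻¹ =
        tvI bar hb v c₁ hc₁ := by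
      rw [conj_lv_tvI]
      exact tvI_congr bar hb hAv rfl _
    rw [← h3]
    apply hcl _ h1
    rw [h3]
    exact R_le_U0 bar (tvI_mem_R bar hb v c₁ hc₁)
  have hbc : bar c = -c := by linear_combination hc
  have claim3 : ∀ (c' : K) (hc' : c' + bar c' = 0),
      (tvI bar hb (Pi.single (⟨0, hk1⟩ : Fin k) 1) c' hc' : SUk) ∈ T := by
    intro c' hc'
    have hbc' : bar c' = -c' := by linear_combination hc'
    have hy : bar (c' / c) = c' / c := by
      rw [map_div₀, hbc, hbc', neg_div_neg_eq]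
    obtain ⟨l, hl⟩ := hnm _ hy
    have hcc : c * (l * bar l) = c' := by
      rw [hl]
      field_simp
    by_cases hl0 : l = 0
    · have h0 : c' = 0 := by rw [← hcc, hl0, zero_mul, mul_zero]
      rw [tvI_eq_one bar hb hc' (by rw [h0, zero_smul])]
      exact one_mem _
    · have hv : l • Pi.single (⟨0, hk1⟩ : Fin k) (1 : K) ≠ 0 := by
        intro h
        have := congrFun h ⟨0, hk1⟩
        rw [Pi.smul_apply, Pi.single_eq_same, smul_eq_mul, mul_one, Pi.zero_apply] at this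
        exact hl0 this
      have h1 := claim1 c hc hz _ hv
      rw [tvI_smul] at h1
      have h2 := tvI_congr bar hb (r := r) (rfl : Pi.single (⟨0, hk1⟩ : Fin k) (1 : K) = _) hcc
        (by rw [map_mul, map_mul, hb]; linear_combination (l * bar l) * hc)
      rw [h2] at h1
      exact h1
  intro v c' hc'
  by_cases hv : v = 0
  · rw [tvI_eq_one bar hb hc' (by
      rw [hv]
      ext i j
      simp [oP_apply])]
    exact one_mem _
  · exact claim1 c' hc' (claim3 c' hc') v hv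

/-- Eichler elements with both parameters in the span of the `e_i` lie in `R` -/
theorem eich_mem_R {u y : Vec} (hu : InE u) (hy : InE y) (c : K) (huu : hf bar u u = 0) (hyu : hf bar y u = 0)
    (hc : c + bar c + hf bar y y = 0) : eich bar hb u y c huu hyu hc ∈ R bar := by
  intro a b hab
  rw [mt_eich, eichM_sub_one_apply] at hab
  rcases a with i | a' | i <;> rcases b with j | b' | j <;>
    simp [hu.1, hu.2, hy.1, hy.2] at hab ⊢

/-- the embedded elementary matrices are Eichler elements -/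
theorem lv_transvection_eq {i j : Fin k} (hij : i ≠ j) (t : K) :
    (lv bar hb (Matrix.SpecialLinearGroup.transvection hij t) : SUk) =
      eich bar hb (bv (eI i)) ((-bar t) • bv (fI j)) 0 (hf_bv_self_eI bar i)
        (by rw [hf_smul_left, hf_bv_fe, if_neg (Ne.symm hij), mul_zero])
        (by rw [hf_smul_left, hf_smul_right, hf_bv_ff, mul_zero, mul_zero, map_zero, add_zero, add_zero]) := by
  apply mt_injective
  rw [mt_lv, mt_eich]
  ext x y
  rw [eichM_apply]
  have hinv : ((Matrix.SpecialLinearGroup.transvection hij t)⁻¹ : SLk).1 = 1 + Matrix.single i j (-t) := by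
    rw [Matrix.SpecialLinearGroup.transvection_inv, Matrix.SpecialLinearGroup.transvection_coe]
  rcases x with i' | a | i' <;> rcases y with j' | b | j'
  · rw [lvM_ee, Matrix.SpecialLinearGroup.transvection_coe, Matrix.add_apply, Matrix.one_apply, Matrix.single_apply]
    simp only [Pi.smul_apply, bv_apply, op_eI, smul_eq_mul, zero_mul, mul_zero, zero_add, sub_zero, add_zero]
    by_cases h1 : i' = j'
    · by_cases h2 : i = i' ∧ j = j'
      · exact absurd (h2.1.trans (h1.trans h2.2.symm)) hij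
      · rw [if_pos h1, if_neg h2, if_pos (by rw [h1]), add_zero]
        by_cases h3 : eI i' = (eI i : I k r)
        · have h4 : ¬ (fI j' : I k r) = fI j := by
            intro h4
            apply h2
            exact ⟨(Sum.inl.inj h3).symm, (Sum.inr.inj (Sum.inr.inj h4)).symm⟩
          simp [h3, h4]
        · simp [h3]
    · rw [if_neg h1, if_neg (fun h' => h1 (Sum.inl.inj h'))]
      by_cases h2 : i = i' ∧ j = j'
      · rw [if_pos h2, h2.1, h2.2]
        simp [hb]
      · rw [if_neg h2]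
        by_cases h3 : eI i' = (eI i : I k r)
        · have h4 : ¬ (fI j' : I k r) = fI j := by
            intro h4
            apply h2
            exact ⟨(Sum.inl.inj h3).symm, (Sum.inr.inj (Sum.inr.inj h4)).symm⟩
          simp [h3, h4]
        · simp [h3]
  · simp [bv_apply]
  · simp [bv_apply]
  · simp [bv_apply]
  · rw [lvM_ww, Matrix.one_apply]
    simp only [Pi.smul_apply, bv_apply, smul_eq_mul]
    by_cases h1 : a = b
    · simp [h1]
    · have : ¬ (wI a : I k r) = wI b := fun h' => h1 (Sum.inl.inj (Sum.inr.inj h'))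
      simp [h1, this]
  · simp [bv_apply]
  · simp [bv_apply]
  · simp [bv_apply]
  · rw [lvM_ff]
    unfold cit
    rw [Matrix.map_apply, Matrix.transpose_apply, hinv, Matrix.add_apply, Matrix.one_apply, Matrix.single_apply]
    simp only [Pi.smul_apply, bv_apply, op_fI, smul_eq_mul, zero_mul, mul_zero, sub_zero, add_zero]
    by_cases h1 : i' = j'
    · by_cases h2 : i = j' ∧ j = i'
      · exact absurd (h2.1.trans (h1.symm.trans h2.2.symm)) hij
      · rw [if_pos h1.symm, if_neg h2, if_pos (by rw [h1]), add_zero, map_one]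
        by_cases h3 : (fI i' : I k r) = fI j
        · have h4 : ¬ (eI j' : I k r) = eI i := by
            intro h4
            apply h2
            exact ⟨(Sum.inl.inj h4).symm, (Sum.inr.inj (Sum.inr.inj h3)).symm⟩
          simp [h3, h4]
        · simp [h3]
    · rw [if_neg (fun h' => h1 h'.symm), if_neg (fun h' => h1 (Sum.inr.inj (Sum.inr.inj h')))]
      by_cases h2 : i = j' ∧ j = i'
      · rw [if_pos h2, h2.1, h2.2]
        simp
      · rw [if_neg h2]
        by_cases h3 : (fI i' : I k r) = fI j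
        · have h4 : ¬ (eI j' : I k r) = eI i := by
            intro h4
            apply h2
            exact ⟨(Sum.inl.inj h4).symm, (Sum.inr.inj (Sum.inr.inj h3)).symm⟩
          simp [h3, h4]
        · simp [h3]

omit hb in
theorem transvection_mem_UT {i j : Fin k} (hij : i < j) (t : K) :
    Matrix.SpecialLinearGroup.transvection (ne_of_lt hij) t ∈ Cfsg.Agent.Helper14.AutPSL.UT k K := by
  rw [Cfsg.Agent.Helper14.AutPSL.transvection_eq_tv]
  exact Cfsg.Agent.Helper14.AutPSL.tv_single_mem_UT hij t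

/-- the embedded elementary matrices lie in every strongly closed subgroup containing `R` -/
theorem lv_transvection_mem (p : ℕ) [hp : Fact p.Prime] [CharP K p] (hk : 1 ≤ k) {c₀ : K} (hc₀ : c₀ ≠ 0) (hc₀' : c₀ + bar c₀ = 0) (T : Subgroup SUk)
    (hcl : ∀ t ∈ T, ∀ g : SUk, g * t * g⁻¹ ∈ U0 bar → g * t * g⁻¹ ∈ T) (hR : R bar ≤ T)
    {i j : Fin k} (hij : i < j) (t : K) :
    (lv bar hb (Matrix.SpecialLinearGroup.transvection (ne_of_lt hij) t) : SUk) ∈ T := by
  have hj0 : j ≠ ⟨0, hk⟩ := by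
    intro h
    rw [h, Fin.lt_def] at hij
    simp at hij
  obtain ⟨n, -, hne, -, hne', -⟩ := exists_nE bar hb p hk hj0 (inW_zero (K := K) (k := k) (r := r)) hc₀
    (by rw [hf_zero_left, add_zero]; exact hc₀')
  have hρ := eich_mem_R bar hb (inE_bv i) (show InE ((-bar t / c₀) • (bv (eI j) : Vec)) from by
      constructor
      · intro a
        rw [Pi.smul_apply, (inE_bv j).1 a, smul_zero]
      · intro l
        rw [Pi.smul_apply, (inE_bv j).2 l, smul_zero]) 0 (hf_bv_self_eI bar i)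
    (by rw [hf_smul_left, hf_bv_ee, mul_zero])
    (by rw [hf_smul_left, hf_smul_right, hf_bv_ee, mul_zero, mul_zero, map_zero, add_zero, add_zero])
  have hconj : n * eich bar hb (bv (eI i)) ((-bar t / c₀) • (bv (eI j) : Vec)) 0 (hf_bv_self_eI bar i)
      (by rw [hf_smul_left, hf_bv_ee, mul_zero])
      (by rw [hf_smul_left, hf_smul_right, hf_bv_ee, mul_zero, mul_zero, map_zero, add_zero, add_zero]) * n⁻¹ =
      lv bar hb (Matrix.SpecialLinearGroup.transvection (ne_of_lt hij) t) := by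
    rw [conj_eich, lv_transvection_eq]
    apply eich_congr bar hb (hne' i (ne_of_lt hij)) _ rfl
    rw [av_smul, hne, smul_smul]
    congr 1
    field_simp
  rw [← hconj]
  apply hcl _ (hR hρ)
  rw [hconj, lv_mem_U0_iff]
  exact transvection_mem_UT hij t

/-- the embedded unitriangular group lies in every strongly closed subgroup containing `R` -/
theorem lv_UT_mem (p : ℕ) [hp : Fact p.Prime] [CharP K p] (hk : 1 ≤ k) {c₀ : K} (hc₀ : c₀ ≠ 0) (hc₀' : c₀ + bar c₀ = 0) (T : Subgroup SUk)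
    (hcl : ∀ t ∈ T, ∀ g : SUk, g * t * g⁻¹ ∈ U0 bar → g * t * g⁻¹ ∈ T) (hR : R bar ≤ T)
    {A : SLk} (hA : A ∈ Cfsg.Agent.Helper14.AutPSL.UT k K) : (lv bar hb A : SUk) ∈ T := by
  have h1 := Cfsg.Agent.Helper84.PSLn.UT_le_closure_rootSet hA
  have h2 : Subgroup.closure (Cfsg.Agent.Helper84.PSLn.rootSet k K) ≤ T.comap (lv bar hb) := by
    rw [Subgroup.closure_le]
    rintro x ⟨i, j, hij, t, rfl⟩
    show (lv bar hb _ : SUk) ∈ T
    have := lv_transvection_mem bar hb p hk hc₀ hc₀' T hcl hR hij t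
    rw [Cfsg.Agent.Helper14.AutPSL.transvection_eq_tv] at this
    exact this
  exact h2 h1

/-- the decomposition of `U0` -/
theorem exists_Q_mul_lv (hr : r ≤ 1) {u : SUk} (hu : u ∈ U0 bar) :
    ∃ q ∈ Q bar, ∃ A ∈ Cfsg.Agent.Helper14.AutPSL.UT k K, u = q * lv bar hb A := by
  have hA0 : ∀ i j : Fin k, j ≤ i → bA (mt bar u) i j = if i = j then 1 else 0 := by
    intro i j hji
    rw [bA_apply]
    by_contra hne
    have h1 : (mt bar u - 1) (eI i) (eI j) ≠ 0 := by
      rw [Matrix.sub_apply, Matrix.one_apply]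
      intro h0
      apply hne
      rw [sub_eq_zero] at h0
      rw [h0]
      by_cases hij : i = j
      · rw [if_pos hij, if_pos (by rw [hij])]
      · rw [if_neg hij, if_neg (fun h' => hij (Sum.inl.inj h'))]
    have := hu _ _ h1
    rw [lvI_eI, lvI_eI] at this
    have : (j : ℕ) ≤ i := hji
    omega
  have hdet : (bA (mt bar u)).det = 1 := by
    rw [Matrix.det_of_upperTriangular]
    · apply Finset.prod_eq_one
      intro i _
      rw [hA0 i i le_rfl, if_pos rfl]
    · intro i j hij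
      have hij' : j < i := hij
      rw [hA0 i j (le_of_lt hij'), if_neg (ne_of_gt hij')]
  obtain ⟨A, hA⟩ : ∃ A : SLk, A.1 = bA (mt bar u) := ⟨⟨_, hdet⟩, rfl⟩
  have hAUT : A ∈ Cfsg.Agent.Helper14.AutPSL.UT k K := by
    rw [Cfsg.Agent.Helper14.AutPSL.mem_UT]
    intro i j hji
    rw [hA]
    exact hA0 i j hji
  have hM : bM (mt bar u) = 1 := by
    ext a b
    have hab : a = b := by
      apply Fin.ext
      have := a.2
      have := b.2
      omega
    subst hab
    rw [bM_apply, Matrix.one_apply_eq]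
    by_contra hne
    have h1 : (mt bar u - 1) (wI a) (wI a) ≠ 0 := by
      rw [Matrix.sub_apply, Matrix.one_apply_eq]
      exact sub_ne_zero.mpr hne
    have := hu _ _ h1
    omega
  have hQ := decomp_aux bar hb (U0_le_PM bar hu) (lv_mem_PM bar hb A) (one_mem _)
    (by rw [mt_lv, bA_lvM, mt_one, bA_one, mul_one, hA]) (by rw [mt_lv, bM_lvM, mt_one, bM_one, mul_one, hM])
  refine ⟨_, hQ, A, hAUT, ?_⟩
  rw [mul_one, inv_mul_cancel_right]

omit hb

/-- the upper middle block -/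
def bX (g : Mat) : Matrix (Fin k) (Fin r) K := g.submatrix eI wI

theorem bX_apply (g : Mat) (i : Fin k) (b : Fin r) : bX g i b = g (eI i) (wI b) := rfl

theorem bX_mul {g h : Mat} (hh : RaisesBy lvc 0 h) : bX (g * h) = bA g * bX h + bX g * bM h := by
  ext i j
  rw [bX_apply, Matrix.mul_apply, sum_I, Matrix.add_apply, Matrix.mul_apply, Matrix.mul_apply]
  have h2 : ∑ l, g (eI i) (fI l) * h (fI l) (wI j) = 0 :=
    Finset.sum_eq_zero fun a _ => by rw [eq_zero_of_raisesBy hh (by simp), mul_zero]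
  rw [h2, add_zero]
  rfl

theorem bX_one : bX (1 : Mat) = 0 := by
  ext i j
  rw [bX_apply, Matrix.one_apply_ne (by simp), Matrix.zero_apply]

theorem bX_mul_Q {g h : SUk} (hg : g ∈ Q bar) (hh : h ∈ Q bar) :
    bX (mt bar (g * h)) = bX (mt bar g) + bX (mt bar h) := by
  obtain ⟨-, hgA, -, -⟩ := isUT_lvc_iff.mp (mem_Q bar |>.mp hg)
  obtain ⟨hh0, -, hhM, -⟩ := isUT_lvc_iff.mp (mem_Q bar |>.mp hh)
  rw [mt_mul, bX_mul hh0, hgA, hhM, Matrix.one_mul, Matrix.mul_one, add_comm]

theorem bX_inv_Q {g : SUk} (hg : g ∈ Q bar) : bX (mt bar g⁻¹) = -bX (mt bar g) := by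
  have h1 := bX_mul_Q bar (inv_mem hg) hg
  rw [inv_mul_cancel, mt_one, bX_one] at h1
  exact eq_neg_of_add_eq_zero_left h1.symm

include hb in
theorem bX_conj_lv (P : SLk) {q : SUk} (hq : q ∈ Q bar) :
    bX (mt bar ((lv bar hb P : SUk) * q * (lv bar hb P)⁻¹)) = P.1 * bX (mt bar q) := by
  obtain ⟨hq0, -, hqM, -⟩ := isUT_lvc_iff.mp (mem_Q bar |>.mp hq)
  have hinv : ((lv bar hb P : SUk))⁻¹ = lv bar hb P⁻¹ := (map_inv (lv bar hb) P).symm
  rw [hinv, mt_mul, mt_mul, bX_mul (lv_mem_PM bar hb P⁻¹), bX_mul hq0, mt_lv, mt_lv, bA_lvM, bM_lvM, hqM]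
  have h1 : bX (lvM P.1 (1 : Mr) (cit bar P)) = 0 := by
    ext i j
    rfl
  have h2 : bX (lvM (P⁻¹ : SLk).1 (1 : Mr) (cit bar P⁻¹)) = 0 := by
    ext i j
    rfl
  rw [h1, h2, Matrix.mul_zero, zero_add, Matrix.zero_mul, add_zero, Matrix.mul_one]

include hb in
/-- an element of `Q` with trivial upper middle block lies in `R` -/
theorem mem_R_of_bX {q : SUk} (hq : q ∈ Q bar) (hX : bX (mt bar q) = 0) : q ∈ R bar := by
  have hX' : bX (mt bar q⁻¹) = 0 := by rw [bX_inv_Q bar hq, hX, neg_zero]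
  intro x y hxy
  have h1 := hq x y hxy
  rcases x with i | a | i <;> rcases y with j | b | j <;>
    simp only [lvc_eI, lvc_wI, lvc_fI] at h1 ⊢ <;> try omega
  · exfalso
    apply hxy
    rw [Matrix.sub_apply, Matrix.one_apply_ne (by simp), sub_zero]
    have := congrFun (congrFun hX i) b
    exact this
  · exfalso
    apply hxy
    rw [Matrix.sub_apply, Matrix.one_apply_ne (by simp), sub_zero]
    have h2 := mt_inv_apply bar q⁻¹ (wI a) (fI j)
    rw [inv_inv, op_fI, op_wI] at h2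
    rw [h2]
    have := congrFun (congrFun hX' j) a
    have h3 : mt bar q⁻¹ (eI j) (wI a) = 0 := this
    rw [h3, map_zero]

include hb in
/-- an element of the radical in `T` with upper middle block `-e_1` -/
theorem exists_q0 (hk : 2 ≤ k) (a₀ : Fin r) {c₁ : K} (hc₁ : c₁ + bar c₁ + 1 = 0)
    (T : Subgroup SUk) (hcl : ∀ t ∈ T, ∀ g : SUk, g * t * g⁻¹ ∈ U0 bar → g * t * g⁻¹ ∈ T)
    (hUT : ∀ A ∈ Cfsg.Agent.Helper14.AutPSL.UT k K, (lv bar hb A : SUk) ∈ T) :
    ∃ q₀ ∈ T, q₀ ∈ Q bar ∧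
      bX (mt bar q₀) = Matrix.of fun (i : Fin k) (b : Fin r) =>
        if i = ⟨0, by omega⟩ ∧ b = a₀ then (-1 : K) else 0 := by
  have hk1 : 1 ≤ k := by omega
  have h01 : (⟨0, hk1⟩ : Fin k) < ⟨1, hk⟩ := by
    rw [Fin.lt_def]
    exact Nat.zero_lt_one
  obtain ⟨q₁, hq₁⟩ : ∃ q₁ : SUk, q₁ = eich bar hb (bv (eI ⟨1, hk⟩)) (bv (wI a₀)) c₁ (hf_bv_self_eI bar _)
      (hf_bv_we bar a₀ _) (by rw [hf_bv_ww, if_pos rfl]; exact hc₁) := ⟨_, rfl⟩
  have hq₁Q : q₁ ∈ Q bar := by
    rw [hq₁]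
    apply eich_mem_Q
    intro j
    rw [bv_apply, if_neg (by simp)]
  obtain ⟨a, ha⟩ : ∃ a : SUk, a = lv bar hb (Matrix.SpecialLinearGroup.transvection (ne_of_lt h01) 1) := ⟨_, rfl⟩
  have haT : a ∈ T := by
    rw [ha]
    exact hUT _ (transvection_mem_UT h01 1)
  have haU : a ∈ U0 bar := by
    rw [ha, lv_mem_U0_iff]
    exact transvection_mem_UT h01 1
  have hq₁U : q₁ ∈ U0 bar := Q_le_U0 bar hq₁Q
  have h1 : q₁ * a⁻¹ * q₁⁻¹ ∈ T :=
    hcl _ (inv_mem haT) q₁ (mul_mem (mul_mem hq₁U (inv_mem haU)) (inv_mem hq₁U))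
  have hconjQ : a * q₁ * a⁻¹ ∈ Q bar := by
    have := PM_le_normalizer_Q bar (U0_le_PM bar haU)
    exact (Subgroup.mem_normalizer_iff.mp this q₁).mp hq₁Q
  refine ⟨a * q₁ * a⁻¹ * q₁⁻¹, ?_, mul_mem hconjQ (inv_mem hq₁Q), ?_⟩
  · have e : a * q₁ * a⁻¹ * q₁⁻¹ = a * (q₁ * a⁻¹ * q₁⁻¹) := by group
    rw [e]
    exact mul_mem haT h1
  · have hX : bX (mt bar q₁) = Matrix.of fun (i : Fin k) (b : Fin r) =>
        if i = ⟨1, hk⟩ ∧ b = a₀ then (-1 : K) else 0 := by
      ext i b
      rw [hq₁, bX_apply, mt_eich, eichM_apply, Matrix.of_apply]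
      simp only [bv_apply, op_wI]
      by_cases hi : i = ⟨1, hk⟩
      · by_cases hb' : b = a₀
        · simp [hi, hb']
        · have : ¬ (wI b : I k r) = wI a₀ := fun h' => hb' (Sum.inl.inj (Sum.inr.inj h'))
          simp [hi, hb', this]
      · have : ¬ (eI i : I k r) = eI ⟨1, hk⟩ := fun h' => hi (Sum.inl.inj h')
        simp [hi, this]
    rw [bX_mul_Q bar hconjQ (inv_mem hq₁Q), bX_inv_Q bar hq₁Q, ha, bX_conj_lv bar hb _ hq₁Q, hX,
      Matrix.SpecialLinearGroup.transvection_coe, Matrix.add_mul, Matrix.one_mul, add_neg_cancel_comm]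
    ext i b
    rw [Matrix.mul_apply, Finset.sum_eq_single (⟨1, hk⟩ : Fin k)]
    · rw [Matrix.single_apply, Matrix.of_apply, Matrix.of_apply]
      by_cases hi : i = ⟨0, hk1⟩
      · by_cases hb' : b = a₀
        · simp [hi, hb']
        · simp [hi, hb']
      · have hi' : ¬ (⟨0, hk1⟩ : Fin k) = i := fun h => hi h.symm
        simp [hi, hi']
    · intro l _ hl
      rw [Matrix.single_apply, if_neg (fun h => hl h.2.symm), zero_mul]
    · intro h
      exact absurd (Finset.mem_univ _) h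

include hb in
/-- the radical lies in every strongly closed subgroup containing `R` and the embedded unitriangular group -/
theorem Q_le_of_strClosed (hr : r ≤ 1) (hk : 2 ≤ k) {c₁ : K} (hc₁ : c₁ + bar c₁ + 1 = 0)
    (T : Subgroup SUk) (hcl : ∀ t ∈ T, ∀ g : SUk, g * t * g⁻¹ ∈ U0 bar → g * t * g⁻¹ ∈ T) (hR : R bar ≤ T)
    (hUT : ∀ A ∈ Cfsg.Agent.Helper14.AutPSL.UT k K, (lv bar hb A : SUk) ∈ T) : Q bar ≤ T := by
  have hk1 : 1 ≤ k := by omega
  intro q hq
  by_cases hX : bX (mt bar q) = 0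
  · exact hR (mem_R_of_bX bar hb hq hX)
  · have hr0 : 0 < r := by
      by_contra h
      apply hX
      ext i b
      exact absurd b.2 (by omega)
    have hb0 : ∀ b : Fin r, b = ⟨0, hr0⟩ := by
      intro b
      apply Fin.ext
      have := b.2
      show (b : ℕ) = 0
      omega
    obtain ⟨q₀, hq₀T, hq₀Q, hq₀X⟩ := exists_q0 bar hb hk ⟨0, hr0⟩ hc₁ T hcl hUT
    have hv : (fun i => -(bX (mt bar q) i ⟨0, hr0⟩)) ≠ 0 := by
      intro h
      apply hX
      ext i b
      rw [hb0 b]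
      have := congrFun h i
      simpa using this
    obtain ⟨P, hP⟩ := exists_sl_col hk _ hv
    have hq'Q : (lv bar hb P : SUk) * q₀ * (lv bar hb P)⁻¹ ∈ Q bar :=
      (Subgroup.mem_normalizer_iff.mp (PM_le_normalizer_Q bar (lv_mem_PM bar hb P)) q₀).mp hq₀Q
    have hq'T : (lv bar hb P : SUk) * q₀ * (lv bar hb P)⁻¹ ∈ T := hcl _ hq₀T _ (Q_le_U0 bar hq'Q)
    have hq'X : bX (mt bar ((lv bar hb P : SUk) * q₀ * (lv bar hb P)⁻¹)) = bX (mt bar q) := by
      rw [bX_conj_lv bar hb P hq₀Q, hq₀X]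
      ext i b
      rw [Matrix.mul_apply, Finset.sum_eq_single (⟨0, hk1⟩ : Fin k)]
      · rw [Matrix.of_apply, if_pos ⟨rfl, hb0 b⟩, hP i, mul_neg, mul_one, neg_neg, hb0 b]
      · intro l _ hl
        rw [Matrix.of_apply, if_neg (fun h => hl h.1), mul_zero]
      · intro h
        exact absurd (Finset.mem_univ _) h
    have hrest : ((lv bar hb P : SUk) * q₀ * (lv bar hb P)⁻¹)⁻¹ * q ∈ R bar := by
      apply mem_R_of_bX bar hb (mul_mem (inv_mem hq'Q) hq)
      rw [bX_mul_Q bar (inv_mem hq'Q) hq, bX_inv_Q bar hq'Q, hq'X, neg_add_cancel]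
    have e : q = ((lv bar hb P : SUk) * q₀ * (lv bar hb P)⁻¹) *
        (((lv bar hb P : SUk) * q₀ * (lv bar hb P)⁻¹)⁻¹ * q) := by group
    rw [e]
    exact mul_mem hq'T (hR hrest)

include hb in
/-- no proper nontrivial subgroup of `U0` is strongly closed -/
theorem noStrClosed_U0 [Finite K] (p : ℕ) [hp : Fact p.Prime] [CharP K p] (hr : r ≤ 1) (hk : 2 ≤ k) {c₀ : K}
    (hc₀ : c₀ ≠ 0) (hc₀' : c₀ + bar c₀ = 0) (htr : ∀ y : K, bar y = y → ∃ t, t + bar t = y)
    (hnm : ∀ y : K, bar y = y → ∃ t, t * bar t = y) {s₀ : K} (hs₀ : bar s₀ ≠ s₀) :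
    Cfsg.Agent.Helper85.NoStrClosed (U0 bar : Subgroup SUk) := by
  have hk1 : 1 ≤ k := by omega
  intro T hT hcl
  by_cases hne : T = ⊥
  · left
    exact hne
  right
  apply le_antisymm hT
  haveI : Finite (Matrix.SpecialLinearGroup (I k r) K) := by
    unfold Matrix.SpecialLinearGroup
    infer_instance
  have hN : (T.subgroupOf (U0 bar)).Normal := by
    constructor
    intro t ht s
    rw [Subgroup.mem_subgroupOf] at ht ⊢
    have := hcl _ ht (s : SUk) ((U0 bar).mul_mem ((U0 bar).mul_mem s.2 (hT ht)) ((U0 bar).inv_mem s.2))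
    simpa using this
  have hNne : T.subgroupOf (U0 bar) ≠ ⊥ := by
    intro h
    apply hne
    rw [Subgroup.eq_bot_iff_forall]
    intro t ht
    have h1 : (⟨t, hT ht⟩ : (U0 bar : Subgroup SUk)) ∈ T.subgroupOf (U0 bar) := by
      rw [Subgroup.mem_subgroupOf]
      exact ht
    rw [h, Subgroup.mem_bot] at h1
    exact congrArg Subtype.val h1
  obtain ⟨z, hzN, hz1, hzc⟩ := Cfsg.Agent.Helper25.exists_mem_center_of_normal_ne_bot
    (isPGroup_U0 bar p hk1) _ hNne
  have hzT : (z : SUk) ∈ T := Subgroup.mem_subgroupOf.mp hzN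
  have hz1' : (z : SUk) ≠ 1 := fun h => hz1 (Subtype.ext h)
  have hzc' : ∀ u ∈ U0 bar, (z : SUk) * u = u * (z : SUk) := by
    intro u hu
    have := Subgroup.mem_center_iff.mp hzc ⟨u, hu⟩
    exact (congrArg Subtype.val this).symm
  obtain ⟨c, hc, hzform⟩ := center_U0_form bar hb hk1 hc₀ hc₀' htr hs₀ z.2 hzc'
  have hzI : (z : SUk) = tvI bar hb (Pi.single ⟨0, hk1⟩ 1) c hc := by
    rw [hzform]
    unfold tvI
    exact tvE_congr bar hb (embE_single _).symm rfl _ _
  have hc0 : c ≠ 0 := by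
    intro h0
    apply hz1'
    rw [hzI]
    exact tvI_eq_one bar hb hc (by rw [h0, zero_smul])
  have H1 := tvI_mem_of_strClosed bar hb hk hnm T hcl hc0 hc (by rw [← hzI]; exact hzT)
  have hR := R_le_of_tvI bar hb T hc₀ hc₀' htr H1
  have hUT : ∀ A ∈ Cfsg.Agent.Helper14.AutPSL.UT k K, (lv bar hb A : SUk) ∈ T :=
    fun A hA => lv_UT_mem bar hb p hk1 hc₀ hc₀' T hcl hR hA
  obtain ⟨c₁, hc₁⟩ := htr (-1) (by rw [map_neg, map_one])
  have hc₁' : c₁ + bar c₁ + 1 = 0 := by rw [hc₁, neg_add_cancel]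
  have hQ := Q_le_of_strClosed bar hb hr hk hc₁' T hcl hR hUT
  intro u hu
  obtain ⟨q, hq, A, hA, rfl⟩ := exists_Q_mul_lv bar hb hr hu
  exact mul_mem (hQ hq) (hUT A hA)

end Cfsg.Agent.Helper84.PSU
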