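-- helper84: the `p`-fusion system of `PSU_n(q)`, `n ≥ 4`, in characteristic `p` is simple (assembly for S5172).
import Mathlib
import Cfsg.Agent.Helper84.SimpleCrit2
import Cfsg.Agent.Helper84.PSULoc
import Cfsg.Agent.Helper84.PSUSCb
import Cfsg.Agent.Helper84.PSUIso
import Cfsg.Agent.Helper45.GUCard
import Cfsg.Agent.Helper13.UGen1
import Cfsg.Agent.Helper5.UnitaryCenter

set_option autoImplicit false
set_option linter.unusedSectionVars false

namespace Cfsg.Agent.Helper84.PSU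

open Matrix Cfsg

/-- the central `p`-elements of `SU_n(q)` are trivial -/
theorem eq_one_of_center_pow {K : Type*} [Field K] [Fintype K] (p q : ℕ) [hp : Fact p.Prime] [CharP K p]
    (hK : Fintype.card K = q ^ 2) {n : ℕ} (hn : 0 < n) {z : Cfsg.SU n K q}
    (hz : z ∈ Subgroup.center (Cfsg.SU n K q)) {a : ℕ} (h : z ^ (p ^ a) = 1) : z = 1 := by
  have h1 := Cfsg.Agent.Helper5.center_eq_scalar hK z hz ⟨0, hn⟩
  have h2 : (z.1.1) ^ (p ^ a) = 1 := by
    have := congrArg (fun x : Cfsg.SU n K q => (x.1 : Matrix (Fin n) (Fin n) K)) h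
    simpa using this
  rw [h1, ← map_pow] at h2
  have h3 : (z.1.1 ⟨0, hn⟩ ⟨0, hn⟩) ^ (p ^ a) = 1 := by
    have := congrFun (congrFun h2 ⟨0, hn⟩) ⟨0, hn⟩
    simpa [Matrix.scalar_apply] using this
  have h4 : z.1.1 ⟨0, hn⟩ ⟨0, hn⟩ = 1 := by
    have : (z.1.1 ⟨0, hn⟩ ⟨0, hn⟩ - 1) ^ (p ^ a) = 0 := by rw [sub_pow_char_pow, h3, one_pow, sub_self]
    exact sub_eq_zero.mp ((pow_eq_zero_iff (pow_ne_zero _ hp.out.ne_zero)).mp this)
  apply Subtype.ext
  apply Subtype.ext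
  rw [h1, h4]
  simp

/-- the `p`-fusion system of `PSU_{2k+r}(q)` is simple -/
theorem psu_isSimple {K : Type*} [Field K] [Fintype K] (p q : ℕ) [hp : Fact p.Prime] [CharP K p]
    (hK : Fintype.card K = q ^ 2) (k r : ℕ) (hr : r ≤ 1) (hk : 2 ≤ k)
    (S : Sylow p (Cfsg.PSU (2 * k + r) K q)) :
    (Cfsg.groupFusionSystem (S : Subgroup (Cfsg.PSU (2 * k + r) K q))).IsSimple p := by
  classical
  have hk1 : 1 ≤ k := by omega
  obtain ⟨bar, hq⟩ := Cfsg.Agent.Helper45.GU.exists_bar hK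
  have hb : ∀ x, bar (bar x) = x := by
    intro x
    rw [hq, hq]
    exact Cfsg.Agent.Helper13.frob_frob hK x
  have htr : ∀ y : K, bar y = y → ∃ t, t + bar t = y := by
    intro y hy
    obtain ⟨t, ht⟩ := Cfsg.Agent.Helper13.exists_trace_eq_of_fixed hK (a := y) (by rw [← hq]; exact hy)
    exact ⟨t, by rw [hq]; exact ht⟩
  have hnm : ∀ y : K, bar y = y → ∃ t, t * bar t = y := by
    intro y hy
    obtain ⟨t, ht⟩ := Cfsg.Agent.Helper13.exists_norm_eq_of_fixed hK (a := y) (by rw [← hq]; exact hy)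
    exact ⟨t, by rw [hq]; exact ht⟩
  obtain ⟨c₀, hc₀, hc₀q⟩ := Cfsg.Agent.Helper5.exists_trace_zero hK
  have hc₀' : c₀ + bar c₀ = 0 := by rw [hq, hc₀q, add_neg_cancel]
  obtain ⟨s₀, hs₀⟩ : ∃ s₀ : K, bar s₀ ≠ s₀ := by
    by_contra hcon
    push Not at hcon
    exact Cfsg.Agent.Helper45.GU.bar_ne_id hK bar hq (RingHom.ext hcon)
  obtain ⟨φ⟩ := exists_iso (k := k) (r := r) bar hb q hq hnm hs₀
  have : Finite (Matrix.SpecialLinearGroup (I k r) K) := by
    unfold Matrix.SpecialLinearGroup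
    infer_instance
  have : Finite (Matrix.SpecialLinearGroup (Fin (2 * k + r)) K) := by
    unfold Matrix.SpecialLinearGroup
    infer_instance
  obtain ⟨f, hfdef⟩ : ∃ f : ↥(SUm k r bar) →* Cfsg.PSU (2 * k + r) K q,
      f = (QuotientGroup.mk' (Subgroup.center (Cfsg.SU (2 * k + r) K q))).comp φ.toMonoidHom := ⟨_, rfl⟩
  have hfa : ∀ g, f g = QuotientGroup.mk' (Subgroup.center (Cfsg.SU (2 * k + r) K q)) (φ g) := by
    intro g
    rw [hfdef]
    rfl
  have hf : Function.Surjective f := by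
    intro y
    obtain ⟨x, rfl⟩ := QuotientGroup.mk'_surjective _ y
    refine ⟨φ.symm x, ?_⟩
    rw [hfa, MulEquiv.apply_symm_apply]
  have hkerc : ∀ z, z ∈ f.ker ↔ φ z ∈ Subgroup.center (Cfsg.SU (2 * k + r) K q) := by
    intro z
    rw [MonoidHom.mem_ker, hfa]
    exact QuotientGroup.eq_one_iff _
  have hker : ∀ z ∈ f.ker, ∀ g : ↥(SUm k r bar), g * z = z * g := by
    intro z hz g
    have h1 := Subgroup.mem_center_iff.mp ((hkerc z).mp hz) (φ g)
    apply φ.injective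
    rw [map_mul, map_mul, h1]
  have hp' : ∀ z ∈ f.ker, ∀ a : ℕ, z ^ (p ^ a) = 1 → z = 1 := by
    intro z hz a hza
    have h1 : (φ z) ^ (p ^ a) = 1 := by rw [← map_pow, hza, map_one]
    have h2 := eq_one_of_center_pow p q hK (by omega) ((hkerc z).mp hz) h1
    apply φ.injective
    rw [h2, map_one]
  have hZ : ∀ (l : K) (hN : l * bar l = 1) (hdet : l ^ (2 * k + r) = 1), scE bar l hN hdet ∈ f.ker := by
    intro l hN hdet
    rw [hkerc, Subgroup.mem_center_iff]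
    intro g'
    obtain ⟨g, rfl⟩ := φ.surjective g'
    rw [← map_mul, ← map_mul, scE_comm]
  have hS : ∀ s ∈ (U0 bar : Subgroup ↥(SUm k r bar)), ∃ a : ℕ, s ^ (p ^ a) = 1 :=
    fun s hs => ⟨_, pow_eq_one_of_mem_U0 bar p hk1 hs⟩
  obtain ⟨S₀', hS₀'⟩ := exists_sylow_U0 (K := K) (k := k) (r := r) bar hb p hr hk1 hc₀ hc₀'
  have hcoe : ((Sylow.mapSurjective hf S₀' : Sylow p (Cfsg.PSU (2 * k + r) K q)) :
      Subgroup (Cfsg.PSU (2 * k + r) K q)) = (U0 bar : Subgroup ↥(SUm k r bar)).map f := by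
    rw [Sylow.coe_mapSurjective, hS₀']
  refine Cfsg.Agent.Helper84.isSimple_of_locGen_conj p (Sylow.mapSurjective hf S₀') ?_ ?_ ?_ S
  · rw [hcoe]
    intro hbot
    have hu : tvE bar hb (bv (eI ⟨0, hk1⟩)) c₀ (hf_bv_self_eI bar _) hc₀' ∈
        (U0 bar : Subgroup ↥(SUm k r bar)) := R_le_U0 bar (tvE_bv_mem_R bar hb _ c₀ hc₀')
    have h1 : f (tvE bar hb (bv (eI ⟨0, hk1⟩)) c₀ (hf_bv_self_eI bar _) hc₀') ∈
        (U0 bar : Subgroup ↥(SUm k r bar)).map f := Subgroup.mem_map_of_mem _ hu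
    rw [hbot, Subgroup.mem_bot] at h1
    obtain ⟨a, ha⟩ := hS _ hu
    have h2 := hp' _ (MonoidHom.mem_ker.mpr h1) a ha
    have h3 := congrArg (fun g => mt bar g (eI ⟨0, hk1⟩) (fI ⟨0, hk1⟩)) h2
    simp only [mt_tvE_apply, mt_one, bv_apply, op_fI] at h3
    simp at h3
    exact hc₀ h3
  · rw [hcoe]
    exact locGen_map p f hf hker hp' (U0 bar) hS
      (locGenZ_U0 bar hb p hr hk hc₀ hc₀' htr hnm hs₀ f.ker hZ)
  · rw [hcoe]
    exact noStrClosed_map f (U0 bar) (noStrClosed_U0 bar hb p hr hk hc₀ hc₀' htr hnm hs₀)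

end Cfsg.Agent.Helper84.PSU
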