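import Cfsg.Agent.Helper84.E6Tor_NT27S

/-!
# helper84 for helper40's farm #14814 (S2373, `E₆` Coxeter torus): piece (NT27)

`n_w τ̃(c) n_w⁻¹ = τ̃(w c)` in helper83's model on the `27`-dimensional module, by induction over (NT27S).
-/

set_option autoImplicit false
set_option linter.unusedVariables false

namespace Cfsg.Agent.Helper84.E6Tor

open Cfsg Cfsg.Lie Cfsg.Agent.Helper18 Cfsg.Agent.Helper19.Cox Cfsg.Agent.Helper19.Poinc
  Cfsg.Agent.Helper80.Tor Cfsg.Agent.Helper36.TorD Cfsg.Agent.Helper83.E6C Cfsg.Agent.Helper40.E6Tor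
open Polynomial

theorem word27_app {L : Type*} [Field L] (u v : List (ℕ × L)) :
    word27 L (u ++ v) = word27 L u * word27 L v := by
  unfold word27
  rw [List.map_append, List.prod_append]

theorem nWordAll_cons' {L : Type*} [Field L] (i : ℕ) (w : List ℕ) :
    nWordAll L (i :: w) = chevE6.nWord (chevE6.simple i) (1 : L) ++ nWordAll L w := by
  unfold nWordAll
  rw [List.flatMap_cons]

theorem wordM_rev_cons (i : ℕ) (w : List ℕ) :
    wordM chevE6 (i :: w).reverse = wordM chevE6 w.reverse * refM chevE6 i := by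
  unfold wordM
  rw [List.reverse_cons, List.map_append, List.prod_append, List.map_singleton, List.prod_singleton]

/-- `wordM chevE6 w` with the index type written as `Fin 6` -/
def wM6 (w : List ℕ) : Matrix (Fin 6) (Fin 6) ℤ := wordM chevE6 w

/-- `refM chevE6 i` with the index type written as `Fin 6` -/
def rM6 (i : ℕ) : Matrix (Fin 6) (Fin 6) ℤ := refM chevE6 i

theorem wM6_rev_cons (i : ℕ) (w : List ℕ) : wM6 (i :: w).reverse = wM6 w.reverse * rM6 i :=
  wordM_rev_cons i w

theorem wM6_nil : wM6 ([] : List ℕ).reverse = 1 := rfl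

theorem n27_conj_step6 {L : Type*} [Field L] (i : ℕ) (hi : i < 6) (c : Fin 6 → Lˣ) :
    word27 L (chevE6.nWord (chevE6.simple i) (1 : L)) * tauT L c *
      (word27 L (chevE6.nWord (chevE6.simple i) (1 : L)))⁻¹ = tauT L (zact (rM6 i) c) :=
  n27_conj_step i hi c

/-- the induction with the matrices over `Fin 6` -/
theorem n27_conj_aux {L : Type*} [Field L] (w : List ℕ) (hw : ∀ i ∈ w, i < 6) (c : Fin 6 → Lˣ) :
    word27 L (nWordAll L w) * tauT L c * (word27 L (nWordAll L w))⁻¹ =
      tauT L (zact (wM6 w.reverse) c) := by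
  induction w with
  | nil =>
    have h1 : word27 L (nWordAll L []) = 1 := rfl
    rw [h1, wM6_nil, zact_one, one_mul, inv_one, mul_one]
  | cons i w ih =>
    have hi : i < 6 := hw i (List.mem_cons_self)
    have hw' : ∀ j ∈ w, j < 6 := fun j hj => hw j (List.mem_cons_of_mem _ hj)
    rw [nWordAll_cons', word27_app, wM6_rev_cons, zact_mul, mul_inv_rev]
    have step := n27_conj_step6 i hi (zact (wM6 w.reverse) c)
    have ih' := ih hw'
    calc word27 L (chevE6.nWord (chevE6.simple i) 1) * word27 L (nWordAll L w) * tauT L c *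
          ((word27 L (nWordAll L w))⁻¹ * (word27 L (chevE6.nWord (chevE6.simple i) 1))⁻¹)
        = word27 L (chevE6.nWord (chevE6.simple i) 1) *
            (word27 L (nWordAll L w) * tauT L c * (word27 L (nWordAll L w))⁻¹) *
            (word27 L (chevE6.nWord (chevE6.simple i) 1))⁻¹ := by group
      _ = _ := by rw [ih']; exact step

/-- (NT27) words of reflections in the `27`-dimensional model; compare `Cfsg.Agent.Helper37.TorD.word_conj` -/
theorem n27_conj {L : Type*} [Field L] (w : List ℕ) (hw : ∀ i ∈ w, i < 6) (c : Fin 6 → Lˣ) :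
    word27 L (nWordAll L w) * tauT L c * (word27 L (nWordAll L w))⁻¹ =
      tauT L (zact (wordM chevE6 w.reverse) c) :=
  n27_conj_aux w hw c

end Cfsg.Agent.Helper84.E6Tor
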