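import Cfsg.Agent.Helper40.E6Tor.Defs2

/-!
# helper84 for helper40's farm #14814 (S2373, `E₆` Coxeter torus): piece (NT27S)

`n_i τ̃(c) n_i⁻¹ = τ̃(s_i c)` in helper83's model on the `27`-dimensional module:
`n_i = (1 + E)(1 - E')(1 + E) = (1 - EE' - E'E) + E - E'` is a signed permutation matrix, and each
of its non-zero entries `(a, b)` satisfies `wt27 b = s_i (wt27 a)` (table check).
-/

set_option autoImplicit false
set_option linter.unusedVariables false

namespace Cfsg.Agent.Helper84.E6Tor

open Cfsg Cfsg.Lie Cfsg.Agent.Helper18 Cfsg.Agent.Helper19.Cox Cfsg.Agent.Helper19.Poinc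
  Cfsg.Agent.Helper80.Tor Cfsg.Agent.Helper36.TorD Cfsg.Agent.Helper83.E6C Cfsg.Agent.Helper40.E6Tor
open Polynomial

/-- the reflected weight coordinates -/
def rwt (i : ℕ) (a : I27) (j : ℕ) : ℤ := wt27 a j - chevE6.cartan j (chevE6.simple i) * wt27 a i

/-- the check for one sparse row -/
def rowOK (i : ℕ) (a : I27) (o : SRow) : Bool :=
  match o with
  | some q => (List.range 6).all fun j => decide (wt27 q.1 j = rwt i a j)
  | none => true

/-- the table check for the `i`-th fundamental reflection -/
def ntOK (i : ℕ) : Bool :=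
  decide (chevE6.simple i < 72) &&
  allI27.all fun a =>
    rowOK i a (rowE (chevE6.simple i) a) && rowOK i a (rowE (chevE6.neg (chevE6.simple i)) a) &&
      !(upper (chevE6.simple i) a && upper (chevE6.neg (chevE6.simple i)) a)

set_option maxRecDepth 100000 in
theorem ntOK_all : (List.range 6).all ntOK = true := by decide +kernel

theorem rowOK_sound (i : ℕ) (a : I27) (o : SRow) (h : rowOK i a o = true) (q : I27 × ℤ) (ho : o = some q)
    (j : Fin 6) : wt27 q.1 j.val = rwt i a j.val := by
  subst ho
  simp only [rowOK] at h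
  have := (List.all_eq_true.mp h) j.val (List.mem_range.mpr j.2)
  exact of_decide_eq_true this

section Field

variable {L : Type*} [Field L]

/-- the value of the weight `a` on the reflected torus element -/
theorem tauChar27_zact (M : Matrix (Fin 6) (Fin 6) ℤ) (c : Fin 6 → Lˣ) (a : I27) :
    tauChar27 L (zact M c) a = ∏ j : Fin 6, c j ^ (∑ k : Fin 6, M j k * wt27 a k.val) := by
  show ∏ k : Fin 6, (zact M c k) ^ wt27 a k.val = _
  simp only [zact_apply]
  calc ∏ k : Fin 6, (∏ j : Fin 6, c j ^ M j k) ^ wt27 a k.val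
      = ∏ k : Fin 6, ∏ j : Fin 6, c j ^ (M j k * wt27 a k.val) := by
        apply Finset.prod_congr rfl
        intro k _
        rw [← Finset.prod_zpow]
        apply Finset.prod_congr rfl
        intro j _
        rw [zpow_mul]
    _ = ∏ j : Fin 6, ∏ k : Fin 6, c j ^ (M j k * wt27 a k.val) := Finset.prod_comm
    _ = ∏ j : Fin 6, c j ^ (∑ k : Fin 6, M j k * wt27 a k.val) := by
        apply Finset.prod_congr rfl
        intro j _
        rw [zpow_finset_sum]

theorem refM_sum (i : ℕ) (hi : i < 6) (a : I27) (j : Fin 6) :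
    ∑ k : Fin 6, (refM chevE6 i : Matrix (Fin 6) (Fin 6) ℤ) j k * wt27 a k.val = rwt i a j.val := by
  have h1 : ∀ k : Fin 6, (refM chevE6 i : Matrix (Fin 6) (Fin 6) ℤ) j k * wt27 a k.val =
      (if j = k then wt27 a k.val else 0) -
        (if k = (⟨i, hi⟩ : Fin 6) then chevE6.cartan j.val (chevE6.simple i) * wt27 a k.val else 0) := by
    intro k
    show ((if j = k then (1 : ℤ) else 0) - (if k.val = i then chevE6.cartan j.val (chevE6.simple i) else 0)) *
      wt27 a k.val = _
    have e : (k.val = i) ↔ (k = (⟨i, hi⟩ : Fin 6)) := by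
      constructor
      · intro h; exact Fin.ext h
      · intro h; rw [h]
    by_cases hjk : j = k <;> by_cases hki : k = (⟨i, hi⟩ : Fin 6)
    · rw [if_pos hjk, if_pos (e.mpr hki), if_pos hjk, if_pos hki]; ring
    · rw [if_pos hjk, if_neg (fun h => hki (e.mp h)), if_pos hjk, if_neg hki]; ring
    · rw [if_neg hjk, if_pos (e.mpr hki), if_neg hjk, if_pos hki]; ring
    · rw [if_neg hjk, if_neg (fun h => hki (e.mp h)), if_neg hjk, if_neg hki]; ring
  rw [Finset.sum_congr rfl (fun k _ => h1 k), Finset.sum_sub_distrib, Finset.sum_ite_eq, Finset.sum_ite_eq',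
    if_pos (Finset.mem_univ _), if_pos (Finset.mem_univ _)]
  rfl

/-- the diagonal of the reflected torus element -/
theorem tauChar27_refM (i : ℕ) (hi : i < 6) (c : Fin 6 → Lˣ) (a : I27) :
    tauChar27 L (zact (refM chevE6 i : Matrix (Fin 6) (Fin 6) ℤ) c) a = ∏ j : Fin 6, c j ^ rwt i a j.val := by
  refine (tauChar27_zact (refM chevE6 i : Matrix (Fin 6) (Fin 6) ℤ) c a).trans ?_
  apply Finset.prod_congr rfl
  intro j _
  exact congrArg (fun e : ℤ => c j ^ e) (refM_sum i hi a j)

theorem tauChar27_apply (c : Fin 6 → Lˣ) (a : I27) : tauChar27 L c a = ∏ j : Fin 6, c j ^ wt27 a j.val := rfl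

/-- a root vector intertwines two diagonal matrices -/
theorem Emat_diag (r : ℕ) (d d' : I27 → L)
    (h : ∀ (a : I27) (q : I27 × ℤ), rowE r a = some q → d q.1 = d' a) :
    Emat L r * Matrix.diagonal d = Matrix.diagonal d' * Emat L r := by
  funext a b
  rw [Matrix.mul_diagonal, Matrix.diagonal_mul, Emat_apply]
  cases ho : rowE r a with
  | none => simp [rowVal]
  | some q =>
    simp only [rowVal]
    by_cases hq : q.1 = b
    · rw [if_pos hq, ← hq, h a q ho, mul_comm]
    · rw [if_neg hq, Int.cast_zero, zero_mul, mul_zero]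

/-- the matrix of `n_r(1) = x_r(1) x_{-r}(-1) x_r(1)` -/
theorem n27_val (r : ℕ) (hr : r < 72) :
    ((word27 L (chevE6.nWord r (1 : L)) : GL I27 L) : Matrix I27 I27 L) =
      Matrix.diagonal (fun a => 1 - (if upper r a then (1 : L) else 0) -
        (if upper (chevE6.neg r) a then (1 : L) else 0)) + Emat L r - Emat L (chevE6.neg r) := by
  unfold ChevalleyDatum.nWord word27
  simp only [List.map_cons, List.map_nil, List.prod_cons, List.prod_nil, mul_one, Units.val_mul, x27GL_val]
  unfold x27 xr
  have hP := Emat_proj L r hr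
  have hP' := Emat_proj L (chevE6.neg r) (neg_lt r hr)
  rw [neg_neg' r hr] at hP'
  have hsq := Emat_sq L r
  have hsl := Emat_sl2 L r hr
  rw [inv_one, one_smul, neg_smul, one_smul]
  generalize Emat L r = A at *
  generalize Emat L (chevE6.neg r) = B at *
  have h1 : (1 + A) * ((1 + -B) * (1 + A)) = 1 + A - B - A * B - B * A + (A - A * B * A) + A * A := by
    noncomm_ring
  rw [h1, hsl, hsq, sub_self, add_zero, add_zero, hP, hP']
  have h2 : (1 : Matrix I27 I27 L) = Matrix.diagonal (fun _ => (1 : L)) := Matrix.diagonal_one.symm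
  have h3 : Matrix.diagonal (fun a => 1 - (if upper r a then (1 : L) else 0) -
        (if upper (chevE6.neg r) a then (1 : L) else 0)) =
      1 - Matrix.diagonal (fun a => if upper r a then (1 : L) else 0) -
        Matrix.diagonal (fun a => if upper (chevE6.neg r) a then (1 : L) else 0) := by
    rw [h2, Matrix.diagonal_sub, Matrix.diagonal_sub]
  rw [h3]
  abel

end Field

/-- the step with the reflected torus element abstracted -/
theorem n27_conj_step_aux {L : Type*} [Field L] (i : ℕ) (hi : i < 6) (c c' : Fin 6 → Lˣ)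
    (hc' : ∀ a : I27, tauChar27 L c' a = ∏ j : Fin 6, c j ^ rwt i a j.val) :
    word27 L (chevE6.nWord (chevE6.simple i) (1 : L)) * tauT L c *
      (word27 L (chevE6.nWord (chevE6.simple i) (1 : L)))⁻¹ = tauT L c' := by
  have hok : ntOK i = true := (List.all_eq_true.mp ntOK_all) i (List.mem_range.mpr hi)
  unfold ntOK at hok
  rw [Bool.and_eq_true, decide_eq_true_eq] at hok
  obtain ⟨hr, hall⟩ := hok
  have hA : ∀ a : I27, (rowOK i a (rowE (chevE6.simple i) a) = true ∧
      rowOK i a (rowE (chevE6.neg (chevE6.simple i)) a) = true) ∧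
      ¬ (upper (chevE6.simple i) a = true ∧ upper (chevE6.neg (chevE6.simple i)) a = true) := by
    intro a
    have := all_I27 hall a
    simpa only [Bool.and_eq_true, Bool.not_eq_true', Bool.and_eq_false_iff, not_and_or,
      Bool.not_eq_true] using this
  set r := chevE6.simple i with hrdef
  rw [mul_inv_eq_iff_eq_mul]
  apply Units.ext
  rw [Units.val_mul, Units.val_mul, tauT_val, tauT_val, n27_val r hr]
  set d : I27 → L := fun a => ((tauChar27 L c a : Lˣ) : L) with hd
  set d' : I27 → L := fun a => ((tauChar27 L c' a : Lˣ) : L) with hd'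
  have hd'a : ∀ a : I27, d' a = ((∏ j : Fin 6, c j ^ rwt i a j.val : Lˣ) : L) := by
    intro a
    exact congrArg (fun u : Lˣ => (u : L)) (hc' a)
  have hrow : ∀ (s : ℕ) (a : I27) (q : I27 × ℤ), rowOK i a (rowE s a) = true → rowE s a = some q →
      d q.1 = d' a := by
    intro s a q hs hq
    rw [hd'a a]
    show ((tauChar27 L c q.1 : Lˣ) : L) = _
    rw [tauChar27_apply]
    congr 1
    apply Finset.prod_congr rfl
    intro j _
    rw [rowOK_sound i a _ hs q hq j]
  rw [sub_mul, add_mul, mul_sub, mul_add]
  congr 1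
  · congr 1
    · rw [Matrix.diagonal_mul_diagonal, Matrix.diagonal_mul_diagonal]
      congr 1
      funext a
      by_cases h1 : upper r a = true
      · by_cases h2 : upper (chevE6.neg r) a = true
        · exact absurd ⟨h1, h2⟩ (hA a).2
        · rw [if_pos h1, if_neg h2]; ring
      · by_cases h2 : upper (chevE6.neg r) a = true
        · rw [if_neg h1, if_pos h2]; ring
        · rw [if_neg h1, if_neg h2]
          have hw : wt27 a i = 0 := by
            unfold wt27
            rw [if_neg h1, if_neg h2]
          have : d' a = d a := by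
            rw [hd'a a]
            show _ = ((tauChar27 L c a : Lˣ) : L)
            rw [tauChar27_apply]
            congr 1
            apply Finset.prod_congr rfl
            intro j _
            unfold rwt
            rw [hw, mul_zero, sub_zero]
          rw [this]; ring
    · exact Emat_diag r d d' (fun a q hq => hrow r a q (hA a).1.1 hq)
  · exact Emat_diag (chevE6.neg r) d d' (fun a q hq => hrow (chevE6.neg r) a q (hA a).1.2 hq)

/-- (NT27S) one reflection in the `27`-dimensional model: `n_i τ̃(c) n_i⁻¹ = τ̃(s_i c)` -/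
theorem n27_conj_step {L : Type*} [Field L] (i : ℕ) (hi : i < 6) (c : Fin 6 → Lˣ) :
    word27 L (chevE6.nWord (chevE6.simple i) (1 : L)) * tauT L c *
      (word27 L (chevE6.nWord (chevE6.simple i) (1 : L)))⁻¹ = tauT L (zact (refM chevE6 i) c) :=
  n27_conj_step_aux i hi c _ (fun a => tauChar27_refM i hi c a)

end Cfsg.Agent.Helper84.E6Tor
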