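import Mathlib
import Cfsg.Agent.Lib.Cores
import Cfsg.Agent.Helper85.QuotModel
set_option autoImplicit false

/-! # `O_{p'}(C_G(Q))` inside `G` -/

namespace Cfsg.Agent.Helper84

variable {G : Type*} [Group G]

/-- `O_{p'}(C_G(Q))`, as a subgroup of `G`. -/
def centPrime (p : ℕ) (Q : Subgroup G) : Subgroup G :=
  (Cfsg.pPrimeCore p ↥(Subgroup.centralizer (Q : Set G))).map (Subgroup.centralizer (Q : Set G)).subtype

theorem centPrime_le (p : ℕ) (Q : Subgroup G) : centPrime p Q ≤ Subgroup.centralizer (Q : Set G) :=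
  Subgroup.map_subtype_le _

theorem card_centPrime_coprime [Finite G] (p : ℕ) (Q : Subgroup G) : (Nat.card (centPrime p Q)).Coprime p := by
  unfold centPrime
  rw [Subgroup.card_map_of_injective (Subgroup.subtype_injective _)]
  exact Cfsg.Agent.Lib.card_pPrimeCore_coprime p

/-- A `p`-element of `O_{p'}(C_G(Q))` is trivial. -/
theorem eq_one_of_mem_centPrime [Finite G] {p : ℕ} [Fact p.Prime] {Q : Subgroup G} {x : G}
    (hx : x ∈ centPrime p Q) {k : ℕ} (hk : x ^ p ^ k = 1) : x = 1 := by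
  have h1 : orderOf x ∣ p ^ k := orderOf_dvd_of_pow_eq_one hk
  have h2 : orderOf x ∣ Nat.card (centPrime p Q) := by
    have := orderOf_dvd_natCard (⟨x, hx⟩ : centPrime p Q)
    rwa [Subgroup.orderOf_mk] at this
  have hcop := card_centPrime_coprime p Q
  have h3 : orderOf x ∣ 1 := by
    have := Nat.dvd_gcd h1 h2
    rwa [Nat.Coprime.gcd_eq_one (Nat.Coprime.pow_left k hcop.symm)] at this
  exact orderOf_eq_one_iff.mp (Nat.dvd_one.mp h3)

theorem conj_mem_centralizer_of_mem_normalizer {Q : Subgroup G} {m c : G}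
    (hm : m ∈ Subgroup.normalizer (Q : Set G)) (hc : c ∈ Subgroup.centralizer (Q : Set G)) :
    m * c * m⁻¹ ∈ Subgroup.centralizer (Q : Set G) := by
  rw [Subgroup.mem_centralizer_iff] at hc ⊢
  intro q hq
  have hq' : m⁻¹ * q * m ∈ Q := by
    have := (Subgroup.mem_normalizer_iff.mp (Subgroup.inv_mem _ hm) q).mp hq
    rwa [inv_inv] at this
  have h1 := hc _ hq'
  have e1 : q * (m * c * m⁻¹) = m * ((m⁻¹ * q * m) * c) * m⁻¹ := by group
  have e2 : m * c * m⁻¹ * q = m * (c * (m⁻¹ * q * m)) * m⁻¹ := by group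
  rw [e1, e2, h1]

theorem normalizer_le_normalizer_centralizer_set (Q : Subgroup G) :
    Subgroup.normalizer (Q : Set G) ≤ Subgroup.normalizer ((Subgroup.centralizer (Q : Set G) : Subgroup G) : Set G) := by
  intro m hm
  rw [Subgroup.mem_normalizer_iff]
  intro c
  constructor
  · exact conj_mem_centralizer_of_mem_normalizer hm
  · intro h
    have := conj_mem_centralizer_of_mem_normalizer (Subgroup.inv_mem _ hm) h
    rw [inv_inv] at this
    have e : m⁻¹ * (m * c * m⁻¹) * m = c := by group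
    rwa [e] at this

/-- `O_{p'}(C_G(Q))` is normalized by `N_G(Q)`. -/
theorem conj_mem_centPrime (p : ℕ) (Q : Subgroup G) {m k : G} (hm : m ∈ Subgroup.normalizer (Q : Set G))
    (hk : k ∈ centPrime p Q) : m * k * m⁻¹ ∈ centPrime p Q := by
  have hmC := normalizer_le_normalizer_centralizer_set Q hm
  obtain ⟨k', hk', rfl⟩ := hk
  have hchar : (Cfsg.pPrimeCore p ↥(Subgroup.centralizer (Q : Set G))).Characteristic :=
    Cfsg.Agent.Lib.pPrimeCore_characteristic p
  obtain ⟨e, hedef⟩ : ∃ e : MulAut ↥(Subgroup.centralizer (Q : Set G)),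
      e = (Subgroup.centralizer (Q : Set G)).normalizerMonoidHom ⟨m, hmC⟩ := ⟨_, rfl⟩
  have h1 : e k' ∈ Cfsg.pPrimeCore p ↥(Subgroup.centralizer (Q : Set G)) := by
    have := Subgroup.characteristic_iff_map_eq.mp hchar e
    rw [← this]
    exact ⟨k', hk', rfl⟩
  refine ⟨e k', h1, ?_⟩
  rw [hedef]
  rfl

/-- `O_{p'}(C_G(Q))` inside `N_G(Q)`. -/
def centPrimeN (p : ℕ) (Q : Subgroup G) : Subgroup ↥(Subgroup.normalizer (Q : Set G)) :=
  (centPrime p Q).subgroupOf (Subgroup.normalizer (Q : Set G))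

theorem mem_centPrimeN (p : ℕ) (Q : Subgroup G) (n : ↥(Subgroup.normalizer (Q : Set G))) :
    n ∈ centPrimeN p Q ↔ (n : G) ∈ centPrime p Q := by
  unfold centPrimeN
  rw [Subgroup.mem_subgroupOf]

instance centPrimeN_normal (p : ℕ) (Q : Subgroup G) : (centPrimeN p Q).Normal := by
  refine ⟨fun n hn g => ?_⟩
  rw [mem_centPrimeN] at hn ⊢
  have h := conj_mem_centPrime p Q g.2 hn
  have e : ((g * n * g⁻¹ : ↥(Subgroup.normalizer (Q : Set G))) : G) = (g : G) * (n : G) * (g : G)⁻¹ := rfl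
  rw [e]
  exact h

/-- When `C_G(Q)` has a Sylow `p`-subgroup inside `Q`, it is `Z(Q) × O_{p'}(C_G(Q))`. -/
theorem exists_mul_of_mem_centralizer [Finite G] {p : ℕ} [Fact p.Prime] {Q : Subgroup G}
    (R : Sylow p ↥(Subgroup.centralizer (Q : Set G)))
    (hR : ∀ r ∈ (R : Subgroup ↥(Subgroup.centralizer (Q : Set G))), (r : G) ∈ Q) {c : G}
    (hc : c ∈ Subgroup.centralizer (Q : Set G)) : ∃ z ∈ Q, ∃ k ∈ centPrime p Q, c = z * k := by
  have hD : (R : Subgroup ↥(Subgroup.centralizer (Q : Set G))) ≤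
      Subgroup.center ↥(Subgroup.centralizer (Q : Set G)) := by
    intro r hr
    rw [Subgroup.mem_center_iff]
    intro c'
    apply Subtype.ext
    show (c' : G) * (r : G) = (r : G) * (c' : G)
    exact (Subgroup.mem_centralizer_iff.mp c'.2 _ (hR r hr)).symm
  have hsup := Cfsg.Agent.Helper85.QM.sup_pPrimeCore_of_central R hD
  have hmem : (⟨c, hc⟩ : ↥(Subgroup.centralizer (Q : Set G))) ∈
      (R : Subgroup ↥(Subgroup.centralizer (Q : Set G))) ⊔ Cfsg.pPrimeCore p _ := by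
    rw [hsup]
    exact Subgroup.mem_top _
  haveI hchar : (Cfsg.pPrimeCore p ↥(Subgroup.centralizer (Q : Set G))).Characteristic :=
    Cfsg.Agent.Lib.pPrimeCore_characteristic p
  have hmem' : (⟨c, hc⟩ : ↥(Subgroup.centralizer (Q : Set G))) ∈
      (((R : Subgroup ↥(Subgroup.centralizer (Q : Set G))) ⊔ Cfsg.pPrimeCore p _ : Subgroup _) : Set _) := hmem
  rw [Subgroup.mul_normal] at hmem'
  obtain ⟨y, hy, z, hz, hyz⟩ := hmem'
  refine ⟨(y : G), hR y hy, (z : G), ⟨z, hz, rfl⟩, ?_⟩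
  have := congrArg Subtype.val hyz
  exact this.symm

end Cfsg.Agent.Helper84
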