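import Cfsg.Agent.Helper84.ModelEmbed2
import Cfsg.Agent.Helper88.ClimbFRC
import Cfsg.Agent.S5098
set_option autoImplicit false

/-! # Embedding the model of `N_F(Q)` into the model of `N_F(O₁)`, `O₁` a fully normalized conjugate of an overgroup of `Q`
to which all automorphisms of `Q` extend -/

namespace Cfsg.Agent.Helper84

open Cfsg Cfsg.FusionSystem Cfsg.Agent.Helper85 Cfsg.Agent.Helper87 Cfsg.Agent.Helper88.FS

variable {Ω : Type*} [Group Ω] {S : Subgroup Ω}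

/-- Compatibility with `F` is preserved by composing with a map of `F`. -/
theorem fusCompat_comp (F : FusionSystem S) {T A T₁ : Subgroup Ω} (hTA : T ≤ A) (χ : ↥A →* Ω) (hχ : χ ∈ F.Hom A)
    (hχT : ∀ t : ↥T, (χ.comp (Subgroup.inclusion hTA)) t ∈ T₁) {G : Type*} [Group G] (ι₁ : ↥T₁ →* G)
    (hc : FusCompat F ι₁) :
    FusCompat F (ι₁.comp ((χ.comp (Subgroup.inclusion hTA)).codRestrict T₁ hχT)) := by
  intro D hD φ hφ g h
  obtain ⟨χD, hχDdef⟩ : ∃ χD : ↥D →* Ω, χD = χ.comp (Subgroup.inclusion (hD.trans hTA)) := ⟨_, rfl⟩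
  obtain ⟨χT, hχTdef⟩ : ∃ χT : ↥T →* Ω, χT = χ.comp (Subgroup.inclusion hTA) := ⟨_, rfl⟩
  have hχDT : ∀ x : ↥D, χD x = χT ⟨x, hD x.2⟩ := by
    intro x
    rw [hχDdef, hχTdef]
    rfl
  have hχTval : ∀ t : ↥T, χT t ∈ T₁ := by
    intro t
    rw [hχTdef]
    exact hχT t
  have hιeq : ∀ t : ↥T, (ι₁.comp ((χ.comp (Subgroup.inclusion hTA)).codRestrict T₁ hχT)) t = ι₁ ⟨χT t, hχTval t⟩ := by
    intro t
    subst hχTdef
    rfl
  have hχD : χD ∈ F.Hom D := by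
    rw [hχDdef]
    exact Helper87.restrict_mem F hχ (hD.trans hTA)
  have hχT' : χT ∈ F.Hom T := by
    rw [hχTdef]
    exact Helper87.restrict_mem F hχ hTA
  obtain ⟨ψD, hψD, hψDx⟩ := F.inv_mem hχD
  obtain ⟨ψT, hψT, hψTx⟩ := F.inv_mem hχT'
  have hPT₁ : χD.range ≤ T₁ := by
    rintro _ ⟨x, rfl⟩
    rw [hχDT]
    exact hχTval _
  have hψDval : ∀ y : ↥χD.range, ψD y ∈ D := by
    rintro ⟨_, x, rfl⟩
    rw [hψDx]
    exact x.2
  let φ' : ↥χD.range →* Ω := χT.comp ((φ.codRestrict T hφ).comp (ψD.codRestrict D hψDval))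
  have hφ'val : ∀ y : ↥χD.range, φ' y ∈ T₁ := fun y => hχTval _
  have hφ'x : ∀ x : ↥D, φ' ⟨χD x, ⟨x, rfl⟩⟩ = χT ⟨φ x, hφ x⟩ := by
    intro x
    have h2 : (ψD.codRestrict D hψDval) ⟨χD x, ⟨x, rfl⟩⟩ = x := Subtype.ext (hψDx x)
    show χT ((φ.codRestrict T hφ) ((ψD.codRestrict D hψDval) ⟨χD x, ⟨x, rfl⟩⟩)) = _
    rw [h2]
    rfl
  have hφ'F : φ' ∈ F.Hom χD.range := by
    apply hc χD.range hPT₁ φ' hφ'val g
    rintro ⟨_, x, rfl⟩
    have h1 := h x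
    rw [hιeq, hιeq] at h1
    have h3 : (⟨φ' ⟨χD x, ⟨x, rfl⟩⟩, hφ'val _⟩ : ↥T₁) = ⟨χT ⟨φ x, hφ x⟩, hχTval _⟩ := Subtype.ext (hφ'x x)
    have h4 : (⟨χD x, hPT₁ ⟨x, rfl⟩⟩ : ↥T₁) = ⟨χT ⟨x, hD x.2⟩, hχTval _⟩ := Subtype.ext (hχDT x)
    rw [h3, h4]
    exact h1
  have h4 := F.comp_mem hχD hφ'F (fun x => ⟨x, rfl⟩)
  have h5 : ∀ x : ↥D, (φ'.comp (χD.codRestrict χD.range (fun x => ⟨x, rfl⟩))) x ∈ χT.range := by
    intro x
    exact ⟨⟨φ x, hφ x⟩, (hφ'x x).symm⟩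
  have h6 := F.comp_mem h4 hψT h5
  refine mem_of_eq F h6 (fun x => ?_)
  have h7 : ψT ⟨χT ⟨φ x, hφ x⟩, ⟨_, rfl⟩⟩ = φ x := hψTx ⟨φ x, hφ x⟩
  rw [← h7]
  show _ = ψT ⟨φ' ⟨χD x, ⟨x, rfl⟩⟩, _⟩
  congr 1
  apply Subtype.ext
  exact (hφ'x x).symm

/-- An element normalizing the image of `Q` induces on `Q` an automorphism of the system. -/
theorem exists_induces_of_normalizes [Finite S] (F : FusionSystem S) {T Q : Subgroup Ω} (hQT : Q ≤ T)
    {G : Type*} [Group G] (ι : ↥T →* G) (hinj : Function.Injective ι) (hc : FusCompat F ι) (g : G)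
    (hg : ∀ y : ↥Q, ∃ y' : ↥Q, g * ι ⟨y, hQT y.2⟩ * g⁻¹ = ι ⟨y', hQT y'.2⟩) :
    ∃ α ∈ F.autGroup Q, Induces hQT ι g α := by
  have hmem : ∀ y : ↥Q, g * ι ⟨y, hQT y.2⟩ * g⁻¹ ∈ ι.range := by
    intro y
    obtain ⟨y', hy'⟩ := hg y
    exact ⟨_, hy'.symm⟩
  obtain ⟨ψ, hψT, hιψ⟩ := exists_hom_of_conj ι hinj hQT g hmem
  have hψF : ψ ∈ F.Hom Q := hc Q hQT ψ hψT g hιψ
  have hval : ∀ y : ↥Q, ψ y ∈ Q := by
    intro y
    obtain ⟨y', hy'⟩ := hg y
    have h1 := hιψ y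
    rw [hy'] at h1
    have h2 := congrArg Subtype.val (hinj h1)
    have h3 : ψ y = (y' : Ω) := h2
    rw [h3]
    exact y'.2
  obtain ⟨β, hβ, hβx⟩ := exists_aut_of_maps_into F hψF hval
  refine ⟨β, hβ, fun x => ?_⟩
  rw [← hιψ x]
  congr 1
  apply Subtype.ext
  exact hβx x


/-- **The climb step**: if all automorphisms of the fully normalized centric subgroup `Q` extend to `O` (normalized by `N_S(Q)`),
and `χ : N_S(O) → N_S(O₁)` is a map of the system carrying `O` onto the fully normalized `O₁`, then a model of `N_F(Q)` is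
isomorphic to a subgroup of a model of `N_F(O₁)`. -/
theorem exists_embedding_of_autExt [Finite S] (p : ℕ) [Fact p.Prime] (hS : IsPGroup p S) (F : FusionSystem S)
    (hF : F.IsSaturated p) {Q O O₁ : Subgroup Ω} (hQn : F.IsFullyNormalized Q) (hQc : F.IsCentric Q)
    (hext : AutExt F Q O) (hTO : normalizerIn S Q ≤ Subgroup.normalizer (O : Set Ω))
    (hO₁n : F.IsFullyNormalized O₁) (e' : ↥O ≃* ↥O₁) (he' : IsIso F e')
    (χ : ↥(normalizerIn S O) →* Ω) (hχ : χ ∈ F.Hom (normalizerIn S O))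
    (hχe : ∀ x : ↥O, χ ⟨x, le_normalizerIn he'.le_left x.2⟩ = e' x)
    (hχval : ∀ x, χ x ∈ normalizerIn S O₁)
    (N : FusionSystem (normalizerIn S Q)) (hN : F.IsNormalizerSystem Q N)
    {L : Type*} [Group L] (ι : ↥(normalizerIn S Q) →* L) (hL : N.IsModel p L ι)
    (N₁ : FusionSystem (normalizerIn S O₁)) (hN₁ : F.IsNormalizerSystem O₁ N₁)
    {L₁ : Type*} [Group L₁] (ι₁ : ↥(normalizerIn S O₁) →* L₁) (hL₁ : N₁.IsModel p L₁ ι₁) :
    ∃ M : Subgroup L₁, Nonempty (↥M ≃* L) := by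
  have hQS : Q ≤ S := hQn.1
  have hOS : O ≤ S := he'.le_left
  have hO₁S : O₁ ≤ S := hO₁n.1
  have hTS : normalizerIn S Q ≤ S := inf_le_left
  have hT₁S : normalizerIn S O₁ ≤ S := inf_le_left
  have hQT : Q ≤ normalizerIn S Q := le_normalizerIn hQS
  have hO₁T₁ : O₁ ≤ normalizerIn S O₁ := le_normalizerIn hO₁S
  have hTN : normalizerIn S Q ≤ Subgroup.normalizer (Q : Set Ω) := inf_le_right
  have hTA : normalizerIn S Q ≤ normalizerIn S O := le_inf hTS hTO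
  have hQO : Q ≤ O := hext.1
  have hfinT : Finite ↥(normalizerIn S Q) := finite_of_le hTS
  have hfinT₁ : Finite ↥(normalizerIn S O₁) := finite_of_le hT₁S
  have hTp : IsPGroup p ↥(normalizerIn S Q) := hS.to_le hTS
  have hT₁p : IsPGroup p ↥(normalizerIn S O₁) := hS.to_le hT₁S
  have hNsat := Cfsg.Agent.S5098.result p hS F hF Q hQn N hN
  have hN₁sat := Cfsg.Agent.S5098.result p hS F hF O₁ hO₁n N₁ hN₁
  have hfinL : Finite L := hL.1
  have hfinL₁ : Finite L₁ := hL₁.1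
  have hinjL : Function.Injective ι := hL.2.1.1
  have hinjL₁ : Function.Injective ι₁ := hL₁.2.1.1
  have hrealL := hL.2.1.2
  have hrealL₁ := hL₁.2.1.2
  -- the composite `T → T₁ → L₁`
  have hχT : ∀ t : ↥(normalizerIn S Q), (χ.comp (Subgroup.inclusion hTA)) t ∈ normalizerIn S O₁ := fun t => hχval _
  obtain ⟨χT, hχTdef⟩ : ∃ χT : ↥(normalizerIn S Q) →* ↥(normalizerIn S O₁),
      χT = (χ.comp (Subgroup.inclusion hTA)).codRestrict (normalizerIn S O₁) hχT := ⟨_, rfl⟩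
  have hχTx : ∀ t : ↥(normalizerIn S Q), ((χT t : ↥(normalizerIn S O₁)) : Ω) = χ ⟨t, hTA t.2⟩ := by
    intro t
    rw [hχTdef]
    rfl
  have hχTinj : Function.Injective χT := by
    intro a b hab
    have h1 : χ ⟨a, hTA a.2⟩ = χ ⟨b, hTA b.2⟩ := by
      rw [← hχTx, ← hχTx, hab]
    have h2 := F.injective_of_mem hχ h1
    have h3 : ((⟨a, hTA a.2⟩ : ↥(normalizerIn S O)) : Ω) = ((⟨b, hTA b.2⟩ : ↥(normalizerIn S O)) : Ω) :=
      congrArg Subtype.val h2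
    exact Subtype.ext h3
  have hχTQ : ∀ x : ↥Q, ((χT ⟨x, hQT x.2⟩ : ↥(normalizerIn S O₁)) : Ω) = ((e' ⟨x, hQO x.2⟩ : ↥O₁) : Ω) := by
    intro x
    rw [hχTx]
    exact hχe ⟨x, hQO x.2⟩
  have hc₁ : FusCompat F ι₁ := fusCompat_of_isNormalizerSystem F N₁ hN₁ ι₁ hL₁.2.1
  have hcL : FusCompat F ι := fusCompat_of_isNormalizerSystem F N hN ι hL.2.1
  have hc₁' : FusCompat F (ι₁.comp χT) := by
    rw [hχTdef]
    exact fusCompat_comp F hTA χ hχ hχT ι₁ hc₁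
  have hinj₁' : Function.Injective (ι₁.comp χT) := hinjL₁.comp hχTinj
  -- the subgroup `M`
  have hQTn : (Q.subgroupOf (normalizerIn S Q)).Normal :=
    (Subgroup.normal_subgroupOf_iff_le_normalizer hQT).mpr hTN
  set QL : Subgroup L₁ := (Q.subgroupOf (normalizerIn S Q)).map (ι₁.comp χT) with hQL
  have hmemQL : ∀ h : L₁, h ∈ QL ↔ ∃ u : ↥Q, (ι₁.comp χT) ⟨u, hQT u.2⟩ = h := by
    intro h
    constructor
    · rintro ⟨u, hu, rfl⟩
      exact ⟨⟨u, hu⟩, rfl⟩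
    · rintro ⟨u, rfl⟩
      exact ⟨⟨u, hQT u.2⟩, u.2, rfl⟩
  have hmemM : ∀ t : ↥(normalizerIn S Q), (ι₁.comp χT) t ∈ Subgroup.normalizer (QL : Set L₁) := by
    intro t
    apply Subgroup.le_normalizer_map (ι₁.comp χT)
    refine ⟨t, ?_, rfl⟩
    rw [Subgroup.normalizer_eq_top]
    exact Subgroup.mem_top t
  obtain ⟨ιM, hιMdef⟩ : ∃ ιM : ↥(normalizerIn S Q) →* ↥(Subgroup.normalizer (QL : Set L₁)),
      ιM = (ι₁.comp χT).codRestrict _ hmemM := ⟨_, rfl⟩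
  have hιMx : ∀ t, ((ιM t : ↥(Subgroup.normalizer (QL : Set L₁))) : L₁) = (ι₁.comp χT) t := by
    intro t
    rw [hιMdef]
    rfl
  have hinjM : Function.Injective ιM := by
    intro a b hab
    apply hinj₁'
    rw [← hιMx, ← hιMx, hab]
  have hcM : FusCompat F ιM := by
    intro D hD φ hφ g h
    apply hc₁' D hD φ hφ (g : L₁)
    intro x
    have := congrArg Subtype.val (h x)
    rw [hιMx] at this
    rw [this]
    simp only [Subgroup.coe_mul, Subgroup.coe_inv, hιMx]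
  refine ⟨Subgroup.normalizer (QL : Set L₁), ?_⟩
  -- images of normal subgroups lie in the `p`-cores
  have hQnorm : N.IsNormal Q := isNormal_normalizerSystem F hQS N hN
  have hO₁norm : N₁.IsNormal O₁ := isNormal_normalizerSystem F hO₁S N₁ hN₁
  have hιQ : ∀ b : ↥(normalizerIn S Q), (b : Ω) ∈ Q → ι b ∈ Cfsg.pCore p L := by
    intro b hb
    have hn := normal_map_of_isNormal p N ι hL hQnorm
    have hp : IsPGroup p ↥((Q.subgroupOf (normalizerIn S Q)).map ι) := (hTp.to_subgroup _).map ι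
    exact Cfsg.Agent.Lib.le_pCore hn hp ⟨b, hb, rfl⟩
  have hιO₁ : ∀ b : ↥(normalizerIn S O₁), (b : Ω) ∈ O₁ → ι₁ b ∈ Cfsg.pCore p L₁ := by
    intro b hb
    have hn := normal_map_of_isNormal p N₁ ι₁ hL₁ hO₁norm
    have hp : IsPGroup p ↥((O₁.subgroupOf (normalizerIn S O₁)).map ι₁) := (hT₁p.to_subgroup _).map ι₁
    exact Cfsg.Agent.Lib.le_pCore hn hp ⟨b, hb, rfl⟩
  -- the image `B` of `Q` under `χ`
  have hQA : Q ≤ normalizerIn S O := hQT.trans hTA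
  have hχQ : χ.comp (Subgroup.inclusion hQA) ∈ F.Hom Q := Helper87.restrict_mem F hχ hQA
  set B : Subgroup Ω := (χ.comp (Subgroup.inclusion hQA)).range with hB
  have hQB : F.IsConj Q B := ⟨_, hχQ, rfl⟩
  have hBx : ∀ x : ↥Q, ((χT ⟨x, hQT x.2⟩ : ↥(normalizerIn S O₁)) : Ω) ∈ B := by
    intro x
    rw [hχTx]
    exact ⟨x, rfl⟩
  have hBO₁ : B ≤ O₁ := by
    rintro _ ⟨x, rfl⟩
    have := hχTQ x
    rw [hχTx] at this
    show χ ⟨x, hQA x.2⟩ ∈ O₁
    rw [this]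
    exact (e' _).2
  have hBT₁ : B ≤ normalizerIn S O₁ := hBO₁.trans hO₁T₁
  have hBc : N₁.IsCentric B := by
    refine ⟨hBT₁, fun B' hB' => ?_⟩
    obtain ⟨φ, hφ, hφr⟩ := hB'
    rw [hN₁ B] at hφ
    have hconj : F.IsConj Q B' := isConj_trans F hQB ⟨φ, hφ.1, hφr⟩
    exact (inf_le_inf_right _ hT₁S).trans (hQc.2 B' hconj)
  have := hfinL
  have := hfinL₁
  have hiso : ∃ φ : ↥(Subgroup.normalizer (QL : Set L₁)) ≃* L, ∀ s, φ (ιM s) = ι s := by
    apply exists_iso_of_induces p hS F hF hTS hQT hTN hQc ιM ι hinjM hinjL hcM hcL ?_ ?_ ?_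
      ((F.autGroup Q : Subgroup (MulAut ↥Q)) : Set (MulAut ↥Q)) ?_ ?_ ?_ ?_
    · -- index
      obtain ⟨PL, hPL⟩ := hL.2.2.1
      rw [← hPL]
      exact PL.not_dvd_index
    · -- centralizer in `M`
      intro g hg
      have hg' : ∀ b : ↥(normalizerIn S O₁), (b : Ω) ∈ B → (g : L₁) * ι₁ b = ι₁ b * (g : L₁) := by
        rintro b ⟨x, hx⟩
        have hb : b = χT ⟨x, hQT x.2⟩ := by
          apply Subtype.ext
          rw [hχTx]
          exact hx.symm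
        have h1 := congrArg Subtype.val (hg ⟨x, hQT x.2⟩ x.2)
        simp only [Subgroup.coe_mul, hιMx] at h1
        rw [hb]
        exact h1
      have hBO : ∀ b : ↥(normalizerIn S O₁), (b : Ω) ∈ B → ι₁ b ∈ Cfsg.pCore p L₁ :=
        fun b hb => hιO₁ b (hBO₁ hb)
      obtain ⟨z', hz'B, hz'g⟩ := exists_of_centralizes p hT₁p N₁ hN₁sat ι₁ hL₁ hBc hBO (g : L₁) hg'
      obtain ⟨x, hx⟩ := hz'B
      refine ⟨⟨x, hQT x.2⟩, x.2, ?_⟩
      apply Subtype.ext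
      rw [hιMx, ← hz'g]
      show ι₁ (χT ⟨x, hQT x.2⟩) = ι₁ z'
      congr 1
      apply Subtype.ext
      rw [hχTx]
      exact hx
    · -- centralizer in `L`
      intro g hg
      exact exists_of_centralizes p hTp N hNsat ι hL (isCentric_normalizerSystem F hQc N hN) hιQ g hg
    · -- `M` induces automorphisms of the system
      intro g₁
      apply exists_induces_of_normalizes F hQT ιM hinjM hcM g₁
      intro y
      have h1 : (ι₁.comp χT) ⟨y, hQT y.2⟩ ∈ QL := (hmemQL _).mpr ⟨y, rfl⟩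
      have h2 := (Subgroup.mem_normalizer_iff.mp g₁.2 _).mp h1
      obtain ⟨u, hu⟩ := (hmemQL _).mp h2
      refine ⟨u, Subtype.ext ?_⟩
      simp only [Subgroup.coe_mul, Subgroup.coe_inv, hιMx]
      exact hu.symm
    · -- every automorphism of the system is induced by `M`
      intro α hα
      obtain ⟨α', hα', hα'x⟩ := hext.2 α hα
      have hβ : MulAut.congr e' α' ∈ F.autGroup O₁ := by
        rw [← tr_autGroup F e' he']
        exact congr_mem_tr e' _ hα'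
      rw [← autGroup_normalizerSystem F hO₁S N₁ hN₁] at hβ
      have hβN := (mem_autGroup_iff N₁ hO₁T₁ _).mp hβ
      have hβval : ∀ y : ↥O₁, (O₁.subtype.comp ((MulAut.congr e' α' : MulAut ↥O₁) : ↥O₁ ≃* ↥O₁).toMonoidHom) y ∈
          normalizerIn S O₁ := fun y => hO₁T₁ ((MulAut.congr e' α') y).2
      obtain ⟨g₁, hg₁⟩ := (hrealL₁ O₁ hO₁T₁ _ hβval).mp hβN
      have key : ∀ x : ↥Q, (ι₁.comp χT) ⟨((α x : ↥Q) : Ω), hQT (α x).2⟩ =
          g₁ * (ι₁.comp χT) ⟨x, hQT x.2⟩ * g₁⁻¹ := by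
        intro x
        have h1 := hg₁ (e' ⟨x, hQO x.2⟩)
        have h2 : (⟨((e' ⟨x, hQO x.2⟩ : ↥O₁) : Ω), hO₁T₁ (e' ⟨x, hQO x.2⟩).2⟩ : ↥(normalizerIn S O₁)) =
            χT ⟨x, hQT x.2⟩ := Subtype.ext (hχTQ x).symm
        have h3 : (MulAut.congr e' α') (e' ⟨x, hQO x.2⟩) = e' ⟨((α x : ↥Q) : Ω), hQO (α x).2⟩ := by
          show e' (α' (e'.symm (e' ⟨x, hQO x.2⟩))) = _
          rw [MulEquiv.symm_apply_apply]
          congr 1
          exact Subtype.ext (hα'x x)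
        have h4 : (⟨(O₁.subtype.comp ((MulAut.congr e' α' : MulAut ↥O₁) : ↥O₁ ≃* ↥O₁).toMonoidHom)
            (e' ⟨x, hQO x.2⟩), hβval _⟩ : ↥(normalizerIn S O₁)) = χT ⟨((α x : ↥Q) : Ω), hQT (α x).2⟩ := by
          apply Subtype.ext
          show (((MulAut.congr e' α') (e' ⟨x, hQO x.2⟩) : ↥O₁) : Ω) = _
          rw [h3]
          exact (hχTQ (α x)).symm
        rw [h4, h2] at h1
        exact h1
      have hg₁M : g₁ ∈ Subgroup.normalizer (QL : Set L₁) := by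
        rw [Subgroup.mem_normalizer_iff]
        intro h
        constructor
        · intro hh
          obtain ⟨u, rfl⟩ := (hmemQL h).mp hh
          rw [← key u]
          exact (hmemQL _).mpr ⟨α u, rfl⟩
        · intro hh
          obtain ⟨v, hv⟩ := (hmemQL _).mp hh
          have h1 := key (α⁻¹ v)
          have h2 : (⟨((α (α⁻¹ v) : ↥Q) : Ω), hQT (α (α⁻¹ v)).2⟩ : ↥(normalizerIn S Q)) = ⟨v, hQT v.2⟩ := by
            apply Subtype.ext
            show ((α (α⁻¹ v) : ↥Q) : Ω) = v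
            rw [MulAut.apply_inv_self]
          rw [h2, hv] at h1
          have h3 : h = (ι₁.comp χT) ⟨((α⁻¹ v : ↥Q) : Ω), hQT (α⁻¹ v).2⟩ :=
            mul_left_cancel (mul_right_cancel h1)
          rw [h3]
          exact (hmemQL _).mpr ⟨α⁻¹ v, rfl⟩
      refine ⟨⟨g₁, hg₁M⟩, fun x => Subtype.ext ?_⟩
      simp only [Subgroup.coe_mul, Subgroup.coe_inv, hιMx]
      exact key x
    · -- `L` induces automorphisms of the system
      intro g₂
      apply exists_induces_of_normalizes F hQT ι hinjL hcL g₂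
      intro y
      have hn := normal_map_of_isNormal p N ι hL hQnorm
      have h1 : ι ⟨y, hQT y.2⟩ ∈ (Q.subgroupOf (normalizerIn S Q)).map ι := ⟨⟨y, hQT y.2⟩, y.2, rfl⟩
      obtain ⟨u, hu, hu'⟩ := hn.conj_mem _ h1 g₂
      exact ⟨⟨u, hu⟩, hu'.symm⟩
    · -- every automorphism of the system is induced by `L`
      intro α hα
      have hα' : α ∈ N.autGroup Q := by
        rw [autGroup_normalizerSystem F hQS N hN]
        exact hα
      have hαN := (mem_autGroup_iff N hQT _).mp hα'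
      have hαval : ∀ y : ↥Q, (Q.subtype.comp ((α : MulAut ↥Q) : ↥Q ≃* ↥Q).toMonoidHom) y ∈ normalizerIn S Q :=
        fun y => hQT (α y).2
      obtain ⟨g₂, hg₂⟩ := (hrealL Q hQT _ hαval).mp hαN
      exact ⟨g₂, fun x => hg₂ x⟩
  obtain ⟨φ, -⟩ := hiso
  exact ⟨φ⟩

end Cfsg.Agent.Helper84
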