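import Cfsg.Agent.Helper84.GroupModel1
import Cfsg.Agent.Helper84.ModelEmbed3
import Cfsg.Agent.Helper85.GroupFactor
import Cfsg.Agent.S5076
import Cfsg.Agent.S5100
import Cfsg.Agent.S5101
set_option autoImplicit false

/-! # The model of the normalizer system of a centric subgroup in the fusion system of a group -/

namespace Cfsg.Agent.Helper84

open Cfsg Cfsg.FusionSystem Cfsg.Agent.Helper85 Cfsg.Agent.Helper87 Cfsg.Agent.Helper88.FS

/-- **Models in group fusion systems**: for the fusion system of the finite group `G` on its Sylow `p`-subgroup `P`, and a fully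
normalized centric subgroup `Q`, every model of the normalizer system of `Q` is isomorphic to `N_G(Q) / O_{p'}(C_G(Q))`. -/
theorem exists_iso_quotient_of_model {G : Type*} [Group G] [Finite G] (p : ℕ) [Fact p.Prime] (P : Sylow p G)
    {Q : Subgroup G} (hQn : (groupFusionSystem (P : Subgroup G)).IsFullyNormalized Q)
    (hQc : (groupFusionSystem (P : Subgroup G)).IsCentric Q)
    (N : FusionSystem (normalizerIn (P : Subgroup G) Q))
    (hN : (groupFusionSystem (P : Subgroup G)).IsNormalizerSystem Q N)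
    {L : Type*} [Group L] (ι : ↥(normalizerIn (P : Subgroup G) Q) →* L) (hL : N.IsModel p L ι) :
    ∃ φ : (↥(Subgroup.normalizer (Q : Set G)) ⧸ centPrimeN p Q) ≃* L,
      ∀ s : ↥(normalizerIn (P : Subgroup G) Q), φ (QuotientGroup.mk ⟨(s : G), s.2.2⟩) = ι s := by
  have hfc0 := (fullyAutomized_fullyCentralized_of_fullyNormalized P.isPGroup' _
    (Cfsg.Agent.S5076.result p P) hQn).1
  have hQS : Q ≤ (P : Subgroup G) := hQn.1
  obtain ⟨RN, hRN⟩ := (Cfsg.Agent.S5100.result p P Q hQS).mp hQn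
  obtain ⟨RC, hRC⟩ := (Cfsg.Agent.S5101.result p P Q hQS).mp hfc0
  obtain ⟨F, hFdef⟩ : ∃ F : FusionSystem (P : Subgroup G), F = groupFusionSystem (P : Subgroup G) := ⟨_, rfl⟩
  rw [← hFdef] at hQn hQc hN
  have hS : IsPGroup p ↥(P : Subgroup G) := P.isPGroup'
  have hF : F.IsSaturated p := by
    rw [hFdef]
    exact Cfsg.Agent.S5076.result p P
  have hTS : normalizerIn (P : Subgroup G) Q ≤ (P : Subgroup G) := inf_le_left
  have hQT : Q ≤ normalizerIn (P : Subgroup G) Q := le_normalizerIn hQS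
  have hTN : normalizerIn (P : Subgroup G) Q ≤ Subgroup.normalizer (Q : Set G) := inf_le_right
  have hfinT : Finite ↥(normalizerIn (P : Subgroup G) Q) := finite_of_le hTS
  have hTp : IsPGroup p ↥(normalizerIn (P : Subgroup G) Q) := hS.to_le hTS
  have hNsat := Cfsg.Agent.S5098.result p hS F hF Q hQn N hN
  have hcen : centralizerIn (P : Subgroup G) Q ≤ Q := hQc.2 Q (isConj_refl F hQS)
  have hRCQ : ∀ r ∈ (RC : Subgroup ↥(Subgroup.centralizer (Q : Set G))), (r : G) ∈ Q := by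
    intro r hr
    rw [hRC] at hr
    exact hcen hr
  have hQp : ∀ x ∈ Q, ∃ k : ℕ, x ^ p ^ k = 1 := by
    intro x hx
    obtain ⟨k, hk⟩ := hS ⟨x, hQS hx⟩
    exact ⟨k, congrArg Subtype.val hk⟩
  have hfinL : Finite L := hL.1
  have hinjL : Function.Injective ι := hL.2.1.1
  have hrealL := hL.2.1.2
  -- the map into the quotient
  obtain ⟨ι₁, hι₁def⟩ : ∃ ι₁ : ↥(normalizerIn (P : Subgroup G) Q) →*
      ↥(Subgroup.normalizer (Q : Set G)) ⧸ centPrimeN p Q,
      ι₁ = (QuotientGroup.mk' (centPrimeN p Q)).comp (Subgroup.inclusion hTN) := ⟨_, rfl⟩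
  have hι₁x : ∀ t : ↥(normalizerIn (P : Subgroup G) Q),
      ι₁ t = QuotientGroup.mk (⟨(t : G), hTN t.2⟩ : ↥(Subgroup.normalizer (Q : Set G))) := by
    intro t
    rw [hι₁def]
    rfl
  have hmk_eq : ∀ a b : ↥(Subgroup.normalizer (Q : Set G)),
      (QuotientGroup.mk a : ↥(Subgroup.normalizer (Q : Set G)) ⧸ centPrimeN p Q) = QuotientGroup.mk b ↔
      (a : G)⁻¹ * (b : G) ∈ centPrime p Q := by
    intro a b
    rw [QuotientGroup.eq, mem_centPrimeN]
    rfl
  have hinj₁ : Function.Injective ι₁ := by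
    intro a b hab
    rw [hι₁x, hι₁x, hmk_eq] at hab
    obtain ⟨k, hk⟩ := hTp (a⁻¹ * b)
    have h2 : ((a : G)⁻¹ * (b : G)) ^ p ^ k = 1 := by
      have h0 := congrArg Subtype.val hk
      exact h0
    have h3 := eq_one_of_mem_centPrime hab h2
    apply Subtype.ext
    have h4 : (a : G) * ((a : G)⁻¹ * (b : G)) = (a : G) * 1 := by rw [h3]
    rw [mul_inv_cancel_left, mul_one] at h4
    exact h4.symm
  have hc₁ : FusCompat F ι₁ := by
    intro D hD φ hφ gbar h
    obtain ⟨g, rfl⟩ := QuotientGroup.mk_surjective gbar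
    have hDM : D ≤ Subgroup.normalizer (Q : Set G) := hD.trans hTN
    have hDp : IsPGroup p ↥D := hS.to_le (hD.trans hTS)
    have hAp : IsPGroup p ↥(cj g (D.subgroupOf (Subgroup.normalizer (Q : Set G)))) :=
      (hDp.comap_of_injective _ (Subgroup.subtype_injective _)).map _
    -- the image of `x` in the quotient
    have key : ∀ x : ↥D, ((φ x)⁻¹ * ((g : G) * (x : G) * (g : G)⁻¹)) ∈ centPrime p Q := by
      intro x
      have h1 := h x
      rw [hι₁x, hι₁x] at h1
      have h2 : (QuotientGroup.mk g : ↥(Subgroup.normalizer (Q : Set G)) ⧸ centPrimeN p Q) *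
          QuotientGroup.mk (⟨((⟨(x : G), hD x.2⟩ : ↥(normalizerIn (P : Subgroup G) Q)) : G), hTN (hD x.2)⟩ :
            ↥(Subgroup.normalizer (Q : Set G))) * (QuotientGroup.mk g)⁻¹ =
          QuotientGroup.mk (g * ⟨(x : G), hDM x.2⟩ * g⁻¹) := rfl
      rw [h2, hmk_eq] at h1
      exact h1
    have hle : cj g (D.subgroupOf (Subgroup.normalizer (Q : Set G))) ≤
        (RN : Subgroup ↥(Subgroup.normalizer (Q : Set G))) ⊔ centPrimeN p Q := by
      rintro _ ⟨x, hx, rfl⟩
      have hxD : (x : G) ∈ D := hx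
      have hk := key ⟨x, hxD⟩
      have hfT : φ ⟨x, hxD⟩ ∈ normalizerIn (P : Subgroup G) Q := hφ ⟨x, hxD⟩
      have hf : (⟨φ ⟨x, hxD⟩, hTN hfT⟩ : ↥(Subgroup.normalizer (Q : Set G))) ∈
          (RN : Subgroup ↥(Subgroup.normalizer (Q : Set G))) := by
        rw [hRN]
        exact hfT
      have hk' : (⟨φ ⟨x, hxD⟩, hTN hfT⟩ : ↥(Subgroup.normalizer (Q : Set G)))⁻¹ * (g * x * g⁻¹) ∈
          centPrimeN p Q := by
        rw [mem_centPrimeN]
        exact hk
      have e : (MulAut.conj g).toMonoidHom x =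
          (⟨φ ⟨x, hxD⟩, hTN hfT⟩ : ↥(Subgroup.normalizer (Q : Set G))) *
            ((⟨φ ⟨x, hxD⟩, hTN hfT⟩ : ↥(Subgroup.normalizer (Q : Set G)))⁻¹ * (g * x * g⁻¹)) := by
        rw [mul_inv_cancel_left]
        rfl
      rw [e]
      exact Subgroup.mul_mem_sup hf hk'
    obtain ⟨k, hk, hkA⟩ := exists_cj_le_of_le_sup_normal RN (centPrimeN p Q) hAp hle
    rw [hFdef]
    refine ⟨hD.trans hTS, fun x => hTS (hφ x), ((k * g : ↥(Subgroup.normalizer (Q : Set G))) : G), fun x => ?_⟩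
    have hxM : (⟨(x : G), hDM x.2⟩ : ↥(Subgroup.normalizer (Q : Set G))) ∈
        D.subgroupOf (Subgroup.normalizer (Q : Set G)) := x.2
    have hy : k * (g * ⟨(x : G), hDM x.2⟩ * g⁻¹) * k⁻¹ ∈ (RN : Subgroup ↥(Subgroup.normalizer (Q : Set G))) :=
      hkA (conj_mem_cj (conj_mem_cj hxM))
    rw [hRN] at hy
    have hyT : ((k * (g * ⟨(x : G), hDM x.2⟩ * g⁻¹) * k⁻¹ : ↥(Subgroup.normalizer (Q : Set G))) : G) ∈
        normalizerIn (P : Subgroup G) Q := hy
    have hkK : (k : G) ∈ centPrime p Q := (mem_centPrimeN p Q k).mp hk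
    -- same image in the quotient
    have h5 : ι₁ ⟨_, hyT⟩ = ι₁ ⟨φ x, hφ x⟩ := by
      rw [hι₁x, hι₁x, hmk_eq]
      have h6 := key x
      -- `(k c k⁻¹)⁻¹ φ(x) = k (c⁻¹ φ x) ((φ x)⁻¹ k⁻¹ (φ x))`
      have hφN : φ x ∈ Subgroup.normalizer (Q : Set G) := hTN (hφ x)
      have h7 : (φ x)⁻¹ * (k : G)⁻¹ * (φ x)⁻¹⁻¹ ∈ centPrime p Q :=
        conj_mem_centPrime p Q (Subgroup.inv_mem _ hφN) (Subgroup.inv_mem _ hkK)
      have h8 : ((φ x)⁻¹ * ((g : G) * (x : G) * (g : G)⁻¹))⁻¹ ∈ centPrime p Q := Subgroup.inv_mem _ h6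
      have e : (((k * (g * ⟨(x : G), hDM x.2⟩ * g⁻¹) * k⁻¹ : ↥(Subgroup.normalizer (Q : Set G))) : G))⁻¹ * φ x =
          (k : G) * (((φ x)⁻¹ * ((g : G) * (x : G) * (g : G)⁻¹))⁻¹ * ((φ x)⁻¹ * (k : G)⁻¹ * (φ x)⁻¹⁻¹)) := by
        show ((k : G) * ((g : G) * (x : G) * (g : G)⁻¹) * (k : G)⁻¹)⁻¹ * φ x = _
        group
      rw [e]
      exact Subgroup.mul_mem _ hkK (Subgroup.mul_mem _ h8 h7)
    have h9 := congrArg Subtype.val (hinj₁ h5)
    have h10 : φ x = ((k * (g * ⟨(x : G), hDM x.2⟩ * g⁻¹) * k⁻¹ : ↥(Subgroup.normalizer (Q : Set G))) : G) :=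
      h9.symm
    rw [h10]
    show (k : G) * ((g : G) * (x : G) * (g : G)⁻¹) * (k : G)⁻¹ = (k : G) * (g : G) * (x : G) * ((k : G) * (g : G))⁻¹
    group
  have hcL : FusCompat F ι := fusCompat_of_isNormalizerSystem F N hN ι hL.2.1
  have hQnorm : N.IsNormal Q := isNormal_normalizerSystem F hQS N hN
  have hnL := normal_map_of_isNormal p N ι hL hQnorm
  have hιQ : ∀ b : ↥(normalizerIn (P : Subgroup G) Q), (b : G) ∈ Q → ι b ∈ Cfsg.pCore p L := by
    intro b hb
    have hp : IsPGroup p ↥((Q.subgroupOf (normalizerIn (P : Subgroup G) Q)).map ι) := (hTp.to_subgroup _).map ι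
    exact Cfsg.Agent.Lib.le_pCore hnL hp ⟨b, hb, rfl⟩
  have := hfinL
  have hiso : ∃ φ : (↥(Subgroup.normalizer (Q : Set G)) ⧸ centPrimeN p Q) ≃* L, ∀ s, φ (ι₁ s) = ι s := by
    apply exists_iso_of_induces p hS F hF hTS hQT hTN hQc ι₁ ι hinj₁ hinjL hc₁ hcL ?_ ?_ ?_
      ((F.autGroup Q : Subgroup (MulAut ↥Q)) : Set (MulAut ↥Q)) ?_ ?_ ?_ ?_
    · -- index
      obtain ⟨PL, hPL⟩ := hL.2.2.1
      rw [← hPL]
      exact PL.not_dvd_index
    · -- centralizer in the quotient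
      intro gbar hg
      obtain ⟨g, rfl⟩ := QuotientGroup.mk_surjective gbar
      have hgC : (g : G) ∈ Subgroup.centralizer (Q : Set G) := by
        rw [Subgroup.mem_centralizer_iff]
        intro u hu
        have h1 := hg ⟨u, hQT hu⟩ hu
        rw [hι₁x] at h1
        have h2 : (QuotientGroup.mk g : ↥(Subgroup.normalizer (Q : Set G)) ⧸ centPrimeN p Q) *
            QuotientGroup.mk (⟨u, hTN (hQT hu)⟩ : ↥(Subgroup.normalizer (Q : Set G))) =
            QuotientGroup.mk (g * ⟨u, hTN (hQT hu)⟩) := rfl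
        have h3 : (QuotientGroup.mk (⟨u, hTN (hQT hu)⟩ : ↥(Subgroup.normalizer (Q : Set G))) :
            ↥(Subgroup.normalizer (Q : Set G)) ⧸ centPrimeN p Q) * QuotientGroup.mk g =
            QuotientGroup.mk (⟨u, hTN (hQT hu)⟩ * g) := rfl
        rw [h2, h3, hmk_eq] at h1
        -- `(g u)⁻¹ (u g) = u⁻¹ (g⁻¹ u g)` lies in `Q` and in `O_{p'}(C_G(Q))`
        have h4 : ((g : G) * u)⁻¹ * (u * (g : G)) ∈ centPrime p Q := h1
        have hgu : (g : G)⁻¹ * u * (g : G)⁻¹⁻¹ ∈ Q :=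
          (Subgroup.mem_normalizer_iff.mp (Subgroup.inv_mem _ g.2) u).mp hu
        have h5 : ((g : G) * u)⁻¹ * (u * (g : G)) ∈ Q := by
          have e : ((g : G) * u)⁻¹ * (u * (g : G)) = u⁻¹ * ((g : G)⁻¹ * u * (g : G)⁻¹⁻¹) := by group
          rw [e]
          exact Q.mul_mem (Q.inv_mem hu) hgu
        obtain ⟨k, hk⟩ := hQp _ h5
        have h6 := eq_one_of_mem_centPrime h4 hk
        have h7 : (g : G) * u = u * (g : G) := by
          have := congrArg (fun t => (g : G) * u * t) h6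
          simp only [mul_one] at this
          rw [← this]
          group
        exact h7.symm
      obtain ⟨z, hz, k, hk, hzk⟩ := exists_mul_of_mem_centralizer RC hRCQ hgC
      refine ⟨⟨z, hQT hz⟩, hz, ?_⟩
      rw [hι₁x, hmk_eq]
      have e : z⁻¹ * (g : G) = k := by
        rw [hzk]
        group
      rw [e]
      exact hk
    · -- centralizer in `L`
      intro g hg
      exact exists_of_centralizes p hTp N hNsat ι hL (isCentric_normalizerSystem F hQc N hN) hιQ g hg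
    · -- the quotient induces automorphisms of the system
      intro gbar
      obtain ⟨g, rfl⟩ := QuotientGroup.mk_surjective gbar
      refine ⟨conjAut Q (g : G) g.2, ?_, fun x => ?_⟩
      · show conjAut Q (g : G) g.2 ∈ F.autGroup Q
        rw [mem_autGroup_iff F hQS]
        unfold IsIso
        rw [hFdef]
        exact ⟨hQS, fun x => hQS (conjAut Q (g : G) g.2 x).2, (g : G), fun x => rfl⟩
      · rw [hι₁x, hι₁x]
        rfl
    · -- every automorphism of the system is induced by the quotient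
      intro α hα
      have hα' : α ∈ F.autGroup Q := hα
      rw [mem_autGroup_iff F hQS] at hα'
      unfold IsIso at hα'
      rw [hFdef] at hα'
      obtain ⟨-, -, g, hg⟩ := hα'
      have hgx : ∀ x : ↥Q, ((α x : ↥Q) : G) = g * x * g⁻¹ := fun x => hg x
      have hgN : g ∈ Subgroup.normalizer (Q : Set G) := mem_normalizer_of_conj_eq α g hgx
      refine ⟨QuotientGroup.mk ⟨g, hgN⟩, fun x => ?_⟩
      rw [hι₁x, hι₁x]
      have e : (⟨((α x : ↥Q) : G), hTN (hQT (α x).2)⟩ : ↥(Subgroup.normalizer (Q : Set G))) =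
          ⟨g, hgN⟩ * ⟨(x : G), hTN (hQT x.2)⟩ * ⟨g, hgN⟩⁻¹ := Subtype.ext (hgx x)
      rw [e]
      rfl
    · -- `L` induces automorphisms of the system
      intro g₂
      apply exists_induces_of_normalizes F hQT ι hinjL hcL g₂
      intro y
      have h1 : ι ⟨y, hQT y.2⟩ ∈ (Q.subgroupOf (normalizerIn (P : Subgroup G) Q)).map ι :=
        ⟨⟨y, hQT y.2⟩, y.2, rfl⟩
      obtain ⟨u, hu, hu'⟩ := hnL.conj_mem _ h1 g₂
      exact ⟨⟨u, hu⟩, hu'.symm⟩
    · -- every automorphism of the system is induced by `L`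
      intro α hα
      have hα' : α ∈ N.autGroup Q := by
        rw [autGroup_normalizerSystem F hQS N hN]
        exact hα
      have hαN := (mem_autGroup_iff N hQT _).mp hα'
      have hαval : ∀ y : ↥Q, (Q.subtype.comp ((α : MulAut ↥Q) : ↥Q ≃* ↥Q).toMonoidHom) y ∈
          normalizerIn (P : Subgroup G) Q := fun y => hQT (α y).2
      obtain ⟨g₂, hg₂⟩ := (hrealL Q hQT _ hαval).mp hαN
      exact ⟨g₂, fun x => hg₂ x⟩
  obtain ⟨φ, hφ⟩ := hiso
  refine ⟨φ, fun s => ?_⟩
  rw [← hφ s, hι₁x]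

end Cfsg.Agent.Helper84
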