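import Cfsg.Agent.Helper84.KNorm
set_option autoImplicit false

/-! # Local forms (no saturation hypothesis) of two lemmas on saturated fusion systems -/

namespace Cfsg.Agent.Helper84

open Cfsg Cfsg.FusionSystem Cfsg.Agent.Helper87

variable {Ω : Type*} [Group Ω] {S : Subgroup Ω}

/-- Local form of AKO Proposition I.5.2(a): a fully `K`-normalized subgroup `Q` having a conjugate that is fully centralized, fully
automized and receptive is fully centralized and `K`-automized. (No saturation hypothesis on the system.) -/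
theorem fullyCentralized_isKAutomized_of_isFullyKNormalized_of_conj [Finite S] {p : ℕ} [Fact p.Prime]
    (hS : IsPGroup p S) (F : FusionSystem S) {Q : Subgroup Ω} (K : Subgroup (MulAut Q))
    (hK : IsFullyKNormalized F Q K) {Q₀ : Subgroup Ω} (hconj : F.IsConj Q Q₀) (hQ₀c : F.IsFullyCentralized Q₀)
    (hQ₀a : F.IsFullyAutomized p Q₀) (hQ₀r : F.IsReceptive Q₀) :
    F.IsFullyCentralized Q ∧ IsKAutomized F p Q K := by
  have hQS := hK.1
  obtain ⟨e₀, he₀⟩ := (isConj_iff F Q Q₀).mp hconj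
  have hQ₀S := hQ₀r.1
  have : Finite (MulAut Q₀) := finite_mulAut_of_le hQ₀S
  have hidx : ¬ p ∣ (autInducedBy S Q₀).relIndex (F.autGroup Q₀) := by
    obtain ⟨-, T, hT⟩ := hQ₀a
    have h1 := T.not_dvd_index
    rw [hT] at h1
    exact h1
  obtain ⟨α, hαA, hα⟩ := exists_conj_inf_relIndex (F.autGroup Q₀) (autInducedBy S Q₀) (tr e₀ K)
    (autInducedBy_le_autGroup F hQ₀S) (isPGroup_autInducedBy hS Q₀) hidx
  have hcc : (MulAut.conj α).toMonoidHom = (MulAut.congr (α : Q₀ ≃* Q₀)).toMonoidHom := by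
    apply MonoidHom.ext
    intro f
    show MulAut.conj α f = MulAut.congr (α : Q₀ ≃* Q₀) f
    rw [congr_self', MulAut.conj_apply]
  have htr : (tr e₀ K).map (MulAut.conj α).toMonoidHom = tr (e₀.trans (α : Q₀ ≃* Q₀)) K := by
    rw [← tr_trans, hcc]
    rfl
  rw [htr] at hα
  have he : IsIso F (e₀.trans (α : Q₀ ≃* Q₀)) := he₀.trans ((mem_autGroup_iff F hQ₀S α).mp hαA)
  generalize e₀.trans (α : Q₀ ≃* Q₀) = e at hα he
  have haut' : IsKAutomized F p Q₀ (tr e K) := hα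
  obtain ⟨χ, hχ, φ, hφ, hφQ, hφN⟩ := exists_extension_NK hS F K e he hQ₀r haut'
  have hcard := hK.2 Q₀ e he
  have : Finite (NK S Q₀ (tr e K)) := finite_NK Q₀ _
  have : Finite (NK S Q K) := finite_NK Q K
  have hinj : Function.Injective
      (fun g : NK S Q K => (⟨φ ⟨g, le_sup_left (b := Q) g.2⟩, hφN _ g.2⟩ : NK S Q₀ (tr e K))) := by
    intro a b hab
    have h1 := F.injective_of_mem hφ (congrArg Subtype.val hab)
    exact Subtype.ext (congrArg (fun z : ↥(NK S Q K ⊔ Q) => (z : Ω)) h1)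
  have hbij := hinj.bijective_of_nat_card_le hcard
  have hsurj : ∀ h ∈ NK S Q₀ (tr e K), ∃ g : ↥(NK S Q K ⊔ Q), (g : Ω) ∈ NK S Q K ∧ φ g = h := by
    intro h hh
    obtain ⟨g, hg⟩ := hbij.2 ⟨h, hh⟩
    exact ⟨⟨g, le_sup_left (b := Q) g.2⟩, g.2, congrArg Subtype.val hg⟩
  -- the isomorphism `ε = e ∘ χ`
  have hε : IsIso F ((χ : Q ≃* Q).trans e) := ((mem_autGroup_iff F hQS χ).mp hχ.2).trans he
  have hεK : tr ((χ : Q ≃* Q).trans e) K = tr e K := by rw [← tr_trans, tr_of_mem K hχ.1]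
  have hφQ' : ∀ x : Q, φ (Subgroup.inclusion le_sup_right x) = ((χ : Q ≃* Q).trans e) x := hφQ
  have key : ∀ (g : ↥(NK S Q K ⊔ Q)) (hg : (g : Ω) ∈ Subgroup.normalizer (Q : Set Ω)),
      ∃ h : φ g ∈ Subgroup.normalizer (Q₀ : Set Ω),
        conjAut Q₀ (φ g) h = MulAut.congr ((χ : Q ≃* Q).trans e) (conjAut Q g hg) :=
    fun g hg => conjAut_map φ le_sup_right _ hφQ' g hg
  generalize (χ : Q ≃* Q).trans e = ε at hε hεK hφQ' key
  constructor
  · -- fully centralized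
    refine ⟨hQS, fun Q'' hQ'' => ?_⟩
    have h1 : Nat.card (centralizerIn S Q'') ≤ Nat.card (centralizerIn S Q₀) :=
      hQ₀c.2 Q'' (isConj_trans F (isConj_symm F hconj) hQ'')
    refine h1.trans ?_
    have : Finite (centralizerIn S Q) := finite_of_le inf_le_left
    have hCN : ∀ g ∈ centralizerIn S Q, g ∈ NK S Q K := by
      intro g hg
      rw [mem_NK_iff]
      have hgN : g ∈ Subgroup.normalizer (Q : Set Ω) := Subgroup.centralizer_le_normalizer (Q : Set Ω) hg.2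
      refine ⟨hg.1, hgN, ?_⟩
      rw [(conjAut_eq_one_iff Q g hgN).mpr hg.2]
      exact K.one_mem
    have hval : ∀ g : centralizerIn S Q, φ ⟨g, le_sup_left (b := Q) (hCN g g.2)⟩ ∈ centralizerIn S Q₀ := by
      intro g
      refine ⟨(F.le_of_mem hφ).2 _, ?_⟩
      have hgN : (g : Ω) ∈ Subgroup.normalizer (Q : Set Ω) := Subgroup.centralizer_le_normalizer (Q : Set Ω) g.2.2
      obtain ⟨h, hh⟩ := key ⟨g, le_sup_left (b := Q) (hCN g g.2)⟩ hgN
      apply (conjAut_eq_one_iff Q₀ _ h).mp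
      rw [hh]
      have : conjAut Q (g : Ω) hgN = 1 := (conjAut_eq_one_iff Q g hgN).mpr g.2.2
      rw [this, map_one]
    refine Nat.card_le_card_of_surjective (fun g : centralizerIn S Q => (⟨_, hval g⟩ : centralizerIn S Q₀)) ?_
    rintro ⟨h, hh⟩
    have hhN : h ∈ Subgroup.normalizer (Q₀ : Set Ω) := Subgroup.centralizer_le_normalizer (Q₀ : Set Ω) hh.2
    have hhNK : h ∈ NK S Q₀ (tr e K) := by
      rw [mem_NK_iff]
      refine ⟨hh.1, hhN, ?_⟩
      rw [(conjAut_eq_one_iff Q₀ h hhN).mpr hh.2]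
      exact Subgroup.one_mem _
    obtain ⟨g, hgNK, hgh⟩ := hsurj h hhNK
    obtain ⟨hgS, hgN, -⟩ := (mem_NK_iff S Q K g).mp hgNK
    obtain ⟨h', hh'⟩ := key g hgN
    have h2 : conjAut Q₀ (φ g) h' = 1 := by
      rw [conjAut_congr Q₀ hgh h' hhN]
      exact (conjAut_eq_one_iff Q₀ h hhN).mpr hh.2
    rw [hh'] at h2
    have h3 : conjAut Q (g : Ω) hgN = 1 := by
      have := (MulAut.congr ε).injective (h2.trans (map_one _).symm)
      exact this
    have hgC : (g : Ω) ∈ centralizerIn S Q := ⟨hgS, (conjAut_eq_one_iff Q g hgN).mp h3⟩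
    refine ⟨⟨g, hgC⟩, Subtype.ext ?_⟩
    exact hgh
  · -- `K`-automized
    have h1 : tr ε (K ⊓ F.autGroup Q) = tr e K ⊓ F.autGroup Q₀ := by
      rw [tr_inf, tr_autGroup F ε hε, hεK]
    have h2 : tr ε (K ⊓ autInducedBy S Q) = tr e K ⊓ autInducedBy S Q₀ := by
      ext β
      constructor
      · rintro ⟨γ, ⟨hγK, hγS⟩, rfl⟩
        obtain ⟨g, hgS, hgx⟩ := (mem_autInducedBy_iff S Q γ).mp hγS
        have hgN : g ∈ Subgroup.normalizer (Q : Set Ω) := mem_normalizer_of_conj_eq γ g hgx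
        have hγ : γ = conjAut Q g hgN := eq_conjAut_of_conj_eq γ g hgx
        have hgNK : g ∈ NK S Q K := by
          rw [mem_NK_iff]
          exact ⟨hgS, hgN, hγ ▸ hγK⟩
        obtain ⟨h, hh⟩ := key ⟨g, le_sup_left (b := Q) hgNK⟩ hgN
        refine ⟨?_, ?_⟩
        · rw [← hεK]
          exact congr_mem_tr ε K hγK
        · show MulAut.congr ε γ ∈ autInducedBy S Q₀
          rw [hγ, ← hh]
          exact conjAut_mem_autInducedBy S Q₀ ((F.le_of_mem hφ).2 _) h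
      · rintro ⟨hβK, hβS⟩
        obtain ⟨h, hhS, hhx⟩ := (mem_autInducedBy_iff S Q₀ β).mp hβS
        have hhN : h ∈ Subgroup.normalizer (Q₀ : Set Ω) := mem_normalizer_of_conj_eq β h hhx
        have hβ : β = conjAut Q₀ h hhN := eq_conjAut_of_conj_eq β h hhx
        have hhNK : h ∈ NK S Q₀ (tr e K) := by
          rw [mem_NK_iff]
          exact ⟨hhS, hhN, hβ ▸ hβK⟩
        obtain ⟨g, hgNK, hgh⟩ := hsurj h hhNK
        obtain ⟨hgS, hgN, hgK⟩ := (mem_NK_iff S Q K g).mp hgNK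
        obtain ⟨h', hh'⟩ := key g hgN
        refine ⟨conjAut Q (g : Ω) hgN, ⟨hgK, conjAut_mem_autInducedBy S Q hgS hgN⟩, ?_⟩
        show MulAut.congr ε (conjAut Q (g : Ω) hgN) = β
        rw [← hh', hβ]
        exact conjAut_congr Q₀ hgh h' hhN
    unfold IsKAutomized at haut' ⊢
    rw [← h1, ← h2] at haut'
    unfold tr at haut'
    rwa [Subgroup.relIndex_map_map_of_injective _ _ (MulAut.congr ε).injective] at haut'


/-- Local form (proof copied from `Helper87.receptive_of_fullyCentralized`): a fully centralized subgroup having a conjugate that is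
fully automized and receptive is receptive. (No saturation hypothesis on the system.) -/
theorem receptive_of_fullyCentralized_of_conj [Finite S] {p : ℕ} [Fact p.Prime] (hS : IsPGroup p S)
    (F : FusionSystem S) {P : Subgroup Ω} (hPc : F.IsFullyCentralized P) {R : Subgroup Ω} (hPR : F.IsConj P R)
    (hRa : F.IsFullyAutomized p R) (hRr : F.IsReceptive R) :
    F.IsReceptive P := by
  have hPS : P ≤ S := hPc.1
  obtain ⟨e, he⟩ := (isConj_iff F P R).mp hPR
  obtain ⟨φ, hφ, e', he', hφx, hvalN, hvalC, hrefl⟩ := exists_extension_normalizerIn' hS F hRa hRr e he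
  have hPN : P ≤ normalizerIn S P := le_normalizerIn hPS
  have hincl : ∀ x : P, φ (Subgroup.inclusion hPN x) = e' x := fun x => hφx x
  -- `φ` maps `C_S(P)` onto `C_S(R)`
  have hCsurj : ∀ d ∈ centralizerIn S R, ∃ c : normalizerIn S P, (c : Ω) ∈ centralizerIn S P ∧ φ c = d := by
    have hcard : Nat.card (centralizerIn S R) ≤ Nat.card (centralizerIn S P) := hPc.2 R hPR
    have : Finite (centralizerIn S R) := finite_of_le inf_le_left
    have hinj : Function.Injective (fun x : centralizerIn S P =>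
        (⟨φ ⟨x, centralizerIn_le_normalizerIn S P x.2⟩, hvalC _ x.2⟩ : centralizerIn S R)) := by
      intro a b hab
      have := F.injective_of_mem hφ (congrArg Subtype.val hab)
      exact Subtype.ext (congrArg (fun z : normalizerIn S P => (z : Ω)) this)
    have hbij := hinj.bijective_of_nat_card_le hcard
    intro d hd
    obtain ⟨c, hc⟩ := hbij.2 ⟨d, hd⟩
    exact ⟨⟨c, centralizerIn_le_normalizerIn S P c.2⟩, c.2, congrArg Subtype.val hc⟩
  refine ⟨hPS, fun Q ψ hψ hrange => ?_⟩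
  have hf := isIso_isoOfRange F hψ hrange
  set f := isoOfRange F hψ hrange with hf_def
  have hfx : ∀ x : Q, ((f x : P) : Ω) = ψ x := fun x => rfl
  have hQS : Q ≤ S := hf.le_left
  have hψ' : IsIso F (f.trans e') := hf.trans he'
  have hrange' := range_subtype_comp_equiv (f.trans e')
  -- Step 1: the extender of `ψ` lies in the extender of `ψ'`, with an explicit witness
  have hstep1 : ∀ g ∈ extender S Q ψ, ∃ h : normalizerIn S P,
      ∀ (x : Q) (hx : g * (x : Ω) * g⁻¹ ∈ Q), ψ ⟨g * x * g⁻¹, hx⟩ = h * ψ x * (h : Ω)⁻¹ := by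
    intro g hg
    obtain ⟨hgS, hgN, h, hhS, hhx⟩ := (mem_extender_iff S Q ψ g).mp hg
    refine ⟨⟨h, hhS, ?_⟩, hhx⟩
    apply mem_normalizer_of_conj_mem_of_inv_conj_mem
    · intro y hy
      have hgx : g * ((f.symm ⟨y, hy⟩ : Q) : Ω) * g⁻¹ ∈ Q := (Subgroup.mem_normalizer_iff.mp hgN _).mp (f.symm ⟨y, hy⟩).2
      have := hhx (f.symm ⟨y, hy⟩) hgx
      rw [← hfx, ← hfx, MulEquiv.apply_symm_apply] at this
      rw [← this]
      exact (f _).2
    · intro y hy
      have hgN' : g⁻¹ ∈ Subgroup.normalizer (Q : Set Ω) := Subgroup.inv_mem _ hgN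
      have hgx : g⁻¹ * ((f.symm ⟨y, hy⟩ : Q) : Ω) * g⁻¹⁻¹ ∈ Q :=
        (Subgroup.mem_normalizer_iff.mp hgN' _).mp (f.symm ⟨y, hy⟩).2
      have hgx' : g * ((⟨_, hgx⟩ : Q) : Ω) * g⁻¹ ∈ Q := by
        have : g * (g⁻¹ * ((f.symm ⟨y, hy⟩ : Q) : Ω) * g⁻¹⁻¹) * g⁻¹ = (f.symm ⟨y, hy⟩ : Q) := by group
        show g * (g⁻¹ * ((f.symm ⟨y, hy⟩ : Q) : Ω) * g⁻¹⁻¹) * g⁻¹ ∈ Q
        rw [this]; exact (f.symm ⟨y, hy⟩).2
      have := hhx ⟨_, hgx⟩ hgx'
      have e1 : (⟨g * ((⟨_, hgx⟩ : Q) : Ω) * g⁻¹, hgx'⟩ : Q) = f.symm ⟨y, hy⟩ := by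
        apply Subtype.ext
        show g * (g⁻¹ * ((f.symm ⟨y, hy⟩ : Q) : Ω) * g⁻¹⁻¹) * g⁻¹ = _
        group
      rw [e1, ← hfx, MulEquiv.apply_symm_apply] at this
      have h2 : h⁻¹ * y * h = ψ ⟨_, hgx⟩ := by
        have h3 : y = h * ψ ⟨_, hgx⟩ * h⁻¹ := this
        calc h⁻¹ * y * h = h⁻¹ * (h * ψ ⟨_, hgx⟩ * h⁻¹) * h := by rw [← h3]
          _ = _ := by group
      rw [h2, ← hfx]
      exact (f _).2
  have hψ'formula : ∀ x : Q, (R.subtype.comp (f.trans e').toMonoidHom) x = φ ⟨ψ x, hPN (hfx x ▸ (f x).2)⟩ := by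
    intro x
    show ((e' (f x) : R) : Ω) = _
    rw [← hincl]
    rfl
  have hle : extender S Q ψ ≤ extender S Q (R.subtype.comp (f.trans e').toMonoidHom) := by
    intro g hg
    obtain ⟨h, hh⟩ := hstep1 g hg
    obtain ⟨hgS, hgN, -⟩ := (mem_extender_iff S Q ψ g).mp hg
    rw [mem_extender_iff]
    refine ⟨hgS, hgN, φ h, (F.le_of_mem hφ).2 h, fun x hx => ?_⟩
    rw [hψ'formula, hψ'formula, ← map_inv, ← map_mul, ← map_mul]
    congr 1
    apply Subtype.ext
    exact hh x hx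
  -- Step 2: extend `ψ'`
  obtain ⟨χ', hχ', hχ'x⟩ := hRr.2 Q _ hψ' hrange'
  have hχ'' := restrict_mem F hχ' hle
  have hQext : Q ≤ extender S Q ψ := le_extender_of_mem F hψ
  have hχ''x : ∀ x : Q, (χ'.comp (Subgroup.inclusion hle)) (Subgroup.inclusion hQext x) =
      (R.subtype.comp (f.trans e').toMonoidHom) x := by
    intro x
    exact hχ'x x x.2 (hle (hQext x.2))
  -- Step 3: the values of the extension lie in the image of `φ`
  have hstep3 : ∀ g : extender S Q ψ, (χ'.comp (Subgroup.inclusion hle)) g ∈ φ.range := by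
    intro g
    obtain ⟨h, hh⟩ := hstep1 g g.2
    obtain ⟨hgS, hgN, -⟩ := (mem_extender_iff S Q ψ g).mp g.2
    set χ'' := χ'.comp (Subgroup.inclusion hle) with hχ''_def
    have hd : (φ h)⁻¹ * χ'' g ∈ centralizerIn S R := by
      refine ⟨S.mul_mem (S.inv_mem ((F.le_of_mem hφ).2 h)) ((F.le_of_mem hχ'').2 g), ?_⟩
      show _ ∈ Subgroup.centralizer (R : Set Ω)
      rw [Subgroup.mem_centralizer_iff]
      intro y hy
      set x := (f.trans e').symm ⟨y, hy⟩ with hx_def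
      have hyx : y = (R.subtype.comp (f.trans e').toMonoidHom) x := by
        show y = (((f.trans e') ((f.trans e').symm ⟨y, hy⟩) : R) : Ω)
        rw [MulEquiv.apply_symm_apply]
      have hgx : (g : Ω) * (x : Ω) * (g : Ω)⁻¹ ∈ Q := (Subgroup.mem_normalizer_iff.mp hgN _).mp x.2
      have h1 : χ'' g * y * (χ'' g)⁻¹ = χ'' (Subgroup.inclusion hQext ⟨_, hgx⟩) := by
        rw [hyx, ← hχ''x x, ← map_inv, ← map_mul, ← map_mul]
        congr 1
      rw [hχ''x, hψ'formula] at h1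
      have h2 : φ ⟨ψ ⟨_, hgx⟩, hPN (hfx ⟨_, hgx⟩ ▸ (f ⟨_, hgx⟩).2)⟩ = φ h * y * (φ h)⁻¹ := by
        rw [hyx, hψ'formula, ← map_inv, ← map_mul, ← map_mul]
        congr 1
        apply Subtype.ext
        exact hh x hgx
      rw [h2] at h1
      calc y * ((φ h)⁻¹ * χ'' g) = (φ h)⁻¹ * (φ h * y * (φ h)⁻¹) * χ'' g := by group
        _ = (φ h)⁻¹ * (χ'' g * y * (χ'' g)⁻¹) * χ'' g := by rw [h1]
        _ = (φ h)⁻¹ * χ'' g * y := by group
    obtain ⟨c, -, hc⟩ := hCsurj _ hd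
    refine ⟨h * c, ?_⟩
    rw [map_mul, hc]
    group
  -- Step 4: compose with the inverse of `φ`
  have hφiso := isIso_ofInjective F hφ
  set φiso := MonoidHom.ofInjective (F.injective_of_mem hφ) with hφiso_def
  have hχ := F.comp_mem hχ'' hφiso.symm hstep3
  refine ⟨_, hχ, fun x hxQ hxN => ?_⟩
  show (((φiso.symm ⟨(χ'.comp (Subgroup.inclusion hle)) ⟨x, hxN⟩, hstep3 ⟨x, hxN⟩⟩ : normalizerIn S P)) : Ω) = ψ ⟨x, hxQ⟩
  have h1 := hχ''x ⟨x, hxQ⟩
  rw [hψ'formula] at h1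
  have h2 : (⟨(χ'.comp (Subgroup.inclusion hle)) ⟨x, hxN⟩, hstep3 ⟨x, hxN⟩⟩ : φ.range) =
      φiso ⟨ψ ⟨x, hxQ⟩, hPN (hfx ⟨x, hxQ⟩ ▸ (f ⟨x, hxQ⟩).2)⟩ := by
    apply Subtype.ext
    exact h1
  rw [h2, MulEquiv.symm_apply_apply]


end Cfsg.Agent.Helper84
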