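import Cfsg.Agent.Helper84.StableGaschutz
import Cfsg.Agent.Helper87.FusionRS
set_option autoImplicit false

/-! # Model bisets: the group of right-equivariant permutations lying over `Aut_F(Q)` -/

namespace Cfsg.Agent.Helper84

open Cfsg Cfsg.FusionSystem Cfsg.Agent.Helper87

theorem perm_apply_inv {X : Type*} (f : Equiv.Perm X) (x : X) : f (f⁻¹ x) = x := by
  rw [← Equiv.Perm.mul_apply, mul_inv_cancel, Equiv.Perm.one_apply]

theorem perm_inv_apply {X : Type*} (f : Equiv.Perm X) (x : X) : f⁻¹ (f x) = x := by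
  rw [← Equiv.Perm.mul_apply, inv_mul_cancel, Equiv.Perm.one_apply]

variable {Ω : Type*} [Group Ω] {S : Subgroup Ω}

/-- A *model biset* for the fusion system `F` and the subgroup `Q ≤ S` (with conjugation homomorphism
`c : S → Aut(Q)`): a set `X` with commuting left and right actions of `S`, the right one free, and an equivariant
map `pr : X → Aut_F(Q)` inducing a bijection from the right `C_S(Q)`-orbits onto `Aut_F(Q)`, such that `Q` acts on the
left through `pr`, and all the left-to-right stabilizer maps are maps of `F`. -/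
structure ModelBiset (F : FusionSystem S) {Q : Subgroup Ω} (hQS : Q ≤ S) (c : ↥S →* MulAut ↥Q) (X : Type*) where
  lmul : ↥S → X → X
  rmul : X → ↥S → X
  pr : X → MulAut ↥Q
  lmul_one : ∀ ω, lmul 1 ω = ω
  lmul_mul : ∀ x y ω, lmul (x * y) ω = lmul x (lmul y ω)
  rmul_one : ∀ ω, rmul ω 1 = ω
  rmul_mul : ∀ ω s t, rmul ω (s * t) = rmul (rmul ω s) t
  lmul_rmul : ∀ x ω s, lmul x (rmul ω s) = rmul (lmul x ω) s
  pr_lmul : ∀ x ω, pr (lmul x ω) = c x * pr ω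
  pr_rmul : ∀ ω s, pr (rmul ω s) = pr ω * c s
  pr_mem : ∀ ω, pr ω ∈ F.autGroup Q
  pr_surj : ∀ γ ∈ F.autGroup Q, ∃ ω, pr ω = γ
  free : ∀ ω s, rmul ω s = ω → s = 1
  fibre : ∀ ω ω', pr ω = pr ω' → ∃ z : ↥S, c z = 1 ∧ ω' = rmul ω z
  qcompat : ∀ ω (x : ↥S) (hx : (x : Ω) ∈ Q),
    lmul x ω = rmul ω ⟨(((pr ω)⁻¹ ⟨x, hx⟩ : ↥Q) : Ω), hQS ((pr ω)⁻¹ ⟨x, hx⟩).2⟩
  fstab : ∀ ω (D : Subgroup Ω) (χ φ : D →* Ω) (hχ : χ ∈ F.Hom D) (hφS : ∀ x, φ x ∈ S),
    (∀ x : D, lmul ⟨χ x, (F.le_of_mem hχ).2 x⟩ ω = rmul ω ⟨φ x, hφS x⟩) → φ ∈ F.Hom D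

namespace ModelBiset

variable {F : FusionSystem S} {Q : Subgroup Ω} {hQS : Q ≤ S} {c : ↥S →* MulAut ↥Q} {X : Type*}
  (B : ModelBiset F hQS c X)

theorem rmul_cancel {ω : X} {s t : ↥S} (h : B.rmul ω s = B.rmul ω t) : s = t := by
  have h1 : B.rmul ω (s * t⁻¹) = ω := by
    rw [B.rmul_mul, h, ← B.rmul_mul, mul_inv_cancel, B.rmul_one]
  have h2 := B.free ω _ h1
  exact mul_inv_eq_one.mp h2

theorem lmul_inv_lmul (x : ↥S) (ω : X) : B.lmul x⁻¹ (B.lmul x ω) = ω := by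
  rw [← B.lmul_mul, inv_mul_cancel, B.lmul_one]

theorem lmul_lmul_inv (x : ↥S) (ω : X) : B.lmul x (B.lmul x⁻¹ ω) = ω := by
  rw [← B.lmul_mul, mul_inv_cancel, B.lmul_one]

theorem rmul_rmul_inv (ω : X) (s : ↥S) : B.rmul (B.rmul ω s) s⁻¹ = ω := by
  rw [← B.rmul_mul, mul_inv_cancel, B.rmul_one]

theorem rmul_inv_rmul (ω : X) (s : ↥S) : B.rmul (B.rmul ω s⁻¹) s = ω := by
  rw [← B.rmul_mul, inv_mul_cancel, B.rmul_one]

/-- The group `Ê` of permutations of `X` commuting with the right action and lying over an automorphism of `Q`. -/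
def Ehat : Subgroup (Equiv.Perm X) where
  carrier := {f | (∀ ω s, f (B.rmul ω s) = B.rmul (f ω) s) ∧ ∃ γ : MulAut ↥Q, ∀ ω, B.pr (f ω) = γ * B.pr ω}
  one_mem' := ⟨fun _ _ => rfl, 1, fun ω => by simp⟩
  mul_mem' := by
    rintro f g ⟨hf, γ, hγ⟩ ⟨hg, δ, hδ⟩
    refine ⟨fun ω s => ?_, γ * δ, fun ω => ?_⟩
    · show f (g (B.rmul ω s)) = B.rmul (f (g ω)) s
      rw [hg, hf]
    · show B.pr (f (g ω)) = γ * δ * B.pr ω
      rw [hγ, hδ, mul_assoc]
  inv_mem' := by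
    rintro f ⟨hf, γ, hγ⟩
    refine ⟨fun ω s => ?_, γ⁻¹, fun ω => ?_⟩
    · apply f.injective
      rw [hf, perm_apply_inv, perm_apply_inv]
    · have := hγ (f⁻¹ ω)
      rw [perm_apply_inv] at this
      rw [this, inv_mul_cancel_left]

theorem mem_Ehat_iff (f : Equiv.Perm X) : f ∈ B.Ehat ↔
    (∀ ω s, f (B.rmul ω s) = B.rmul (f ω) s) ∧ ∃ γ : MulAut ↥Q, ∀ ω, B.pr (f ω) = γ * B.pr ω := Iff.rfl

/-- a base point over the identity -/
noncomputable def base : X := Classical.choose (B.pr_surj 1 (Subgroup.one_mem _))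

theorem pr_base : B.pr B.base = 1 := Classical.choose_spec (B.pr_surj 1 (Subgroup.one_mem _))

/-- The projection `Ê → Aut(Q)`. -/
noncomputable def rho : ↥B.Ehat →* MulAut ↥Q where
  toFun f := B.pr ((f : Equiv.Perm X) B.base)
  map_one' := by
    show B.pr B.base = 1
    exact B.pr_base
  map_mul' f g := by
    obtain ⟨γ, hγ⟩ := f.2.2
    show B.pr ((f : Equiv.Perm X) ((g : Equiv.Perm X) B.base)) = _
    rw [hγ]
    have := hγ B.base
    rw [B.pr_base, mul_one] at this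
    rw [this]

theorem pr_apply (f : ↥B.Ehat) (ω : X) : B.pr ((f : Equiv.Perm X) ω) = B.rho f * B.pr ω := by
  obtain ⟨γ, hγ⟩ := f.2.2
  have h1 : B.rho f = γ := by
    have := hγ B.base
    rw [B.pr_base, mul_one] at this
    exact this
  rw [h1, hγ]

theorem apply_rmul (f : ↥B.Ehat) (ω : X) (s : ↥S) :
    (f : Equiv.Perm X) (B.rmul ω s) = B.rmul ((f : Equiv.Perm X) ω) s := f.2.1 ω s

theorem rho_mem (f : ↥B.Ehat) : B.rho f ∈ F.autGroup Q := B.pr_mem _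

/-- Left multiplication by an element of `S`, as an element of `Ê`. -/
def Lperm (x : ↥S) : Equiv.Perm X where
  toFun := B.lmul x
  invFun := B.lmul x⁻¹
  left_inv := B.lmul_inv_lmul x
  right_inv := B.lmul_lmul_inv x

theorem Lperm_mem (x : ↥S) : B.Lperm x ∈ B.Ehat :=
  ⟨fun ω s => B.lmul_rmul x ω s, c x, fun ω => B.pr_lmul x ω⟩

/-- The left action of `S`, as a homomorphism into `Ê`. -/
def L : ↥S →* ↥B.Ehat where
  toFun x := ⟨B.Lperm x, B.Lperm_mem x⟩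
  map_one' := by
    apply Subtype.ext
    ext ω
    exact B.lmul_one ω
  map_mul' x y := by
    apply Subtype.ext
    ext ω
    exact B.lmul_mul x y ω

@[simp] theorem L_apply (x : ↥S) (ω : X) : ((B.L x : ↥B.Ehat) : Equiv.Perm X) ω = B.lmul x ω := rfl

theorem rho_L (x : ↥S) : B.rho (B.L x) = c x := by
  show B.pr (B.lmul x B.base) = c x
  rw [B.pr_lmul, B.pr_base, mul_one]

/-- Elements of the kernel of `rho` act by right multiplication by elements of `ker c` on each point. -/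
theorem exists_rmul_of_mem_ker {f : ↥B.Ehat} (hf : f ∈ B.rho.ker) (ω : X) :
    ∃ z : ↥S, c z = 1 ∧ (f : Equiv.Perm X) ω = B.rmul ω z := by
  have h1 : B.pr ω = B.pr ((f : Equiv.Perm X) ω) := by
    rw [B.pr_apply, MonoidHom.mem_ker.mp hf, one_mul]
  exact B.fibre _ _ h1

theorem ext_of_forall {f g : ↥B.Ehat} (h : ∀ ω, (f : Equiv.Perm X) ω = (g : Equiv.Perm X) ω) : f = g := by
  apply Subtype.ext
  ext ω
  exact h ω


/-! ### Structure of the kernel -/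

section kernel

variable (hc : ∀ (s : ↥S) (x : ↥Q), ((c s x : ↥Q) : Ω) = s * x * (s : Ω)⁻¹)
  (hcen : ∀ z : ↥S, c z = 1 → (z : Ω) ∈ Q)

include hc hcen in
theorem ker_c_comm {z z' : ↥S} (hz : c z = 1) (hz' : c z' = 1) : z * z' = z' * z := by
  have h1 := hc z' ⟨z, hcen z hz⟩
  rw [hz', MulAut.one_apply] at h1
  apply Subtype.ext
  simp only [Subgroup.coe_mul]
  have h2 : (z : Ω) = z' * z * (z' : Ω)⁻¹ := h1
  calc (z : Ω) * z' = (z' * z * (z' : Ω)⁻¹) * z' := by rw [← h2]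
    _ = z' * z := by group

include hc hcen in
/-- The kernel of `rho` is abelian. -/
theorem ker_rho_comm {f g : ↥B.Ehat} (hf : f ∈ B.rho.ker) (hg : g ∈ B.rho.ker) : f * g = g * f := by
  apply B.ext_of_forall
  intro ω
  obtain ⟨zf, hzf, hfω⟩ := B.exists_rmul_of_mem_ker hf ω
  obtain ⟨zg, hzg, hgω⟩ := B.exists_rmul_of_mem_ker hg ω
  show (f : Equiv.Perm X) ((g : Equiv.Perm X) ω) = (g : Equiv.Perm X) ((f : Equiv.Perm X) ω)
  rw [hgω, hfω, B.apply_rmul, B.apply_rmul, hfω, hgω, ← B.rmul_mul, ← B.rmul_mul,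
    ker_c_comm hc hcen hzf hzg]

theorem pow_apply_of_rmul (f : ↥B.Ehat) {ω : X} {z : ↥S} (h : (f : Equiv.Perm X) ω = B.rmul ω z) (n : ℕ) :
    ((f ^ n : ↥B.Ehat) : Equiv.Perm X) ω = B.rmul ω (z ^ n) := by
  induction n with
  | zero => simp [B.rmul_one]
  | succ n ih =>
    rw [pow_succ, pow_succ, Subgroup.coe_mul, Equiv.Perm.mul_apply, h, B.apply_rmul, ih, ← B.rmul_mul,
      ← pow_succ, pow_succ']

/-- The kernel of `rho` is a `p`-group. -/
theorem isPGroup_ker_rho [Finite S] {p : ℕ} [Fact p.Prime] (hS : IsPGroup p S) : IsPGroup p B.rho.ker := by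
  obtain ⟨k, hk⟩ := IsPGroup.iff_card.mp hS
  intro f
  refine ⟨k, ?_⟩
  apply Subtype.ext
  apply B.ext_of_forall
  intro ω
  obtain ⟨z, -, hz⟩ := B.exists_rmul_of_mem_ker f.2 ω
  have h1 := B.pow_apply_of_rmul (f : ↥B.Ehat) hz (p ^ k)
  rw [← hk, pow_card_eq_one', B.rmul_one] at h1
  rw [Subgroup.coe_pow, Subgroup.coe_one, ← hk]
  exact h1

/-- Conjugating the left multiplication by an element of `Q`. -/
theorem conj_L_of_mem (e : ↥B.Ehat) (x : ↥S) (hx : (x : Ω) ∈ Q) :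
    e * B.L x * e⁻¹ = B.L ⟨((B.rho e ⟨x, hx⟩ : ↥Q) : Ω), hQS (B.rho e ⟨x, hx⟩).2⟩ := by
  apply B.ext_of_forall
  intro ω
  show (e : Equiv.Perm X) (B.lmul x (((e⁻¹ : ↥B.Ehat) : Equiv.Perm X) ω)) = B.lmul _ ω
  rw [B.qcompat _ x hx, B.apply_rmul, B.qcompat ω _ (B.rho e ⟨x, hx⟩).2]
  have h1 : (e : Equiv.Perm X) (((e⁻¹ : ↥B.Ehat) : Equiv.Perm X) ω) = ω := by
    rw [Subgroup.coe_inv]; exact perm_apply_inv _ _
  rw [h1]
  congr 1
  apply Subtype.ext
  show (((B.pr (((e⁻¹ : ↥B.Ehat) : Equiv.Perm X) ω))⁻¹ ⟨x, hx⟩ : ↥Q) : Ω) = _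
  rw [B.pr_apply, map_inv, mul_inv_rev, inv_inv, MulAut.mul_apply]

/-- `Z₀`: the left multiplications lying in the kernel of `rho`. -/
noncomputable def Z0 : Subgroup ↥B.Ehat := B.L.range ⊓ B.rho.ker

include hcen in
theorem Z0_normal : (B.Z0).Normal := by
  refine ⟨?_⟩
  rintro f ⟨⟨x, rfl⟩, hfk⟩ e
  have hcx : c x = 1 := by
    rw [← B.rho_L]; exact MonoidHom.mem_ker.mp hfk
  refine ⟨?_, (inferInstance : B.rho.ker.Normal).conj_mem _ hfk e⟩
  rw [B.conj_L_of_mem e x (hcen x hcx)]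
  exact ⟨_, rfl⟩

theorem ker_sup_range : B.rho.ker ⊔ B.L.range = (c.range).comap B.rho := by
  apply le_antisymm
  · apply sup_le
    · intro f hf
      show B.rho f ∈ c.range
      rw [MonoidHom.mem_ker.mp hf]
      exact Subgroup.one_mem _
    · rintro _ ⟨x, rfl⟩
      show B.rho (B.L x) ∈ c.range
      rw [B.rho_L]
      exact ⟨x, rfl⟩
  · intro f hf
    obtain ⟨x, hx⟩ := (hf : B.rho f ∈ c.range)
    have h1 : f * (B.L x)⁻¹ ∈ B.rho.ker := by
      rw [MonoidHom.mem_ker, map_mul, map_inv, B.rho_L, hx, mul_inv_cancel]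
    have h2 : f = (f * (B.L x)⁻¹) * B.L x := by group
    rw [h2]
    exact Subgroup.mul_mem_sup h1 ⟨x, rfl⟩

end kernel

end ModelBiset

end Cfsg.Agent.Helper84
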