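import Cfsg.Agent.Helper84.ModelBiset1
import Cfsg.Agent.S5095
set_option autoImplicit false

/-! # Model bisets: equivariant lifts of automorphisms of `Q` -/

namespace Cfsg.Agent.Helper84

open Cfsg Cfsg.FusionSystem Cfsg.Agent.Helper87

variable {Ω : Type*} [Group Ω] {S : Subgroup Ω}

namespace ModelBiset

variable {F : FusionSystem S} {Q : Subgroup Ω} {hQS : Q ≤ S} {c : ↥S →* MulAut ↥Q} {X : Type*}
  (B : ModelBiset F hQS c X)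

/-- If every `χ x` moves `ω` inside its right orbit, the right factors form a homomorphism. -/
theorem exists_stabHom {D₀ : Type*} [Group D₀] (χ : D₀ →* ↥S) (ω : X)
    (h : ∀ x : D₀, ∃ s : ↥S, B.lmul (χ x) ω = B.rmul ω s) :
    ∃ φ : D₀ →* ↥S, ∀ x, B.lmul (χ x) ω = B.rmul ω (φ x) := by
  choose f hf using h
  have hmul : ∀ x y : D₀, f (x * y) = f x * f y := by
    intro x y
    apply B.rmul_cancel (ω := ω)
    rw [← hf (x * y), map_mul, B.lmul_mul, hf y, B.lmul_rmul, hf x, ← B.rmul_mul]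
  exact ⟨MonoidHom.mk' f hmul, hf⟩

/-- An automorphism of `Q` fixes the centre: if `z` is central in `Q` then so is its image. -/
theorem c_eq_one_of_central (hc : ∀ (s : ↥S) (x : ↥Q), ((c s x : ↥Q) : Ω) = s * x * (s : Ω)⁻¹)
    (α : MulAut ↥Q) (z : ↥Q) (hz : (z : Ω) ∈ Subgroup.centralizer (Q : Set Ω)) :
    c ⟨((α z : ↥Q) : Ω), hQS (α z).2⟩ = 1 := by
  ext u
  rw [hc, MulAut.one_apply]
  show ((α z : ↥Q) : Ω) * u * ((α z : ↥Q) : Ω)⁻¹ = u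
  have h1 : z * α⁻¹ u = α⁻¹ u * z := by
    apply Subtype.ext
    have := (Subgroup.mem_centralizer_iff.mp hz) ((α⁻¹ u : ↥Q) : Ω) (α⁻¹ u).2
    simp only [Subgroup.coe_mul]
    exact this.symm
  have h2 : α z * u = u * α z := by
    have := congrArg α h1
    rw [map_mul, map_mul, MulAut.apply_inv_self] at this
    exact this
  have h3 := congrArg Subtype.val h2
  simp only [Subgroup.coe_mul] at h3
  rw [h3]
  group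


section lift

variable [Finite S] {p : ℕ} [Fact p.Prime]

/-- The key step: for a point `ω₀`, a point over `γ · pr ω₀` whose stabilizer map is the `ψ`-twist of that of `ω₀`. -/
theorem exists_target (hS : IsPGroup p S) (hF : F.IsSaturated p) (hQc : F.IsCentric Q)
    (hc : ∀ (s : ↥S) (x : ↥Q), ((c s x : ↥Q) : Ω) = s * x * (s : Ω)⁻¹)
    (γ : MulAut ↥Q) (hγ : γ ∈ F.autGroup Q)
    {D : Subgroup Ω} (hQD : Q ≤ D) (hDS : D ≤ S) (ψ : ↥D →* ↥S) (hψ : S.subtype.comp ψ ∈ F.Hom D)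
    (hψQ : ∀ (x : ↥D) (hx : (x : Ω) ∈ Q), ((ψ x : ↥S) : Ω) = ((γ⁻¹ ⟨x, hx⟩ : ↥Q) : Ω))
    (hψc : ∀ x : ↥D, c (ψ x) = γ⁻¹ * c (Subgroup.inclusion hDS x) * γ)
    (ω₀ : X) :
    ∃ ω₁ : X, B.pr ω₁ = γ * B.pr ω₀ ∧
      ∀ (x : ↥D) (s : ↥S), B.lmul (ψ x) ω₀ = B.rmul ω₀ s →
        B.lmul (Subgroup.inclusion hDS x) ω₁ = B.rmul ω₁ s := by
  classical
  -- the subgroup of `D` whose `ψ`-images stabilize the right orbit of `ω₀`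
  let D₀ : Subgroup Ω :=
    { carrier := {g | ∃ hg : g ∈ D, ∃ s : ↥S, B.lmul (ψ ⟨g, hg⟩) ω₀ = B.rmul ω₀ s}
      one_mem' := ⟨D.one_mem, 1, by
        have : (⟨1, D.one_mem⟩ : ↥D) = 1 := rfl
        rw [this, map_one, B.lmul_one, B.rmul_one]⟩
      mul_mem' := by
        rintro g g' ⟨hg, s, hs⟩ ⟨hg', t, ht⟩
        refine ⟨D.mul_mem hg hg', s * t, ?_⟩
        have : (⟨g * g', D.mul_mem hg hg'⟩ : ↥D) = ⟨g, hg⟩ * ⟨g', hg'⟩ := rfl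
        rw [this, map_mul, B.lmul_mul, ht, B.lmul_rmul, hs, ← B.rmul_mul]
      inv_mem' := by
        rintro g ⟨hg, s, hs⟩
        refine ⟨D.inv_mem hg, s⁻¹, ?_⟩
        have : (⟨g⁻¹, D.inv_mem hg⟩ : ↥D) = ⟨g, hg⟩⁻¹ := rfl
        rw [this, map_inv]
        have h1 : B.lmul (ψ ⟨g, hg⟩)⁻¹ (B.rmul ω₀ s) = ω₀ := by rw [← hs, B.lmul_inv_lmul]
        calc B.lmul (ψ ⟨g, hg⟩)⁻¹ ω₀ = B.lmul (ψ ⟨g, hg⟩)⁻¹ (B.rmul (B.rmul ω₀ s) s⁻¹) := by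
              rw [B.rmul_rmul_inv]
          _ = B.rmul (B.lmul (ψ ⟨g, hg⟩)⁻¹ (B.rmul ω₀ s)) s⁻¹ := B.lmul_rmul _ _ _
          _ = B.rmul ω₀ s⁻¹ := by rw [h1] }
  have hD₀D : D₀ ≤ D := fun g hg => hg.1
  have hD₀S : D₀ ≤ S := hD₀D.trans hDS
  have hQS' : Q ≤ S := hQS
  have hψxQ : ∀ (x : ↥D), (x : Ω) ∈ Q → ((ψ x : ↥S) : Ω) ∈ Q := by
    intro x hx
    rw [hψQ x hx]
    exact (γ⁻¹ ⟨x, hx⟩).2
  have hQD₀ : Q ≤ D₀ := by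
    intro g hg
    refine ⟨hQD hg, _, B.qcompat ω₀ (ψ ⟨g, hQD hg⟩) (hψxQ ⟨g, hQD hg⟩ hg)⟩
  let incl₀ : ↥D₀ →* ↥D := Subgroup.inclusion hD₀D
  let incl₁ : ↥D₀ →* ↥S := Subgroup.inclusion hD₀S
  let χ₀ : ↥D₀ →* ↥S := ψ.comp incl₀
  have h₀ : ∀ x : ↥D₀, ∃ s : ↥S, B.lmul (χ₀ x) ω₀ = B.rmul ω₀ s := by
    intro x
    obtain ⟨hg, s, hs⟩ := x.2
    exact ⟨s, hs⟩
  obtain ⟨φ₀, hφ₀⟩ := B.exists_stabHom χ₀ ω₀ h₀
  -- a first candidate over `γ · pr ω₀`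
  obtain ⟨ω₁', hω₁'⟩ := B.pr_surj (γ * B.pr ω₀) (Subgroup.mul_mem _ hγ (B.pr_mem ω₀))
  have hcχ : ∀ x : ↥D₀, c (χ₀ x) = γ⁻¹ * c (incl₁ x) * γ := fun x => hψc (incl₀ x)
  have h₁ : ∀ x : ↥D₀, ∃ s : ↥S, B.lmul (incl₁ x) ω₁' = B.rmul ω₁' s := by
    intro x
    have h2 : B.pr (B.rmul ω₁' (φ₀ x)) = B.pr (B.lmul (incl₁ x) ω₁') := by
      rw [B.pr_rmul, B.pr_lmul, hω₁']
      have h3 := congrArg B.pr (hφ₀ x)
      rw [B.pr_lmul, B.pr_rmul, hcχ] at h3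
      -- h3 : γ⁻¹ * c (incl₁ x) * γ * pr ω₀ = pr ω₀ * c (φ₀ x)
      calc γ * B.pr ω₀ * c (φ₀ x) = γ * (B.pr ω₀ * c (φ₀ x)) := by group
        _ = γ * (γ⁻¹ * c (incl₁ x) * γ * B.pr ω₀) := by rw [h3]
        _ = c (incl₁ x) * (γ * B.pr ω₀) := by group
    obtain ⟨z, -, hz⟩ := B.fibre _ _ h2
    exact ⟨φ₀ x * z, by rw [hz, ← B.rmul_mul]⟩
  obtain ⟨φ₁, hφ₁⟩ := B.exists_stabHom incl₁ ω₁' h₁
  -- both stabilizer maps are maps of the system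
  have hχ₀F : S.subtype.comp χ₀ ∈ F.Hom D₀ := mem_of_eq F (restrict_mem F hψ hD₀D) (fun x => rfl)
  have hφ₀F : S.subtype.comp φ₀ ∈ F.Hom D₀ :=
    B.fstab ω₀ D₀ (S.subtype.comp χ₀) (S.subtype.comp φ₀) hχ₀F (fun x => (φ₀ x).2) (fun x => hφ₀ x)
  have hφ₁F : S.subtype.comp φ₁ ∈ F.Hom D₀ :=
    B.fstab ω₁' D₀ D₀.subtype (S.subtype.comp φ₁) (subtype_mem F hD₀S) (fun x => (φ₁ x).2) (fun x => hφ₁ x)
  -- values on `Q`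
  have hφ₁Q : ∀ (x : ↥D₀) (hx : (x : Ω) ∈ Q),
      φ₁ x = ⟨(((B.pr ω₁')⁻¹ ⟨x, hx⟩ : ↥Q) : Ω), hQS' ((B.pr ω₁')⁻¹ ⟨x, hx⟩).2⟩ := by
    intro x hx
    apply B.rmul_cancel (ω := ω₁')
    rw [← hφ₁ x]
    exact B.qcompat ω₁' (incl₁ x) hx
  have hφ₀Q : ∀ (x : ↥D₀) (hx : (x : Ω) ∈ Q),
      φ₀ x = ⟨(((B.pr ω₁')⁻¹ ⟨x, hx⟩ : ↥Q) : Ω), hQS' ((B.pr ω₁')⁻¹ ⟨x, hx⟩).2⟩ := by
    intro x hx
    apply B.rmul_cancel (ω := ω₀)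
    rw [← hφ₀ x]
    have hχQ : ((χ₀ x : ↥S) : Ω) ∈ Q := hψxQ (incl₀ x) hx
    rw [B.qcompat ω₀ (χ₀ x) hχQ]
    congr 1
    apply Subtype.ext
    show (((B.pr ω₀)⁻¹ ⟨((χ₀ x : ↥S) : Ω), hχQ⟩ : ↥Q) : Ω) = (((B.pr ω₁')⁻¹ ⟨x, hx⟩ : ↥Q) : Ω)
    have h3 : (⟨((χ₀ x : ↥S) : Ω), hχQ⟩ : ↥Q) = γ⁻¹ ⟨x, hx⟩ := Subtype.ext (hψQ (incl₀ x) hx)
    rw [h3, hω₁', mul_inv_rev, MulAut.mul_apply]
  have hagree : ∀ x : ↥D₀, (x : Ω) ∈ Q → (S.subtype.comp φ₁) x = (S.subtype.comp φ₀) x := by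
    intro x hx
    show ((φ₁ x : ↥S) : Ω) = ((φ₀ x : ↥S) : Ω)
    rw [hφ₁Q x hx, hφ₀Q x hx]
  obtain ⟨z, hzQ, hzc, hz⟩ := Cfsg.Agent.S5095.result p hS F hF D₀ Q hQD₀ hQc (S.subtype.comp φ₁)
    (S.subtype.comp φ₀) hφ₁F hφ₀F hagree
  have hcw : c (φ₁ z) = 1 := by
    rw [hφ₁Q z hzQ]
    exact c_eq_one_of_central hc _ ⟨z, hzQ⟩ hzc
  have hconj : ∀ y : ↥D₀, φ₀ y = φ₁ z * φ₁ y * (φ₁ z)⁻¹ := by
    intro y
    apply Subtype.ext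
    have := hz y
    show ((φ₀ y : ↥S) : Ω) = _
    have h4 : (S.subtype.comp φ₀) y = ((φ₀ y : ↥S) : Ω) := rfl
    rw [← h4, this]
    show ((φ₁ (z * y * z⁻¹) : ↥S) : Ω) = _
    rw [map_mul, map_mul, map_inv]
  refine ⟨B.rmul ω₁' (φ₁ z)⁻¹, ?_, ?_⟩
  · rw [B.pr_rmul, map_inv, hcw, inv_one, mul_one, hω₁']
  · intro x s hs
    have hxD₀ : (x : Ω) ∈ D₀ := ⟨x.2, s, hs⟩
    have hs' : s = φ₀ ⟨x, hxD₀⟩ := by
      apply B.rmul_cancel (ω := ω₀)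
      rw [← hs]
      exact hφ₀ ⟨x, hxD₀⟩
    have h5 : B.lmul (Subgroup.inclusion hDS x) ω₁' = B.rmul ω₁' (φ₁ ⟨x, hxD₀⟩) := hφ₁ ⟨x, hxD₀⟩
    rw [B.lmul_rmul, h5, ← B.rmul_mul, ← B.rmul_mul, hs', hconj]
    congr 1
    group


omit [Finite ↥S] in
theorem stab_of_eq {a b s t : ↥S} {ω : X} (h : B.lmul a (B.rmul ω s) = B.lmul b (B.rmul ω t)) :
    B.lmul (b⁻¹ * a) ω = B.rmul ω (t * s⁻¹) := by
  have h1 : B.lmul a ω = B.rmul (B.lmul a (B.rmul ω s)) s⁻¹ := by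
    rw [← B.lmul_rmul, B.rmul_rmul_inv]
  rw [B.lmul_mul, h1, h, B.lmul_rmul, B.lmul_inv_lmul, ← B.rmul_mul]

omit [Finite ↥S] in
theorem eq_of_stab {a b s t : ↥S} {ω : X} (h : B.lmul (b⁻¹ * a) ω = B.rmul ω (t * s⁻¹)) :
    B.lmul a (B.rmul ω s) = B.lmul b (B.rmul ω t) := by
  have h1 : B.lmul a ω = B.lmul b (B.rmul ω (t * s⁻¹)) := by
    rw [← h, ← B.lmul_mul, mul_inv_cancel_left]
  rw [B.lmul_rmul, h1, ← B.lmul_rmul, ← B.rmul_mul, inv_mul_cancel_right]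

/-- An element of `Ê` over `γ` intertwining the left actions of `ψ x` and `x`. -/
theorem exists_lift [Finite X] (hS : IsPGroup p S) (hF : F.IsSaturated p) (hQc : F.IsCentric Q)
    (hc : ∀ (s : ↥S) (x : ↥Q), ((c s x : ↥Q) : Ω) = s * x * (s : Ω)⁻¹)
    (γ : MulAut ↥Q) (hγ : γ ∈ F.autGroup Q)
    {D : Subgroup Ω} (hQD : Q ≤ D) (hDS : D ≤ S) (ψ : ↥D →* ↥S) (hψ : S.subtype.comp ψ ∈ F.Hom D)
    (hψQ : ∀ (x : ↥D) (hx : (x : Ω) ∈ Q), ((ψ x : ↥S) : Ω) = ((γ⁻¹ ⟨x, hx⟩ : ↥Q) : Ω))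
    (hψc : ∀ x : ↥D, c (ψ x) = γ⁻¹ * c (Subgroup.inclusion hDS x) * γ) :
    ∃ e : ↥B.Ehat, B.rho e = γ ∧ ∀ x : ↥D, e * B.L (ψ x) = B.L (Subgroup.inclusion hDS x) * e := by
  classical
  choose target htpr htstab using B.exists_target hS hF hQc hc γ hγ hQD hDS ψ hψ hψQ hψc
  -- the orbit relation of `ψ(D) × S`
  let r : Setoid X :=
    { r := fun ω ω' => ∃ (x : ↥D) (s : ↥S), ω' = B.lmul (ψ x) (B.rmul ω s)
      iseqv :=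
        { refl := fun ω => ⟨1, 1, by rw [map_one, B.lmul_one, B.rmul_one]⟩
          symm := by
            rintro ω ω' ⟨x, s, rfl⟩
            refine ⟨x⁻¹, s⁻¹, ?_⟩
            rw [map_inv, ← B.lmul_rmul, B.rmul_rmul_inv, B.lmul_inv_lmul]
          trans := by
            rintro ω ω' ω'' ⟨x, s, rfl⟩ ⟨y, t, rfl⟩
            refine ⟨y * x, s * t, ?_⟩
            rw [map_mul, B.lmul_mul, B.rmul_mul, B.lmul_rmul (ψ x) (B.rmul ω s) t] } }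
  let rep : X → X := fun ω => (Quotient.mk r ω).out
  have hrep : ∀ ω, ∃ (x : ↥D) (s : ↥S), ω = B.lmul (ψ x) (B.rmul (rep ω) s) := fun ω =>
    Quotient.exact (Quotient.out_eq (Quotient.mk r ω))
  have hrep_eq : ∀ ω ω', r ω ω' → rep ω' = rep ω := by
    intro ω ω' h
    show (Quotient.mk r ω').out = (Quotient.mk r ω).out
    rw [Quotient.sound (r.symm h)]
  choose xx ss hxs using hrep
  let efun : X → X := fun ω => B.lmul (Subgroup.inclusion hDS (xx ω)) (B.rmul (target (rep ω)) (ss ω))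
  have hspec : ∀ (ω : X) (x : ↥D) (s : ↥S), ω = B.lmul (ψ x) (B.rmul (rep ω) s) →
      efun ω = B.lmul (Subgroup.inclusion hDS x) (B.rmul (target (rep ω)) s) := by
    intro ω x s h
    have h1 : B.lmul (ψ (xx ω)) (B.rmul (rep ω) (ss ω)) = B.lmul (ψ x) (B.rmul (rep ω) s) := by
      rw [← hxs ω, ← h]
    have h2 := B.stab_of_eq h1
    rw [← map_inv, ← map_mul] at h2
    have h3 := htstab (rep ω) _ _ h2
    rw [map_mul, map_inv] at h3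
    exact B.eq_of_stab h3
  have hlm : ∀ (y : ↥D) (ω : X), efun (B.lmul (ψ y) ω) = B.lmul (Subgroup.inclusion hDS y) (efun ω) := by
    intro y ω
    have hr : rep (B.lmul (ψ y) ω) = rep ω :=
      hrep_eq ω _ ⟨y, 1, by rw [B.rmul_one]⟩
    have h1 : B.lmul (ψ y) ω = B.lmul (ψ (y * xx ω)) (B.rmul (rep (B.lmul (ψ y) ω)) (ss ω)) := by
      rw [hr, map_mul, B.lmul_mul, ← hxs ω]
    rw [hspec _ _ _ h1, hr, map_mul, B.lmul_mul]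
  have hrm : ∀ (ω : X) (t : ↥S), efun (B.rmul ω t) = B.rmul (efun ω) t := by
    intro ω t
    have hr : rep (B.rmul ω t) = rep ω :=
      hrep_eq ω _ ⟨1, t, by rw [map_one, B.lmul_one]⟩
    have h1 : B.rmul ω t = B.lmul (ψ (xx ω)) (B.rmul (rep (B.rmul ω t)) (ss ω * t)) := by
      rw [hr, B.rmul_mul, B.lmul_rmul, ← hxs ω]
    rw [hspec _ _ _ h1, hr, B.rmul_mul, B.lmul_rmul]
  have hpr : ∀ ω, B.pr (efun ω) = γ * B.pr ω := by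
    intro ω
    show B.pr (B.lmul (Subgroup.inclusion hDS (xx ω)) (B.rmul (target (rep ω)) (ss ω))) = _
    rw [B.pr_lmul, B.pr_rmul, htpr]
    conv_rhs => rw [hxs ω, B.pr_lmul, B.pr_rmul, hψc]
    group
  have hinj : Function.Injective efun := by
    intro ω ω' h
    have h1 : B.pr ω = B.pr ω' := by
      have := congrArg B.pr h
      rw [hpr, hpr] at this
      exact mul_left_cancel this
    obtain ⟨z, -, hz⟩ := B.fibre _ _ h1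
    rw [hz, hrm] at h
    have h2 := B.free _ _ h.symm
    rw [hz, h2, B.rmul_one]
  have hbij : Function.Bijective efun := Finite.injective_iff_bijective.mp hinj
  have hmem : Equiv.ofBijective efun hbij ∈ B.Ehat := ⟨fun ω s => hrm ω s, γ, hpr⟩
  refine ⟨⟨Equiv.ofBijective efun hbij, hmem⟩, ?_, ?_⟩
  · show B.pr (efun B.base) = γ
    rw [hpr, B.pr_base, mul_one]
  · intro x
    apply B.ext_of_forall
    intro ω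
    exact hlm x ω


/-- For every `γ ∈ Aut_F(Q)` there is an element of `Ê` over `γ` conjugating the left multiplications by the elements
of the extender of `γ⁻¹` to left multiplications. -/
theorem exists_lift_of_mem [Finite X] (hS : IsPGroup p S) (hF : F.IsSaturated p) (hQc : F.IsCentric Q)
    (hSN : S ≤ Subgroup.normalizer (Q : Set Ω))
    (hc : ∀ (s : ↥S) (x : ↥Q), ((c s x : ↥Q) : Ω) = s * x * (s : Ω)⁻¹)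
    (γ : MulAut ↥Q) (hγ : γ ∈ F.autGroup Q) :
    ∃ e : ↥B.Ehat, B.rho e = γ ∧
      ∀ x : ↥S, γ⁻¹ * c x * γ ∈ c.range → ∃ y : ↥S, e⁻¹ * B.L x * e = B.L y := by
  have hQS' : Q ≤ S := hQS
  have hφγ : Q.subtype.comp ((γ⁻¹ : MulAut ↥Q) : ↥Q ≃* ↥Q).toMonoidHom ∈ F.Hom Q :=
    (mem_autGroup_iff F hQS' γ⁻¹).mp (Subgroup.inv_mem _ hγ)
  have hrange : (Q.subtype.comp ((γ⁻¹ : MulAut ↥Q) : ↥Q ≃* ↥Q).toMonoidHom).range = Q := by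
    ext y
    constructor
    · rintro ⟨x, rfl⟩
      exact (γ⁻¹ x).2
    · intro hy
      refine ⟨γ ⟨y, hy⟩, ?_⟩
      show ((γ⁻¹ (γ ⟨y, hy⟩) : ↥Q) : Ω) = y
      rw [MulAut.inv_apply_self]
  have hQr : F.IsReceptive Q := Cfsg.Agent.Helper88.FS.isReceptive_of_isCentric hS F hF hQc
  have hDS : extender S Q (Q.subtype.comp ((γ⁻¹ : MulAut ↥Q) : ↥Q ≃* ↥Q).toMonoidHom) ≤ S := by
    intro g hg
    exact ((mem_extender_iff S Q _ g).mp hg).1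
  have hQD : Q ≤ extender S Q (Q.subtype.comp ((γ⁻¹ : MulAut ↥Q) : ↥Q ≃* ↥Q).toMonoidHom) := by
    intro g hg
    rw [mem_extender_iff]
    refine ⟨hQS' hg, Subgroup.le_normalizer hg, ((γ⁻¹ ⟨g, hg⟩ : ↥Q) : Ω), hQS' (γ⁻¹ ⟨g, hg⟩).2, fun x hx => ?_⟩
    show ((γ⁻¹ ⟨g * x * g⁻¹, hx⟩ : ↥Q) : Ω) = ((γ⁻¹ ⟨g, hg⟩ : ↥Q) : Ω) * ((γ⁻¹ x : ↥Q) : Ω) *
      ((γ⁻¹ ⟨g, hg⟩ : ↥Q) : Ω)⁻¹
    have h1 : (⟨g * x * g⁻¹, hx⟩ : ↥Q) = ⟨g, hg⟩ * x * (⟨g, hg⟩ : ↥Q)⁻¹ := Subtype.ext rfl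
    rw [h1, map_mul, map_mul, map_inv]
    rfl
  set D := extender S Q (Q.subtype.comp ((γ⁻¹ : MulAut ↥Q) : ↥Q ≃* ↥Q).toMonoidHom) with hD
  obtain ⟨ψ₀, hψ₀, hψ₀x⟩ : ∃ ψ₀ : ↥D →* Ω, ψ₀ ∈ F.Hom D ∧ ∀ (x : Ω) (hP : x ∈ Q) (hN : x ∈ D), ψ₀ ⟨x, hN⟩ =
      (Q.subtype.comp ((γ⁻¹ : MulAut ↥Q) : ↥Q ≃* ↥Q).toMonoidHom) ⟨x, hP⟩ := hQr.2 Q _ hφγ hrange
  let ψ : ↥D →* ↥S := ψ₀.codRestrict S (fun x => (F.le_of_mem hψ₀).2 x)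
  have hψ : S.subtype.comp ψ ∈ F.Hom D := mem_of_eq F hψ₀ (fun x => rfl)
  have hψQ : ∀ (x : ↥D) (hx : (x : Ω) ∈ Q), ((ψ x : ↥S) : Ω) = ((γ⁻¹ ⟨x, hx⟩ : ↥Q) : Ω) := by
    intro x hx
    exact hψ₀x x hx x.2
  have hψc : ∀ x : ↥D, c (ψ x) = γ⁻¹ * c (Subgroup.inclusion hDS x) * γ := by
    intro x
    ext u
    rw [hc]
    show ψ₀ x * (u : Ω) * (ψ₀ x)⁻¹ = ((γ⁻¹ (c (Subgroup.inclusion hDS x) (γ u)) : ↥Q) : Ω)
    have hv : (x : Ω) * ((γ u : ↥Q) : Ω) * (x : Ω)⁻¹ ∈ Q :=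
      (Subgroup.mem_normalizer_iff.mp (hSN (hDS x.2)) _).mp (γ u).2
    have h1 : c (Subgroup.inclusion hDS x) (γ u) = ⟨_, hv⟩ := Subtype.ext (hc _ _)
    rw [h1]
    have h2 := hψ₀x _ hv (hQD hv)
    have h3 : (⟨(x : Ω) * ((γ u : ↥Q) : Ω) * (x : Ω)⁻¹, hQD hv⟩ : ↥D) =
        x * ⟨((γ u : ↥Q) : Ω), hQD (γ u).2⟩ * x⁻¹ := Subtype.ext rfl
    rw [h3, map_mul, map_mul, map_inv] at h2
    have h4 := hψ₀x _ (γ u).2 (hQD (γ u).2)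
    rw [h4] at h2
    have h5 : (Q.subtype.comp ((γ⁻¹ : MulAut ↥Q) : ↥Q ≃* ↥Q).toMonoidHom) ⟨((γ u : ↥Q) : Ω), (γ u).2⟩ = u := by
      show ((γ⁻¹ (γ u) : ↥Q) : Ω) = u
      rw [MulAut.inv_apply_self]
    rw [h5] at h2
    rw [h2]
    rfl
  obtain ⟨e, he, hel⟩ := B.exists_lift hS hF hQc hc γ hγ hQD hDS ψ hψ hψQ hψc
  refine ⟨e, he, fun x hx => ?_⟩
  obtain ⟨h, hh⟩ := hx
  have hxD : (x : Ω) ∈ D := by
    rw [hD, mem_extender_iff]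
    refine ⟨x.2, hSN x.2, h, h.2, fun u hu => ?_⟩
    show ((γ⁻¹ ⟨(x : Ω) * u * (x : Ω)⁻¹, hu⟩ : ↥Q) : Ω) = h * ((γ⁻¹ u : ↥Q) : Ω) * (h : Ω)⁻¹
    have h1 := congrArg (fun f : MulAut ↥Q => ((f (γ⁻¹ u) : ↥Q) : Ω)) hh
    simp only [MulAut.mul_apply, MulAut.apply_inv_self] at h1
    rw [hc] at h1
    rw [h1]
    congr 2
    apply Subtype.ext
    rw [hc]
  refine ⟨ψ ⟨x, hxD⟩, ?_⟩
  have h6 := hel ⟨x, hxD⟩
  have h7 : Subgroup.inclusion hDS ⟨(x : Ω), hxD⟩ = x := Subtype.ext rfl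
  rw [h7] at h6
  rw [mul_assoc, ← h6, inv_mul_cancel_left]

end lift

end ModelBiset

end Cfsg.Agent.Helper84
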