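import Cfsg.Agent.Helper84.ModelBiset2
import Cfsg.Agent.Helper87.FusionSeries
import Cfsg.Agent.Helper87.FusionNormal
set_option autoImplicit false

/-! # Model bisets: from a model biset to a model -/

namespace Cfsg.Agent.Helper84

open Cfsg Cfsg.FusionSystem Cfsg.Agent.Helper87

variable {Ω : Type*} [Group Ω] {S : Subgroup Ω}

/-- The kernel of the conjugation map into `Aut(Q)` lies in `Q` when `Q` is centric. -/
theorem mem_of_conj_eq_one {F : FusionSystem S} {Q : Subgroup Ω} (hQc : F.IsCentric Q) (c : ↥S →* MulAut ↥Q)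
    (hc : ∀ (s : ↥S) (x : ↥Q), ((c s x : ↥Q) : Ω) = s * x * (s : Ω)⁻¹) (z : ↥S) (hz : c z = 1) : (z : Ω) ∈ Q := by
  apply hQc.2 Q (isConj_refl F hQc.1)
  refine ⟨z.2, ?_⟩
  show (z : Ω) ∈ Subgroup.centralizer (Q : Set Ω)
  rw [Subgroup.mem_centralizer_iff]
  intro x hx
  have h1 := hc z ⟨x, hx⟩
  rw [hz, MulAut.one_apply] at h1
  have h2 : x = (z : Ω) * x * (z : Ω)⁻¹ := h1
  calc x * (z : Ω) = ((z : Ω) * x * (z : Ω)⁻¹) * z := by rw [← h2]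
    _ = z * x := by group

/-- The image of the conjugation map is `Aut_S(Q)`. -/
theorem range_conj_eq {Q : Subgroup Ω} (c : ↥S →* MulAut ↥Q)
    (hc : ∀ (s : ↥S) (x : ↥Q), ((c s x : ↥Q) : Ω) = s * x * (s : Ω)⁻¹) : c.range = autInducedBy S Q := by
  ext α
  rw [mem_autInducedBy_iff]
  constructor
  · rintro ⟨s, rfl⟩
    exact ⟨s, s.2, fun x => hc s x⟩
  · rintro ⟨g, hg, h⟩
    refine ⟨⟨g, hg⟩, ?_⟩
    ext x
    rw [hc, h]

/-- A subgroup normal in a saturated system is fully automized. -/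
theorem isFullyAutomized_of_isNormal [Finite S] {p : ℕ} [Fact p.Prime] (hS : IsPGroup p S) (F : FusionSystem S)
    (hF : F.IsSaturated p) {Q : Subgroup Ω} (hQn : F.IsNormal Q) : F.IsFullyAutomized p Q := by
  have hw := weaklyClosed_of_isNormal F hQn
  have hfn : F.IsFullyNormalized Q := by
    refine ⟨hQn.1, fun R hR => ?_⟩
    obtain ⟨φ, hφ, hφr⟩ := hR
    have := hw.2 φ hφ
    rw [hφr] at this
    rw [this]
  exact (fullyAutomized_fullyCentralized_of_fullyNormalized hS F hF hfn).2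

namespace ModelBiset

variable {F : FusionSystem S} {Q : Subgroup Ω} {hQS : Q ≤ S} {c : ↥S →* MulAut ↥Q} {X : Type*}
  (B : ModelBiset F hQS c X)

/-- The left action is faithful. -/
theorem L_injective (hcen : ∀ z : ↥S, c z = 1 → (z : Ω) ∈ Q) : Function.Injective B.L := by
  rw [injective_iff_map_eq_one]
  intro x hx
  have hcx : c x = 1 := by rw [← B.rho_L, hx, map_one]
  have hxQ := hcen x hcx
  have h1 : B.lmul x B.base = B.base := by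
    have := congrArg (fun f : ↥B.Ehat => (f : Equiv.Perm X) B.base) hx
    exact this
  rw [B.qcompat _ x hxQ] at h1
  have h2 := B.free _ _ h1
  have h3 : (((B.pr B.base)⁻¹ ⟨x, hxQ⟩ : ↥Q) : Ω) = 1 := congrArg Subtype.val h2
  rw [B.pr_base, inv_one, MulAut.one_apply] at h3
  exact Subtype.ext h3

/-- Every element of `S` moves the base point inside its right orbit. -/
theorem exists_base_stab : ∃ σ : ↥S →* ↥S, ∀ s, B.lmul s B.base = B.rmul B.base (σ s) := by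
  apply B.exists_stabHom (MonoidHom.id ↥S) B.base
  intro s
  have h1 : B.pr (B.rmul B.base s) = B.pr (B.lmul s B.base) := by
    rw [B.pr_rmul, B.pr_lmul, B.pr_base, mul_one, one_mul]
  obtain ⟨z, -, hz⟩ := B.fibre _ _ h1
  exact ⟨s * z, by rw [MonoidHom.id_apply, hz, ← B.rmul_mul]⟩

/-- **Park's argument**: a homomorphism that is realized by conjugation by an element of `Ê` is a map of the system. -/
theorem mem_hom_of_conj (g : ↥B.Ehat) {P : Subgroup Ω} (hP : P ≤ S) (φ : ↥P →* Ω) (hφ : ∀ x, φ x ∈ S)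
    (h : ∀ x : ↥P, B.L ⟨φ x, hφ x⟩ = g * B.L ⟨x, hP x.2⟩ * g⁻¹) : φ ∈ F.Hom P := by
  obtain ⟨σ, hσ⟩ := B.exists_base_stab
  have hσF : S.subtype.comp σ ∈ F.Hom S :=
    B.fstab B.base S S.subtype (S.subtype.comp σ) (subtype_mem F le_rfl) (fun x => (σ x).2) (fun x => hσ x)
  set ω₂ : X := ((g⁻¹ : ↥B.Ehat) : Equiv.Perm X) B.base with hω₂
  have hstab : ∀ x : ↥P, B.lmul ⟨x, hP x.2⟩ ω₂ = B.rmul ω₂ (σ ⟨φ x, hφ x⟩) := by
    intro x
    have h1 : g⁻¹ * B.L ⟨φ x, hφ x⟩ = B.L ⟨x, hP x.2⟩ * g⁻¹ := by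
      rw [h x]; group
    have h2 := congrArg (fun f : ↥B.Ehat => (f : Equiv.Perm X) B.base) h1
    simp only [Subgroup.coe_mul, Equiv.Perm.mul_apply, L_apply] at h2
    rw [hσ, B.apply_rmul] at h2
    exact h2.symm
  have h5 : S.subtype.comp (σ.comp (φ.codRestrict S hφ)) ∈ F.Hom P :=
    B.fstab ω₂ P P.subtype (S.subtype.comp (σ.comp (φ.codRestrict S hφ))) (subtype_mem F hP)
      (fun x => (σ _).2) (fun x => hstab x)
  obtain ⟨τ, hτ, hτx⟩ := F.inv_mem hσF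
  have h6 := F.comp_mem h5 hτ (fun x => ⟨φ.codRestrict S hφ x, rfl⟩)
  refine mem_of_eq F h6 (fun x => ?_)
  have := hτx (φ.codRestrict S hφ x)
  exact this.symm


section assemble

variable [Finite S] [Finite X] {p : ℕ} [Fact p.Prime]

theorem exists_rho_eq (hS : IsPGroup p S) (hF : F.IsSaturated p) (hQn : F.IsNormal Q) (hQc : F.IsCentric Q)
    (hc : ∀ (s : ↥S) (x : ↥Q), ((c s x : ↥Q) : Ω) = s * x * (s : Ω)⁻¹)
    (γ : MulAut ↥Q) (hγ : γ ∈ F.autGroup Q) : ∃ e : ↥B.Ehat, B.rho e = γ := by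
  obtain ⟨e, he, -⟩ := B.exists_lift_of_mem hS hF hQc (le_normalizer_of_isNormal F hQn) hc γ hγ
  exact ⟨e, he⟩

theorem rho_range (hS : IsPGroup p S) (hF : F.IsSaturated p) (hQn : F.IsNormal Q) (hQc : F.IsCentric Q)
    (hc : ∀ (s : ↥S) (x : ↥Q), ((c s x : ↥Q) : Ω) = s * x * (s : Ω)⁻¹) : B.rho.range = F.autGroup Q := by
  apply le_antisymm
  · rintro _ ⟨e, rfl⟩
    exact B.rho_mem e
  · intro γ hγ
    exact B.exists_rho_eq hS hF hQn hQc hc γ hγ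

/-- The index of `Aut_S(Q)` in `Aut_F(Q)` is prime to `p`. -/
theorem not_dvd_relIndex (hS : IsPGroup p S) (hF : F.IsSaturated p) (hQn : F.IsNormal Q)
    (hc : ∀ (s : ↥S) (x : ↥Q), ((c s x : ↥Q) : Ω) = s * x * (s : Ω)⁻¹) :
    ¬ p ∣ (c.range).relIndex (F.autGroup Q) := by
  rw [range_conj_eq c hc]
  obtain ⟨R, hR⟩ := (isFullyAutomized_of_isNormal hS F hF hQn).2
  have h1 : (autInducedBy S Q).relIndex (F.autGroup Q) = (R : Subgroup (F.autGroup Q)).index := by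
    rw [hR]; rfl
  rw [h1]
  haveI : Finite (MulAut ↥Q) := finite_mulAut_of_le hQn.1
  exact R.not_dvd_index

/-- The stable Gaschütz step: a supplement of `ker ρ` in `Ê` containing the left multiplications and meeting the kernel
in `Z₀`. -/
theorem exists_supplement (hS : IsPGroup p S) (hF : F.IsSaturated p) (hQn : F.IsNormal Q) (hQc : F.IsCentric Q)
    (hc : ∀ (s : ↥S) (x : ↥Q), ((c s x : ↥Q) : Ω) = s * x * (s : Ω)⁻¹) :
    ∃ H : Subgroup ↥B.Ehat, H ⊓ B.rho.ker = B.Z0 ∧ B.rho.ker ⊔ H = ⊤ ∧ B.L.range ≤ H := by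
  have hcen := mem_of_conj_eq_one hQc c hc
  have hSN := le_normalizer_of_isNormal F hQn
  have := B.Z0_normal hcen
  refine exists_partial_complement_of_stable B.Z0 B.rho.ker ((c.range).comap B.rho) B.L.range inf_le_right
    ?_ ?_ rfl ?_ ?_ ?_
  · intro f hf
    show B.rho f ∈ c.range
    rw [MonoidHom.mem_ker.mp hf]
    exact Subgroup.one_mem _
  · intro a ha b hb
    exact B.ker_rho_comm hc hcen ha hb
  · exact B.ker_sup_range
  · obtain ⟨k, hk⟩ := IsPGroup.iff_card.mp (B.isPGroup_ker_rho hS)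
    rw [hk, Subgroup.index_comap, B.rho_range hS hF hQn hQc hc]
    exact Nat.Coprime.pow_left k
      ((Nat.Prime.coprime_iff_not_dvd Fact.out).mpr (not_dvd_relIndex hS hF hQn hc))
  · intro e
    obtain ⟨e', he', hlift⟩ := B.exists_lift_of_mem hS hF hQc hSN hc (B.rho e) (B.rho_mem e)
    refine ⟨e⁻¹ * e', ?_, ?_⟩
    · rw [MonoidHom.mem_ker, map_mul, map_inv, he', inv_mul_cancel]
    · rintro _ ⟨x, rfl⟩ hx
      rw [mul_inv_cancel_left]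
      have h2 : (B.rho e)⁻¹ * c x * B.rho e ∈ c.range := by
        have h1 : B.rho (e⁻¹ * B.L x * e) ∈ c.range := hx
        rwa [map_mul, map_mul, map_inv, B.rho_L] at h1
      obtain ⟨y, hy⟩ := hlift x h2
      exact ⟨y, hy.symm⟩

end assemble


section model

variable [Finite S] [Finite X] {p : ℕ} [Fact p.Prime] (H : Subgroup ↥B.Ehat)

/-- The left multiplications, as a homomorphism into a subgroup containing them. -/
def iota (h3 : B.L.range ≤ H) : ↥S →* ↥H := B.L.codRestrict H (fun x => h3 ⟨x, rfl⟩)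

omit [Finite ↥S] [Finite X] in
theorem coe_iota (h3 : B.L.range ≤ H) (x : ↥S) : ((B.iota H h3 x : ↥H) : ↥B.Ehat) = B.L x := rfl

theorem exists_mem_rho_eq (hS : IsPGroup p S) (hF : F.IsSaturated p) (hQn : F.IsNormal Q) (hQc : F.IsCentric Q)
    (hc : ∀ (s : ↥S) (x : ↥Q), ((c s x : ↥Q) : Ω) = s * x * (s : Ω)⁻¹) (h2 : B.rho.ker ⊔ H = ⊤)
    (γ : MulAut ↥Q) (hγ : γ ∈ F.autGroup Q) : ∃ g : ↥H, B.rho g = γ := by
  obtain ⟨e, he⟩ := B.exists_rho_eq hS hF hQn hQc hc γ hγ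
  have h : e ∈ ((B.rho.ker ⊔ H : Subgroup ↥B.Ehat) : Set ↥B.Ehat) := by
    rw [h2]; exact Subgroup.mem_top e
  rw [Subgroup.normal_mul] at h
  obtain ⟨m, hm, g, hg, rfl⟩ := h
  refine ⟨⟨g, hg⟩, ?_⟩
  rw [← he, map_mul, MonoidHom.mem_ker.mp hm, one_mul]

omit [Finite ↥S] [Finite X] in
theorem mem_range_iota_iff (h1 : H ⊓ B.rho.ker = B.Z0) (h3 : B.L.range ≤ H) (f : ↥H) :
    f ∈ (B.iota H h3).range ↔ B.rho f ∈ c.range := by
  constructor
  · rintro ⟨x, rfl⟩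
    exact ⟨x, (B.rho_L x).symm⟩
  · rintro ⟨x, hx⟩
    have hmem : (f : ↥B.Ehat) * (B.L x)⁻¹ ∈ H ⊓ B.rho.ker := by
      refine ⟨H.mul_mem f.2 (H.inv_mem (h3 ⟨x, rfl⟩)), ?_⟩
      show (f : ↥B.Ehat) * (B.L x)⁻¹ ∈ B.rho.ker
      rw [MonoidHom.mem_ker, map_mul, map_inv, B.rho_L, hx, mul_inv_cancel]
    rw [h1] at hmem
    obtain ⟨z, hz⟩ := hmem.1
    refine ⟨z * x, Subtype.ext ?_⟩
    show B.L (z * x) = f
    rw [map_mul, hz, inv_mul_cancel_right]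

theorem not_dvd_index_range_iota (hS : IsPGroup p S) (hF : F.IsSaturated p) (hQn : F.IsNormal Q)
    (hQc : F.IsCentric Q) (hc : ∀ (s : ↥S) (x : ↥Q), ((c s x : ↥Q) : Ω) = s * x * (s : Ω)⁻¹)
    (h1 : H ⊓ B.rho.ker = B.Z0) (h2 : B.rho.ker ⊔ H = ⊤) (h3 : B.L.range ≤ H) :
    ¬ p ∣ (B.iota H h3).range.index := by
  have hcomap : (B.iota H h3).range = (c.range).comap (B.rho.comp H.subtype) := by
    ext f
    rw [B.mem_range_iota_iff H h1 h3]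
    rfl
  have hrange : (B.rho.comp H.subtype).range = F.autGroup Q := by
    apply le_antisymm
    · rintro _ ⟨g, rfl⟩
      exact B.rho_mem _
    · intro γ hγ
      obtain ⟨g, hg⟩ := B.exists_mem_rho_eq H hS hF hQn hQc hc h2 γ hγ
      exact ⟨g, hg⟩
  rw [hcomap, Subgroup.index_comap, hrange]
  exact not_dvd_relIndex hS hF hQn hc

omit [Finite ↥S] [Finite X] in
theorem mem_hom_of_conj_iota (h3 : B.L.range ≤ H) (g : ↥H) {P : Subgroup Ω} (hP : P ≤ S) (φ : ↥P →* Ω)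
    (hφ : ∀ x, φ x ∈ S)
    (h : ∀ x : ↥P, B.iota H h3 ⟨φ x, hφ x⟩ = g * B.iota H h3 ⟨x, hP x.2⟩ * g⁻¹) : φ ∈ F.Hom P :=
  B.mem_hom_of_conj (g : ↥B.Ehat) hP φ hφ (fun x => congrArg Subtype.val (h x))

theorem exists_conj_of_mem_hom (hS : IsPGroup p S) (hF : F.IsSaturated p) (hQn : F.IsNormal Q)
    (hQc : F.IsCentric Q) (hc : ∀ (s : ↥S) (x : ↥Q), ((c s x : ↥Q) : Ω) = s * x * (s : Ω)⁻¹)
    (h1 : H ⊓ B.rho.ker = B.Z0) (h2 : B.rho.ker ⊔ H = ⊤) (h3 : B.L.range ≤ H)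
    {P : Subgroup Ω} (hP : P ≤ S) (φ : ↥P →* Ω) (hφS : ∀ x, φ x ∈ S) (hφ : φ ∈ F.Hom P) :
    ∃ g : ↥H, ∀ x : ↥P, B.iota H h3 ⟨φ x, hφS x⟩ = g * B.iota H h3 ⟨x, hP x.2⟩ * g⁻¹ := by
  have hcen := mem_of_conj_eq_one hQc c hc
  have hinj := B.L_injective hcen
  obtain ⟨ψ, hψ, hψP, hψQ⟩ := hQn.2 P φ hφ
  rw [Helper85.map_subgroupOf_eq_iff] at hψQ
  have hNS : P ⊔ Q ≤ S := sup_le hP hQS
  have hQN : Q ≤ P ⊔ Q := le_sup_right
  have hψS : ∀ x, ψ x ∈ S := (F.le_of_mem hψ).2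
  have hres : ψ.comp (Subgroup.inclusion hQN) ∈ F.Hom Q := restrict_mem F hψ hQN
  have hresr : (ψ.comp (Subgroup.inclusion hQN)).range = Q := by
    ext y
    constructor
    · rintro ⟨x, rfl⟩
      exact hψQ.1 _ x.2
    · intro hy
      obtain ⟨x, hxQ, hx⟩ := hψQ.2 y hy
      refine ⟨⟨x, hxQ⟩, ?_⟩
      rw [← hx]
      rfl
  set γ : MulAut ↥Q := isoOfRange F hres hresr with hγdef
  have hγx : ∀ x : ↥Q, ((γ x : ↥Q) : Ω) = ψ (Subgroup.inclusion hQN x) := fun x => rfl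
  have hγ : γ ∈ F.autGroup Q := (mem_autGroup_iff F hQS γ).mpr (isIso_isoOfRange F hres hresr)
  obtain ⟨g₀, hg₀⟩ := B.exists_mem_rho_eq H hS hF hQn hQc hc h2 γ hγ
  have hconj : ∀ x : ↥(P ⊔ Q), γ * c ⟨x, hNS x.2⟩ * γ⁻¹ = c ⟨ψ x, hψS x⟩ := by
    intro x
    ext u
    rw [hc]
    show ((γ (c ⟨x, hNS x.2⟩ (γ⁻¹ u)) : ↥Q) : Ω) = ψ x * u * (ψ x)⁻¹
    rw [hγx]
    have h4 : Subgroup.inclusion hQN (c ⟨x, hNS x.2⟩ (γ⁻¹ u)) =
        x * Subgroup.inclusion hQN (γ⁻¹ u) * x⁻¹ := by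
      apply Subtype.ext
      show ((c ⟨x, hNS x.2⟩ (γ⁻¹ u) : ↥Q) : Ω) = _
      rw [hc]
      rfl
    rw [h4, map_mul, map_mul, map_inv, ← hγx, MulAut.apply_inv_self]
  have hex : ∀ x : ↥(P ⊔ Q), ∃ y : ↥S, B.iota H h3 y = g₀ * B.iota H h3 ⟨x, hNS x.2⟩ * g₀⁻¹ := by
    intro x
    have : g₀ * B.iota H h3 ⟨x, hNS x.2⟩ * g₀⁻¹ ∈ (B.iota H h3).range := by
      rw [B.mem_range_iota_iff H h1 h3]
      show B.rho ((g₀ : ↥B.Ehat) * B.L ⟨x, hNS x.2⟩ * (g₀ : ↥B.Ehat)⁻¹) ∈ c.range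
      rw [map_mul, map_mul, map_inv, B.rho_L, hg₀, hconj]
      exact ⟨_, rfl⟩
    exact this
  choose θ' hθ' using hex
  have hιinj : Function.Injective (B.iota H h3) := fun a b hab => hinj (congrArg Subtype.val hab)
  have hmul : ∀ x y, θ' (x * y) = θ' x * θ' y := by
    intro x y
    apply hιinj
    rw [map_mul, hθ', hθ', hθ']
    have : (⟨((x * y : ↥(P ⊔ Q)) : Ω), hNS (x * y).2⟩ : ↥S) = ⟨x, hNS x.2⟩ * ⟨y, hNS y.2⟩ := rfl
    rw [this, map_mul]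
    group
  let θ : ↥(P ⊔ Q) →* Ω := S.subtype.comp (MonoidHom.mk' θ' hmul)
  have hθ : θ ∈ F.Hom (P ⊔ Q) :=
    B.mem_hom_of_conj_iota H h3 g₀ hNS θ (fun x => (θ' x).2) (fun x => hθ' x)
  have hagree : ∀ x : ↥(P ⊔ Q), (x : Ω) ∈ Q → θ x = ψ x := by
    intro x hx
    have h5 := B.conj_L_of_mem (g₀ : ↥B.Ehat) ⟨x, hNS x.2⟩ hx
    have h6 : B.L (θ' x) = (g₀ : ↥B.Ehat) * B.L ⟨x, hNS x.2⟩ * (g₀ : ↥B.Ehat)⁻¹ :=
      congrArg Subtype.val (hθ' x)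
    rw [h5] at h6
    have h7 := hinj h6
    show ((θ' x : ↥S) : Ω) = ψ x
    rw [h7]
    show ((B.rho g₀ ⟨x, hx⟩ : ↥Q) : Ω) = ψ x
    rw [hg₀, hγx]
    rfl
  obtain ⟨z, hzQ, -, hz⟩ := Cfsg.Agent.S5095.result p hS F hF (P ⊔ Q) Q hQN hQc θ ψ hθ hψ hagree
  refine ⟨g₀ * B.iota H h3 ⟨z, hNS z.2⟩, fun x => ?_⟩
  have h8 : (⟨φ x, hφS x⟩ : ↥S) = θ' (z * Subgroup.inclusion le_sup_left x * z⁻¹) := by
    apply Subtype.ext
    show φ x = θ (z * Subgroup.inclusion le_sup_left x * z⁻¹)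
    rw [← hz, hψP]
  rw [h8, hθ']
  have h9 : (⟨((z * Subgroup.inclusion le_sup_left x * z⁻¹ : ↥(P ⊔ Q)) : Ω),
      hNS (z * Subgroup.inclusion le_sup_left x * z⁻¹).2⟩ : ↥S)
      = ⟨z, hNS z.2⟩ * ⟨x, hP x.2⟩ * (⟨z, hNS z.2⟩ : ↥S)⁻¹ := rfl
  rw [h9, map_mul, map_mul, map_inv]
  group

theorem centralizer_pCore_le (hS : IsPGroup p S) (hQc : F.IsCentric Q)
    (hc : ∀ (s : ↥S) (x : ↥Q), ((c s x : ↥Q) : Ω) = s * x * (s : Ω)⁻¹)
    (h1 : H ⊓ B.rho.ker = B.Z0) (h3 : B.L.range ≤ H) :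
    Subgroup.centralizer ((pCore p ↥H : Subgroup ↥H) : Set ↥H) ≤ pCore p ↥H := by
  have hcen := mem_of_conj_eq_one hQc c hc
  have hinj := B.L_injective hcen
  have hιinj : Function.Injective (B.iota H h3) := fun a b hab => hinj (congrArg Subtype.val hab)
  set N₀ : Subgroup ↥H := (Q.subgroupOf S).map (B.iota H h3) with hN₀
  have hconj : ∀ (g : ↥H) (x : ↥S) (hx : (x : Ω) ∈ Q), g * B.iota H h3 x * g⁻¹ =
      B.iota H h3 ⟨((B.rho g ⟨x, hx⟩ : ↥Q) : Ω), hQS (B.rho g ⟨x, hx⟩).2⟩ := by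
    intro g x hx
    apply Subtype.ext
    exact B.conj_L_of_mem (g : ↥B.Ehat) x hx
  have hnorm : N₀.Normal := by
    refine ⟨?_⟩
    rintro _ ⟨x, hx, rfl⟩ g
    rw [hconj g x hx]
    exact ⟨_, (B.rho g ⟨x, hx⟩).2, rfl⟩
  have hp : IsPGroup p N₀ := (hS.to_subgroup (Q.subgroupOf S)).map (B.iota H h3)
  have hle : N₀ ≤ pCore p ↥H := le_sSup ⟨hnorm, hp⟩
  intro f hf
  apply hle
  rw [Subgroup.mem_centralizer_iff] at hf
  have hρ : B.rho f = 1 := by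
    ext u
    rw [MulAut.one_apply]
    have hu : B.iota H h3 ⟨u, hQS u.2⟩ ∈ pCore p ↥H := hle ⟨⟨u, hQS u.2⟩, u.2, rfl⟩
    have h4 := hf _ hu
    have h5 : f * B.iota H h3 ⟨u, hQS u.2⟩ * f⁻¹ = B.iota H h3 ⟨u, hQS u.2⟩ := by
      rw [← h4]; group
    rw [hconj f ⟨u, hQS u.2⟩ u.2] at h5
    have h6 := hιinj h5
    have h7 := congrArg Subtype.val h6
    exact h7
  have hmem : (f : ↥B.Ehat) ∈ H ⊓ B.rho.ker := ⟨f.2, MonoidHom.mem_ker.mpr hρ⟩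
  rw [h1] at hmem
  obtain ⟨z, hz⟩ := hmem.1
  have hcz : c z = 1 := by
    rw [← B.rho_L, hz]; exact hρ
  exact ⟨z, hcen z hcz, Subtype.ext hz⟩

/-- **From a model biset to a model.** -/
theorem isModel_of_supplement (hS : IsPGroup p S) (hF : F.IsSaturated p) (hQn : F.IsNormal Q)
    (hQc : F.IsCentric Q) (hc : ∀ (s : ↥S) (x : ↥Q), ((c s x : ↥Q) : Ω) = s * x * (s : Ω)⁻¹)
    (h1 : H ⊓ B.rho.ker = B.Z0) (h2 : B.rho.ker ⊔ H = ⊤) (h3 : B.L.range ≤ H) :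
    F.IsModel p ↥H (B.iota H h3) := by
  have hcen := mem_of_conj_eq_one hQc c hc
  have hinj := B.L_injective hcen
  have hιinj : Function.Injective (B.iota H h3) := fun a b hab => hinj (congrArg Subtype.val hab)
  refine ⟨inferInstance, ⟨hιinj, fun P hP φ hφS => ⟨fun hφ => ?_, fun hg => ?_⟩⟩, ?_,
    B.centralizer_pCore_le H hS hQc hc h1 h3⟩
  · exact B.exists_conj_of_mem_hom H hS hF hQn hQc hc h1 h2 h3 hP φ hφS hφ
  · obtain ⟨g, hg⟩ := hg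
    exact B.mem_hom_of_conj_iota H h3 g hP φ hφS hg
  · have hp : IsPGroup p (B.iota H h3).range :=
      hS.of_surjective _ (B.iota H h3).rangeRestrict_surjective
    exact ⟨hp.toSylow (B.not_dvd_index_range_iota H hS hF hQn hQc hc h1 h2 h3), rfl⟩

/-- **A model biset yields a model**, living in the universe of the biset. -/
theorem exists_model (hS : IsPGroup p S) (hF : F.IsSaturated p) (hQn : F.IsNormal Q)
    (hQc : F.IsCentric Q) (hc : ∀ (s : ↥S) (x : ↥Q), ((c s x : ↥Q) : Ω) = s * x * (s : Ω)⁻¹) :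
    ∃ (H : Subgroup ↥B.Ehat) (ι : ↥S →* ↥H), F.IsModel p ↥H ι := by
  obtain ⟨H, h1, h2, h3⟩ := B.exists_supplement hS hF hQn hQc hc
  exact ⟨H, B.iota H h3, B.isModel_of_supplement H hS hF hQn hQc hc h1 h2 h3⟩

end model

end ModelBiset

end Cfsg.Agent.Helper84
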