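import Cfsg.Agent.Helper85.ModelUnique
import Cfsg.Agent.Helper87.NormModel
import Cfsg.Agent.S5095
set_option autoImplicit false

/-! # Comparing two groups whose fusion on a common `p`-subgroup lies in a saturated fusion system -/

namespace Cfsg.Agent.Helper84

open Cfsg Cfsg.FusionSystem Cfsg.Agent.Helper85 Cfsg.Agent.Helper87

variable {Ω : Type*} [Group Ω] {S : Subgroup Ω}

/-- `ι : T → G` is compatible with the fusion system `F`: every homomorphism between subgroups of `T` that is induced,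
through `ι`, by conjugation by an element of `G`, is a map of `F`. -/
def FusCompat (F : FusionSystem S) {T : Subgroup Ω} {G : Type*} [Group G] (ι : ↥T →* G) : Prop :=
  ∀ (D : Subgroup Ω) (hD : D ≤ T) (φ : ↥D →* Ω) (hφ : ∀ x, φ x ∈ T) (g : G),
    (∀ x : ↥D, ι ⟨φ x, hφ x⟩ = g * ι ⟨x, hD x.2⟩ * g⁻¹) → φ ∈ F.Hom D

/-- Two finite groups containing the `p`-group `T`, both with fusion on `T` inside the saturated system `F`, with the same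
action on a normal subgroup `U` of `T` that is centric in `F` and self-centralizing in both, the second with `T` of index prime
to `p`: they are isomorphic over `T`. -/
theorem exists_iso_of_compat [Finite S] (p : ℕ) [Fact p.Prime] (hS : IsPGroup p S) (F : FusionSystem S)
    (hF : F.IsSaturated p) {T : Subgroup Ω} (hTS : T ≤ S) {G₁ G₂ : Type*} [Group G₁] [Group G₂] [Finite G₁] [Finite G₂]
    (ι₁ : ↥T →* G₁) (ι₂ : ↥T →* G₂) (hinj₁ : Function.Injective ι₁) (hinj₂ : Function.Injective ι₂)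
    (hc₁ : FusCompat F ι₁) (hc₂ : FusCompat F ι₂) (hidx : ¬ p ∣ (ι₂.range).index)
    (U : Subgroup ↥T) (hUn : ∀ s : ↥T, ∀ u ∈ U, s * u * s⁻¹ ∈ U) (hUc : F.IsCentric (U.map T.subtype))
    (hcent₁ : ∀ g : G₁, (∀ u ∈ U, g * ι₁ u = ι₁ u * g) → ∃ z ∈ U, ι₁ z = g)
    (hcent₂ : ∀ g : G₂, (∀ u ∈ U, g * ι₂ u = ι₂ u * g) → ∃ z ∈ U, ι₂ z = g)
    (h12 : ∀ g₁ : G₁, ∃ g₂ : G₂, (g₁, g₂) ∈ MU.fib ι₁ ι₂ U)
    (h21 : ∀ g₂ : G₂, ∃ g₁ : G₁, (g₁, g₂) ∈ MU.fib ι₁ ι₂ U) :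
    ∃ φ : G₁ ≃* G₂, ∀ s : ↥T, φ (ι₁ s) = ι₂ s := by
  have hTp : IsPGroup p ↥T := hS.to_le hTS
  have hmemU' : ∀ (y : Ω) (hy : y ∈ T), y ∈ U.map T.subtype ↔ (⟨y, hy⟩ : ↥T) ∈ U := by
    intro y hy
    constructor
    · rintro ⟨u, hu, rfl⟩
      exact hu
    · intro h
      exact ⟨⟨y, hy⟩, h, rfl⟩
  apply MU.exists_iso (p := p) ι₁ ι₂ hinj₁ hinj₂ hTp hidx U hUn hcent₁ hcent₂ h12 h21
  intro x hx
  -- the common domain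
  set D₀ : Subgroup ↥T := (ι₁.range.comap ((MulAut.conj x.1⁻¹).toMonoidHom.comp ι₁)) ⊓
    (ι₂.range.comap ((MulAut.conj x.2⁻¹).toMonoidHom.comp ι₂)) with hD₀
  have hDT : D₀.map T.subtype ≤ T := by
    rintro _ ⟨u, -, rfl⟩
    exact u.2
  have hmemD : ∀ (y : Ω) (hy : y ∈ T), y ∈ D₀.map T.subtype → (⟨y, hy⟩ : ↥T) ∈ D₀ := by
    rintro y hy ⟨u, hu, rfl⟩
    exact hu
  have hmem₁ : ∀ y : ↥(D₀.map T.subtype), x.1⁻¹ * ι₁ ⟨y, hDT y.2⟩ * x.1⁻¹⁻¹ ∈ ι₁.range :=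
    fun y => (hmemD y _ y.2).1
  have hmem₂ : ∀ y : ↥(D₀.map T.subtype), x.2⁻¹ * ι₂ ⟨y, hDT y.2⟩ * x.2⁻¹⁻¹ ∈ ι₂.range :=
    fun y => (hmemD y _ y.2).2
  obtain ⟨φ₁, hφ₁T, hιφ₁⟩ := exists_hom_of_conj ι₁ hinj₁ hDT x.1⁻¹ hmem₁
  obtain ⟨φ₂, hφ₂T, hιφ₂⟩ := exists_hom_of_conj ι₂ hinj₂ hDT x.2⁻¹ hmem₂
  have hφ₁F : φ₁ ∈ F.Hom (D₀.map T.subtype) := hc₁ _ hDT φ₁ hφ₁T x.1⁻¹ hιφ₁
  have hφ₂F : φ₂ ∈ F.Hom (D₀.map T.subtype) := hc₂ _ hDT φ₂ hφ₂T x.2⁻¹ hιφ₂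
  -- `U ≤ D`
  have hUD₀ : U ≤ D₀ := by
    intro u hu
    obtain ⟨v, hv, e1, e2⟩ := hx.2 u hu
    refine ⟨?_, ?_⟩
    · show x.1⁻¹ * ι₁ u * x.1⁻¹⁻¹ ∈ ι₁.range
      rw [inv_inv, e1]
      exact ⟨v, rfl⟩
    · show x.2⁻¹ * ι₂ u * x.2⁻¹⁻¹ ∈ ι₂.range
      rw [inv_inv, e2]
      exact ⟨v, rfl⟩
  have hUD : U.map T.subtype ≤ D₀.map T.subtype := Subgroup.map_mono hUD₀
  -- values of the two maps
  have hval₁ : ∀ (s t : ↥T) (hs : (s : Ω) ∈ D₀.map T.subtype), x.1⁻¹ * ι₁ s * x.1 = ι₁ t →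
      φ₁ ⟨s, hs⟩ = t := by
    intro s t hs hst
    have e : ι₁ ⟨φ₁ ⟨s, hs⟩, hφ₁T _⟩ = ι₁ t := by
      rw [hιφ₁, inv_inv]
      exact hst
    exact congrArg Subtype.val (hinj₁ e)
  have hval₂ : ∀ (s t : ↥T) (hs : (s : Ω) ∈ D₀.map T.subtype), x.2⁻¹ * ι₂ s * x.2 = ι₂ t →
      φ₂ ⟨s, hs⟩ = t := by
    intro s t hs hst
    have e : ι₂ ⟨φ₂ ⟨s, hs⟩, hφ₂T _⟩ = ι₂ t := by
      rw [hιφ₂, inv_inv]
      exact hst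
    exact congrArg Subtype.val (hinj₂ e)
  have hagree : ∀ y : ↥(D₀.map T.subtype), (y : Ω) ∈ U.map T.subtype → φ₂ y = φ₁ y := by
    intro y hy
    have hyU : (⟨y, hDT y.2⟩ : ↥T) ∈ U := (hmemU' y _).mp hy
    obtain ⟨v, hv, e1, e2⟩ := hx.2 _ hyU
    rw [hval₁ ⟨y, hDT y.2⟩ v y.2 e1, hval₂ ⟨y, hDT y.2⟩ v y.2 e2]
  obtain ⟨z, hzU, hzC, hz⟩ := Cfsg.Agent.S5095.result p hS F hF (D₀.map T.subtype) (U.map T.subtype) hUD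
    hUc φ₂ φ₁ hφ₂F hφ₁F hagree
  -- `w = φ₂ z`
  have hzU₀ : (⟨z, hDT z.2⟩ : ↥T) ∈ U := (hmemU' z _).mp hzU
  obtain ⟨w, hwU, ew1, ew2⟩ := hx.2 _ hzU₀
  have hφ₂z : φ₂ z = w := hval₂ ⟨z, hDT z.2⟩ w z.2 ew2
  refine ⟨w, hwU, fun u hu => ?_, fun s t₁ t₂ ht₁ ht₂ => ?_⟩
  · -- `w` is central in `U`
    obtain ⟨v, hv, e1, e2⟩ := hx.1 u hu
    have hvD : (v : Ω) ∈ D₀.map T.subtype := hUD ⟨v, hv, rfl⟩
    have hφ₂v : φ₂ ⟨v, hvD⟩ = u := by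
      apply hval₂ v u hvD
      rw [← e2]
      group
    have hzv : z * ⟨v, hvD⟩ = ⟨v, hvD⟩ * z := by
      apply Subtype.ext
      exact ((Subgroup.mem_centralizer_iff.mp hzC) v ⟨v, hv, rfl⟩).symm
    apply Subtype.ext
    show (w : Ω) * u = u * w
    rw [← hφ₂z, ← hφ₂v, ← map_mul, ← map_mul, hzv]
  · have hsD₀ : s ∈ D₀ := by
      refine ⟨?_, ?_⟩
      · show x.1⁻¹ * ι₁ s * x.1⁻¹⁻¹ ∈ ι₁.range
        rw [inv_inv, ht₁]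
        exact ⟨t₁, rfl⟩
      · show x.2⁻¹ * ι₂ s * x.2⁻¹⁻¹ ∈ ι₂.range
        rw [inv_inv, ht₂]
        exact ⟨t₂, rfl⟩
    have hsD : (s : Ω) ∈ D₀.map T.subtype := ⟨s, hsD₀, rfl⟩
    have e1 := hval₁ s t₁ hsD ht₁
    have e2 := hval₂ s t₂ hsD ht₂
    have e3 := hz ⟨s, hsD⟩
    apply Subtype.ext
    show (t₁ : Ω) = w * t₂ * (w : Ω)⁻¹
    rw [← e1, e3, map_mul, map_mul, map_inv, hφ₂z, e2]

end Cfsg.Agent.Helper84
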