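import Cfsg.Agent.Helper84.ModelEmbed1
import Cfsg.Agent.Lib.Cores
set_option autoImplicit false

/-! # Centralizers of centric subgroups in models; isomorphisms from induced automorphisms -/

namespace Cfsg.Agent.Helper84

open Cfsg Cfsg.FusionSystem Cfsg.Agent.Helper85 Cfsg.Agent.Helper87

variable {Ω : Type*} [Group Ω] {S : Subgroup Ω}

/-- In a model of a saturated system, an element centralizing the image of a centric subgroup `B` lying in `O_p` of the model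
is the image of an element of `B` (so `C_G(ι B) = ι Z(B)`). -/
theorem exists_of_centralizes [Finite S] (p : ℕ) [Fact p.Prime] (hS : IsPGroup p S) (F : FusionSystem S)
    (hF : F.IsSaturated p) {G : Type*} [Group G] (ι : ↥S →* G) (hG : F.IsModel p G ι) {B : Subgroup Ω}
    (hBc : F.IsCentric B) (hBO : ∀ b : ↥S, (b : Ω) ∈ B → ι b ∈ Cfsg.pCore p G)
    (g : G) (hg : ∀ b : ↥S, (b : Ω) ∈ B → g * ι b = ι b * g) : ∃ z : ↥S, (z : Ω) ∈ B ∧ ι z = g := by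
  obtain ⟨hfin, ⟨hinj, hreal⟩, ⟨T, hT⟩, hcent⟩ := hG
  have hOn : (Cfsg.pCore p G).Normal := by
    have : (Cfsg.pCore p G).Characteristic := Cfsg.Agent.Lib.pCore_characteristic p
    infer_instance
  have hOT : Cfsg.pCore p G ≤ ι.range := by
    rw [← hT]
    exact Cfsg.Agent.Lib.pCore_le_sylow T
  set P₁ := preimageAlong ι (Cfsg.pCore p G) with hP₁
  have hP₁S : P₁ ≤ S := preimageAlong_le ι _
  have hmemP : ∀ (y : Ω) (hy : y ∈ S), y ∈ P₁ ↔ ι ⟨y, hy⟩ ∈ Cfsg.pCore p G := by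
    intro y hy
    rw [hP₁, mem_preimageAlong]
    exact ⟨fun ⟨_, h⟩ => h, fun h => ⟨hy, h⟩⟩
  have hBS : B ≤ S := hBc.1
  have hBP : B ≤ P₁ := fun b hb => (hmemP b (hBS hb)).mpr (hBO ⟨b, hBS hb⟩ hb)
  have hmem : ∀ y : ↥P₁, g * ι ⟨y, hP₁S y.2⟩ * g⁻¹ ∈ ι.range :=
    fun y => hOT (hOn.conj_mem _ ((hmemP y (hP₁S y.2)).mp y.2) g)
  obtain ⟨ψ, hψS, hιψ⟩ := exists_hom_of_conj ι hinj hP₁S g hmem
  have hψF : ψ ∈ F.Hom P₁ := (hreal _ hP₁S ψ hψS).mpr ⟨g, hιψ⟩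
  have hagree : ∀ x : ↥P₁, (x : Ω) ∈ B → P₁.subtype x = ψ x := by
    intro x hx
    have h1 := hιψ x
    have h2 := hg ⟨x, hP₁S x.2⟩ hx
    rw [h2, mul_inv_cancel_right] at h1
    exact (congrArg Subtype.val (hinj h1)).symm
  obtain ⟨z, hzB, -, hz⟩ := Cfsg.Agent.S5095.result p hS F hF P₁ B hBP hBc P₁.subtype ψ (Helper87.subtype_mem F hP₁S)
    hψF hagree
  -- `(ι z)⁻¹ * g` centralizes `O_p(G)`
  have hcen : (ι ⟨z, hP₁S z.2⟩)⁻¹ * g ∈ Subgroup.centralizer ((Cfsg.pCore p G : Subgroup G) : Set G) := by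
    rw [Subgroup.mem_centralizer_iff]
    intro r hr
    obtain ⟨u, rfl⟩ := hOT hr
    have huP : (u : Ω) ∈ P₁ := (hmemP u u.2).mpr hr
    have h1 := hιψ ⟨u, huP⟩
    have h2 : (⟨ψ ⟨u, huP⟩, hψS _⟩ : ↥S) = ⟨z, hP₁S z.2⟩ * u * (⟨z, hP₁S z.2⟩ : ↥S)⁻¹ := by
      apply Subtype.ext
      show ψ ⟨u, huP⟩ = _
      rw [hz]
      rfl
    rw [h2, map_mul, map_mul, map_inv] at h1
    have h3 : ι u = (ι ⟨z, hP₁S z.2⟩)⁻¹ * (g * ι u * g⁻¹) * ι ⟨z, hP₁S z.2⟩ := by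
      rw [← h1]; group
    calc ι u * ((ι ⟨z, hP₁S z.2⟩)⁻¹ * g)
        = ((ι ⟨z, hP₁S z.2⟩)⁻¹ * (g * ι u * g⁻¹) * ι ⟨z, hP₁S z.2⟩) * ((ι ⟨z, hP₁S z.2⟩)⁻¹ * g) := by
          rw [← h3]
      _ = (ι ⟨z, hP₁S z.2⟩)⁻¹ * g * ι u := by group
  obtain ⟨y₀, hy₀⟩ := hOT (hcent hcen)
  set w : ↥S := ⟨z, hP₁S z.2⟩ * y₀ with hw
  have hgw : ι w = g := by
    rw [hw, map_mul, hy₀]
    group
  refine ⟨w, ?_, hgw⟩
  apply hBc.2 B (isConj_refl F hBS)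
  refine ⟨w.2, ?_⟩
  show (w : Ω) ∈ Subgroup.centralizer (B : Set Ω)
  rw [Subgroup.mem_centralizer_iff]
  intro b hb
  have h1 := hg ⟨b, hBS hb⟩ hb
  rw [← hgw, ← map_mul, ← map_mul] at h1
  have h2 := congrArg Subtype.val (hinj h1)
  exact h2.symm

/-- A group realizing a normalizer system of `F` has fusion inside `F`. -/
theorem fusCompat_of_isNormalizerSystem (F : FusionSystem S) {Q : Subgroup Ω}
    (N : FusionSystem (normalizerIn S Q)) (hN : F.IsNormalizerSystem Q N) {G : Type*} [Group G]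
    (ι : ↥(normalizerIn S Q) →* G) (hreal : N.IsRealizedBy ι) : FusCompat F ι := by
  intro D hD φ hφ g h
  have h1 : φ ∈ N.Hom D := (hreal.2 D hD φ hφ).mpr ⟨g, h⟩
  rw [hN D] at h1
  exact h1.1

/-- The element `g` induces, through `ι`, the automorphism `α` of `Q`. -/
def Induces {T Q : Subgroup Ω} (hQT : Q ≤ T) {G : Type*} [Group G] (ι : ↥T →* G) (g : G) (α : MulAut ↥Q) : Prop :=
  ∀ x : ↥Q, ι ⟨((α x : ↥Q) : Ω), hQT (α x).2⟩ = g * ι ⟨x, hQT x.2⟩ * g⁻¹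

theorem mem_fib_of_induces {T Q : Subgroup Ω} (hQT : Q ≤ T) {G₁ G₂ : Type*} [Group G₁] [Group G₂]
    (ι₁ : ↥T →* G₁) (ι₂ : ↥T →* G₂) {g₁ : G₁} {g₂ : G₂} {α : MulAut ↥Q}
    (h₁ : Induces hQT ι₁ g₁ α) (h₂ : Induces hQT ι₂ g₂ α) : (g₁, g₂) ∈ MU.fib ι₁ ι₂ (Q.subgroupOf T) := by
  refine ⟨fun u hu => ?_, fun u hu => ?_⟩
  · have huQ : (u : Ω) ∈ Q := hu
    refine ⟨⟨((α ⟨u, huQ⟩ : ↥Q) : Ω), hQT (α ⟨u, huQ⟩).2⟩, (α ⟨u, huQ⟩).2, ?_, ?_⟩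
    · exact (h₁ ⟨u, huQ⟩).symm
    · exact (h₂ ⟨u, huQ⟩).symm
  · have huQ : (u : Ω) ∈ Q := hu
    refine ⟨⟨((α⁻¹ ⟨u, huQ⟩ : ↥Q) : Ω), hQT (α⁻¹ ⟨u, huQ⟩).2⟩, (α⁻¹ ⟨u, huQ⟩).2, ?_, ?_⟩
    · have h := h₁ (α⁻¹ ⟨u, huQ⟩)
      have e : (⟨((α (α⁻¹ ⟨u, huQ⟩) : ↥Q) : Ω), hQT (α (α⁻¹ ⟨u, huQ⟩)).2⟩ : ↥T) = u := by
        apply Subtype.ext
        show ((α (α⁻¹ ⟨u, huQ⟩) : ↥Q) : Ω) = u
        rw [MulAut.apply_inv_self]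
      rw [e] at h
      show g₁⁻¹ * ι₁ u * g₁ = _
      rw [h]
      group
    · have h := h₂ (α⁻¹ ⟨u, huQ⟩)
      have e : (⟨((α (α⁻¹ ⟨u, huQ⟩) : ↥Q) : Ω), hQT (α (α⁻¹ ⟨u, huQ⟩)).2⟩ : ↥T) = u := by
        apply Subtype.ext
        show ((α (α⁻¹ ⟨u, huQ⟩) : ↥Q) : Ω) = u
        rw [MulAut.apply_inv_self]
      rw [e] at h
      show g₂⁻¹ * ι₂ u * g₂ = _
      rw [h]
      group

/-- Two finite groups containing `T` with fusion inside the saturated system `F`, both inducing exactly the automorphisms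
in `𝒜` on the `F`-centric, self-centralizing normal subgroup `Q` of `T`, the second with `T` of index prime to `p`, are
isomorphic over `T`. -/
theorem exists_iso_of_induces [Finite S] (p : ℕ) [Fact p.Prime] (hS : IsPGroup p S) (F : FusionSystem S)
    (hF : F.IsSaturated p) {T Q : Subgroup Ω} (hTS : T ≤ S) (hQT : Q ≤ T)
    (hTN : T ≤ Subgroup.normalizer (Q : Set Ω)) (hQc : F.IsCentric Q)
    {G₁ G₂ : Type*} [Group G₁] [Group G₂] [Finite G₁] [Finite G₂]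
    (ι₁ : ↥T →* G₁) (ι₂ : ↥T →* G₂) (hinj₁ : Function.Injective ι₁) (hinj₂ : Function.Injective ι₂)
    (hc₁ : FusCompat F ι₁) (hc₂ : FusCompat F ι₂) (hidx : ¬ p ∣ (ι₂.range).index)
    (hcent₁ : ∀ g : G₁, (∀ u : ↥T, (u : Ω) ∈ Q → g * ι₁ u = ι₁ u * g) → ∃ z : ↥T, (z : Ω) ∈ Q ∧ ι₁ z = g)
    (hcent₂ : ∀ g : G₂, (∀ u : ↥T, (u : Ω) ∈ Q → g * ι₂ u = ι₂ u * g) → ∃ z : ↥T, (z : Ω) ∈ Q ∧ ι₂ z = g)
    (𝒜 : Set (MulAut ↥Q))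
    (h1a : ∀ g₁ : G₁, ∃ α ∈ 𝒜, Induces hQT ι₁ g₁ α) (h1b : ∀ α ∈ 𝒜, ∃ g₁ : G₁, Induces hQT ι₁ g₁ α)
    (h2a : ∀ g₂ : G₂, ∃ α ∈ 𝒜, Induces hQT ι₂ g₂ α) (h2b : ∀ α ∈ 𝒜, ∃ g₂ : G₂, Induces hQT ι₂ g₂ α) :
    ∃ φ : G₁ ≃* G₂, ∀ s : ↥T, φ (ι₁ s) = ι₂ s := by
  have hUmap : (Q.subgroupOf T).map T.subtype = Q := by
    rw [Subgroup.subgroupOf_map_subtype]
    exact inf_eq_left.mpr hQT
  apply exists_iso_of_compat p hS F hF hTS ι₁ ι₂ hinj₁ hinj₂ hc₁ hc₂ hidx (Q.subgroupOf T)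
  · intro s u hu
    have huQ : (u : Ω) ∈ Q := hu
    show ((s * u * s⁻¹ : ↥T) : Ω) ∈ Q
    exact (Subgroup.mem_normalizer_iff.mp (hTN s.2) _).mp huQ
  · rw [hUmap]
    exact hQc
  · intro g hg
    obtain ⟨z, hz, hzg⟩ := hcent₁ g (fun u hu => hg u hu)
    exact ⟨z, hz, hzg⟩
  · intro g hg
    obtain ⟨z, hz, hzg⟩ := hcent₂ g (fun u hu => hg u hu)
    exact ⟨z, hz, hzg⟩
  · intro g₁
    obtain ⟨α, hα, hg₁⟩ := h1a g₁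
    obtain ⟨g₂, hg₂⟩ := h2b α hα
    exact ⟨g₂, mem_fib_of_induces hQT ι₁ ι₂ hg₁ hg₂⟩
  · intro g₂
    obtain ⟨α, hα, hg₂⟩ := h2a g₂
    obtain ⟨g₁, hg₁⟩ := h1b α hα
    exact ⟨g₁, mem_fib_of_induces hQT ι₁ ι₂ hg₁ hg₂⟩

end Cfsg.Agent.Helper84
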