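import Cfsg.Agent.Helper84.ModelEmbed3
import Cfsg.Agent.Helper88.FusionCentric
set_option autoImplicit false

/-! # Subgroups of `N_S(Q)` containing `Q`: automorphisms and centricity in the normalizer system `N_F(Q)` -/

namespace Cfsg.Agent.Helper84

open Cfsg Cfsg.FusionSystem Cfsg.Agent.Helper85 Cfsg.Agent.Helper87 Cfsg.Agent.Helper88.FS

variable {Ω : Type*} [Group Ω] {S : Subgroup Ω}

/-- For `Q ≤ P ≤ N_S(Q)`, the automorphisms of `P` in the normalizer system of `Q` are the automorphisms of `P` in the system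
that stabilize `Q`. -/
theorem mem_autGroup_normalizerSystem_iff [Finite S] (F : FusionSystem S) {Q P : Subgroup Ω} (hQP : Q ≤ P)
    (hPT : P ≤ normalizerIn S Q) (N : FusionSystem (normalizerIn S Q)) (hN : F.IsNormalizerSystem Q N)
    (α : MulAut ↥P) :
    α ∈ N.autGroup P ↔ α ∈ F.autGroup P ∧ ∀ x : ↥P, (x : Ω) ∈ Q → ((α x : ↥P) : Ω) ∈ Q := by
  have hPS : P ≤ S := hPT.trans inf_le_left
  have hQS : Q ≤ S := hQP.trans hPS
  have hfinQ : Finite ↥Q := finite_of_le hQS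
  rw [mem_autGroup_iff N hPT, mem_autGroup_iff F hPS]
  unfold IsIso
  rw [hN P]
  constructor
  · rintro ⟨hF, -, -, ψ, hψ, hext, hmap⟩
    refine ⟨hF, fun x hx => ?_⟩
    obtain ⟨hin, -⟩ := (map_subgroupOf_eq_iff ψ).mp hmap
    have h1 := hin (Subgroup.inclusion le_sup_left x) hx
    rw [hext x] at h1
    exact h1
  · rintro ⟨hF, hQ⟩
    apply mem_normalizerHom_of_le F hQP hPT hF
    rw [map_subgroupOf_eq_iff]
    refine ⟨fun x hx => hQ x hx, fun y hy => ?_⟩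
    -- `α` restricted to `Q` is an injective self-map of the finite set `Q`, hence onto
    let f : ↥Q → ↥Q := fun x => ⟨((α ⟨x, hQP x.2⟩ : ↥P) : Ω), hQ ⟨x, hQP x.2⟩ x.2⟩
    have hf : Function.Injective f := by
      intro a b hab
      have h1 : ((α ⟨a, hQP a.2⟩ : ↥P) : Ω) = ((α ⟨b, hQP b.2⟩ : ↥P) : Ω) := by
        have h0 := congrArg (fun t : ↥Q => (t : Ω)) hab
        exact h0
      have h2 := α.injective (Subtype.ext h1)
      have h3 : ((⟨a, hQP a.2⟩ : ↥P) : Ω) = ((⟨b, hQP b.2⟩ : ↥P) : Ω) := congrArg Subtype.val h2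
      exact Subtype.ext h3
    obtain ⟨x, hx⟩ := (Finite.injective_iff_surjective.mp hf) ⟨y, hy⟩
    refine ⟨⟨x, hQP x.2⟩, x.2, ?_⟩
    exact congrArg Subtype.val hx

/-- For `Q` fully normalized in the saturated system `F`, a subgroup `P` with `Q ≤ P ≤ N_S(Q)` that is centric in the normalizer
system of `Q` is centric in `F`. -/
theorem isCentric_of_isCentric_normalizerSystem [Finite S] {p : ℕ} [Fact p.Prime] (hS : IsPGroup p S)
    (F : FusionSystem S) (hF : F.IsSaturated p) {Q P : Subgroup Ω} (hQn : F.IsFullyNormalized Q) (hQP : Q ≤ P)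
    (N : FusionSystem (normalizerIn S Q)) (hN : F.IsNormalizerSystem Q N) (hPc : N.IsCentric P) :
    F.IsCentric P := by
  have hPT : P ≤ normalizerIn S Q := hPc.1
  have hPS : P ≤ S := hPT.trans inf_le_left
  have hQS : Q ≤ S := hQn.1
  obtain ⟨hfc, hfa⟩ := fullyAutomized_fullyCentralized_of_fullyNormalized hS F hF hQn
  have hrec := receptive_of_fullyCentralized hS F hF hfc
  refine ⟨hPS, fun P'' hconj => ?_⟩
  obtain ⟨φ, hφ, hφr⟩ := hconj
  -- the image `Q''` of `Q`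
  have hφQ : φ.comp (Subgroup.inclusion hQP) ∈ F.Hom Q := Helper87.restrict_mem F hφ hQP
  obtain ⟨Q'', hQ''def⟩ : ∃ Q'' : Subgroup Ω, Q'' = (φ.comp (Subgroup.inclusion hQP)).range := ⟨_, rfl⟩
  have hQQ'' : F.IsConj Q Q'' := ⟨_, hφQ, hQ''def.symm⟩
  obtain ⟨e, he⟩ := (isConj_iff F Q'' Q).mp (isConj_symm F hQQ'')
  obtain ⟨χ, hχ, e', he', hχe, hχval, -, -⟩ := exists_extension_normalizerIn' hS F hfa hrec e he
  have hQ''S : Q'' ≤ S := he.le_left
  have hmemQ'' : ∀ y : Ω, y ∈ Q'' ↔ ∃ x : ↥Q, φ ⟨x, hQP x.2⟩ = y := by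
    intro y
    rw [hQ''def]
    constructor
    · rintro ⟨x, rfl⟩
      exact ⟨x, rfl⟩
    · rintro ⟨x, rfl⟩
      exact ⟨x, rfl⟩
  have hφS : ∀ x : ↥P, φ x ∈ S := fun x => (F.le_of_mem hφ).2 x
  -- `P''` normalizes `Q''`
  have hP''N : ∀ x : ↥P, φ x ∈ normalizerIn S Q'' := by
    intro x
    refine ⟨hφS x, ?_⟩
    have hconj : ∀ (z : ↥P) (y : Ω), y ∈ Q'' → φ z * y * (φ z)⁻¹ ∈ Q'' := by
      intro z y hy
      obtain ⟨u, rfl⟩ := (hmemQ'' y).mp hy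
      have hzN : (z : Ω) ∈ Subgroup.normalizer (Q : Set Ω) := (hPT z.2).2
      have h1 : (z : Ω) * u * (z : Ω)⁻¹ ∈ Q := (Subgroup.mem_normalizer_iff.mp hzN _).mp u.2
      rw [hmemQ'']
      refine ⟨⟨_, h1⟩, ?_⟩
      rw [← map_inv, ← map_mul, ← map_mul]
      congr 1
    show φ x ∈ Subgroup.normalizer (Q'' : Set Ω)
    rw [Subgroup.mem_normalizer_iff]
    intro y
    constructor
    · exact hconj x y
    · intro hy
      have h2 := hconj x⁻¹ _ hy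
      rw [map_inv] at h2
      have h3 : (φ x)⁻¹ * (φ x * y * (φ x)⁻¹) * ((φ x)⁻¹)⁻¹ = y := by group
      rw [h3] at h2
      exact h2
  -- the composite `ρ = χ ∘ φ`
  obtain ⟨φ', hφ'def⟩ : ∃ φ' : ↥P →* ↥(normalizerIn S Q''), φ' = φ.codRestrict (normalizerIn S Q'') hP''N := ⟨_, rfl⟩
  have hφ'x : ∀ x : ↥P, ((φ' x : ↥(normalizerIn S Q'')) : Ω) = φ x := by
    intro x
    rw [hφ'def]
    rfl
  obtain ⟨ρ, hρdef⟩ : ∃ ρ : ↥P →* Ω, ρ = χ.comp φ' := ⟨_, rfl⟩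
  have hρx : ∀ x : ↥P, ρ x = χ (φ' x) := by
    intro x
    rw [hρdef]
    rfl
  have hρF : ρ ∈ F.Hom P := by
    have h1 := F.comp_mem hφ hχ hP''N
    refine mem_of_eq F h1 (fun x => ?_)
    rw [hρx, hφ'def]
    rfl
  have hρQ : ∀ x : ↥Q, ρ ⟨x, hQP x.2⟩ = ((e' ⟨φ ⟨x, hQP x.2⟩, (hmemQ'' _).mpr ⟨x, rfl⟩⟩ : ↥Q) : Ω) := by
    intro x
    rw [hρx, ← hχe]
    congr 1
    apply Subtype.ext
    rw [hφ'x]
  have hρN : ρ ∈ N.Hom P := by
    rw [hN P]
    apply mem_normalizerHom_of_le F hQP hPT hρF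
    rw [map_subgroupOf_eq_iff]
    constructor
    · intro x hx
      have h5 : ρ x = _ := hρQ ⟨x, hx⟩
      rw [h5]
      exact (e' _).2
    · intro y hy
      obtain ⟨u, hu⟩ := (hmemQ'' _).mp (e'.symm ⟨y, hy⟩).2
      refine ⟨⟨u, hQP u.2⟩, u.2, ?_⟩
      rw [hρQ u]
      have h1 : (⟨φ ⟨u, hQP u.2⟩, (hmemQ'' _).mpr ⟨u, rfl⟩⟩ : ↥Q'') = e'.symm ⟨y, hy⟩ := Subtype.ext hu
      rw [h1, MulEquiv.apply_symm_apply]
  have hcen := hPc.2 ρ.range ⟨ρ, hρN, rfl⟩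
  -- the centralizer of `P''`
  intro c hc
  obtain ⟨hcS, hcC⟩ := hc
  rw [← hφr]
  have hcN : c ∈ normalizerIn S Q'' := by
    refine ⟨hcS, ?_⟩
    apply Subgroup.centralizer_le_normalizer
    apply Subgroup.centralizer_le _ hcC
    intro y hy
    obtain ⟨u, rfl⟩ := (hmemQ'' y).mp hy
    rw [← hφr]
    exact ⟨_, rfl⟩
  have h1 : χ ⟨c, hcN⟩ ∈ centralizerIn (normalizerIn S Q) ρ.range := by
    refine ⟨hχval _, ?_⟩
    show χ ⟨c, hcN⟩ ∈ Subgroup.centralizer (ρ.range : Set Ω)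
    rw [Subgroup.mem_centralizer_iff]
    rintro _ ⟨x, rfl⟩
    rw [hρx, ← map_mul, ← map_mul]
    congr 1
    apply Subtype.ext
    show ((φ' x : ↥(normalizerIn S Q'')) : Ω) * c = c * ((φ' x : ↥(normalizerIn S Q'')) : Ω)
    rw [hφ'x]
    have h2 : φ x ∈ P'' := by
      rw [← hφr]
      exact ⟨x, rfl⟩
    exact Subgroup.mem_centralizer_iff.mp hcC _ h2
  obtain ⟨x, hx⟩ := hcen h1
  rw [hρx] at hx
  have h2 := F.injective_of_mem hχ hx
  have h3 : ((φ' x : ↥(normalizerIn S Q'')) : Ω) = c := congrArg Subtype.val h2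
  rw [hφ'x] at h3
  exact ⟨x, h3⟩

end Cfsg.Agent.Helper84
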