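-- helper84: the groups `Qc e_k`, `Qa e_k` of transvections are self-centralizing modulo the centre of `SL_n(F)`;
-- their images in `PSL_n(F)` are self-centralizing.
import Mathlib
import Cfsg.Agent.Helper84.PSLnTv

set_option autoImplicit false
set_option linter.unusedSectionVars false

namespace Cfsg.Agent.Helper84.PSLn

open Matrix Cfsg.Agent.Helper14.AutPSL

variable {ι : Type*} [Fintype ι] [DecidableEq ι] {F : Type*} [Field F]

/-- the scalar element of `SL` -/
def scl (c : F) (hc : c ^ Fintype.card ι = 1) : Matrix.SpecialLinearGroup ι F :=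
  ⟨scalar ι c, by rw [scalar_apply, det_diagonal, Finset.prod_const, Finset.card_univ]; exact hc⟩

theorem scl_mem_center (c : F) (hc : c ^ Fintype.card ι = 1) :
    scl c hc ∈ Subgroup.center (Matrix.SpecialLinearGroup ι F) :=
  Matrix.SpecialLinearGroup.mem_center_iff.mpr ⟨c, hc, rfl⟩

theorem scl_mul_coe (c : F) (hc : c ^ Fintype.card ι = 1) (y : Matrix.SpecialLinearGroup ι F) :
    (scl c hc * y).1 = c • y.1 := by
  rw [Matrix.SpecialLinearGroup.coe_mul, smul_eq_diagonal_mul]
  rfl

/-- the centralizer of `Qc e_k` in `SL` is `Z × Qc e_k` -/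
theorem centralizer_Qc_single {k j₀ : ι} (hj₀ : j₀ ≠ k) {g : Matrix.SpecialLinearGroup ι F}
    (hg : ∀ x ∈ Qc (Pi.single k (1 : F)), g * x = x * g) :
    ∃ z ∈ Subgroup.center (Matrix.SpecialLinearGroup ι F), ∃ y ∈ Qc (Pi.single k (1 : F)), g = z * y := by
  have key : ∀ j, j ≠ k → ∀ a b : ι,
      g.1 a k * (if b = j then 1 else 0) = (if a = k then 1 else 0) * g.1 j b := by
    intro j hj a b
    have hx : tv (Pi.single k 1) (Pi.single j 1) (single_dot_single hj.symm) ∈ Qc (Pi.single k (1 : F)) :=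
      tv_mem_Qc _ _ _
    have h1 := congrArg Subtype.val (hg _ hx)
    rw [Matrix.SpecialLinearGroup.coe_mul, Matrix.SpecialLinearGroup.coe_mul, tv_coe, Matrix.mul_add,
      Matrix.add_mul, Matrix.mul_one, Matrix.one_mul] at h1
    have h2 := add_left_cancel h1
    rw [mul_vecMulVec, vecMulVec_mul] at h2
    have h3 := congrFun (congrFun h2 a) b
    rw [vecMulVec_apply, vecMulVec_apply, mulVec_single_one, single_one_vecMul, Pi.single_apply,
      Pi.single_apply] at h3
    exact h3
  have hcol : ∀ a, a ≠ k → g.1 a k = 0 := by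
    intro a ha
    have := key j₀ hj₀ a j₀
    rwa [if_pos rfl, if_neg ha, mul_one, zero_mul] at this
  have hdiag : ∀ j, j ≠ k → g.1 j j = g.1 k k := by
    intro j hj
    have := key j hj k j
    rw [if_pos rfl, if_pos rfl, mul_one, one_mul] at this
    exact this.symm
  have hrow : ∀ j, j ≠ k → ∀ b, b ≠ j → g.1 j b = 0 := by
    intro j hj b hb
    have := key j hj k b
    rw [if_neg hb, if_pos rfl, mul_zero, one_mul] at this
    exact this.symm
  have hc : g.1 k k ≠ 0 := by
    intro h0
    have hdet : g.1.det = 0 := Matrix.det_eq_zero_of_row_eq_zero j₀ (fun b => by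
      by_cases hb : b = j₀
      · rw [hb, hdiag j₀ hj₀, h0]
      · exact hrow j₀ hj₀ b hb)
    rw [g.2] at hdet
    exact one_ne_zero hdet
  have hψ : (fun b => if b = k then 0 else (g.1 k k)⁻¹ * g.1 k b) ⬝ᵥ (Pi.single k (1 : F)) = 0 := by
    rw [dotProduct_single_one]
    exact if_pos rfl
  have hmat : g.1 = g.1 k k • (tv (Pi.single k 1) (fun b => if b = k then 0 else (g.1 k k)⁻¹ * g.1 k b) hψ).1 := by
    ext a b
    rw [Matrix.smul_apply, tv_coe, Matrix.add_apply, Matrix.one_apply, vecMulVec_apply, Pi.single_apply,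
      smul_eq_mul]
    by_cases ha : a = k
    · rw [if_pos ha, one_mul]
      by_cases hb : b = k
      · rw [if_pos hb, add_zero, ha, hb, if_pos rfl, mul_one]
      · rw [if_neg hb, ha, if_neg (Ne.symm hb), zero_add, mul_inv_cancel_left₀ hc]
    · rw [if_neg ha, zero_mul, add_zero]
      by_cases hab : a = b
      · rw [if_pos hab, mul_one, ← hab, hdiag a ha]
      · rw [if_neg hab, mul_zero]
        exact hrow a ha b (Ne.symm hab)
  have hcn : g.1 k k ^ Fintype.card ι = 1 := by
    have h1 := g.2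
    rw [hmat, det_smul, (tv _ _ hψ).2, mul_one] at h1
    exact h1
  refine ⟨scl _ hcn, scl_mem_center _ hcn, tv _ _ hψ, tv_mem_Qc _ _ _, ?_⟩
  apply Subtype.ext
  rw [scl_mul_coe]
  exact hmat

/-- the centralizer of `Qa e_k` in `SL` is `Z × Qa e_k` -/
theorem centralizer_Qa_single {k j₀ : ι} (hj₀ : j₀ ≠ k) {g : Matrix.SpecialLinearGroup ι F}
    (hg : ∀ x ∈ Qa (Pi.single k (1 : F)), g * x = x * g) :
    ∃ z ∈ Subgroup.center (Matrix.SpecialLinearGroup ι F), ∃ y ∈ Qa (Pi.single k (1 : F)), g = z * y := by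
  have key : ∀ j, j ≠ k → ∀ a b : ι,
      g.1 a j * (if b = k then 1 else 0) = (if a = j then 1 else 0) * g.1 k b := by
    intro j hj a b
    have hx : tv (Pi.single j 1) (Pi.single k 1) (single_dot_single hj) ∈ Qa (Pi.single k (1 : F)) :=
      tv_mem_Qa _ _ _
    have h1 := congrArg Subtype.val (hg _ hx)
    rw [Matrix.SpecialLinearGroup.coe_mul, Matrix.SpecialLinearGroup.coe_mul, tv_coe, Matrix.mul_add,
      Matrix.add_mul, Matrix.mul_one, Matrix.one_mul] at h1
    have h2 := add_left_cancel h1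
    rw [mul_vecMulVec, vecMulVec_mul] at h2
    have h3 := congrFun (congrFun h2 a) b
    rw [vecMulVec_apply, vecMulVec_apply, mulVec_single_one, single_one_vecMul, Pi.single_apply,
      Pi.single_apply] at h3
    exact h3
  have hrow : ∀ b, b ≠ k → g.1 k b = 0 := by
    intro b hb
    have := key j₀ hj₀ j₀ b
    rw [if_neg hb, if_pos rfl, mul_zero, one_mul] at this
    exact this.symm
  have hdiag : ∀ j, j ≠ k → g.1 j j = g.1 k k := by
    intro j hj
    have := key j hj j k
    rwa [if_pos rfl, if_pos rfl, mul_one, one_mul] at this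
  have hcol : ∀ j, j ≠ k → ∀ a, a ≠ j → g.1 a j = 0 := by
    intro j hj a ha
    have := key j hj a k
    rwa [if_pos rfl, if_neg ha, mul_one, zero_mul] at this
  have hc : g.1 k k ≠ 0 := by
    intro h0
    have hdet : g.1.det = 0 := Matrix.det_eq_zero_of_column_eq_zero j₀ (fun a => by
      by_cases ha : a = j₀
      · rw [ha, hdiag j₀ hj₀, h0]
      · exact hcol j₀ hj₀ a ha)
    rw [g.2] at hdet
    exact one_ne_zero hdet
  have hψ : (Pi.single k (1 : F)) ⬝ᵥ (fun a => if a = k then 0 else (g.1 k k)⁻¹ * g.1 a k) = 0 := by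
    rw [single_one_dotProduct]
    exact if_pos rfl
  have hmat : g.1 = g.1 k k • (tv (fun a => if a = k then 0 else (g.1 k k)⁻¹ * g.1 a k) (Pi.single k 1) hψ).1 := by
    ext a b
    rw [Matrix.smul_apply, tv_coe, Matrix.add_apply, Matrix.one_apply, vecMulVec_apply, Pi.single_apply,
      smul_eq_mul]
    by_cases hb : b = k
    · rw [if_pos hb, mul_one]
      by_cases ha : a = k
      · rw [if_pos ha, add_zero, ha, hb, if_pos rfl, mul_one]
      · rw [if_neg ha, hb, if_neg ha, zero_add, mul_inv_cancel_left₀ hc]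
    · rw [if_neg hb, mul_zero, add_zero]
      by_cases hab : a = b
      · rw [if_pos hab, mul_one, hab, hdiag b hb]
      · rw [if_neg hab, mul_zero]
        exact hcol b hb a hab
  have hcn : g.1 k k ^ Fintype.card ι = 1 := by
    have h1 := g.2
    rw [hmat, det_smul, (tv _ _ hψ).2, mul_one] at h1
    exact h1
  refine ⟨scl _ hcn, scl_mem_center _ hcn, tv _ _ hψ, tv_mem_Qa _ _ _, ?_⟩
  apply Subtype.ext
  rw [scl_mul_coe]
  exact hmat

/-- a subgroup of `SL` consisting of elements `1 + a φᵀ` whose centralizer is `Z` times itself has a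
self-centralizing image in `PSL` -/
theorem centralizer_map_prj_le [Nonempty ι] {R : Subgroup (Matrix.SpecialLinearGroup ι F)}
    (hTq : ∀ x ∈ R, IsTq x)
    (hcent : ∀ g : Matrix.SpecialLinearGroup ι F, (∀ x ∈ R, g * x = x * g) →
      ∃ z ∈ Subgroup.center (Matrix.SpecialLinearGroup ι F), ∃ y ∈ R, g = z * y) :
    Subgroup.centralizer ((R.map prj : Subgroup _) : Set _) ≤ R.map prj := by
  intro gb hgb
  obtain ⟨g, rfl⟩ := prj_surjective gb
  have hcomm : ∀ x ∈ R, g * x = x * g := by
    intro x hx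
    have h1 : prj x * prj g = prj g * prj x :=
      Subgroup.mem_centralizer_iff.mp hgb (prj x) (Subgroup.mem_map_of_mem _ hx)
    have h2 : prj (g * x * g⁻¹) = prj x := by
      rw [map_mul, map_mul, map_inv, ← h1, mul_inv_cancel_right]
    have h3 := IsTq.eq_of_mk_eq ((hTq x hx).conj g) (hTq x hx) h2
    calc g * x = (g * x * g⁻¹) * g := by group
      _ = x * g := by rw [h3]
  obtain ⟨z, hz, y, hy, rfl⟩ := hcent g hcomm
  have hz1 : prj z = 1 := (QuotientGroup.eq_one_iff z).mpr hz
  rw [map_mul, hz1, one_mul]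
  exact Subgroup.mem_map_of_mem _ hy

end Cfsg.Agent.Helper84.PSLn
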