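-- helper84: the hypotheses of the simplicity criterion `isSimple_of_locGen` for `PSL_n(F)`, `n ≥ 3`, in the
-- defining characteristic, at the image of the unitriangular group.
import Mathlib
import Cfsg.Agent.Helper25.PGroupBasic
import Cfsg.Agent.Helper84.SimpleCrit2
import Cfsg.Agent.Helper84.PSLnGenU
import Cfsg.Agent.Helper84.PSLnBorel
import Cfsg.Agent.Helper84.PSLnCent

set_option autoImplicit false
set_option linter.unusedSectionVars false

namespace Cfsg.Agent.Helper84.PSLn

open Matrix Cfsg.Agent.Helper14.AutPSL Cfsg.Agent.Helper85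

section general

variable {ι : Type*} [Fintype ι] [DecidableEq ι] {F : Type*} [Field F]

/-- the image in `PSL` of a `p`-element normalizing `R` -/
theorem prj_mem_pset (p : ℕ) [hp : Fact p.Prime] {R : Subgroup (Matrix.SpecialLinearGroup ι F)}
    {x : Matrix.SpecialLinearGroup ι F}
    (hx : x ∈ Subgroup.normalizer ((R : Subgroup (Matrix.SpecialLinearGroup ι F)) : Set _)) (hxp : x ^ p = 1) :
    prj x ∈ {y | y ∈ Subgroup.normalizer ((R.map prj : Subgroup _) : Set _) ∧ ∃ m : ℕ, orderOf y = p ^ m} := by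
  refine ⟨Subgroup.le_normalizer_map prj (Subgroup.mem_map_of_mem _ hx), ?_⟩
  have h1 : orderOf (prj x) ∣ p := by
    apply orderOf_dvd_of_pow_eq_one
    rw [← map_pow, hxp, map_one]
  rcases (Nat.dvd_prime hp.out).mp h1 with h2 | h2
  · exact ⟨0, by rw [h2, pow_zero]⟩
  · exact ⟨1, by rw [h2, pow_one]⟩

theorem prj_transvection_mem_Qc (p : ℕ) [hp : Fact p.Prime] [CharP F p] {a b k : ι} (hab : a ≠ b) (hbk : b ≠ k)
    (c : F) :
    prj (Matrix.SpecialLinearGroup.transvection hab c) ∈
      Subgroup.closure {y | y ∈ Subgroup.normalizer (((Qc (Pi.single k (1 : F))).map prj : Subgroup _) : Set _) ∧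
        ∃ m : ℕ, orderOf y = p ^ m} := by
  apply Subgroup.subset_closure
  rw [transvection_eq_tv]
  exact prj_mem_pset p (tv_single_mem_normalizer_Qc hab hbk c) (tv_pow_char p _ _ _)

theorem prj_transvection_mem_Qa (p : ℕ) [hp : Fact p.Prime] [CharP F p] {a b k : ι} (hab : a ≠ b) (hak : a ≠ k)
    (c : F) :
    prj (Matrix.SpecialLinearGroup.transvection hab c) ∈
      Subgroup.closure {y | y ∈ Subgroup.normalizer (((Qa (Pi.single k (1 : F))).map prj : Subgroup _) : Set _) ∧
        ∃ m : ℕ, orderOf y = p ^ m} := by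
  apply Subgroup.subset_closure
  rw [transvection_eq_tv]
  exact prj_mem_pset p (tv_single_mem_normalizer_Qa hab hak c) (tv_pow_char p _ _ _)

theorem prj_diag2n_mem_Qc (p : ℕ) [hp : Fact p.Prime] [CharP F p] {i j k : ι} (hij : i ≠ j) (hik : i ≠ k)
    (hjk : j ≠ k) (t : F) (ht : t ≠ 0) :
    prj (Matrix.SpecialLinearGroup.diag2n hij t ht) ∈
      Subgroup.closure {y | y ∈ Subgroup.normalizer (((Qc (Pi.single k (1 : F))).map prj : Subgroup _) : Set _) ∧
        ∃ m : ℕ, orderOf y = p ^ m} := by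
  rw [Cfsg.Agent.Helper5.diag2n_eq_prod_transvection hij t ht]
  simp only [map_mul]
  refine mul_mem (mul_mem (mul_mem (mul_mem (mul_mem ?_ ?_) ?_) ?_) ?_) ?_
  · exact prj_transvection_mem_Qc p hij hjk _
  · exact prj_transvection_mem_Qc p hij.symm hik _
  · exact prj_transvection_mem_Qc p hij hjk _
  · exact prj_transvection_mem_Qc p hij hjk _
  · exact prj_transvection_mem_Qc p hij.symm hik _
  · exact prj_transvection_mem_Qc p hij hjk _

theorem prj_diag2n_mem_Qa (p : ℕ) [hp : Fact p.Prime] [CharP F p] {i j k : ι} (hij : i ≠ j) (hik : i ≠ k)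
    (hjk : j ≠ k) (t : F) (ht : t ≠ 0) :
    prj (Matrix.SpecialLinearGroup.diag2n hij t ht) ∈
      Subgroup.closure {y | y ∈ Subgroup.normalizer (((Qa (Pi.single k (1 : F))).map prj : Subgroup _) : Set _) ∧
        ∃ m : ℕ, orderOf y = p ^ m} := by
  rw [Cfsg.Agent.Helper5.diag2n_eq_prod_transvection hij t ht]
  simp only [map_mul]
  refine mul_mem (mul_mem (mul_mem (mul_mem (mul_mem ?_ ?_) ?_) ?_) ?_) ?_
  · exact prj_transvection_mem_Qa p hij hik _
  · exact prj_transvection_mem_Qa p hij.symm hjk _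
  · exact prj_transvection_mem_Qa p hij hik _
  · exact prj_transvection_mem_Qa p hij hik _
  · exact prj_transvection_mem_Qa p hij.symm hjk _
  · exact prj_transvection_mem_Qa p hij hik _

end general

section fin

variable {n : ℕ} {F : Type*} [Field F] [Fintype F] {p f : ℕ} [hp : Fact p.Prime] [CharP F p]

/-- an element of `SL_n(F)` whose image normalizes the image of the unitriangular group normalizes the
unitriangular group -/
theorem conj_mem_UT_of_prj (hF : Fintype.card F = p ^ f) (hf : 1 ≤ f) (hn : 1 ≤ n)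
    {g : Matrix.SpecialLinearGroup (Fin n) F}
    (hg : ∀ s ∈ (UT n F).map prj, prj g * s * (prj g)⁻¹ ∈ (UT n F).map prj)
    {u : Matrix.SpecialLinearGroup (Fin n) F} (hu : u ∈ UT n F) : g * u * g⁻¹ ∈ UT n F := by
  obtain ⟨u', hu', hu'w⟩ := hg (prj u) (Subgroup.mem_map_of_mem _ hu)
  have h1 : prj u' = prj (g * u * g⁻¹) := by
    rw [hu'w, map_mul, map_mul, map_inv]
  have hz : u'⁻¹ * (g * u * g⁻¹) ∈ Subgroup.center (Matrix.SpecialLinearGroup (Fin n) F) :=
    QuotientGroup.eq.mp h1
  obtain ⟨c, -, hcz⟩ := Matrix.SpecialLinearGroup.mem_center_iff.mp hz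
  have he : Nat.card (UT n F) = p ^ (Nat.card (Matrix.SpecialLinearGroup (Fin n) F)).factorization p :=
    card_UT_eq hF hf n hn
  have hpow : ∀ v ∈ UT n F, v ^ Nat.card (UT n F) = 1 := by
    intro v hv
    have h2 := pow_card_eq_one' (G := ↥(UT n F)) (x := ⟨v, hv⟩)
    have h3 := congrArg Subtype.val h2
    rwa [Subgroup.coe_pow] at h3
  have hw : (g * u * g⁻¹) ^ Nat.card (UT n F) = 1 := by
    rw [conj_pow, hpow u hu]
    group
  have hcomm : Commute u' (u'⁻¹ * (g * u * g⁻¹)) := Subgroup.mem_center_iff.mp hz u'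
  have hze : (u'⁻¹ * (g * u * g⁻¹)) ^ Nat.card (UT n F) = 1 := by
    have h2 := hcomm.mul_pow (Nat.card (UT n F))
    rw [mul_inv_cancel_left, hw, hpow u' hu', one_mul] at h2
    exact h2.symm
  have hce : c ^ Nat.card (UT n F) = 1 := by
    have h2 := congrArg Subtype.val hze
    rw [Matrix.SpecialLinearGroup.coe_pow, ← hcz, ← map_pow, Matrix.SpecialLinearGroup.coe_one] at h2
    have h3 := congrFun (congrFun h2 ⟨0, hn⟩) ⟨0, hn⟩
    rwa [scalar_apply, diagonal_apply_eq, Matrix.one_apply_eq] at h3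
  have hc1 : c = 1 := by
    rw [he] at hce
    have h2 : (c - 1) ^ p ^ (Nat.card (Matrix.SpecialLinearGroup (Fin n) F)).factorization p = 0 := by
      rw [sub_pow_char_pow, hce, one_pow, sub_self]
    exact sub_eq_zero.mp (pow_eq_zero_iff (pow_ne_zero _ hp.out.ne_zero) |>.mp h2)
  have hz1 : u'⁻¹ * (g * u * g⁻¹) = 1 := by
    apply Subtype.ext
    rw [← hcz, hc1, map_one]
    rfl
  have : g * u * g⁻¹ = u' := by
    have := congrArg (fun t => u' * t) hz1
    simpa using this
  rw [this]
  exact hu'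

/-- no proper nontrivial subgroup of the image of the unitriangular group is strongly closed -/
theorem noStrClosed_UT (hF : Fintype.card F = p ^ f) (hf : 1 ≤ f) (hn : 3 ≤ n) :
    NoStrClosed ((UT n F).map (prj : Matrix.SpecialLinearGroup (Fin n) F →* _)) := by
  have hn1 : 1 ≤ n := by omega
  have hn2 : 2 ≤ n := by omega
  have hS := coe_sylUT hF hf n hn1
  intro T hTS hcl
  rcases T.bot_or_exists_ne_one with hT | ⟨t₀, ht₀, ht₀1⟩
  · left; exact hT
  right
  apply le_antisymm hTS
  rw [← hS] at hTS hcl ⊢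
  -- a central element of `S` in `T`
  have hN : (T.subgroupOf (sylUT hF hf n hn1 : Subgroup _)).Normal := by
    constructor
    intro t ht s
    rw [Subgroup.mem_subgroupOf] at ht ⊢
    have := hcl _ ht (s : _) (by
      have h1 := (s * t * s⁻¹).2
      simpa using h1)
    simpa using this
  have hNne : T.subgroupOf (sylUT hF hf n hn1 : Subgroup _) ≠ ⊥ := by
    intro h
    have h1 : (⟨t₀, hTS ht₀⟩ : (sylUT hF hf n hn1 : Subgroup _)) ∈
        T.subgroupOf (sylUT hF hf n hn1 : Subgroup _) := by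
      rw [Subgroup.mem_subgroupOf]
      exact ht₀
    rw [h, Subgroup.mem_bot] at h1
    exact ht₀1 (congrArg Subtype.val h1)
  obtain ⟨z, hzN, hz1, hzc⟩ := Cfsg.Agent.Helper25.exists_mem_center_of_normal_ne_bot
    (sylUT hF hf n hn1).isPGroup' _ hNne
  have hzT := Subgroup.mem_subgroupOf.mp hzN
  have hz1' : (z : Matrix.SpecialLinearGroup (Fin n) F ⧸ Subgroup.center (Matrix.SpecialLinearGroup (Fin n) F)) ≠ 1 :=
    fun h => hz1 (Subtype.ext h)
  have hsc : IsSylCentral p (z : Matrix.SpecialLinearGroup (Fin n) F ⧸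
      Subgroup.center (Matrix.SpecialLinearGroup (Fin n) F)) := by
    refine ⟨sylUT hF hf n hn1, z.2, fun x hx => ?_⟩
    have := Subgroup.mem_center_iff.mp hzc ⟨x, hx⟩
    exact congrArg Subtype.val this
  obtain ⟨g₀, hg₀, hg₀z⟩ := exists_isTv_of_isSylCentral hF hf hn2 hsc hz1'
  -- all root elements lie in `T`
  rw [hS, Subgroup.map_le_iff_le_comap]
  refine UT_le_closure_rootSet.trans ?_
  rw [Subgroup.closure_le]
  rintro x ⟨i, j, hij, r, rfl⟩
  show prj _ ∈ T
  by_cases hr : r = 0
  · have : tv (r • Pi.single i 1) (Pi.single j 1) (single_dot_smul_single (ne_of_lt hij) r) = 1 := by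
      rw [tv_eq_one_iff]
      left
      rw [hr, zero_smul]
    rw [this, map_one]
    exact one_mem _
  · have hx : IsTv (tv (r • Pi.single i 1) (Pi.single j 1) (single_dot_smul_single (ne_of_lt hij) r)) :=
      ⟨_, _, _, smul_ne_zero hr (single_ne_zero' i), single_ne_zero' j, rfl⟩
    obtain ⟨s, hs⟩ := isTv_conj hn hg₀ hx
    have h1 : prj (tv (r • Pi.single i 1) (Pi.single j 1) (single_dot_smul_single (ne_of_lt hij) r)) =
        prj s * (z : Matrix.SpecialLinearGroup (Fin n) F ⧸
          Subgroup.center (Matrix.SpecialLinearGroup (Fin n) F)) * (prj s)⁻¹ := by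
      rw [← hs, map_mul, map_mul, map_inv, hg₀z]
    rw [h1]
    apply hcl _ hzT
    rw [← h1, hS]
    exact Subgroup.mem_map_of_mem _ (tv_single_mem_UT hij r)

/-- the images of the elements `diag(.., t, .., t⁻¹, ..)` are of local origin -/
theorem diag2n_mem_locSet (hn : 3 ≤ n) {i : Fin n} (hi : i ≠ mid hn) (t : F) (ht : t ≠ 0) :
    prj (Matrix.SpecialLinearGroup.diag2n hi t ht) ∈
      LocSet p ((UT n F).map (prj : Matrix.SpecialLinearGroup (Fin n) F →* _)) := by
  have hn2 : 2 ≤ n := by omega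
  haveI : Nonempty (Fin n) := ⟨⟨0, by omega⟩⟩
  refine ⟨?_, Or.inr (Or.inr ?_)⟩
  · obtain ⟨D', hD', hd, -⟩ := diag2n_eq_dgl hi t ht
    rw [hd]
    exact Subgroup.le_normalizer_map prj (Subgroup.mem_map_of_mem _ (dgl_mem_normalizer_UT D' hD'))
  · by_cases hif : i = fst hn2
    · refine ⟨(Qa (Pi.single (lst hn2) (1 : F))).map prj, Subgroup.map_mono (Qa_lst_le_UT hn2), ?_, ?_, ?_⟩
      · exact (Subgroup.map_mono (UT_le_normalizer_Qa hn2)).trans (Subgroup.le_normalizer_map prj)
      · exact centralizer_map_prj_le (fun x hx => isTq_of_mem_Qa hx)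
          (fun g hg => centralizer_Qa_single (fst_ne_lst hn2) hg)
      · exact prj_diag2n_mem_Qa p hi (by rw [hif]; exact fst_ne_lst hn2) (mid_ne_lst hn) t ht
    · refine ⟨(Qc (Pi.single (fst hn2) (1 : F))).map prj, Subgroup.map_mono (Qc_fst_le_UT hn2), ?_, ?_, ?_⟩
      · exact (Subgroup.map_mono (UT_le_normalizer_Qc hn2)).trans (Subgroup.le_normalizer_map prj)
      · exact centralizer_map_prj_le (fun x hx => isTq_of_mem_Qc hx)
          (fun g hg => centralizer_Qc_single (fst_ne_lst hn2).symm hg)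
      · exact prj_diag2n_mem_Qc p hi hif (mid_ne_fst hn) t ht

/-- the normalizer of the image of the unitriangular group is generated by elements of local origin -/
theorem locGen_UT (hF : Fintype.card F = p ^ f) (hf : 1 ≤ f) (hn : 3 ≤ n) :
    LocGen p ((UT n F).map (prj : Matrix.SpecialLinearGroup (Fin n) F →* _)) := by
  have hn1 : 1 ≤ n := by omega
  intro gb hgb
  obtain ⟨g, rfl⟩ := prj_surjective gb
  have hgN : g ∈ Subgroup.normalizer ((UT n F : Subgroup (Matrix.SpecialLinearGroup (Fin n) F)) : Set _) := by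
    apply mem_normalizer_of_conj
    · intro u hu
      exact conj_mem_UT_of_prj hF hf hn1 (fun s hs => (Subgroup.mem_normalizer_iff.mp hgb s).mp hs) hu
    · intro u hu
      have hinv := Subgroup.inv_mem _ hgb
      have := conj_mem_UT_of_prj hF hf hn1 (g := g⁻¹) (fun s hs => by
        rw [map_inv]
        exact (Subgroup.mem_normalizer_iff.mp hinv s).mp hs) hu
      rwa [inv_inv] at this
  obtain ⟨D, hD, u, hu, rfl⟩ := exists_dgl_mul_UT (upper_of_mem_normalizer_UT hgN)
  rw [map_mul]
  apply mul_mem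
  · have hdet : det (diagonal D) = 1 := by rw [det_diagonal]; exact hD
    have hdgl : dgl D hD = ⟨diagonal D, hdet⟩ := rfl
    rw [hdgl, Matrix.SpecialLinearGroup.diag_eq_diag2n_prod (mid hn) D hdet]
    refine Finset.noncommProd_induction _ _ _
      (fun x => prj x ∈ Subgroup.closure (LocSet p ((UT n F).map
        (prj : Matrix.SpecialLinearGroup (Fin n) F →* _)))) ?_ ?_ ?_
    · intro a b ha hb
      show prj (a * b) ∈ _
      rw [map_mul]
      exact mul_mem ha hb
    · show prj 1 ∈ _
      rw [map_one]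
      exact one_mem _
    · intro i hi
      have hi' : i ≠ mid hn := (Finset.mem_filter.mp hi).2
      show prj _ ∈ _
      rw [dif_pos hi']
      exact Subgroup.subset_closure (diag2n_mem_locSet hn hi' _ _)
  · apply Subgroup.subset_closure
    exact ⟨Subgroup.le_normalizer (Subgroup.mem_map_of_mem _ hu), Or.inl (Subgroup.mem_map_of_mem _ hu)⟩

end fin

end Cfsg.Agent.Helper84.PSLn
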