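-- helper84: identification of the root elements of the standard Sylow `p`-subgroup of `Sp_{2m}(F)` with products of
-- symplectic transvections.
import Mathlib
import Cfsg.Agent.Helper84.PSpElts
import Cfsg.Agent.Helper84.PSpCard

set_option autoImplicit false
set_option linter.unusedSectionVars false

namespace Cfsg.Agent.Helper84.PSp

open Matrix Cfsg.Agent.Helper13 Cfsg.Agent.Helper94.SpRoot Cfsg.Agent.Helper5.AutSp

variable {F : Type*} [Field F] {m : ℕ}

local notation "Mt" => Matrix (Fin m) (Fin m) F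
local notation "Mat" => Matrix (Fin m ⊕ Fin m) (Fin m ⊕ Fin m) F
local notation "Sp" => Matrix.symplecticGroup (Fin m) F
local notation "Vec" => (Fin m ⊕ Fin m → F)
local notation "B" => Cfsg.sympForm m F

theorem smul_fv (g : Sp) (j : Fin m) (k : Fin m ⊕ Fin m) : (g • (fv j : Vec)) k = (g : Mat) k (Sum.inr j) := by
  rw [smul_def]
  unfold fv
  rw [Matrix.mulVec_single_one]
  rfl

/-- two elements of the Siegel parabolic with the same upper blocks are equal -/
theorem eq_of_mem_PM {g h : Sp} (hg : g ∈ PM m F) (hh : h ∈ PM m F) (hA : bA g = bA h) (hB : bB g = bB h) :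
    g = h := by
  apply ext_blocks hA hB
  · rw [mem_PM.mp hg, mem_PM.mp hh]
  · have h1 := bD_mul_bA_of_mem_PM hg
    have h2 := bA_mul_bD_of_mem_PM hh
    have h3 : (bD g)ᵀ = (bD h)ᵀ := by
      calc (bD g)ᵀ = (bD g)ᵀ * (bA h * (bD h)ᵀ) := by rw [h2, mul_one]
        _ = ((bD g)ᵀ * bA g) * (bD h)ᵀ := by rw [hA, mul_assoc]
        _ = (bD h)ᵀ := by rw [h1, one_mul]
    rw [← transpose_transpose (bD g), h3, transpose_transpose]

/-- a product of three transvections as a short root element -/
theorem tE_mul_eq_uE {e w : Vec} (h : B e w = 0) (s : F) :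
    tE (e + w) s * tE w (-s) * tE e (-s) = uE e (s • w) 0 := by
  have h' : B w e = 0 := B_eq_zero_symm h
  have h2 : B e (s • w) = 0 := by rw [sympForm_smul_right, h, mul_zero]
  apply ext_smul
  intro x
  rw [mul_smul, mul_smul, tE_smul_vec, tE_smul_vec, tE_smul_vec, uE_smul_vec h2]
  simp only [sympForm_add_left, sympForm_add_right, sympForm_smul_left, sympForm_smul_right,
    sympForm_self, h, h', mul_zero, add_zero, zero_add, neg_mul, mul_neg]
  module

theorem symOf_single (q : LEPairs m) (t : F) (k l : Fin m) :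
    symOf (Pi.single q t) k l = if (k = q.1.1 ∧ l = q.1.2) ∨ (k = q.1.2 ∧ l = q.1.1) then t else 0 := by
  obtain ⟨⟨a, b⟩, hab⟩ := q
  show symOf (Pi.single (⟨(a, b), hab⟩ : LEPairs m) t) k l = if (k = a ∧ l = b) ∨ (k = b ∧ l = a) then t else 0
  have hab' : a ≤ b := hab
  rcases le_total k l with h | h
  · rw [symOf_of_le _ h, Pi.single_apply]
    by_cases h1 : k = a ∧ l = b
    · obtain ⟨rfl, rfl⟩ := h1
      rw [if_pos rfl, if_pos (Or.inl ⟨rfl, rfl⟩)]
    · have h2 : (⟨(k, l), h⟩ : LEPairs m) ≠ ⟨(a, b), hab⟩ := by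
        intro he
        apply h1
        have := congrArg Subtype.val he
        exact ⟨congrArg Prod.fst this, congrArg Prod.snd this⟩
      rw [if_neg h2]
      by_cases h3 : k = b ∧ l = a
      · exfalso
        apply h1
        obtain ⟨rfl, rfl⟩ := h3
        have := le_antisymm hab' h
        exact ⟨this.symm, this⟩
      · rw [if_neg (by tauto)]
  · rw [symOf_of_ge _ h, Pi.single_apply]
    by_cases h1 : k = b ∧ l = a
    · obtain ⟨rfl, rfl⟩ := h1
      rw [if_pos rfl, if_pos (Or.inr ⟨rfl, rfl⟩)]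
    · have h2 : (⟨(l, k), h⟩ : LEPairs m) ≠ ⟨(a, b), hab⟩ := by
        intro he
        apply h1
        have := congrArg Subtype.val he
        exact ⟨congrArg Prod.snd this, congrArg Prod.fst this⟩
      rw [if_neg h2]
      by_cases h3 : k = a ∧ l = b
      · exfalso
        apply h1
        obtain ⟨rfl, rfl⟩ := h3
        have := le_antisymm hab' h
        exact ⟨this, this.symm⟩
      · rw [if_neg (by tauto)]

theorem bB_tE_ev (i : Fin m) (t : F) (k l : Fin m) :
    bB (tE (ev i : Vec) t) k l = if k = i ∧ l = i then t else 0 := by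
  rw [bB_apply, ← smul_fv, tE_smul_vec, Pi.add_apply, fv_inl, zero_add, Pi.smul_apply, B_ev_right, fv_inr, ev_inl,
    smul_eq_mul]
  by_cases h1 : k = i
  · by_cases h2 : l = i
    · simp [h1, h2]
    · have h2' : ¬ i = l := fun h => h2 h.symm
      simp [h1, h2, h2']
  · simp [h1]

/-- the long root elements of the Siegel radical -/
theorem rSf_single_diag (i : Fin m) (t : F) :
    rSf (Pi.single (⟨(i, i), le_rfl⟩ : LEPairs m) t) = tE (ev i : Vec) t := by
  have hR := tE_mem_R (inVM_ev i) t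
  apply eq_of_mem_PM (rSf_mem_R _).1 hR.1
  · rw [bA_rSf, hR.2]
  · ext k l
    rw [bB_rSf, symOf_single, bB_tE_ev]
    by_cases h : k = i ∧ l = i
    · rw [if_pos (Or.inl h), if_pos h]
    · rw [if_neg (by tauto), if_neg h]

theorem bB_uE_ev_ev (i j : Fin m) (t : F) (k l : Fin m) :
    bB (uE (ev i : Vec) (t • ev j) 0) k l =
      (if i = l then 1 else 0) * (t * (if k = j then 1 else 0)) + t * (if j = l then 1 else 0) * (if k = i then 1 else 0) := by
  have hB : B (ev i : Vec) (t • ev j) = 0 := B_of_inVM (inVM_ev i) ((inVM_ev j).smul t)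
  rw [bB_apply, ← smul_fv, uE_smul_vec hB, sympForm_smul_right, B_ev_right, B_ev_right, fv_inr, fv_inr]
  simp only [Pi.add_apply, Pi.smul_apply, fv_inl, ev_inl, smul_eq_mul, zero_mul, mul_zero, add_zero, zero_add]

/-- the short root elements of the Siegel radical -/
theorem rSf_single_off {i j : Fin m} (hij : i < j) (t : F) :
    rSf (Pi.single (⟨(i, j), le_of_lt hij⟩ : LEPairs m) t) = uE (ev i : Vec) (t • ev j) 0 := by
  have hR := uE_mem_R (inVM_ev i) ((inVM_ev j).smul t) (0 : F)
  have hne : i ≠ j := ne_of_lt hij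
  apply eq_of_mem_PM (rSf_mem_R _).1 hR.1
  · rw [bA_rSf, hR.2]
  · ext k l
    rw [bB_rSf, symOf_single, bB_uE_ev_ev]
    by_cases h1 : k = i <;> by_cases h2 : l = j <;> by_cases h3 : k = j <;> by_cases h4 : l = i <;>
      simp_all [eq_comm]

theorem bA_uE_ev_fv {i j : Fin m} (hij : i ≠ j) (s : F) (k l : Fin m) :
    bA (uE (ev i : Vec) (s • fv j) 0) k l = (if k = l then 1 else 0) - s * (if j = l then 1 else 0) * (if k = i then 1 else 0) := by
  have hB : B (ev i : Vec) (s • fv j) = 0 := by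
    rw [sympForm_smul_right, B_fv_right, ev_inl, if_neg (Ne.symm hij), neg_zero, mul_zero]
  rw [bA_apply, ← smul_ev, uE_smul_vec hB, B_of_inVM (inVM_ev l) (inVM_ev i), sympForm_smul_right, B_fv_right, ev_inl]
  simp only [Pi.add_apply, Pi.smul_apply, ev_inl, fv_inl, smul_eq_mul, zero_mul, mul_zero, add_zero]
  ring

theorem bB_uE_ev_fv {i j : Fin m} (hij : i ≠ j) (s : F) : bB (uE (ev i : Vec) (s • fv j) 0) = 0 := by
  have hB : B (ev i : Vec) (s • fv j) = 0 := by
    rw [sympForm_smul_right, B_fv_right, ev_inl, if_neg (Ne.symm hij), neg_zero, mul_zero]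
  ext k l
  rw [bB_apply, ← smul_fv, uE_smul_vec hB, sympForm_smul_right, B_ev_right, B_fv_right, fv_inl, fv_inr]
  simp only [Pi.add_apply, Pi.smul_apply, ev_inl, fv_inl, smul_eq_mul, zero_mul, mul_zero, add_zero, neg_zero,
    Matrix.zero_apply]

/-- the embedded root elements of the unitriangular group -/
theorem lvS_root {i j : Fin m} (hij : i < j) (r : F) :
    lvS m F (Cfsg.Agent.Helper14.AutPSL.tv (r • Pi.single i 1) (Pi.single j 1)
      (Cfsg.Agent.Helper14.AutPSL.single_dot_smul_single (ne_of_lt hij) r)) = uE (ev i : Vec) ((-r) • fv j) 0 := by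
  have hU := uE_ev_fv_mem_U0 hij (-r)
  apply eq_of_mem_PM (lvS_mem_PM _) hU.1
  · ext k l
    rw [bA_lvS, bA_uE_ev_fv (ne_of_lt hij), Cfsg.Agent.Helper14.AutPSL.tv_coe, Matrix.add_apply, Matrix.one_apply,
      vecMulVec_apply, Pi.smul_apply, Pi.single_apply, Pi.single_apply, smul_eq_mul]
    by_cases h1 : k = i
    · by_cases h2 : l = j
      · simp [h1, h2]
      · have h2' : ¬ j = l := fun h => h2 h.symm
        simp [h1, h2, h2']
    · simp [h1]
  · rw [bB_uE_ev_fv (ne_of_lt hij), lvS_apply, bB_lv]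

end Cfsg.Agent.Helper84.PSp
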