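-- helper84: no proper nontrivial subgroup of the standard Sylow `p`-subgroup of `PSp_{2m}(q)` is strongly closed.
import Mathlib
import Cfsg.Agent.Helper25.PGroupBasic
import Cfsg.Agent.Helper84.PSpRoot
import Cfsg.Agent.Helper84.PSpNorm
import Cfsg.Agent.Helper84.PSLnGenU

set_option autoImplicit false
set_option linter.unusedSectionVars false
set_option linter.unusedSimpArgs false

namespace Cfsg.Agent.Helper84.PSp

open Matrix Cfsg.Agent.Helper13 Cfsg.Agent.Helper94.SpRoot Cfsg.Agent.Helper5.AutSp Cfsg.Agent.Helper85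

variable {F : Type*} [Field F] {m : ℕ}

local notation "Mt" => Matrix (Fin m) (Fin m) F
local notation "Mat" => Matrix (Fin m ⊕ Fin m) (Fin m ⊕ Fin m) F
local notation "Sp" => Matrix.symplecticGroup (Fin m) F
local notation "Vec" => (Fin m ⊕ Fin m → F)
local notation "B" => Cfsg.sympForm m F

theorem InVM.neg {v : Vec} (hv : InVM v) : InVM (-v) := by
  intro i
  rw [Pi.neg_apply, hv i, neg_zero]

theorem rSf_neg (f : LEPairs m → F) : rSf (-f) = (rSf f)⁻¹ := by
  apply eq_inv_of_mul_eq_one_right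
  rw [← rSf_add, add_neg_cancel, rSf_zero]

/-- a subgroup containing the root elements of the Siegel radical contains the radical -/
theorem R_le_of_root_mem (T : Subgroup Sp) (h1 : ∀ (i : Fin m) (t : F), tE (ev i : Vec) t ∈ T)
    (h2 : ∀ (i j : Fin m), i < j → ∀ t : F, uE (ev i : Vec) (t • ev j) 0 ∈ T) : R m F ≤ T := by
  let M : AddSubgroup (LEPairs m → F) :=
    { carrier := {f | rSf f ∈ T}
      add_mem' := by
        intro f g hf hg
        show rSf (f + g) ∈ T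
        rw [rSf_add]
        exact mul_mem hf hg
      zero_mem' := by
        show rSf (0 : LEPairs m → F) ∈ T
        rw [rSf_zero]
        exact one_mem _
      neg_mem' := by
        intro f hf
        show rSf (-f) ∈ T
        rw [rSf_neg]
        exact inv_mem hf }
  have hM : ∀ f : LEPairs m → F, f ∈ M := by
    intro f
    rw [← Finset.univ_sum_single f]
    apply AddSubgroup.sum_mem
    intro q _
    obtain ⟨⟨i, j⟩, h⟩ := q
    have h' : i ≤ j := h
    show rSf _ ∈ T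
    rcases eq_or_lt_of_le h' with hij | hij
    · subst hij
      have := rSf_single_diag (F := F) i (f ⟨(i, i), h⟩)
      rw [this]
      exact h1 _ _
    · have := rSf_single_off (F := F) hij (f ⟨(i, j), h⟩)
      rw [this]
      exact h2 i j hij _
  intro r hr
  have h3 := (rEquiv m F).right_inv ⟨r, hr⟩
  have h4 : r = rSf ((rEquiv m F).invFun ⟨r, hr⟩) := (congrArg Subtype.val h3).symm
  rw [h4]
  exact hM _

section char

variable [Fintype F] {p f : ℕ} [hp : Fact p.Prime] [CharP F p]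

/-- a field with at least three elements has an element different from `0` and `-1` -/
theorem exists_ne_zero_ne_neg_one (h : 3 ≤ Fintype.card F) : ∃ t : F, t ≠ 0 ∧ t ≠ -1 := by
  classical
  by_contra hcon
  push Not at hcon
  have h1 : (Finset.univ : Finset F) ⊆ {0, -1} := by
    intro t _
    by_cases ht : t = 0
    · rw [ht]; simp
    · rw [hcon t ht]; simp
  have h2 := Finset.card_le_card h1
  have h3 : ({0, -1} : Finset F).card ≤ 2 := Finset.card_le_two
  rw [Finset.card_univ] at h2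
  omega

/-- a central element of `U0` has the form `uE e_0 (β e_1) c` -/
theorem exists_uE_of_central (hF : Fintype.card F = p ^ f) (hf : 1 ≤ f) (hm : 2 ≤ m) {z : Sp} (hzU : z ∈ U0 m F)
    (hzc : ∀ u ∈ U0 m F, u * z = z * u) :
    ∃ β c : F, z = uE (ev ⟨0, by omega⟩ : Vec) (β • ev ⟨1, hm⟩) c := by
  have hm1 : 1 ≤ m := by omega
  have hS := coe_sylU0 hF hf m
  have he0 : (ev ⟨0, hm1⟩ : Vec) ≠ 0 := ev_ne_zero _
  obtain ⟨⟨w, c, hw, hzw⟩, -⟩ := mem_Qe_of_central (sylU0 hF hf m) he0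
    (by intro g hg; rw [hS] at hg; exact smul_ev_zero_of_mem_U0 hm1 hg) (by rw [hS]; exact hzU)
    (by intro u hu; rw [hS] at hu; exact hzc u hu)
  have hfix : ∀ g ∈ U0 m F, ∃ l : F, g • w = w + l • (ev ⟨0, hm1⟩ : Vec) := by
    intro g hg
    have hge := smul_ev_zero_of_mem_U0 hm1 hg
    have h1 : g * uE (ev ⟨0, hm1⟩ : Vec) w c * g⁻¹ = uE (ev ⟨0, hm1⟩ : Vec) w c := by
      rw [← hzw, hzc g hg]
      group
    rw [conj_uE, hge] at h1
    have hw2 : B (ev ⟨0, hm1⟩ : Vec) (g • w) = 0 := by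
      nth_rewrite 1 [← hge]
      rw [B_smul, hw]
    obtain ⟨l, hl, -⟩ := uE_eq he0 hw2 hw h1
    exact ⟨l, hl⟩
  -- `w` lies in the span of the `e_i`
  have hwVM : InVM w := by
    intro k
    by_cases hk : k = ⟨0, hm1⟩
    · rw [B_ev_left] at hw
      rw [hk]
      exact neg_eq_zero.mp hw
    · obtain ⟨l, hl⟩ := hfix _ (R_le_U0 (tE_mem_R (inVM_ev k) 1))
      rw [tE_smul_vec] at hl
      have h1 := congrFun (add_left_cancel hl) (Sum.inl k)
      rw [Pi.smul_apply, Pi.smul_apply, ev_inl, ev_inl, if_pos rfl, if_neg hk, B_ev_right, smul_eq_mul, smul_eq_mul,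
        one_mul, mul_one, mul_zero] at h1
      exact h1
  -- the coordinates of index `≥ 2` vanish
  have hw2 : ∀ k : Fin m, 2 ≤ k.val → w (Sum.inl k) = 0 := by
    intro k hk
    have hik : (⟨1, hm⟩ : Fin m) < k := by
      rw [Fin.lt_def]
      exact hk
    have hi0 : (⟨1, hm⟩ : Fin m) ≠ ⟨0, hm1⟩ := by
      intro h
      have := congrArg Fin.val h
      simp at this
    obtain ⟨l, hl⟩ := hfix _ (uE_ev_fv_mem_U0 hik (1 : F))
    have hB : B (ev ⟨1, hm⟩ : Vec) ((1 : F) • fv k) = 0 := by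
      rw [sympForm_smul_right, B_fv_right, ev_inl, if_neg (ne_of_gt hik), neg_zero, mul_zero]
    rw [uE_smul_vec hB, B_ev_right, hwVM, sympForm_smul_right, B_fv_right] at hl
    have h1 := congrFun hl (Sum.inl ⟨1, hm⟩)
    simp only [Pi.add_apply, Pi.smul_apply, ev_inl, fv_inl, smul_eq_mul, zero_mul, mul_zero, add_zero, if_pos,
      if_neg hi0, one_mul, mul_one, if_true] at h1
    have h2 : -w (Sum.inl k) = 0 := by
      have := add_left_cancel (a := w (Sum.inl ⟨1, hm⟩)) (b := -w (Sum.inl k)) (c := 0) (by rw [add_zero]; exact h1)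
      exact this
    exact neg_eq_zero.mp h2
  have hwe : w = w (Sum.inl ⟨1, hm⟩) • (ev ⟨1, hm⟩ : Vec) + w (Sum.inl ⟨0, hm1⟩) • (ev ⟨0, hm1⟩ : Vec) := by
    funext k
    rcases k with k | k
    · rw [Pi.add_apply, Pi.smul_apply, Pi.smul_apply, ev_inl, ev_inl, smul_eq_mul, smul_eq_mul]
      by_cases hk0 : k = ⟨0, hm1⟩
      · have hk1 : ¬ k = ⟨1, hm⟩ := by
          rw [hk0]
          intro h
          have := congrArg Fin.val h
          simp at this
        rw [if_pos hk0, if_neg hk1, mul_zero, zero_add, mul_one, hk0]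
      · by_cases hk1 : k = ⟨1, hm⟩
        · rw [if_pos hk1, if_neg hk0, mul_zero, add_zero, mul_one, hk1]
        · rw [if_neg hk0, if_neg hk1, mul_zero, mul_zero, add_zero]
          apply hw2
          have h0 : k.val ≠ 0 := fun h => hk0 (Fin.ext h)
          have h1 : k.val ≠ 1 := fun h => hk1 (Fin.ext h)
          omega
    · rw [hwVM k, Pi.add_apply, Pi.smul_apply, Pi.smul_apply, ev_inr, ev_inr, smul_zero, smul_zero, add_zero]
  refine ⟨w (Sum.inl ⟨1, hm⟩), c + 2 * w (Sum.inl ⟨0, hm1⟩), ?_⟩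
  have hB1 : B (ev ⟨0, hm1⟩ : Vec) (w (Sum.inl ⟨1, hm⟩) • (ev ⟨1, hm⟩ : Vec)) = 0 :=
    B_of_inVM (inVM_ev _) ((inVM_ev _).smul _)
  rw [← uE_add_smul hB1, ← hwe]
  exact hzw

/-- the strongly closed subgroups of `U0`, at the level of `Sp` -/
theorem U0_le_of_strClosed (hF : Fintype.card F = p ^ f) (hf : 1 ≤ f) (hm : 2 ≤ m)
    (hex : m = 2 → 3 ≤ Fintype.card F) (T : Subgroup Sp) (hT : T ≤ U0 m F)
    (hcl : ∀ t ∈ T, ∀ g : Sp, g * t * g⁻¹ ∈ U0 m F → g * t * g⁻¹ ∈ T) (hne : T ≠ ⊥) : U0 m F ≤ T := by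
  have hm1 : 1 ≤ m := by omega
  have hS := coe_sylU0 hF hf m
  have he0 : (ev ⟨0, hm1⟩ : Vec) ≠ 0 := ev_ne_zero _
  have h01 : (⟨1, hm⟩ : Fin m) ≠ ⟨0, hm1⟩ := by
    intro h
    have := congrArg Fin.val h
    simp at this
  -- a nontrivial central element of `U0` in `T`
  have hN : (T.subgroupOf (sylU0 hF hf m : Subgroup Sp)).Normal := by
    constructor
    intro t ht s
    rw [Subgroup.mem_subgroupOf] at ht ⊢
    have hs : (s : Sp) ∈ U0 m F := by rw [← hS]; exact s.2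
    have := hcl _ ht (s : Sp) ((U0 m F).mul_mem ((U0 m F).mul_mem hs (hT ht)) ((U0 m F).inv_mem hs))
    simpa using this
  have hNne : T.subgroupOf (sylU0 hF hf m : Subgroup Sp) ≠ ⊥ := by
    intro h
    apply hne
    rw [Subgroup.eq_bot_iff_forall]
    intro t ht
    have h1 : (⟨t, by rw [hS]; exact hT ht⟩ : (sylU0 hF hf m : Subgroup Sp)) ∈
        T.subgroupOf (sylU0 hF hf m : Subgroup Sp) := by
      rw [Subgroup.mem_subgroupOf]
      exact ht
    rw [h, Subgroup.mem_bot] at h1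
    exact congrArg Subtype.val h1
  obtain ⟨z, hzN, hz1, hzc⟩ := Cfsg.Agent.Helper25.exists_mem_center_of_normal_ne_bot
    (sylU0 hF hf m).isPGroup' _ hNne
  have hzT : (z : Sp) ∈ T := Subgroup.mem_subgroupOf.mp hzN
  have hzU : (z : Sp) ∈ U0 m F := hT hzT
  have hz1' : (z : Sp) ≠ 1 := fun h => hz1 (Subtype.ext h)
  have hzc' : ∀ u ∈ U0 m F, u * (z : Sp) = (z : Sp) * u := by
    intro u hu
    have := Subgroup.mem_center_iff.mp hzc ⟨u, by rw [hS]; exact hu⟩
    exact congrArg Subtype.val this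
  obtain ⟨β, c, hzw⟩ := exists_uE_of_central hF hf hm hzU hzc'
  -- Step A: a short root element in `T`
  have hA : ∃ a b : Vec, InVM a ∧ InVM b ∧ a ≠ 0 ∧ (∀ l : F, b ≠ l • a) ∧ uE a b 0 ∈ T := by
    by_cases hβ : β = 0
    · -- `z` is a transvection
      rw [hβ, zero_smul, uE_zero] at hzw
      have hc : c ≠ 0 := by
        intro h
        apply hz1'
        rw [hzw, h, tE_zero]
      have hmem : ∀ v : Vec, InVM v → v ≠ 0 → tE v c ∈ T := by
        intro v hv hv0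
        obtain ⟨A, -, hA⟩ := exists_transvection_map_of_ne_zero he0 hv0
        have hA' : A • (ev ⟨0, hm1⟩ : Vec) = v := hA
        have := hcl _ hzT A (by rw [hzw, conj_tE, hA']; exact R_le_U0 (tE_mem_R hv c))
        rwa [hzw, conj_tE, hA'] at this
      have hB01 : B (ev ⟨0, hm1⟩ : Vec) (ev ⟨1, hm⟩) = 0 := B_of_inVM (inVM_ev _) (inVM_ev _)
      have hsum : (ev ⟨0, hm1⟩ : Vec) + ev ⟨1, hm⟩ ≠ 0 := by
        intro h
        have := congrFun h (Sum.inl ⟨0, hm1⟩)
        rw [Pi.add_apply, ev_inl, ev_inl, if_pos rfl, if_neg (Ne.symm h01), add_zero] at this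
        exact one_ne_zero this
      refine ⟨ev ⟨0, hm1⟩, c • ev ⟨1, hm⟩, inVM_ev _, (inVM_ev _).smul c, he0, ?_, ?_⟩
      · intro l h
        have := congrFun h (Sum.inl ⟨1, hm⟩)
        rw [Pi.smul_apply, Pi.smul_apply, ev_inl, ev_inl, if_pos rfl, if_neg h01, smul_eq_mul, smul_eq_mul, mul_one,
          mul_zero] at this
        exact hc this
      · rw [← tE_mul_eq_uE hB01 c]
        refine mul_mem (mul_mem (hmem _ ((inVM_ev _).add (inVM_ev _)) hsum) ?_) ?_
        · rw [← tE_inv]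
          exact inv_mem (hmem _ (inVM_ev _) (ev_ne_zero _))
        · rw [← tE_inv]
          exact inv_mem (hmem _ (inVM_ev _) he0)
    · -- `z` involves a short root element
      have hv : ∃ v : Vec, InVM v ∧ (∃ k : Fin m, k ≠ ⟨0, hm1⟩ ∧ v (Sum.inl k) ≠ 0) ∧
          ((ev ⟨1, hm⟩ : Vec) + v) (Sum.inl ⟨1, hm⟩) ≠ 0 := by
        by_cases hm3 : 3 ≤ m
        · have h12 : (⟨1, hm⟩ : Fin m) ≠ ⟨2, hm3⟩ := by
            intro h
            have := congrArg Fin.val h
            simp at this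
          have h20 : (⟨2, hm3⟩ : Fin m) ≠ ⟨0, hm1⟩ := by
            intro h
            have := congrArg Fin.val h
            simp at this
          refine ⟨ev ⟨2, hm3⟩, inVM_ev _, ⟨⟨2, hm3⟩, h20, ?_⟩, ?_⟩
          · rw [ev_inl, if_pos rfl]
            exact one_ne_zero
          · rw [Pi.add_apply, ev_inl, ev_inl, if_pos rfl, if_neg h12, add_zero]
            exact one_ne_zero
        · obtain ⟨t, ht0, ht1⟩ := exists_ne_zero_ne_neg_one (hex (by omega))
          refine ⟨t • ev ⟨1, hm⟩, (inVM_ev _).smul t, ⟨⟨1, hm⟩, h01, ?_⟩, ?_⟩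
          · rw [Pi.smul_apply, ev_inl, if_pos rfl, smul_eq_mul, mul_one]
            exact ht0
          · rw [Pi.add_apply, Pi.smul_apply, ev_inl, if_pos rfl, smul_eq_mul, mul_one]
            intro h
            apply ht1
            linear_combination h
      obtain ⟨v, hvVM, ⟨k, hk0, hvk⟩, hv1⟩ := hv
      have hB01 : B (ev ⟨0, hm1⟩ : Vec) (ev ⟨1, hm⟩) = 0 := B_of_inVM (inVM_ev _) (inVM_ev _)
      obtain ⟨g, hg0, hg1⟩ := exists_map_orth_pair (a := (ev ⟨0, hm1⟩ : Vec)) (b := ev ⟨1, hm⟩)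
        (a' := ev ⟨0, hm1⟩) (b' := ev ⟨1, hm⟩ + v) he0
        (by
          intro l h
          have := congrFun h (Sum.inl ⟨1, hm⟩)
          rw [Pi.smul_apply, ev_inl, ev_inl, if_pos rfl, if_neg h01, smul_eq_mul, mul_zero] at this
          exact one_ne_zero this)
        hB01 he0
        (by
          intro l h
          apply hv1
          rw [h, Pi.smul_apply, ev_inl, if_neg h01, smul_eq_mul, mul_zero])
        (B_of_inVM (inVM_ev _) ((inVM_ev _).add hvVM))
      have hconj : g * (z : Sp) * g⁻¹ = uE (ev ⟨0, hm1⟩ : Vec) (β • (ev ⟨1, hm⟩ + v)) c := by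
        rw [hzw, conj_uE, hg0, smul_comm, hg1]
      have hmemU : uE (ev ⟨0, hm1⟩ : Vec) (β • (ev ⟨1, hm⟩ + v)) c ∈ U0 m F :=
        R_le_U0 (uE_mem_R (inVM_ev _) (((inVM_ev _).add hvVM).smul β) c)
      have h1 := hcl _ hzT g (by rw [hconj]; exact hmemU)
      rw [hconj] at h1
      have h2 : ((z : Sp))⁻¹ * uE (ev ⟨0, hm1⟩ : Vec) (β • (ev ⟨1, hm⟩ + v)) c ∈ T := mul_mem (inv_mem hzT) h1
      have hBa : B (ev ⟨0, hm1⟩ : Vec) (β • ev ⟨1, hm⟩) = 0 := B_of_inVM (inVM_ev _) ((inVM_ev _).smul β)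
      have hBb : B (ev ⟨0, hm1⟩ : Vec) (β • (ev ⟨1, hm⟩ + v)) = 0 :=
        B_of_inVM (inVM_ev _) (((inVM_ev _).add hvVM).smul β)
      have hBn : B (ev ⟨0, hm1⟩ : Vec) (-(β • ev ⟨1, hm⟩)) = 0 := by
        rw [sympForm_neg_right, hBa, neg_zero]
      have hBc : B (β • ((ev ⟨1, hm⟩ : Vec) + v)) (-(β • ev ⟨1, hm⟩)) = 0 :=
        B_of_inVM (((inVM_ev _).add hvVM).smul β) ((inVM_ev _).smul β).neg
      rw [hzw, uE_inv hBa, uE_mul hBn hBb, hBc] at h2
      have e1 : -(β • (ev ⟨1, hm⟩ : Vec)) + β • (ev ⟨1, hm⟩ + v) = β • v := by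
        rw [smul_add]
        abel
      have e2 : -c + c + 0 = (0 : F) := by ring
      rw [e1, e2] at h2
      refine ⟨ev ⟨0, hm1⟩, β • v, inVM_ev _, hvVM.smul β, he0, ?_, h2⟩
      intro l h
      have := congrFun h (Sum.inl k)
      rw [Pi.smul_apply, Pi.smul_apply, ev_inl, if_neg hk0, smul_eq_mul, smul_eq_mul, mul_zero] at this
      exact (mul_ne_zero hβ hvk) this
  -- Step B: all short root elements of `U0` lie in `T`
  have hB : ∀ a' b' : Vec, a' ≠ 0 → (∀ l : F, b' ≠ l • a') → B a' b' = 0 → uE a' b' 0 ∈ U0 m F →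
      uE a' b' 0 ∈ T := by
    obtain ⟨a, b, ha, hb, ha0, hab, hT0⟩ := hA
    intro a' b' ha' hb' hab' hU
    obtain ⟨g, hga, hgb⟩ := exists_map_orth_pair ha0 hab (B_of_inVM ha hb) ha' hb' hab'
    have := hcl _ hT0 g (by rw [conj_uE, hga, hgb]; exact hU)
    rwa [conj_uE, hga, hgb] at this
  -- Step C: the long root elements
  have hC0 : ∀ t : F, tE (ev ⟨0, hm1⟩ : Vec) t ∈ T := by
    intro s
    by_cases hs : s = 0
    · rw [hs, tE_zero]
      exact one_mem _
    have ht : -s ≠ 0 := neg_ne_zero.mpr hs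
    have h01' : (⟨0, hm1⟩ : Fin m) < ⟨1, hm⟩ := by
      rw [Fin.lt_def]
      exact Nat.zero_lt_one
    have hxU := uE_ev_fv_mem_U0 (F := F) h01' (1 : F)
    have hBx : B (ev ⟨0, hm1⟩ : Vec) ((1 : F) • fv ⟨1, hm⟩) = 0 := by
      rw [sympForm_smul_right, B_fv_right, ev_inl, if_neg h01, neg_zero, mul_zero]
    have hxT : uE (ev ⟨0, hm1⟩ : Vec) ((1 : F) • fv ⟨1, hm⟩) 0 ∈ T := by
      apply hB _ _ he0 _ hBx hxU
      intro l h
      have := congrFun h (Sum.inr ⟨1, hm⟩)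
      rw [Pi.smul_apply, Pi.smul_apply, fv_inr, ev_inr, if_pos rfl, smul_eq_mul, smul_eq_mul, mul_one, mul_zero] at this
      exact one_ne_zero this
    have hyU : tE (ev ⟨1, hm⟩ : Vec) (-s) ∈ U0 m F := R_le_U0 (tE_mem_R (inVM_ev _) _)
    -- the commutator
    have hcomm : uE (ev ⟨0, hm1⟩ : Vec) ((1 : F) • fv ⟨1, hm⟩) 0 *
        (tE (ev ⟨1, hm⟩ : Vec) (-s) * (uE (ev ⟨0, hm1⟩ : Vec) ((1 : F) • fv ⟨1, hm⟩) 0)⁻¹ *
          (tE (ev ⟨1, hm⟩ : Vec) (-s))⁻¹) ∈ T := by
      apply mul_mem hxT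
      apply hcl _ (inv_mem hxT)
      exact (U0 m F).mul_mem ((U0 m F).mul_mem hyU ((U0 m F).inv_mem hxU)) ((U0 m F).inv_mem hyU)
    have hxe : uE (ev ⟨0, hm1⟩ : Vec) ((1 : F) • fv ⟨1, hm⟩) 0 • (ev ⟨1, hm⟩ : Vec) =
        -(ev ⟨0, hm1⟩ : Vec) + ev ⟨1, hm⟩ := by
      rw [uE_smul_vec hBx, B_of_inVM (inVM_ev _) (inVM_ev _), sympForm_smul_right, B_fv_right, ev_inl, if_pos rfl]
      simp only [zero_smul, add_zero, mul_zero, one_mul, neg_smul, one_smul]
      abel
    have hcomm' : uE (ev ⟨0, hm1⟩ : Vec) ((1 : F) • fv ⟨1, hm⟩) 0 *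
        (tE (ev ⟨1, hm⟩ : Vec) (-s) * (uE (ev ⟨0, hm1⟩ : Vec) ((1 : F) • fv ⟨1, hm⟩) 0)⁻¹ *
          (tE (ev ⟨1, hm⟩ : Vec) (-s))⁻¹) =
        tE (-(ev ⟨0, hm1⟩ : Vec) + ev ⟨1, hm⟩) (-s) * tE (ev ⟨1, hm⟩ : Vec) (- -s) := by
      rw [← hxe, ← conj_tE, tE_inv]
      group
    rw [hcomm'] at hcomm
    have hBn : B (-(ev ⟨0, hm1⟩ : Vec)) (ev ⟨1, hm⟩) = 0 := B_of_inVM (inVM_ev _).neg (inVM_ev _)
    have h3 := tE_mul_eq_uE hBn (-s)
    have hne0 : -(ev ⟨0, hm1⟩ : Vec) ≠ 0 := neg_ne_zero.mpr he0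
    have h4 : uE (-(ev ⟨0, hm1⟩ : Vec)) ((-s) • ev ⟨1, hm⟩) 0 ∈ T := by
      apply hB _ _ hne0 _ (B_of_inVM (inVM_ev _).neg ((inVM_ev _).smul _))
        (R_le_U0 (uE_mem_R (inVM_ev _).neg ((inVM_ev _).smul _) 0))
      intro l h
      have := congrFun h (Sum.inl ⟨1, hm⟩)
      rw [Pi.smul_apply, Pi.smul_apply, Pi.neg_apply, ev_inl, ev_inl, if_pos rfl, if_neg h01, smul_eq_mul,
        smul_eq_mul, mul_one, neg_zero, mul_zero] at this
      exact ht this
    have h5 : tE (-(ev ⟨0, hm1⟩ : Vec)) (- -s) ∈ T := by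
      have e : tE (-(ev ⟨0, hm1⟩ : Vec)) (- -s) =
          (tE (-(ev ⟨0, hm1⟩ : Vec) + ev ⟨1, hm⟩) (-s) * tE (ev ⟨1, hm⟩ : Vec) (- -s))⁻¹ *
            uE (-(ev ⟨0, hm1⟩ : Vec)) ((-s) • ev ⟨1, hm⟩) 0 := by
        rw [← h3]
        group
      rw [e]
      exact mul_mem (inv_mem hcomm) h4
    have h6 : tE (-(ev ⟨0, hm1⟩ : Vec)) (- -s) = tE (ev ⟨0, hm1⟩ : Vec) s := by
      have := tE_smul (-1 : F) (ev ⟨0, hm1⟩ : Vec) (- -s)
      rw [neg_smul, one_smul] at this
      rw [this]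
      congr 1
      ring
    rwa [h6] at h5
  have hC : ∀ v : Vec, InVM v → ∀ t : F, tE v t ∈ T := by
    intro v hv t
    by_cases hv0 : v = 0
    · rw [hv0, tE_zero_vec]
      exact one_mem _
    · obtain ⟨A, -, hA⟩ := exists_transvection_map_of_ne_zero he0 hv0
      have hA' : A • (ev ⟨0, hm1⟩ : Vec) = v := hA
      have := hcl _ (hC0 t) A (by rw [conj_tE, hA']; exact R_le_U0 (tE_mem_R hv t))
      rwa [conj_tE, hA'] at this
  -- Step D: the Siegel radical
  have hD : R m F ≤ T := by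
    apply R_le_of_root_mem T (fun i t => hC _ (inVM_ev i) t)
    intro i j hij t
    by_cases ht : t = 0
    · rw [ht, zero_smul, uE_zero_zero]
      exact one_mem _
    · apply hB _ _ (ev_ne_zero i) _ (B_of_inVM (inVM_ev _) ((inVM_ev _).smul _))
        (R_le_U0 (uE_mem_R (inVM_ev _) ((inVM_ev _).smul _) 0))
      intro l h
      have := congrFun h (Sum.inl j)
      rw [Pi.smul_apply, Pi.smul_apply, ev_inl, ev_inl, if_pos rfl, if_neg (ne_of_gt hij), smul_eq_mul, smul_eq_mul,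
        mul_one, mul_zero] at this
      exact ht this
  -- Step E: the embedded unitriangular group
  have hE : ∀ P ∈ Cfsg.Agent.Helper14.AutPSL.UT m F, lvS m F P ∈ T := by
    intro P hP
    have h1 := Cfsg.Agent.Helper84.PSLn.UT_le_closure_rootSet hP
    have h2 : Subgroup.closure (Cfsg.Agent.Helper84.PSLn.rootSet m F) ≤ T.comap (lvS m F) := by
      rw [Subgroup.closure_le]
      rintro x ⟨i, j, hij, r, rfl⟩
      show lvS m F _ ∈ T
      rw [lvS_root hij r]
      by_cases hr : r = 0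
      · rw [hr, neg_zero, zero_smul, uE_zero_zero]
        exact one_mem _
      · have hBx : B (ev i : Vec) ((-r) • fv j) = 0 := by
          rw [sympForm_smul_right, B_fv_right, ev_inl, if_neg (ne_of_gt hij), neg_zero, mul_zero]
        apply hB _ _ (ev_ne_zero i) _ hBx (uE_ev_fv_mem_U0 hij _)
        intro l h
        have := congrFun h (Sum.inr j)
        rw [Pi.smul_apply, Pi.smul_apply, fv_inr, ev_inr, if_pos rfl, smul_eq_mul, smul_eq_mul, mul_one, mul_zero] at this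
        exact hr (neg_eq_zero.mp this)
    exact h2 h1
  intro g hg
  obtain ⟨r, hr, P, hP, rfl⟩ := exists_mul_lvS_of_mem_U0 hg
  exact mul_mem (hD hr) (hE P hP)

/-- no proper nontrivial subgroup of the image of `U0` in `PSp_{2m}(q)` is strongly closed -/
theorem noStrClosed_U0 (hF : Fintype.card F = p ^ f) (hf : 1 ≤ f) (hm : 2 ≤ m)
    (hex : m = 2 → 3 ≤ Fintype.card F) :
    NoStrClosed ((U0 m F).map (prj : Sp →* Cfsg.PSp m F)) := by
  intro T hTS hcl
  by_cases hT : T = ⊥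
  · left
    exact hT
  right
  apply le_antisymm hTS
  have key := U0_le_of_strClosed hF hf hm hex ((T.comap prj) ⊓ U0 m F) inf_le_right (by
    intro t ht g hg
    refine ⟨?_, hg⟩
    show prj (g * t * g⁻¹) ∈ T
    rw [map_mul, map_mul, map_inv]
    apply hcl _ ht.1
    rw [← map_inv, ← map_mul, ← map_mul]
    exact Subgroup.mem_map_of_mem _ hg) (by
    intro h
    apply hT
    rw [Subgroup.eq_bot_iff_forall]
    intro t ht
    obtain ⟨u, hu, rfl⟩ := hTS ht
    have hmem : u ∈ (T.comap prj) ⊓ U0 m F := ⟨ht, hu⟩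
    rw [h, Subgroup.mem_bot] at hmem
    rw [hmem, map_one])
  rintro s ⟨u, hu, rfl⟩
  exact (key hu).1

end char

end Cfsg.Agent.Helper84.PSp
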