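import Cfsg.Agent.Helper84.PStable
import Cfsg.Agent.S5076
import Cfsg.Prelude.Def_LocalEven
set_option autoImplicit false

/-! # `p`-stability of a finite group versus `p`-stability of its fusion system -/

namespace Cfsg.Agent.Helper84

open Cfsg Cfsg.FusionSystem Cfsg.Agent.Helper87 Cfsg.Agent.S5076

open scoped commutatorElement

variable {G : Type*} [Group G]

theorem IsQuad.zpow_apply {Q : Type*} [Group Q] {χ : MulAut Q} (h : IsQuad χ) (a : Q) (i : ℤ) :
    (χ ^ i) a = a * (a⁻¹ * χ a) ^ i := by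
  have hfixpow : ∀ m : ℕ, (χ ^ m) (a⁻¹ * χ a) = a⁻¹ * χ a := by
    intro m
    rw [h.pow_apply, h.fix a]
    simp
  cases i with
  | ofNat m => simpa using h.pow_apply a m
  | negSucc m =>
    rw [zpow_negSucc, zpow_negSucc]
    apply (χ ^ (m + 1)).injective
    rw [MulAut.apply_inv_self, map_mul, map_inv, map_pow, hfixpow, h.pow_apply]
    group

theorem pCore_map_equiv_le {X Y : Type*} [Group X] [Group Y] (p : ℕ) (e : X ≃* Y) :
    (pCore p X).map e.toMonoidHom ≤ pCore p Y := by
  apply Cfsg.Agent.Lib.le_pCore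
  · have := Cfsg.Agent.Lib.pCore_characteristic (G := X) p
    have hn : (pCore p X).Normal := inferInstance
    exact hn.map e.toMonoidHom e.surjective
  · exact (Cfsg.Agent.Lib.isPGroup_pCore p).map _

theorem mem_pCore_equiv {X Y : Type*} [Group X] [Group Y] (p : ℕ) (e : X ≃* Y) (x : X) :
    e x ∈ pCore p Y ↔ x ∈ pCore p X := by
  constructor
  · intro h
    have := pCore_map_equiv_le p e.symm ⟨e x, h, rfl⟩
    simpa using this
  · intro h
    exact pCore_map_equiv_le p e ⟨x, h, rfl⟩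

/-- The isomorphism `N_G(Q)/C_G(Q) ≃ Aut_F(Q)` for `F = F_S(G)`. -/
noncomputable def normQuotEquiv {S Q : Subgroup G} (hQ : Q ≤ S) :
    (↥(Subgroup.normalizer (Q : Set G)) ⧸
        (Subgroup.centralizer (Q : Set G)).subgroupOf (Subgroup.normalizer (Q : Set G))) ≃*
      (groupFusionSystem S).autGroup Q :=
  (QuotientGroup.quotientMulEquivOfEq (by
    show _ = (normToAut (S := S) hQ).ker
    unfold normToAut
    rw [MonoidHom.ker_codRestrict, Subgroup.normalizerMonoidHom_ker])).trans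
    (QuotientGroup.quotientKerEquivOfSurjective (normToAut (S := S) hQ) (normToAut_surjective hQ))

theorem normQuotEquiv_mk {S Q : Subgroup G} (hQ : Q ≤ S) (n : Subgroup.normalizer (Q : Set G)) :
    normQuotEquiv hQ (QuotientGroup.mk n) = normToAut hQ n := rfl

/-- Bridge between `O_p(N_G(Q)/C_G(Q))` and `O_p(Aut_F(Q))`. -/
theorem mk_mem_pCore_iff {S Q : Subgroup G} (hQ : Q ≤ S) (p : ℕ) (n : Subgroup.normalizer (Q : Set G)) :
    (QuotientGroup.mk (s := (Subgroup.centralizer (Q : Set G)).subgroupOf (Subgroup.normalizer (Q : Set G))) n) ∈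
        pCore p (↥(Subgroup.normalizer (Q : Set G)) ⧸
          (Subgroup.centralizer (Q : Set G)).subgroupOf (Subgroup.normalizer (Q : Set G))) ↔
      Q.normalizerMonoidHom n ∈
        ((pCore p ↥((groupFusionSystem S).autGroup Q)).map ((groupFusionSystem S).autGroup Q).subtype :
          Subgroup (MulAut Q)) := by
  rw [← mem_pCore_equiv p (normQuotEquiv hQ), normQuotEquiv_mk]
  constructor
  · intro h
    exact ⟨_, h, rfl⟩
  · rintro ⟨y, hy, hyn⟩
    have : y = normToAut hQ n := Subtype.ext hyn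
    rwa [← this]

/-- Quadratic action of `g ∈ N_G(Q)` in commutator form versus the automorphism form. -/
theorem isQuad_iff_commutator {Q : Subgroup G} (n : Subgroup.normalizer (Q : Set G)) :
    ⁅⁅Q, Subgroup.zpowers (n : G)⁆, Subgroup.zpowers (n : G)⁆ = ⊥ ↔ IsQuad (Q.normalizerMonoidHom n) := by
  set χ := Q.normalizerMonoidHom n with hχ
  have hχa : ∀ a : Q, ((χ a : Q) : G) = n * a * (n : G)⁻¹ := fun a => rfl
  constructor
  · intro h a
    -- c = a⁻¹ χ(a) is a commutator
    have hc : ((a⁻¹ * χ a : Q) : G) ∈ ⁅Q, Subgroup.zpowers (n : G)⁆ := by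
      have : ((a⁻¹ * χ a : Q) : G) = ⁅((a⁻¹ : Q) : G), (n : G)⁆ := by
        rw [commutatorElement_def]
        push_cast
        rw [hχa]
        group
      rw [this]
      exact Subgroup.commutator_mem_commutator (a⁻¹).2 (Subgroup.mem_zpowers _)
    have h1 : ⁅((a⁻¹ * χ a : Q) : G), (n : G)⁆ = 1 := by
      have := Subgroup.commutator_mem_commutator hc (Subgroup.mem_zpowers (n : G))
      rw [h] at this
      exact Subgroup.mem_bot.mp this
    have hfix : χ (a⁻¹ * χ a) = a⁻¹ * χ a := by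
      apply Subtype.ext
      rw [hχa]
      rw [commutatorElement_def] at h1
      have h2 : ((a⁻¹ * χ a : Q) : G) * n * ((a⁻¹ * χ a : Q) : G)⁻¹ * (n : G)⁻¹ = 1 := h1
      have h3 : ((a⁻¹ * χ a : Q) : G) * n = n * ((a⁻¹ * χ a : Q) : G) := by
        have := congrArg (fun t => t * (n : G) * ((a⁻¹ * χ a : Q) : G)) h2
        simpa [mul_assoc] using this
      rw [← h3]; group
    rw [map_mul, map_inv] at hfix
    rw [map_inv]
    have : (χ a)⁻¹ * a * (χ a)⁻¹ * χ (χ a) = (χ a)⁻¹ * a * ((χ a)⁻¹ * χ (χ a)) := by group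
    rw [this, hfix]; group
  · intro hq
    rw [Subgroup.commutator_eq_bot_iff_le_centralizer]
    rw [Subgroup.commutator_le]
    rintro a ha _ ⟨i, rfl⟩
    -- ⁅a, n^i⁆ = c(a⁻¹)^i
    set a' : Q := ⟨a, ha⟩ with ha'
    have hχi : ∀ b : Q, (((χ ^ i) b : Q) : G) = (n : G) ^ i * b * ((n : G) ^ i)⁻¹ := by
      intro b
      rw [hχ, ← map_zpow]
      show ((n ^ i : Subgroup.normalizer (Q : Set G)) : G) * b * ((n ^ i : Subgroup.normalizer (Q : Set G)) : G)⁻¹ = _
      rw [Subgroup.coe_zpow]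
    have h1 := hχi a'⁻¹
    rw [hq.zpow_apply, inv_inv] at h1
    have hkey : ⁅a, (n : G) ^ i⁆ = ((a' * χ a'⁻¹ : Q) : G) ^ i := by
      rw [commutatorElement_def]
      have : a * (n : G) ^ i * a⁻¹ * ((n : G) ^ i)⁻¹ = a * ((n : G) ^ i * ((a'⁻¹ : Q) : G) * ((n : G) ^ i)⁻¹) := by
        rw [ha']; push_cast; group
      rw [this, ← h1]
      have haa : (a' : G) = a := rfl
      rw [Subgroup.coe_mul, Subgroup.coe_inv, haa, mul_inv_cancel_left]
      rfl
    rw [hkey]
    have hfix := hq.fix a'⁻¹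
    rw [inv_inv] at hfix
    have hcomm : Commute (n : G) ((a' * χ a'⁻¹ : Q) : G) := by
      have h2 := congrArg (fun t : Q => (t : G)) hfix
      simp only [hχa] at h2
      show (n : G) * _ = _ * (n : G)
      have := congrArg (fun t => t * (n : G)) h2
      simpa [mul_assoc] using this
    rw [Subgroup.mem_centralizer_iff]
    rintro _ ⟨j, rfl⟩
    exact (hcomm.zpow_zpow j i).eq

/-- Normalizer `p`-stability of `G` at one subgroup. -/
def NPSAt (p : ℕ) (Q : Subgroup G) : Prop :=
  ∀ (g : G) (hg : g ∈ Subgroup.normalizer (Q : Set G)),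
    ⁅⁅Q, Subgroup.zpowers g⁆, Subgroup.zpowers g⁆ = ⊥ →
      (QuotientGroup.mk (s := (Subgroup.centralizer (Q : Set G)).subgroupOf (Subgroup.normalizer (Q : Set G)))
          (⟨g, hg⟩ : ↥(Subgroup.normalizer (Q : Set G)))) ∈
        pCore p (↥(Subgroup.normalizer (Q : Set G)) ⧸
          (Subgroup.centralizer (Q : Set G)).subgroupOf (Subgroup.normalizer (Q : Set G)))

theorem isNormalizerPStable_iff (p : ℕ) :
    IsNormalizerPStable p G ↔ ∀ Q : Subgroup G, IsPGroup p Q → NPSAt p Q := Iff.rfl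

theorem npsAt_iff_pStableAt {S Q : Subgroup G} (hQ : Q ≤ S) (p : ℕ) :
    NPSAt p Q ↔ PStableAt (groupFusionSystem S) p Q := by
  constructor
  · intro h χ hχ hq
    obtain ⟨n, hn⟩ := normToAut_surjective (S := S) hQ ⟨χ, hχ⟩
    have hnχ : Q.normalizerMonoidHom n = χ := congrArg Subtype.val hn
    have hq' : IsQuad (Q.normalizerMonoidHom n) := by rw [hnχ]; exact hq
    have h1 := h n.1 n.2 ((isQuad_iff_commutator n).mpr hq')
    have h2 := (mk_mem_pCore_iff (S := S) hQ p n).mp h1
    rwa [hnχ] at h2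
  · intro h g hg hcomm
    have hq : IsQuad (Q.normalizerMonoidHom ⟨g, hg⟩) := (isQuad_iff_commutator ⟨g, hg⟩).mp hcomm
    have h1 := h _ (normalizerMonoidHom_mem_autGroup (S := S) hQ ⟨g, hg⟩) hq
    exact (mk_mem_pCore_iff (S := S) hQ p ⟨g, hg⟩).mpr h1

/-- `G` is `p`-stable in the normalizer form iff its fusion system on a Sylow `p`-subgroup is `p`-stable. -/
theorem isNormalizerPStable_iff_fusion [Finite G] {p : ℕ} [Fact p.Prime] (P : Sylow p G) :
    IsNormalizerPStable p G ↔
      ∀ Q : Subgroup G, (groupFusionSystem (P : Subgroup G)).IsFullyNormalized Q →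
        PStableAt (groupFusionSystem (P : Subgroup G)) p Q := by
  constructor
  · intro h Q hQ
    exact (npsAt_iff_pStableAt hQ.1 p).mp (h Q (P.2.to_le hQ.1))
  · intro h Q₀ hQ₀
    have hall : ∀ Q : Subgroup G, Q ≤ (P : Subgroup G) → PStableAt (groupFusionSystem (P : Subgroup G)) p Q :=
      fun Q hQ => PStableAt.of_fullyNormalized _ h hQ
    obtain ⟨g, hg⟩ := exists_conj_mem_sylow_of_isPGroup P Q₀ hQ₀
    set Q : Subgroup G := Q₀.map (MulAut.conj g).toMonoidHom with hQdef
    have hQP : Q ≤ (P : Subgroup G) := by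
      rintro _ ⟨x, hx, rfl⟩
      exact hg x hx
    have h1 : NPSAt p Q := (npsAt_iff_pStableAt hQP p).mpr (hall Q hQP)
    have h2 : PStableAt (groupFusionSystem (⊤ : Subgroup G)) p Q := (npsAt_iff_pStableAt le_top p).mp h1
    let e : Q₀ ≃* Q := Subgroup.equivMapOfInjective Q₀ (MulAut.conj g).toMonoidHom (MulAut.conj g).injective
    have he : IsIso (groupFusionSystem (⊤ : Subgroup G)) e := by
      refine ⟨le_top, fun _ => Subgroup.mem_top _, g, fun x => rfl⟩
    have h3 : PStableAt (groupFusionSystem (⊤ : Subgroup G)) p Q₀ := PStableAt.of_iso _ e he h2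
    exact (npsAt_iff_pStableAt le_top p).mpr h3

end Cfsg.Agent.Helper84
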