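import Mathlib
import Cfsg.Agent.Helper97.QdCore
import Cfsg.Agent.Helper37.InvolvesQuotient
import Cfsg.Agent.Helper85.SylowConj
set_option autoImplicit false

/-! # Relative quadratic pairs: a configuration inside a finite group that forces a section `Qd(p)` -/

namespace Cfsg.Agent.Helper84

open scoped commutatorElement

/-- A **relative quadratic pair**: `T₁` is normal in `T`, both normalized by `x` and `y`, the quotient `T / T₁` is abelian of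
exponent `p`, `x` and `y` act quadratically on it and `x * y` inverts a nontrivial element of it. -/
structure RelQuad (p : ℕ) {Y : Type*} [Group Y] (T T₁ : Subgroup Y) (x y : Y) : Prop where
  le : T₁ ≤ T
  norm : T ≤ Subgroup.normalizer (T₁ : Set Y)
  xT : x ∈ Subgroup.normalizer (T : Set Y)
  xT₁ : x ∈ Subgroup.normalizer (T₁ : Set Y)
  yT : y ∈ Subgroup.normalizer (T : Set Y)
  yT₁ : y ∈ Subgroup.normalizer (T₁ : Set Y)
  comm : ∀ a ∈ T, ∀ b ∈ T, ⁅a, b⁆ ∈ T₁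
  exp : ∀ a ∈ T, a ^ p ∈ T₁
  quadx : ∀ a ∈ T, ⁅x, ⁅x, a⁆⁆ ∈ T₁
  quady : ∀ a ∈ T, ⁅y, ⁅y, a⁆⁆ ∈ T₁
  inv : ∃ v ∈ T, v ∉ T₁ ∧ (x * y) * v * (x * y)⁻¹ * v ∈ T₁

/-- A group involved in a group that embeds in `G` is involved in `G` (local copy). -/
theorem involves_of_injective' {A : Type*} [Group A] {G : Type*} [Group G] {Q : Type*} [Group Q]
    (j₀ : A →* G) (hj₀ : Function.Injective j₀) (h : Cfsg.Involves Q A) : Cfsg.Involves Q G := by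
  obtain ⟨K', R', hn, ⟨e₀⟩⟩ := h
  have := hn
  obtain ⟨j, hjdef⟩ : ∃ j : ↥K' →* G, j = j₀.comp K'.subtype := ⟨_, rfl⟩
  have hj : Function.Injective j := by
    rw [hjdef]
    exact hj₀.comp K'.subtype_injective
  obtain ⟨π, hπdef⟩ : ∃ π : ↥K' →* Q, π = e₀.toMonoidHom.comp (QuotientGroup.mk' (R'.subgroupOf K')) := ⟨_, rfl⟩
  have hπ : Function.Surjective π := by
    rw [hπdef]
    exact e₀.surjective.comp (QuotientGroup.mk'_surjective _)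
  let e : ↥K' ≃* j.range := MonoidHom.ofInjective hj
  let f : j.range →* Q := π.comp e.symm.toMonoidHom
  have hf : Function.Surjective f := by
    intro q
    obtain ⟨a, rfl⟩ := hπ q
    exact ⟨e a, by simp [f]⟩
  have hker : ((f.ker).map j.range.subtype).subgroupOf j.range = f.ker := by
    rw [Subgroup.subgroupOf]
    exact Subgroup.comap_map_eq_self_of_injective (Subgroup.subtype_injective _) _
  have hn' : (((f.ker).map j.range.subtype).subgroupOf j.range).Normal := by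
    rw [hker]; infer_instance
  refine ⟨j.range, (f.ker).map j.range.subtype, hn', ⟨?_⟩⟩
  exact (QuotientGroup.quotientMulEquivOfEq hker).trans (QuotientGroup.quotientKerEquivOfSurjective f hf)

section

open scoped IsMulCommutative
open Cfsg.Agent.Helper97.QdCore

/-- **A relative quadratic pair in a finite group forces a section `Qd(p)`** (`p` odd). -/
theorem RelQuad.involves {Y : Type*} [Group Y] [Finite Y] {p : ℕ} [Fact p.Prime] (hp2 : p ≠ 2)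
    {T T₁ : Subgroup Y} {x y : Y} (h : RelQuad p T T₁ x y) : Cfsg.Involves ↥(Cfsg.qd p) Y := by
  obtain ⟨B, hBdef⟩ : ∃ B : Subgroup Y, B = Subgroup.normalizer (T : Set Y) ⊓ Subgroup.normalizer (T₁ : Set Y) :=
    ⟨_, rfl⟩
  have hBT : B ≤ Subgroup.normalizer (T : Set Y) := by rw [hBdef]; exact inf_le_left
  have hBT₁ : B ≤ Subgroup.normalizer (T₁ : Set Y) := by rw [hBdef]; exact inf_le_right
  have hTB : T ≤ B := by
    rw [hBdef]
    exact le_inf Subgroup.le_normalizer h.norm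
  have hT₁B : T₁ ≤ B := h.le.trans hTB
  have hxB : x ∈ B := by rw [hBdef]; exact ⟨h.xT, h.xT₁⟩
  have hyB : y ∈ B := by rw [hBdef]; exact ⟨h.yT, h.yT₁⟩
  have hn₁ : (T₁.subgroupOf B).Normal := (Subgroup.normal_subgroupOf_iff_le_normalizer hT₁B).mpr hBT₁
  have hn : (T.subgroupOf B).Normal := (Subgroup.normal_subgroupOf_iff_le_normalizer hTB).mpr hBT
  obtain ⟨U, hUdef⟩ : ∃ U : Subgroup (↥B ⧸ T₁.subgroupOf B),
      U = (T.subgroupOf B).map (QuotientGroup.mk' (T₁.subgroupOf B)) := ⟨_, rfl⟩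
  have hUn : U.Normal := by
    rw [hUdef]
    exact hn.map _ (QuotientGroup.mk'_surjective _)
  have hmemU : ∀ u : ↥B ⧸ T₁.subgroupOf B, u ∈ U ↔ ∃ a : ↥B, (a : Y) ∈ T ∧ QuotientGroup.mk a = u := by
    intro u
    rw [hUdef]
    constructor
    · rintro ⟨a, ha, rfl⟩
      exact ⟨a, ha, rfl⟩
    · rintro ⟨a, ha, rfl⟩
      exact ⟨a, ha, rfl⟩
  have hmk1 : ∀ a b : ↥B, (QuotientGroup.mk a : ↥B ⧸ T₁.subgroupOf B) = QuotientGroup.mk b ↔
      (a : Y) / (b : Y) ∈ T₁ := by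
    intro a b
    rw [QuotientGroup.eq_iff_div_mem, Subgroup.mem_subgroupOf]
    rfl
  have hUc : IsMulCommutative U := by
    refine ⟨⟨fun a b => ?_⟩⟩
    obtain ⟨a', ha', hau⟩ := (hmemU a).mp a.2
    obtain ⟨b', hb', hbu⟩ := (hmemU b).mp b.2
    apply Subtype.ext
    show (a : ↥B ⧸ T₁.subgroupOf B) * (b : ↥B ⧸ T₁.subgroupOf B) = b * a
    rw [← hau, ← hbu]
    show (QuotientGroup.mk (a' * b') : ↥B ⧸ T₁.subgroupOf B) = QuotientGroup.mk (b' * a')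
    rw [hmk1]
    have e : ((a' * b' : ↥B) : Y) / ((b' * a' : ↥B) : Y) = ⁅(a' : Y), (b' : Y)⁆ := by
      show (a' : Y) * (b' : Y) / ((b' : Y) * (a' : Y)) = _
      rw [commutatorElement_def, div_eq_mul_inv]
      group
    rw [e]
    exact h.comm _ ha' _ hb'
  have hUp : ∀ u ∈ U, u ^ p = 1 := by
    intro u hu
    obtain ⟨a', ha', rfl⟩ := (hmemU u).mp hu
    show (QuotientGroup.mk (a' ^ p) : ↥B ⧸ T₁.subgroupOf B) = QuotientGroup.mk 1
    rw [hmk1]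
    show (a' : Y) ^ p / 1 ∈ T₁
    rw [div_one]
    exact h.exp _ ha'
  -- quadratic action
  have hquad : ∀ z : Y, ∀ hz : z ∈ B, (∀ a ∈ T, ⁅z, ⁅z, a⁆⁆ ∈ T₁) →
      QuadAut (MulAut.conjNormal (QuotientGroup.mk (⟨z, hz⟩ : ↥B) : ↥B ⧸ T₁.subgroupOf B) : MulAut U) := by
    intro z hz hq v
    obtain ⟨a', ha', hau⟩ := (hmemU v).mp v.2
    apply Subtype.ext
    have e1 : ∀ w : ↥U, ((MulAut.conjNormal (QuotientGroup.mk (⟨z, hz⟩ : ↥B) : ↥B ⧸ T₁.subgroupOf B) w : ↥U) :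
        ↥B ⧸ T₁.subgroupOf B) = QuotientGroup.mk (⟨z, hz⟩ : ↥B) * (w : ↥B ⧸ T₁.subgroupOf B) *
          (QuotientGroup.mk (⟨z, hz⟩ : ↥B))⁻¹ := fun w => rfl
    rw [Subgroup.coe_div, e1, e1, Subgroup.coe_div, e1, ← hau]
    show (QuotientGroup.mk (⟨z, hz⟩ * (⟨z, hz⟩ * a' * ⟨z, hz⟩⁻¹ / a') * ⟨z, hz⟩⁻¹) : ↥B ⧸ T₁.subgroupOf B) =
      QuotientGroup.mk (⟨z, hz⟩ * a' * ⟨z, hz⟩⁻¹ / a')
    rw [hmk1]
    have e : ((⟨z, hz⟩ * (⟨z, hz⟩ * a' * ⟨z, hz⟩⁻¹ / a') * ⟨z, hz⟩⁻¹ : ↥B) : Y) /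
        ((⟨z, hz⟩ * a' * ⟨z, hz⟩⁻¹ / a' : ↥B) : Y) = ⁅z, ⁅z, (a' : Y)⁆⁆ := by
      show z * (z * (a' : Y) * z⁻¹ / (a' : Y)) * z⁻¹ / (z * (a' : Y) * z⁻¹ / (a' : Y)) = _
      simp only [commutatorElement_def, div_eq_mul_inv]
    rw [e]
    exact hq _ ha'
  have hx := hquad x hxB h.quadx
  have hy := hquad y hyB h.quady
  have hv : ∃ v : U, v ≠ 1 ∧ (MulAut.conjNormal ((QuotientGroup.mk (⟨x, hxB⟩ : ↥B) : ↥B ⧸ T₁.subgroupOf B) *
      QuotientGroup.mk (⟨y, hyB⟩ : ↥B)) : MulAut U) v = v⁻¹ := by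
    obtain ⟨v₀, hv₀T, hv₀, hinv⟩ := h.inv
    have hvU : (QuotientGroup.mk (⟨v₀, hTB hv₀T⟩ : ↥B) : ↥B ⧸ T₁.subgroupOf B) ∈ U :=
      (hmemU _).mpr ⟨⟨v₀, hTB hv₀T⟩, hv₀T, rfl⟩
    refine ⟨⟨_, hvU⟩, ?_, ?_⟩
    · intro h1
      have h2 : (QuotientGroup.mk (⟨v₀, hTB hv₀T⟩ : ↥B) : ↥B ⧸ T₁.subgroupOf B) = QuotientGroup.mk 1 :=
        congrArg Subtype.val h1
      rw [hmk1] at h2
      have h3 : v₀ / 1 ∈ T₁ := h2
      rw [div_one] at h3
      exact hv₀ h3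
    · apply Subtype.ext
      show (QuotientGroup.mk ((⟨x, hxB⟩ * ⟨y, hyB⟩) * ⟨v₀, hTB hv₀T⟩ * (⟨x, hxB⟩ * ⟨y, hyB⟩)⁻¹) :
        ↥B ⧸ T₁.subgroupOf B) = QuotientGroup.mk (⟨v₀, hTB hv₀T⟩)⁻¹
      rw [hmk1]
      show (x * y) * v₀ * (x * y)⁻¹ / v₀⁻¹ ∈ T₁
      rw [div_inv_eq_mul]
      exact hinv
  have h1 : Cfsg.Involves ↥(Cfsg.qd p) (↥B ⧸ T₁.subgroupOf B) :=
    involves_qd_of_quadratic_pair hp2 U hUp _ _ hx hy hv
  have h2 : Cfsg.Involves ↥(Cfsg.qd p) ↥B :=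
    Cfsg.Agent.Helper37.involves_of_involves_quotient (T₁.subgroupOf B) h1
  exact involves_of_injective' B.subtype B.subtype_injective h2

end

/-- Transport of a relative quadratic pair along a homomorphism that is injective on `T` modulo `T₁`. -/
theorem RelQuad.map {p : ℕ} {Y Y' : Type*} [Group Y] [Group Y'] {T T₁ : Subgroup Y} {x y : Y}
    (h : RelQuad p T T₁ x y) (f : Y →* Y') (hinj : ∀ t ∈ T, f t ∈ T₁.map f → t ∈ T₁) :
    RelQuad p (T.map f) (T₁.map f) (f x) (f y) := by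
  have hnm : ∀ (A : Subgroup Y) (z : Y), z ∈ Subgroup.normalizer (A : Set Y) →
      f z ∈ Subgroup.normalizer ((A.map f : Subgroup Y') : Set Y') := fun A z hz =>
    Subgroup.le_normalizer_map f ⟨z, hz, rfl⟩
  refine ⟨Subgroup.map_mono h.le, ?_, hnm T x h.xT, hnm T₁ x h.xT₁, hnm T y h.yT, hnm T₁ y h.yT₁, ?_, ?_, ?_, ?_, ?_⟩
  · rintro _ ⟨t, ht, rfl⟩
    exact hnm T₁ t (h.norm ht)
  · rintro _ ⟨a, ha, rfl⟩ _ ⟨b, hb, rfl⟩
    rw [← map_commutatorElement]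
    exact ⟨_, h.comm a ha b hb, rfl⟩
  · rintro _ ⟨a, ha, rfl⟩
    rw [← map_pow]
    exact ⟨_, h.exp a ha, rfl⟩
  · rintro _ ⟨a, ha, rfl⟩
    rw [← map_commutatorElement, ← map_commutatorElement]
    exact ⟨_, h.quadx a ha, rfl⟩
  · rintro _ ⟨a, ha, rfl⟩
    rw [← map_commutatorElement, ← map_commutatorElement]
    exact ⟨_, h.quady a ha, rfl⟩
  · obtain ⟨v, hvT, hv, hinv⟩ := h.inv
    refine ⟨f v, ⟨v, hvT, rfl⟩, fun hc => hv (hinj v hvT hc), ?_⟩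
    rw [← map_mul, ← map_mul, ← map_inv, ← map_mul, ← map_mul]
    exact ⟨_, hinv, rfl⟩

/-- Restriction of a relative quadratic pair to a subgroup containing everything. -/
theorem RelQuad.restrict {p : ℕ} {Y : Type*} [Group Y] {T T₁ : Subgroup Y} {x y : Y}
    (h : RelQuad p T T₁ x y) (M : Subgroup Y) (hTM : T ≤ M) (hx : x ∈ M) (hy : y ∈ M) :
    RelQuad p (T.subgroupOf M) (T₁.subgroupOf M) (⟨x, hx⟩ : ↥M) (⟨y, hy⟩ : ↥M) := by
  have hnm : ∀ (A : Subgroup Y) (z : ↥M), (z : Y) ∈ Subgroup.normalizer (A : Set Y) →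
      z ∈ Subgroup.normalizer ((A.subgroupOf M : Subgroup ↥M) : Set ↥M) := by
    intro A z hz
    rw [Subgroup.mem_normalizer_iff]
    intro w
    rw [Subgroup.mem_subgroupOf, Subgroup.mem_subgroupOf]
    exact Subgroup.mem_normalizer_iff.mp hz w
  refine ⟨?_, ?_, hnm T ⟨x, hx⟩ h.xT, hnm T₁ ⟨x, hx⟩ h.xT₁, hnm T ⟨y, hy⟩ h.yT, hnm T₁ ⟨y, hy⟩ h.yT₁,
    ?_, ?_, ?_, ?_, ?_⟩
  · intro t ht
    exact h.le ht
  · intro t ht
    exact hnm T₁ t (h.norm ht)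
  · intro a ha b hb
    exact h.comm _ ha _ hb
  · intro a ha
    exact h.exp _ ha
  · intro a ha
    exact h.quadx _ ha
  · intro a ha
    exact h.quady _ ha
  · obtain ⟨v, hvT, hv, hinv⟩ := h.inv
    exact ⟨⟨v, hTM hvT⟩, hvT, hv, hinv⟩

/-- Replacing `x` and `y` by elements inducing the same conjugation on `T`. -/
theorem RelQuad.congr {p : ℕ} {Y : Type*} [Group Y] {T T₁ : Subgroup Y} {x y x' y' : Y}
    (h : RelQuad p T T₁ x y) (hx : ∀ t ∈ T, x' * t * x'⁻¹ = x * t * x⁻¹) (hx' : ∀ t ∈ T, x'⁻¹ * t * x' = x⁻¹ * t * x)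
    (hy : ∀ t ∈ T, y' * t * y'⁻¹ = y * t * y⁻¹) (hy' : ∀ t ∈ T, y'⁻¹ * t * y' = y⁻¹ * t * y) :
    RelQuad p T T₁ x' y' := by
  have hconjT : ∀ z : Y, z ∈ Subgroup.normalizer (T : Set Y) → ∀ t ∈ T, z * t * z⁻¹ ∈ T := fun z hz t ht =>
    (Subgroup.mem_normalizer_iff.mp hz t).mp ht
  have hconjT' : ∀ z : Y, z ∈ Subgroup.normalizer (T : Set Y) → ∀ t ∈ T, z⁻¹ * t * z ∈ T := by
    intro z hz t ht
    have := (Subgroup.mem_normalizer_iff.mp (Subgroup.inv_mem _ hz) t).mp ht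
    rwa [inv_inv] at this
  -- normalizers
  have hnm : ∀ (A : Subgroup Y) (z z' : Y), A ≤ T → z ∈ Subgroup.normalizer (A : Set Y) →
      (∀ t ∈ T, z' * t * z'⁻¹ = z * t * z⁻¹) → (∀ t ∈ T, z'⁻¹ * t * z' = z⁻¹ * t * z) →
      z' ∈ Subgroup.normalizer (A : Set Y) := by
    intro A z z' hA hz h1 h2
    rw [Subgroup.mem_normalizer_iff]
    intro t
    constructor
    · intro ht
      rw [h1 t (hA ht)]
      exact (Subgroup.mem_normalizer_iff.mp hz t).mp ht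
    · intro ht
      have h3 : z⁻¹ * (z' * t * z'⁻¹) * z⁻¹⁻¹ ∈ A :=
        (Subgroup.mem_normalizer_iff.mp (Subgroup.inv_mem _ hz) _).mp ht
      rw [inv_inv, ← h2 _ (hA ht)] at h3
      have e : z'⁻¹ * (z' * t * z'⁻¹) * z' = t := by group
      rwa [e] at h3
  have hcx : ∀ a ∈ T, ⁅x', a⁆ = ⁅x, a⁆ := by
    intro a ha
    rw [commutatorElement_def, commutatorElement_def, hx a ha]
  have hcy : ∀ a ∈ T, ⁅y', a⁆ = ⁅y, a⁆ := by
    intro a ha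
    rw [commutatorElement_def, commutatorElement_def, hy a ha]
  have hcT : ∀ z : Y, z ∈ Subgroup.normalizer (T : Set Y) → ∀ a ∈ T, ⁅z, a⁆ ∈ T := by
    intro z hz a ha
    rw [commutatorElement_def]
    exact T.mul_mem (hconjT z hz a ha) (T.inv_mem ha)
  refine ⟨h.le, h.norm, hnm T x x' le_rfl h.xT hx hx', hnm T₁ x x' h.le h.xT₁ hx hx',
    hnm T y y' le_rfl h.yT hy hy', hnm T₁ y y' h.le h.yT₁ hy hy', h.comm, h.exp, ?_, ?_, ?_⟩
  · intro a ha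
    rw [hcx a ha, hcx _ (hcT x h.xT a ha)]
    exact h.quadx a ha
  · intro a ha
    rw [hcy a ha, hcy _ (hcT y h.yT a ha)]
    exact h.quady a ha
  · obtain ⟨v, hvT, hv, hinv⟩ := h.inv
    refine ⟨v, hvT, hv, ?_⟩
    have e1 : (x' * y') * v * (x' * y')⁻¹ = x' * (y' * v * y'⁻¹) * x'⁻¹ := by group
    have e2 : (x * y) * v * (x * y)⁻¹ = x * (y * v * y⁻¹) * x⁻¹ := by group
    rw [e1, hy v hvT, hx _ (hconjT y h.yT v hvT), ← e2]
    exact hinv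

end Cfsg.Agent.Helper84
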