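import Mathlib
import Cfsg.Agent.Helper84.QdLocal1
import Cfsg.Agent.Helper46.QdChar
set_option autoImplicit false

/-! # Relative quadratic pairs: the model configuration in `Qd(p)` and lifting it through a section -/

namespace Cfsg.Agent.Helper84

open scoped commutatorElement
open Cfsg.Agent.Helper46

/-- Pulling a relative quadratic pair back along a homomorphism. -/
theorem RelQuad.of_map {p : ℕ} {Y Z : Type*} [Group Y] [Group Z] (π : Y →* Z) {T : Subgroup Y} {x y : Y}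
    (hx : x ∈ Subgroup.normalizer (T : Set Y)) (hy : y ∈ Subgroup.normalizer (T : Set Y))
    (h : RelQuad p (T.map π) ⊥ (π x) (π y)) : RelQuad p T (T ⊓ π.ker) x y := by
  have hconjT : ∀ z : Y, z ∈ Subgroup.normalizer (T : Set Y) → ∀ t ∈ T, z * t * z⁻¹ ∈ T := fun z hz t ht =>
    (Subgroup.mem_normalizer_iff.mp hz t).mp ht
  have hnm : ∀ z : Y, z ∈ Subgroup.normalizer (T : Set Y) →
      z ∈ Subgroup.normalizer ((T ⊓ π.ker : Subgroup Y) : Set Y) := by
    intro z hz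
    rw [Subgroup.mem_normalizer_iff]
    intro w
    rw [Subgroup.mem_inf, Subgroup.mem_inf, MonoidHom.mem_ker, MonoidHom.mem_ker, map_mul, map_mul, map_inv,
      conj_eq_one_iff]
    exact and_congr_left' (Subgroup.mem_normalizer_iff.mp hz w)
  have hcT : ∀ z : Y, z ∈ Subgroup.normalizer (T : Set Y) → ∀ a ∈ T, ⁅z, a⁆ ∈ T := by
    intro z hz a ha
    rw [commutatorElement_def]
    exact T.mul_mem (hconjT z hz a ha) (T.inv_mem ha)
  have hbot : ∀ z : Z, z ∈ (⊥ : Subgroup Z) → z = 1 := fun z hz => Subgroup.mem_bot.mp hz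
  refine ⟨inf_le_left, fun t ht => hnm t (Subgroup.le_normalizer ht), hx, hnm x hx, hy, hnm y hy, ?_, ?_, ?_, ?_, ?_⟩
  · intro a ha b hb
    refine Subgroup.mem_inf.mpr ⟨hcT a (Subgroup.le_normalizer ha) b hb, MonoidHom.mem_ker.mpr ?_⟩
    rw [map_commutatorElement]
    exact hbot _ (h.comm _ ⟨a, ha, rfl⟩ _ ⟨b, hb, rfl⟩)
  · intro a ha
    refine Subgroup.mem_inf.mpr ⟨T.pow_mem ha p, MonoidHom.mem_ker.mpr ?_⟩
    rw [map_pow]
    exact hbot _ (h.exp _ ⟨a, ha, rfl⟩)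
  · intro a ha
    refine Subgroup.mem_inf.mpr ⟨hcT x hx _ (hcT x hx a ha), MonoidHom.mem_ker.mpr ?_⟩
    rw [map_commutatorElement, map_commutatorElement]
    exact hbot _ (h.quadx _ ⟨a, ha, rfl⟩)
  · intro a ha
    refine Subgroup.mem_inf.mpr ⟨hcT y hy _ (hcT y hy a ha), MonoidHom.mem_ker.mpr ?_⟩
    rw [map_commutatorElement, map_commutatorElement]
    exact hbot _ (h.quady _ ⟨a, ha, rfl⟩)
  · obtain ⟨v', ⟨v, hvT, rfl⟩, hv, hinv⟩ := h.inv
    refine ⟨v, hvT, fun hc => hv ?_, Subgroup.mem_inf.mpr ⟨?_, MonoidHom.mem_ker.mpr ?_⟩⟩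
    · rw [Subgroup.mem_bot]
      exact MonoidHom.mem_ker.mp (Subgroup.mem_inf.mp hc).2
    · exact T.mul_mem (hconjT _ (Subgroup.mul_mem _ hx hy) v hvT) hvT
    · rw [map_mul, map_mul, map_inv, map_mul, map_mul]
      exact hbot _ hinv

section Model

variable {p : ℕ} [Fact p.Prime]

/-- The second generator: the lower unitriangular element with entry `-4`. -/
def qdLow (p : ℕ) [Fact p.Prime] : ↥(Cfsg.qd p) :=
  mkQd !![1, 0, 0; -4, 1, 0; 0, 0, 1] (by simp [Matrix.det_fin_three]) (by simp)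

theorem ent_qdLow (i j : Fin 3) :
    ent (qdLow p) i j = (!![1, 0, 0; -4, 1, 0; 0, 0, 1] : Matrix (Fin 3) (Fin 3) (ZMod p)) i j := rfl

theorem inv_uni_zero (b c : ZMod p) : (uni 0 b c : ↥(Cfsg.qd p))⁻¹ = uni 0 (-b) (-c) := by
  rw [inv_eq_iff_mul_eq_one, uni_mul, ← uni_zero_eq_one]
  congr 1 <;> ring

theorem comm_uni_zero (g : ↥(Cfsg.qd p)) (b c : ZMod p) :
    ⁅g, uni 0 b c⁆ = uni 0 (ent g 1 0 * c + ent g 1 1 * b - b) (ent g 0 0 * c + ent g 0 1 * b - c) := by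
  rw [commutatorElement_def, conj_uni_zero, inv_uni_zero, uni_mul]
  congr 1 <;> ring

theorem exists_uni_of_mem_qdVt {a : ↥(Cfsg.qd p)} (ha : a ∈ qdVt p) : ∃ b c : ZMod p, a = uni 0 b c :=
  ⟨_, _, eq_uni_of_mem_qdVt ha⟩

theorem qdVt_comm {a b : ↥(Cfsg.qd p)} (ha : a ∈ qdVt p) (hb : b ∈ qdVt p) : a * b = b * a := by
  obtain ⟨b₁, c₁, rfl⟩ := exists_uni_of_mem_qdVt ha
  obtain ⟨b₂, c₂, rfl⟩ := exists_uni_of_mem_qdVt hb
  rw [uni_mul, uni_mul]
  congr 1 <;> ring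

theorem uni_zero_pow' (b c : ZMod p) (k : ℕ) :
    (uni 0 b c : ↥(Cfsg.qd p)) ^ k = uni 0 ((k : ZMod p) * b) ((k : ZMod p) * c) := by
  induction k with
  | zero =>
    rw [pow_zero, ← uni_zero_eq_one]
    congr 1 <;> simp
  | succ k ih =>
    rw [pow_succ, ih, uni_mul]
    congr 1 <;> push_cast <;> ring

theorem pow_eq_one_of_mem_qdVt {a : ↥(Cfsg.qd p)} (ha : a ∈ qdVt p) : a ^ p = 1 := by
  obtain ⟨b, c, rfl⟩ := exists_uni_of_mem_qdVt ha
  rw [uni_zero_pow', CharP.cast_eq_zero (ZMod p) p, zero_mul, zero_mul, uni_zero_eq_one]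

/-- The model relative quadratic pair in `Qd(p)`. -/
theorem relQuad_qd₀ : RelQuad p (qdVt p) ⊥ (uni 1 0 0 : ↥(Cfsg.qd p)) (qdLow p) := by
  have hnormal : ∀ z : ↥(Cfsg.qd p), z ∈ Subgroup.normalizer ((qdVt p : Subgroup ↥(Cfsg.qd p)) : Set ↥(Cfsg.qd p)) := by
    intro z
    rw [Subgroup.normalizer_eq_top]
    trivial
  have hbot : ∀ z : ↥(Cfsg.qd p), z ∈ Subgroup.normalizer (((⊥ : Subgroup ↥(Cfsg.qd p)) : Subgroup ↥(Cfsg.qd p)) :
      Set ↥(Cfsg.qd p)) := by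
    intro z
    rw [Subgroup.normalizer_eq_top]
    trivial
  refine ⟨bot_le, fun t _ => hbot t, hnormal _, hbot _, hnormal _, hbot _, ?_, ?_, ?_, ?_, ?_⟩
  · intro a ha b hb
    rw [Subgroup.mem_bot, commutatorElement_eq_one_iff_mul_comm]
    exact qdVt_comm ha hb
  · intro a ha
    rw [Subgroup.mem_bot]
    exact pow_eq_one_of_mem_qdVt ha
  · intro a ha
    obtain ⟨b, c, rfl⟩ := exists_uni_of_mem_qdVt ha
    rw [Subgroup.mem_bot, comm_uni_zero, comm_uni_zero, ← uni_zero_eq_one]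
    congr 1 <;> simp [ent_uni]
  · intro a ha
    obtain ⟨b, c, rfl⟩ := exists_uni_of_mem_qdVt ha
    rw [Subgroup.mem_bot, comm_uni_zero, comm_uni_zero, ← uni_zero_eq_one]
    congr 1 <;> simp [ent_qdLow]
  · refine ⟨uni 0 2 1, uni_mem_qdVt.2 rfl, ?_, ?_⟩
    · rw [Subgroup.mem_bot, ← uni_zero_eq_one]
      intro h
      exact one_ne_zero (uni_inj h).2.2
    · rw [Subgroup.mem_bot, conj_uni_zero, uni_mul, ← uni_zero_eq_one]
      congr 1 <;> simp [ent_mul, ent_uni, ent_qdLow] <;> ring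

/-- The model pair, modified by translations. -/
theorem relQuad_qd {u₁ u₂ : ↥(Cfsg.qd p)} (hu₁ : u₁ ∈ qdVt p) (hu₂ : u₂ ∈ qdVt p) :
    RelQuad p (qdVt p) ⊥ ((uni 1 0 0 : ↥(Cfsg.qd p)) * u₁) (qdLow p * u₂) := by
  have key : ∀ (z u : ↥(Cfsg.qd p)), u ∈ qdVt p → ∀ t ∈ qdVt p,
      (z * u) * t * (z * u)⁻¹ = z * t * z⁻¹ ∧ (z * u)⁻¹ * t * (z * u) = z⁻¹ * t * z := by
    intro z u hu t ht
    constructor
    · have e : (z * u) * t * (z * u)⁻¹ = z * (u * t * u⁻¹) * z⁻¹ := by group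
      rw [e, qdVt_comm hu ht, mul_inv_cancel_right]
    · have ht' : z⁻¹ * t * z ∈ qdVt p := by
        have := (qdVt_normal (p := p)).conj_mem t ht z⁻¹
        rwa [inv_inv] at this
      have e : (z * u)⁻¹ * t * (z * u) = u⁻¹ * (z⁻¹ * t * z) * u := by group
      rw [e, mul_assoc, qdVt_comm ht' hu, inv_mul_cancel_left]
  exact relQuad_qd₀.congr (fun t ht => (key _ _ hu₁ t ht).1) (fun t ht => (key _ _ hu₁ t ht).2)
    (fun t ht => (key _ _ hu₂ t ht).1) (fun t ht => (key _ _ hu₂ t ht).2)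

end Model

/-- **Lifting**: a finite group with quotient `Qd(p)` contains a relative quadratic pair on a `p`-subgroup. -/
theorem exists_relQuad_of_surjective {Y : Type*} [Group Y] [Finite Y] {p : ℕ} [Fact p.Prime]
    (π : Y →* ↥(Cfsg.qd p)) (hπ : Function.Surjective π) :
    ∃ (T T₁ : Subgroup Y) (x y : Y), RelQuad p T T₁ x y ∧ IsPGroup p T := by
  have hVn : ((qdVt p).comap π).Normal := Subgroup.Normal.comap inferInstance π
  obtain ⟨S₀⟩ : Nonempty (Sylow p ↥((qdVt p).comap π)) := Sylow.nonempty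
  obtain ⟨T, hT⟩ : ∃ T : Subgroup Y, T = (S₀ : Subgroup ↥((qdVt p).comap π)).map ((qdVt p).comap π).subtype :=
    ⟨_, rfl⟩
  have hTp : IsPGroup p T := by
    rw [hT]
    exact S₀.2.map _
  have hfr : Subgroup.normalizer (T : Set Y) ⊔ (qdVt p).comap π = ⊤ := by
    rw [hT]
    exact Sylow.normalizer_sup_eq_top S₀
  -- the image of `T` is the whole translation group
  have hVp : IsPGroup p ↥(qdVt p) := IsPGroup.of_card (n := 2) card_qdVt
  have hTV : T.map π = qdVt p := by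
    have hsurj := MonoidHom.subgroupComap_surjective_of_surjective π (qdVt p) hπ
    have htop : ((S₀.mapSurjective hsurj : Sylow p ↥(qdVt p)) : Subgroup ↥(qdVt p)) = ⊤ := by
      have htp : IsPGroup p (⊤ : Subgroup ↥(qdVt p)) := fun g => by
        obtain ⟨k, hk⟩ := hVp g.1
        exact ⟨k, Subtype.ext hk⟩
      exact ((S₀.mapSurjective hsurj).3 htp le_top).symm
    apply le_antisymm
    · rintro _ ⟨t, ht, rfl⟩
      rw [hT] at ht
      obtain ⟨s, _, rfl⟩ := ht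
      exact s.2
    · intro u hu
      have h1 : (⟨u, hu⟩ : ↥(qdVt p)) ∈ ((S₀.mapSurjective hsurj : Sylow p ↥(qdVt p)) : Subgroup ↥(qdVt p)) := by
        rw [htop]; trivial
      rw [Sylow.coe_mapSurjective] at h1
      obtain ⟨s, hs, hsu⟩ := h1
      refine ⟨(s : Y), ?_, congrArg Subtype.val hsu⟩
      rw [hT]
      exact ⟨s, hs, rfl⟩
  have hlift : ∀ z : ↥(Cfsg.qd p), ∃ n ∈ Subgroup.normalizer (T : Set Y), ∃ u ∈ qdVt p, π n = z * u := by
    intro z
    obtain ⟨z₀, rfl⟩ := hπ z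
    have h1 : z₀ ∈ ((Subgroup.normalizer (T : Set Y) ⊔ (qdVt p).comap π : Subgroup Y) : Set Y) := by
      rw [hfr]; trivial
    rw [Subgroup.mul_normal] at h1
    obtain ⟨n, hn, w, hw, rfl⟩ := Set.mem_mul.mp h1
    refine ⟨n, hn, (π w)⁻¹, (qdVt p).inv_mem hw, ?_⟩
    rw [map_mul, mul_inv_cancel_right]
  obtain ⟨nx, hnx, u₁, hu₁, hπx⟩ := hlift (uni 1 0 0)
  obtain ⟨ny, hny, u₂, hu₂, hπy⟩ := hlift (qdLow p)
  have h := relQuad_qd hu₁ hu₂
  rw [← hTV, ← hπx, ← hπy] at h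
  exact ⟨T, T ⊓ π.ker, nx, ny, RelQuad.of_map π hnx hny h, hTp⟩

/-- A finite group involving `Qd(p)` contains a relative quadratic pair on a `p`-subgroup. -/
theorem exists_relQuad_of_involves {G : Type*} [Group G] [Finite G] {p : ℕ} [Fact p.Prime]
    (h : Cfsg.Involves ↥(Cfsg.qd p) G) :
    ∃ (T T₁ : Subgroup G) (x y : G), RelQuad p T T₁ x y ∧ IsPGroup p T := by
  obtain ⟨H, K, hn, ⟨e⟩⟩ := h
  have := hn
  obtain ⟨T, T₁, x, y, hq, hTp⟩ := exists_relQuad_of_surjective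
    (e.toMonoidHom.comp (QuotientGroup.mk' (K.subgroupOf H)))
    (e.surjective.comp (QuotientGroup.mk'_surjective _))
  refine ⟨T.map H.subtype, T₁.map H.subtype, x, y, hq.map H.subtype ?_, hTp.map _⟩
  rintro t _ ⟨t₁, ht₁, h1⟩
  rw [← H.subtype_injective h1]
  exact ht₁

end Cfsg.Agent.Helper84
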