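import Mathlib
import Cfsg.Agent.Helper84.QdLocal2
import Cfsg.Agent.Helper84.GroupModel1
import Cfsg.Agent.Helper85.GroupFusion
import Cfsg.Agent.Helper85.Morphism
import Cfsg.Agent.Helper87.FusionRS
set_option autoImplicit false

/-! # From a section `Qd(p)` of a finite group to a section `Qd(p)` of a local model -/

namespace Cfsg.Agent.Helper84

open Cfsg Cfsg.FusionSystem Cfsg.Agent.Helper85 Cfsg.Agent.Helper87

variable {G : Type*} [Group G]

/-- **Frattini argument for a centralizer**: an element normalizing `T` can be corrected by an element of `C_G(T)` so as to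
normalize a given Sylow `p`-subgroup of `C_G(T)`. -/
theorem exists_mul_mem_normalizer_sylow_centralizer [Finite G] {p : ℕ} [Fact p.Prime] {T : Subgroup G}
    (D₀ : Sylow p ↥(Subgroup.centralizer (T : Set G))) {x : G} (hx : x ∈ Subgroup.normalizer (T : Set G)) :
    ∃ c ∈ Subgroup.centralizer (T : Set G),
      c * x ∈ Subgroup.normalizer (((D₀ : Subgroup ↥(Subgroup.centralizer (T : Set G))).map
        (Subgroup.centralizer (T : Set G)).subtype : Subgroup G) : Set G) := by
  have hDp : IsPGroup p ↥((D₀ : Subgroup ↥(Subgroup.centralizer (T : Set G))).map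
      (Subgroup.centralizer (T : Set G)).subtype) := D₀.2.map _
  have hKp : IsPGroup p ↥((cj x ((D₀ : Subgroup ↥(Subgroup.centralizer (T : Set G))).map
      (Subgroup.centralizer (T : Set G)).subtype)).subgroupOf (Subgroup.centralizer (T : Set G))) :=
    (isPGroup_cj x hDp).comap_subtype
  obtain ⟨c, hc⟩ := exists_cj_le_sylow D₀ hKp
  refine ⟨c, c.2, ?_⟩
  apply mem_normalizer_of_finite
  rintro _ ⟨d₀, hd₀, rfl⟩
  have h1 : x * (d₀ : G) * x⁻¹ ∈ Subgroup.centralizer (T : Set G) :=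
    conj_mem_centralizer_of_mem_normalizer hx d₀.2
  have h2 : (⟨x * (d₀ : G) * x⁻¹, h1⟩ : ↥(Subgroup.centralizer (T : Set G))) ∈
      (cj x ((D₀ : Subgroup ↥(Subgroup.centralizer (T : Set G))).map
        (Subgroup.centralizer (T : Set G)).subtype)).subgroupOf (Subgroup.centralizer (T : Set G)) := by
    rw [Subgroup.mem_subgroupOf]
    exact conj_mem_cj ⟨d₀, hd₀, rfl⟩
  have h3 := hc (conj_mem_cj (g := c) h2)
  refine ⟨_, h3, ?_⟩
  show (c : G) * (x * (d₀ : G) * x⁻¹) * (c : G)⁻¹ = (c : G) * x * (d₀ : G) * ((c : G) * x)⁻¹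
  group

/-- Left multiplication of the two acting elements by elements of `C_G(T)` does not change a relative quadratic pair. -/
theorem RelQuad.mul_centralizer {p : ℕ} {T T₁ : Subgroup G} {x y cx cy : G} (h : RelQuad p T T₁ x y)
    (hcx : cx ∈ Subgroup.centralizer (T : Set G)) (hcy : cy ∈ Subgroup.centralizer (T : Set G)) :
    RelQuad p T T₁ (cx * x) (cy * y) := by
  have key : ∀ z c : G, z ∈ Subgroup.normalizer (T : Set G) → c ∈ Subgroup.centralizer (T : Set G) → ∀ t ∈ T,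
      (c * z) * t * (c * z)⁻¹ = z * t * z⁻¹ ∧ (c * z)⁻¹ * t * (c * z) = z⁻¹ * t * z := by
    intro z c hz hc t ht
    rw [Subgroup.mem_centralizer_iff] at hc
    constructor
    · have h1 : z * t * z⁻¹ ∈ T := (Subgroup.mem_normalizer_iff.mp hz t).mp ht
      have e : (c * z) * t * (c * z)⁻¹ = c * (z * t * z⁻¹) * c⁻¹ := by group
      rw [e, ← hc _ h1, mul_inv_cancel_right]
    · have e : (c * z)⁻¹ * t * (c * z) = z⁻¹ * (c⁻¹ * (t * c)) * z := by group
      rw [e, hc t ht, inv_mul_cancel_left]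
  exact h.congr (fun t ht => (key _ _ h.xT hcx t ht).1) (fun t ht => (key _ _ h.xT hcx t ht).2)
    (fun t ht => (key _ _ h.yT hcy t ht).1) (fun t ht => (key _ _ h.yT hcy t ht).2)

/-- A criterion for a subgroup of the Sylow subgroup to be centric in the fusion system of the group. -/
theorem isCentric_of_forall_isPGroup [Finite G] {p : ℕ} [Fact p.Prime] (P : Sylow p G) {Q : Subgroup G}
    (hQ : Q ≤ (P : Subgroup G))
    (h : ∀ B : Subgroup G, IsPGroup p B → B ≤ Subgroup.centralizer (Q : Set G) → B ≤ Q) :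
    (groupFusionSystem (P : Subgroup G)).IsCentric Q := by
  refine ⟨hQ, fun Q'' hc => ?_⟩
  obtain ⟨g, rfl, hle⟩ := (isConj_group_iff hQ).mp hc
  intro z hz
  have hBp : IsPGroup p ↥(cj g⁻¹ (centralizerIn (P : Subgroup G) (cj g Q))) :=
    isPGroup_cj g⁻¹ (P.isPGroup'.to_le inf_le_left)
  have hBc : cj g⁻¹ (centralizerIn (P : Subgroup G) (cj g Q)) ≤ Subgroup.centralizer (Q : Set G) := by
    have h1 : cj g⁻¹ (centralizerIn (P : Subgroup G) (cj g Q)) ≤
        cj g⁻¹ (Subgroup.centralizer ((cj g Q : Subgroup G) : Set G)) := cj_mono g⁻¹ inf_le_right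
    rwa [← centralizer_cj, cj_inv_cj] at h1
  have h2 := h _ hBp hBc (conj_mem_cj (g := g⁻¹) hz)
  rw [mem_cj]
  rwa [inv_inv] at h2

/-- **Localization**: if `Qd(p)` is involved in the finite group `G` (`p` odd), it is involved in
`N_G(Q) / O_{p'}(C_G(Q))` for some fully normalized centric subgroup `Q` of the fusion system of `G`. -/
theorem exists_centric_involves_qd [Finite G] {p : ℕ} [Fact p.Prime] (hp2 : p ≠ 2) (P : Sylow p G)
    (h : Cfsg.Involves ↥(Cfsg.qd p) G) :
    ∃ Q : Subgroup G, (groupFusionSystem (P : Subgroup G)).IsFullyNormalized Q ∧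
      (groupFusionSystem (P : Subgroup G)).IsCentric Q ∧
      Cfsg.Involves ↥(Cfsg.qd p) (↥(Subgroup.normalizer (Q : Set G)) ⧸ centPrimeN p Q) := by
  obtain ⟨T, T₁, x, y, hq, hTp⟩ := exists_relQuad_of_involves h
  obtain ⟨D₀⟩ : Nonempty (Sylow p ↥(Subgroup.centralizer (T : Set G))) := Sylow.nonempty
  obtain ⟨D, hD⟩ : ∃ D : Subgroup G, D = (D₀ : Subgroup ↥(Subgroup.centralizer (T : Set G))).map
      (Subgroup.centralizer (T : Set G)).subtype := ⟨_, rfl⟩
  obtain ⟨cx, hcx, hnx⟩ := exists_mul_mem_normalizer_sylow_centralizer D₀ hq.xT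
  obtain ⟨cy, hcy, hny⟩ := exists_mul_mem_normalizer_sylow_centralizer D₀ hq.yT
  rw [← hD] at hnx hny
  have hq' := hq.mul_centralizer hcx hcy
  have hDC : D ≤ Subgroup.centralizer (T : Set G) := by
    rw [hD]
    exact Subgroup.map_subtype_le _
  have hDp : IsPGroup p ↥D := by
    rw [hD]
    exact D₀.2.map _
  have hTcD : T ≤ Subgroup.centralizer (D : Set G) := by
    intro t ht
    rw [Subgroup.mem_centralizer_iff]
    intro d hd
    exact (Subgroup.mem_centralizer_iff.mp (hDC hd) t ht).symm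
  have hTD : T ≤ Subgroup.normalizer (D : Set G) := hTcD.trans (Subgroup.centralizer_le_normalizer _)
  obtain ⟨Q₀, hQ₀⟩ : ∃ Q₀ : Subgroup G, Q₀ = T ⊔ D := ⟨_, rfl⟩
  have hTQ₀ : T ≤ Q₀ := by rw [hQ₀]; exact le_sup_left
  have hDQ₀ : D ≤ Q₀ := by rw [hQ₀]; exact le_sup_right
  have hQ₀p : IsPGroup p ↥Q₀ := by
    rw [hQ₀]
    exact IsPGroup.to_sup_of_normal_right' hTp hDp hTD
  have hnQ₀ : ∀ n : G, n ∈ Subgroup.normalizer (T : Set G) → n ∈ Subgroup.normalizer (D : Set G) →
      n ∈ Subgroup.normalizer (Q₀ : Set G) := by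
    intro n h1 h2
    apply mem_normalizer_of_finite
    intro z hz
    have e : cj n Q₀ = Q₀ := by
      rw [hQ₀, cj_sup, cj_eq_self_of_mem_normalizer h1, cj_eq_self_of_mem_normalizer h2]
    rw [← e]
    exact conj_mem_cj hz
  -- every `p`-subgroup of `C_G(Q₀)` lies in `Q₀`
  have hcent₀ : ∀ B : Subgroup G, IsPGroup p ↥B → B ≤ Subgroup.centralizer (Q₀ : Set G) → B ≤ Q₀ := by
    intro B hBp hBc
    have hBT : B ≤ Subgroup.centralizer (T : Set G) :=
      hBc.trans (Subgroup.centralizer_le (by exact_mod_cast hTQ₀))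
    have hBD : B ≤ Subgroup.centralizer (D : Set G) :=
      hBc.trans (Subgroup.centralizer_le (by exact_mod_cast hDQ₀))
    have hB'p : IsPGroup p ↥(B.subgroupOf (Subgroup.centralizer (T : Set G))) := hBp.comap_subtype
    have hB'n : B.subgroupOf (Subgroup.centralizer (T : Set G)) ≤
        Subgroup.normalizer ((D₀ : Subgroup ↥(Subgroup.centralizer (T : Set G))) :
          Set ↥(Subgroup.centralizer (T : Set G))) := by
      intro b hb
      apply mem_normalizer_of_finite
      intro d hd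
      have hdD : (d : G) ∈ D := by
        rw [hD]
        exact ⟨d, hd, rfl⟩
      have hbd := Subgroup.mem_centralizer_iff.mp (hBD (Subgroup.mem_subgroupOf.mp hb)) _ hdD
      have e : b * d * b⁻¹ = d := by
        apply Subtype.ext
        show (b : G) * (d : G) * (b : G)⁻¹ = (d : G)
        rw [← hbd, mul_inv_cancel_right]
      rw [e]
      exact hd
    have hinf := hB'p.inf_normalizer_sylow D₀
    intro b hb
    have hb' : (⟨b, hBT hb⟩ : ↥(Subgroup.centralizer (T : Set G))) ∈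
        B.subgroupOf (Subgroup.centralizer (T : Set G)) := Subgroup.mem_subgroupOf.mpr hb
    have h1 : (⟨b, hBT hb⟩ : ↥(Subgroup.centralizer (T : Set G))) ∈
        B.subgroupOf (Subgroup.centralizer (T : Set G)) ⊓
          Subgroup.normalizer (D₀ : Set ↥(Subgroup.centralizer (T : Set G))) := ⟨hb', hB'n hb'⟩
    rw [hinf] at h1
    apply hDQ₀
    rw [hD]
    exact ⟨_, h1.2, rfl⟩
  -- conjugate into `P`, fully normalized
  obtain ⟨g₁, hg₁⟩ := exists_cj_le_sylow P hQ₀p
  obtain ⟨Q', hconj, hfn⟩ := exists_isConj_fullyNormalized (groupFusionSystem (P : Subgroup G)) hg₁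
  obtain ⟨g₂, hg₂, hQ'P⟩ := (isConj_group_iff hg₁).mp hconj
  rw [cj_cj] at hg₂
  obtain ⟨g, hg⟩ : ∃ g : G, g = g₂ * g₁ := ⟨_, rfl⟩
  rw [← hg] at hg₂
  have hcent' : ∀ B : Subgroup G, IsPGroup p ↥B → B ≤ Subgroup.centralizer (Q' : Set G) → B ≤ Q' := by
    intro B hBp hBc
    rw [← hg₂, centralizer_cj] at hBc
    have h1 : cj g⁻¹ B ≤ Subgroup.centralizer (Q₀ : Set G) := by
      have := cj_mono g⁻¹ hBc
      rwa [cj_inv_cj] at this
    have h2 := hcent₀ _ (isPGroup_cj g⁻¹ hBp) h1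
    rw [cj_le_iff, inv_inv, hg₂] at h2
    exact h2
  refine ⟨Q', hfn, isCentric_of_forall_isPGroup P hQ'P hcent', ?_⟩
  -- transport the relative quadratic pair
  have hq₁ := hq'.map (MulAut.conj g).toMonoidHom (by
    rintro t _ ⟨t₁, ht₁, h1⟩
    rw [← (MulAut.conj g).injective h1]
    exact ht₁)
  have hTQ' : cj g T ≤ Q' := by
    rw [← hg₂]
    exact cj_mono g hTQ₀
  have hnQ' : ∀ n : G, n ∈ Subgroup.normalizer (Q₀ : Set G) →
      (MulAut.conj g).toMonoidHom n ∈ Subgroup.normalizer (Q' : Set G) := by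
    intro n hn
    rw [← hg₂, normalizer_cj]
    exact conj_mem_cj hn
  have hq₂ := hq₁.restrict (Subgroup.normalizer (Q' : Set G)) (hTQ'.trans Subgroup.le_normalizer)
    (hnQ' _ (hnQ₀ _ hq'.xT hnx)) (hnQ' _ (hnQ₀ _ hq'.yT hny))
  have hTp' : IsPGroup p ↥(cj g T) := isPGroup_cj g hTp
  have hq₃ := hq₂.map (QuotientGroup.mk' (centPrimeN p Q')) (by
    rintro t ht ⟨t₁, ht₁, h1⟩
    have h2 : t₁⁻¹ * t ∈ centPrimeN p Q' := QuotientGroup.eq.mp h1
    rw [mem_centPrimeN] at h2
    have htT : (t : G) ∈ cj g T := Subgroup.mem_subgroupOf.mp ht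
    have ht₁T : (t₁ : G) ∈ cj g T := hq₁.le (Subgroup.mem_subgroupOf.mp ht₁)
    have h3 : (t₁ : G)⁻¹ * (t : G) ∈ cj g T := Subgroup.mul_mem _ (Subgroup.inv_mem _ ht₁T) htT
    obtain ⟨k, hk⟩ := hTp' ⟨_, h3⟩
    have hk' : ((t₁ : G)⁻¹ * (t : G)) ^ p ^ k = 1 := congrArg Subtype.val hk
    have h4 : (t₁ : G)⁻¹ * (t : G) = 1 := eq_one_of_mem_centPrime h2 hk'
    have h5 : t = t₁ := by
      apply Subtype.ext
      have := congrArg (fun w => (t₁ : G) * w) h4
      simp only [mul_inv_cancel_left, mul_one] at this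
      exact this
    rw [h5]
    exact ht₁)
  exact hq₃.involves hp2

end Cfsg.Agent.Helper84
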