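-- helper84: explicit wreathed Sylow 2-subgroup of GU_2(q), q = 3 mod 4 (for S5319).
import Mathlib
import Cfsg.Agent.Helper84.SU3FDefs

set_option autoImplicit false

namespace Cfsg.Agent.Helper84.SU3F

open Cfsg Cfsg.Agent.Helper37.GL2S2 Cfsg.Agent.Helper37.GU2S2 Cfsg.Agent.Helper37.SU3Inv

variable {F : Type*} [Field F] {q : ℕ} (bar : F →+* F) (hbar : ∀ x, bar x = x ^ q)

/-- a `2`-subgroup of order exceeding half the order of a Sylow `2`-subgroup containing it is that Sylow subgroup -/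
theorem eq_of_le_sylow_of_lt_card {G : Type*} [Group G] [Finite G] (P : Sylow 2 G) (H : Subgroup G)
    (hHP : H ≤ (P : Subgroup G)) (N : ℕ) (hP : Nat.card (P : Subgroup G) = 2 ^ (N + 1))
    (hH : 2 ^ N < Nat.card H) : (P : Subgroup G) = H := by
  have hHp : IsPGroup 2 H := P.isPGroup'.to_le hHP
  obtain ⟨j, hj⟩ := IsPGroup.iff_card.mp hHp
  have hdvd : Nat.card H ∣ Nat.card (P : Subgroup G) := Subgroup.card_dvd_of_le hHP
  rw [hj, hP] at hdvd
  have hj1 : j ≤ N + 1 := (Nat.pow_dvd_pow_iff_le_right (by norm_num)).mp hdvd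
  rw [hj] at hH
  have hj2 : N < j := (Nat.pow_lt_pow_iff_right (by norm_num)).mp hH
  have hjN : j = N + 1 := by omega
  symm
  apply Subgroup.eq_of_le_of_card_ge hHP
  rw [hP, hj, hjN]

theorem exists_sylow_wr [Fintype F] (hF : Fintype.card F = q ^ 2) (h3 : q % 4 = 3) :
    ∃ (a : ℕ) (ζ : Fˣ) (hζ : ζ ^ (q + 1) = 1) (P : Sylow 2 ↥(Cfsg.GU 2 F q)), orderOf ζ = 2 ^ a ∧
      (P : Subgroup ↥(Cfsg.GU 2 F q)) = Subgroup.closure
        {dgU bar hbar ζ 1 hζ (one_pow _), dgU bar hbar 1 ζ (one_pow _) hζ, swU bar hbar} := by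
  classical
  have : Finite (GL (Fin 2) F) := inferInstance
  obtain ⟨a, m, hm, hqa⟩ := Nat.exists_eq_two_pow_mul_odd (n := q + 1) (by omega)
  obtain ⟨k, rfl⟩ := hm
  have ha : 2 ≤ a := by
    rcases a with _ | _ | a
    · simp at hqa; omega
    · simp at hqa; omega
    · omega
  obtain ⟨m', hm', hcard, hdvd⟩ := arith_three q a k ha hqa
  rw [← card_GU2 hF] at hcard
  rw [← hF] at hdvd
  obtain ⟨ζ, hζ⟩ := exists_orderOf_two_pow (F := F) a hdvd
  have hζq : ζ ^ (q + 1) = 1 := by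
    rw [hqa, pow_mul, ← hζ, pow_orderOf_eq_one, one_pow]
  refine ⟨a, ζ, hζq, ?_⟩
  set x : ↥(Cfsg.GU 2 F q) := dgU bar hbar ζ 1 hζq (one_pow _) with hxdef
  set y : ↥(Cfsg.GU 2 F q) := dgU bar hbar 1 ζ (one_pow _) hζq with hydef
  set z : ↥(Cfsg.GU 2 F q) := swU bar hbar with hzdef
  obtain ⟨hxy0, hinf0, hr0⟩ := wreathed_data ζ
  have hx : orderOf x = 2 ^ a := by
    rw [hxdef, dgU, Subgroup.orderOf_mk, ← d1_apply, orderOf_injective d1 d1_injective, hζ]
  have hxy : x * y = y * x := Subtype.ext (by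
    show dg ζ 1 * dg 1 ζ = dg 1 ζ * dg ζ 1
    rw [← d1_apply, ← d2_apply]; exact hxy0)
  have hz : orderOf z = 2 := by
    rw [hzdef, swU, Subgroup.orderOf_mk]; exact orderOf_sw
  have hr : z * x * z⁻¹ = y := Subtype.ext (by
    show sw * dg ζ 1 * sw⁻¹ = dg 1 ζ
    rw [← d1_apply, ← d2_apply]; exact hr0)
  have hH := isPGroup_wreath x y z a hx hxy hz hr
  set H : Subgroup ↥(Cfsg.GU 2 F q) := Subgroup.closure {x, y, z} with hHdef
  have hxH : x ∈ H := Subgroup.subset_closure (by simp)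
  have hyH : y ∈ H := Subgroup.subset_closure (by simp)
  have hzH : z ∈ H := Subgroup.subset_closure (by simp)
  have hHle : H ≤ Subgroup.zpowers z ⊔ (Subgroup.zpowers x ⊔ Subgroup.zpowers y) := by
    rw [hHdef, Subgroup.closure_le]
    intro g hg
    simp only [Set.mem_insert_iff, Set.mem_singleton_iff] at hg
    rcases hg with rfl | rfl | rfl
    · exact (le_sup_right : _ ≤ Subgroup.zpowers z ⊔ (Subgroup.zpowers x ⊔ Subgroup.zpowers y))
        ((le_sup_left : Subgroup.zpowers x ≤ _) (Subgroup.mem_zpowers _))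
    · exact (le_sup_right : _ ≤ Subgroup.zpowers z ⊔ (Subgroup.zpowers x ⊔ Subgroup.zpowers y))
        ((le_sup_right : Subgroup.zpowers y ≤ _) (Subgroup.mem_zpowers _))
    · exact (le_sup_left : Subgroup.zpowers z ≤ _) (Subgroup.mem_zpowers _)
  have hHp : IsPGroup 2 H := hH.to_le hHle
  obtain ⟨P, hHP⟩ := hHp.exists_le_sylow
  have hcP : Nat.card P = 2 ^ (2 * a + 1) := card_sylow_of_card_eq P (2 * a + 1) m' hcard hm'
  refine ⟨P, hζ, ?_⟩
  apply eq_of_le_sylow_of_lt_card P H hHP (2 * a) hcP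
  -- count
  let f : (Fin (2 ^ a) × Fin (2 ^ a)) ⊕ Unit → ↥H := fun p => match p with
    | Sum.inl (i, j) => ⟨x ^ i.1 * y ^ j.1, mul_mem (pow_mem hxH _) (pow_mem hyH _)⟩
    | Sum.inr _ => ⟨z, hzH⟩
  have hval : ∀ i j : ℕ, ((x ^ i * y ^ j : ↥(Cfsg.GU 2 F q)) : GL (Fin 2) F) = dg (ζ ^ i) (ζ ^ j) := by
    intro i j
    show (dg ζ 1) ^ i * (dg 1 ζ) ^ j = dg (ζ ^ i) (ζ ^ j)
    rw [← d1_apply, ← d2_apply, ← map_pow, ← map_pow, d1_apply, d2_apply, dg_mul, mul_one, one_mul]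
  have hpinj : ∀ i j : Fin (2 ^ a), ζ ^ i.1 = ζ ^ j.1 → i = j := by
    intro i j h
    apply Fin.ext
    have hi : i.1 < orderOf ζ := by rw [hζ]; exact i.2
    have hj : j.1 < orderOf ζ := by rw [hζ]; exact j.2
    exact pow_injOn_Iio_orderOf hi hj h
  have hf : Function.Injective f := by
    rintro (⟨i, j⟩ | u) (⟨i', j'⟩ | u') h
    · have h1 : ((x ^ i.1 * y ^ j.1 : ↥(Cfsg.GU 2 F q)) : GL (Fin 2) F) =
          ((x ^ i'.1 * y ^ j'.1 : ↥(Cfsg.GU 2 F q)) : GL (Fin 2) F) := by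
        have := congrArg (fun t : ↥H => ((t : ↥(Cfsg.GU 2 F q)) : GL (Fin 2) F)) h
        exact this
      rw [hval, hval] at h1
      obtain ⟨e1, e2⟩ := dg_injective h1
      rw [hpinj i i' e1, hpinj j j' e2]
    · exfalso
      have h1 : ((x ^ i.1 * y ^ j.1 : ↥(Cfsg.GU 2 F q)) : GL (Fin 2) F) = sw := by
        have := congrArg (fun t : ↥H => ((t : ↥(Cfsg.GU 2 F q)) : GL (Fin 2) F)) h
        exact this
      rw [hval] at h1
      have h2 := congrArg (fun M : GL (Fin 2) F => M.1 0 0) h1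
      simp only [dg_val, sw_val] at h2
      simp at h2
    · exfalso
      have h1 : (sw : GL (Fin 2) F) = ((x ^ i'.1 * y ^ j'.1 : ↥(Cfsg.GU 2 F q)) : GL (Fin 2) F) := by
        have := congrArg (fun t : ↥H => ((t : ↥(Cfsg.GU 2 F q)) : GL (Fin 2) F)) h
        exact this
      rw [hval] at h1
      have h2 := congrArg (fun M : GL (Fin 2) F => M.1 0 0) h1
      simp only [dg_val, sw_val] at h2
      simp at h2
      exact (pow_ne_zero _ (Units.ne_zero ζ)) h2.symm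
    · rfl
  have hc := Nat.card_le_card_of_injective f hf
  have e : Nat.card ((Fin (2 ^ a) × Fin (2 ^ a)) ⊕ Unit) = 2 ^ (2 * a) + 1 := by
    rw [Nat.card_sum, Nat.card_prod, Nat.card_fin, Nat.card_unique, two_mul, pow_add]
  rw [e] at hc
  omega

end Cfsg.Agent.Helper84.SU3F
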