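-- helper84: the image of a Sylow 2-subgroup of GU_2(q) in SU_3(q) is a Sylow 2-subgroup (q odd), for S5319.
import Mathlib
import Cfsg.Agent.Helper84.SU3FDefs
import Cfsg.Agent.Helper45.SUCard

set_option autoImplicit false

namespace Cfsg.Agent.Helper84.SU3F

open Cfsg Cfsg.Agent.Helper37.GL2S2 Cfsg.Agent.Helper37.GU2S2 Cfsg.Agent.Helper37.SU3Inv

variable {F : Type*} [Field F] {q : ℕ} (bar : F →+* F) (hbar : ∀ x, bar x = x ^ q)

theorem card_SU3_eq [Fintype F] (hF : Fintype.card F = q ^ 2) (hq : Odd q) :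
    ∃ m : ℕ, ¬ 2 ∣ m ∧ Nat.card ↥(Cfsg.SU 3 F q) = Nat.card ↥(Cfsg.GU 2 F q) * m := by
  have h3 := Cfsg.Agent.Helper45.GU.card_SU hF 3 (by norm_num)
  have hG2 := card_GU2 hF
  obtain ⟨t, ht⟩ := hq
  have hq1 : 1 ≤ q := by omega
  obtain ⟨r, hr⟩ : ∃ r, q = r + 1 := ⟨q - 1, by omega⟩
  have hcube : q ^ 3 + 1 = (q + 1) * (r * r + r + 1) := by
    rw [hr]; ring
  have hprod : ∏ i ∈ Finset.range 3, (if Even i then q ^ (i + 1) + 1 else q ^ (i + 1) - 1) =
      (q + 1) * (q ^ 2 - 1) * (q ^ 3 + 1) := by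
    simp [Finset.prod_range_succ]
  rw [hprod] at h3
  have hexp : 3 * (3 - 1) / 2 = 3 := by norm_num
  rw [hexp] at h3
  refine ⟨q ^ 2 * (r * r + r + 1), ?_, ?_⟩
  · have ho : Odd (q ^ 2 * (r * r + r + 1)) := by
      apply Odd.mul
      · have hoq : Odd q := ⟨t, ht⟩
        exact hoq.pow
      · have : Even (r * r + r) := by
          have : r * r + r = r * (r + 1) := by ring
          rw [this]
          exact Nat.even_mul_succ_self r
        exact this.add_one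
    intro h
    exact (Nat.not_even_iff_odd.mpr ho) (even_iff_two_dvd.mpr h)
  · have hpos : 0 < q + 1 := by omega
    apply Nat.eq_of_mul_eq_mul_left hpos
    rw [h3, hG2, hcube]
    ring

theorem exists_sylow_map [Fintype F] (hF : Fintype.card F = q ^ 2) (hq : Odd q)
    (P : Sylow 2 ↥(Cfsg.GU 2 F q)) :
    ∃ S₀ : Sylow 2 ↥(Cfsg.SU 3 F q),
      (S₀ : Subgroup ↥(Cfsg.SU 3 F q)) = (P : Subgroup ↥(Cfsg.GU 2 F q)).map (beta bar hbar) := by
  classical
  have : Finite (Matrix.SpecialLinearGroup (Fin 3) F) := by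
    unfold Matrix.SpecialLinearGroup
    infer_instance
  obtain ⟨m, hm, hcard⟩ := card_SU3_eq hF hq
  have hm0 : m ≠ 0 := by rintro rfl; exact hm (dvd_zero 2)
  have hG0 : Nat.card ↥(Cfsg.GU 2 F q) ≠ 0 := Nat.card_pos.ne'
  have hfac : (Nat.card ↥(Cfsg.SU 3 F q)).factorization 2 = (Nat.card ↥(Cfsg.GU 2 F q)).factorization 2 := by
    rw [hcard, Nat.factorization_mul hG0 hm0]
    simp [Nat.factorization_eq_zero_of_not_dvd hm]
  have hc : Nat.card ↥((P : Subgroup ↥(Cfsg.GU 2 F q)).map (beta bar hbar)) =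
      2 ^ (Nat.card ↥(Cfsg.SU 3 F q)).factorization 2 := by
    rw [hfac, ← Sylow.card_eq_multiplicity P]
    exact Subgroup.card_map_of_injective (beta_injective bar hbar)
  exact ⟨Sylow.ofCard _ hc, Sylow.coe_ofCard _ hc⟩

end Cfsg.Agent.Helper84.SU3F
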