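-- helper84: the 2-fusion system of PSU_3(q), q odd, is simple (assembly for S5319).
-- Pieces: Helper89 (LOC, AUT-QD), Helper80 (AUT-WR), Helper41 (CONJ4, NSC-WR, NSC-QD), Helper37 (GEN-QD), mine (SYL, GEN-WR).
import Mathlib
import Cfsg.Agent.Helper84.SU3FDefs
import Cfsg.Agent.Helper84.SU3FSyl
import Cfsg.Agent.Helper84.SU3FGenWr
import Cfsg.Agent.Helper84.SimpleCrit2
import Cfsg.Agent.Helper84.PSUGen
import Cfsg.Agent.Helper45.SUCard
import Cfsg.Agent.Helper5.UnitaryCenter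
import Cfsg.Agent.Helper89.SU3FLoc
import Cfsg.Agent.Helper89.SU3FAutQD
import Cfsg.Agent.Helper80.SU3FAutWR
import Cfsg.Agent.Helper41.SU3FConj4
import Cfsg.Agent.Helper41.SU3FNscWr
import Cfsg.Agent.Helper41.SU3FNscQd
import Cfsg.Agent.Helper37.SU3FGenQD

set_option autoImplicit false

namespace Cfsg.Agent.Helper84.SU3F

open Cfsg Cfsg.Agent.Helper37.GL2S2 Cfsg.Agent.Helper37.GU2S2 Cfsg.Agent.Helper37.SU3Inv Cfsg.Agent.Helper85
  Cfsg.Agent.Helper84.PSU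

variable {F : Type*} [Field F] {q : ℕ}

/-- no nontrivial `2`-elements in the center of `SU_3(q)` -/
theorem eq_one_of_center_two_pow [Fintype F] (hF : Fintype.card F = q ^ 2) {z : ↥(Cfsg.SU 3 F q)}
    (hz : z ∈ Subgroup.center ↥(Cfsg.SU 3 F q)) {a : ℕ} (h : z ^ (2 ^ a) = 1) : z = 1 := by
  have h1 := Cfsg.Agent.Helper5.center_eq_scalar hF z hz (0 : Fin 3)
  set c : F := z.1.1 0 0 with hc
  have hdet : c ^ 3 = 1 := by
    have := z.1.2
    rw [h1] at this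
    simpa [Matrix.det_fin_three, Matrix.scalar_apply] using this
  have h2 : (z.1.1) ^ (2 ^ a) = 1 := by
    have := congrArg (fun x : ↥(Cfsg.SU 3 F q) => (x.1 : Matrix (Fin 3) (Fin 3) F)) h
    simpa using this
  rw [h1, ← map_pow] at h2
  have h3 : c ^ (2 ^ a) = 1 := by
    have := congrFun (congrFun h2 0) 0
    simpa [Matrix.scalar_apply] using this
  have hc1 : c = 1 := by
    have hcop : Nat.Coprime (2 ^ a) 3 := Nat.Coprime.pow_left a (by norm_num)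
    have hc0 : c ≠ 0 := by
      intro h0
      rw [h0] at hdet
      simp at hdet
    have : orderOf c ∣ Nat.gcd (2 ^ a) 3 := Nat.dvd_gcd (orderOf_dvd_of_pow_eq_one h3) (orderOf_dvd_of_pow_eq_one hdet)
    rw [hcop] at this
    exact orderOf_eq_one_iff.mp (Nat.dvd_one.mp this)
  apply Subtype.ext
  apply Subtype.ext
  rw [h1, hc1]
  simp

/-- `SelfNorm` gives the local generation (modulo anything) -/
theorem locGenZ_of_selfNorm {G : Type*} [Group G] (S Z : Subgroup G) (h : SelfNorm S) : LocGenZ 2 S Z := by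
  intro g hg
  obtain ⟨s, hs, hsx⟩ := h g hg
  have hsN : s ∈ Subgroup.normalizer (S : Set G) := Subgroup.le_normalizer hs
  have hc : s⁻¹ * g ∈ Subgroup.centralizer (S : Set G) := by
    rw [Subgroup.mem_centralizer_iff]
    intro x hx
    have := hsx x hx
    calc x * (s⁻¹ * g) = s⁻¹ * (s * x * s⁻¹) * g := by group
      _ = s⁻¹ * (g * x * g⁻¹) * g := by rw [this]
      _ = s⁻¹ * g * x := by group
  have hcN : s⁻¹ * g ∈ Subgroup.normalizer (S : Set G) := mul_mem (inv_mem hsN) hg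
  have e : g = s * (s⁻¹ * g) := by group
  rw [e]
  apply mul_mem
  · exact Subgroup.subset_closure ⟨hsN, Or.inl hs⟩
  · exact Subgroup.subset_closure ⟨hcN, Or.inr (Or.inl hc)⟩

/-- the key: a Sylow `2`-subgroup of `SU_3(q)` with `N = S C` and no strongly closed subgroups -/
theorem exists_good_sylow [Fintype F] (hF : Fintype.card F = q ^ 2) (hq : Odd q) :
    ∃ S₀ : Sylow 2 ↥(Cfsg.SU 3 F q), (S₀ : Subgroup ↥(Cfsg.SU 3 F q)) ≠ ⊥ ∧
      SelfNorm (S₀ : Subgroup ↥(Cfsg.SU 3 F q)) ∧ NoStrClosed (S₀ : Subgroup ↥(Cfsg.SU 3 F q)) := by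
  obtain ⟨bar, hbar⟩ := Cfsg.Agent.Helper45.GU.exists_bar hF
  have hcardodd : Odd (Fintype.card F) := by rw [hF]; exact hq.pow
  have h2 : (2 : F) ≠ 0 := Cfsg.Agent.Helper37.two_ne_zero_of_odd_card hcardodd
  have hmod : q % 4 = 1 ∨ q % 4 = 3 := by
    obtain ⟨t, ht⟩ := hq
    omega
  -- common tail
  have tail : ∀ (P : Sylow 2 ↥(Cfsg.GU 2 F q)),
      NoStrClosed ((P : Subgroup ↥(Cfsg.GU 2 F q)).map (beta bar hbar)) →
      ∃ S₀ : Sylow 2 ↥(Cfsg.SU 3 F q), (S₀ : Subgroup ↥(Cfsg.SU 3 F q)) ≠ ⊥ ∧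
        SelfNorm (S₀ : Subgroup ↥(Cfsg.SU 3 F q)) ∧ NoStrClosed (S₀ : Subgroup ↥(Cfsg.SU 3 F q)) := by
    intro P hns
    obtain ⟨S₀, hS₀⟩ := exists_sylow_map bar hbar hF hq P
    have e : ↥(P : Subgroup ↥(Cfsg.GU 2 F q)) ≃* ↥(S₀ : Subgroup ↥(Cfsg.SU 3 F q)) :=
      ((P : Subgroup ↥(Cfsg.GU 2 F q)).equivMapOfInjective (beta bar hbar) (beta_injective bar hbar)).trans
        (MulEquiv.subgroupCongr hS₀.symm)
    have htype := gu2_sylow_two_type q hF hq P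
    have haut : ∀ (α : MulAut ↥(S₀ : Subgroup ↥(Cfsg.SU 3 F q))) (k : ℕ), Odd k → α ^ k = 1 → α = 1 := by
      rcases hmod with h1 | h3
      · exact Cfsg.Agent.Helper89.SU3F.aut_eq_one_of_quasiDihedral (isQuasiDihedral_of_mulEquiv e (htype.1 h1))
      · exact Cfsg.Agent.Helper80.SU3F.aut_eq_one_of_wreathed (isWreathed_of_mulEquiv e (htype.2 h3))
    refine ⟨S₀, ?_, Cfsg.Agent.Helper89.SU3F.selfNorm_of_aut S₀ haut, ?_⟩
    · intro hbot
      have hcard : Nat.card ↥(S₀ : Subgroup ↥(Cfsg.SU 3 F q)) = 1 := by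
        rw [hbot]; exact Subgroup.card_bot
      rcases hmod with h1 | h3
      · obtain ⟨n, hn, hc, -⟩ := isQuasiDihedral_of_mulEquiv e (htype.1 h1)
        rw [hcard] at hc
        have : 2 ≤ 2 ^ (n + 1) := by
          calc 2 = 2 ^ 1 := by norm_num
            _ ≤ 2 ^ (n + 1) := Nat.pow_le_pow_right (by norm_num) (by omega)
        omega
      · obtain ⟨n, hn, hc, -⟩ := isWreathed_of_mulEquiv e (htype.2 h3)
        rw [hcard] at hc
        have : 2 ≤ 2 ^ (2 * n + 1) := by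
          calc 2 = 2 ^ 1 := by norm_num
            _ ≤ 2 ^ (2 * n + 1) := Nat.pow_le_pow_right (by norm_num) (by omega)
        omega
    · rw [hS₀]
      exact hns
  have hPow : ∀ (P : Sylow 2 ↥(Cfsg.GU 2 F q)), ∀ s ∈ (P : Subgroup ↥(Cfsg.GU 2 F q)), ∃ a : ℕ, s ^ 2 ^ a = 1 := by
    intro P s hs
    obtain ⟨a, ha⟩ := P.isPGroup' ⟨s, hs⟩
    refine ⟨a, ?_⟩
    have := congrArg Subtype.val ha
    simpa using this
  rcases hmod with h1 | h3
  · obtain ⟨n, l, i, hi, hbi, hl, P, hn, hil, hlq, hP⟩ := Cfsg.Agent.Helper37.SU3F.exists_sylow_qd bar hbar hF h1 h2 hq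
    apply tail P
    rw [hP]
    refine Cfsg.Agent.Helper41.SU3F.noStrClosed_qd bar hbar hF h2 hq n hn l i hi hbi hl hil hlq ?_
      (Cfsg.Agent.Helper41.SU3F.exists_conj_order_four bar hbar h2 hq n l i hi hbi hl hil hlq)
    rw [← hP]
    exact hPow P
  · obtain ⟨a, ζ, hζ, P, -, hP⟩ := exists_sylow_wr bar hbar hF h3
    apply tail P
    rw [hP]
    refine Cfsg.Agent.Helper41.SU3F.noStrClosed_wr bar hbar hF h2 ζ hζ ?_
    rw [← hP]
    exact hPow P

/-- the `2`-fusion system of `PSU_3(q)`, `q` odd, is simple -/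
theorem psu3_isSimple [Fintype F] (hF : Fintype.card F = q ^ 2) (hodd : q % 2 = 1)
    (S : Sylow 2 (Cfsg.PSU 3 F q)) :
    (Cfsg.groupFusionSystem (S : Subgroup (Cfsg.PSU 3 F q))).IsSimple 2 := by
  classical
  have hq : Odd q := Nat.odd_iff.mpr hodd
  have : Finite (Matrix.SpecialLinearGroup (Fin 3) F) := by
    unfold Matrix.SpecialLinearGroup
    infer_instance
  obtain ⟨S₀, hS1, hSN, hNS⟩ := exists_good_sylow hF hq
  obtain ⟨f, hfdef⟩ : ∃ f : ↥(Cfsg.SU 3 F q) →* Cfsg.PSU 3 F q,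
      f = QuotientGroup.mk' (Subgroup.center ↥(Cfsg.SU 3 F q)) := ⟨_, rfl⟩
  have hf : Function.Surjective f := by
    rw [hfdef]; exact QuotientGroup.mk'_surjective _
  have hkerc : f.ker = Subgroup.center ↥(Cfsg.SU 3 F q) := by
    rw [hfdef]; exact QuotientGroup.ker_mk' _
  have hker : ∀ z ∈ f.ker, ∀ g : ↥(Cfsg.SU 3 F q), g * z = z * g := by
    intro z hz g
    rw [hkerc] at hz
    exact Subgroup.mem_center_iff.mp hz g
  have hp' : ∀ z ∈ f.ker, ∀ a : ℕ, z ^ (2 ^ a) = 1 → z = 1 := by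
    intro z hz a hza
    rw [hkerc] at hz
    exact eq_one_of_center_two_pow hF hz hza
  have hS : ∀ s ∈ (S₀ : Subgroup ↥(Cfsg.SU 3 F q)), ∃ a : ℕ, s ^ (2 ^ a) = 1 := by
    intro s hs
    obtain ⟨a, ha⟩ := S₀.isPGroup' ⟨s, hs⟩
    refine ⟨a, ?_⟩
    have := congrArg Subtype.val ha
    simpa using this
  have hcoe : ((Sylow.mapSurjective hf S₀ : Sylow 2 (Cfsg.PSU 3 F q)) : Subgroup (Cfsg.PSU 3 F q)) =
      (S₀ : Subgroup ↥(Cfsg.SU 3 F q)).map f := Sylow.coe_mapSurjective hf S₀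
  refine Cfsg.Agent.Helper84.isSimple_of_locGen_conj 2 (Sylow.mapSurjective hf S₀) ?_ ?_ ?_ S
  · rw [hcoe]
    intro hbot
    apply hS1
    rw [eq_bot_iff]
    intro s hs
    have h1 : f s ∈ (S₀ : Subgroup ↥(Cfsg.SU 3 F q)).map f := Subgroup.mem_map_of_mem f hs
    rw [hbot, Subgroup.mem_bot] at h1
    obtain ⟨a, ha⟩ := hS s hs
    rw [Subgroup.mem_bot]
    exact hp' s (MonoidHom.mem_ker.mpr h1) a ha
  · rw [hcoe]
    exact locGen_map 2 f hf hker hp' (S₀ : Subgroup ↥(Cfsg.SU 3 F q)) hS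
      (locGenZ_of_selfNorm _ _ hSN)
  · rw [hcoe]
    exact noStrClosed_map f (S₀ : Subgroup ↥(Cfsg.SU 3 F q)) hNS

end Cfsg.Agent.Helper84.SU3F
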