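import Cfsg.Agent.Helper84.KNormLocal
import Cfsg.Agent.Helper84.PStable
set_option autoImplicit false

/-! # A saturation criterion (Broto–Castellana–Grodal–Levi–Oliver): basic tools -/

namespace Cfsg.Agent.Helper84

open Cfsg Cfsg.FusionSystem Cfsg.Agent.Helper87

variable {Ω : Type*} [Group Ω] {S : Subgroup Ω}

/-! ### The stabilizer of a subgroup in the automorphism group of an overgroup -/

/-- The automorphisms of `T` stabilizing `A`. -/
def stb (T A : Subgroup Ω) : Subgroup (MulAut T) where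
  carrier := {α | ∀ x : T, (x : Ω) ∈ A ↔ ((α x : T) : Ω) ∈ A}
  one_mem' := fun _ => Iff.rfl
  mul_mem' := by
    intro a b ha hb x
    rw [MulAut.mul_apply, hb x, ha (b x)]
  inv_mem' := by
    intro a ha x
    rw [ha (a⁻¹ x), MulAut.apply_inv_self]

theorem mem_stb_iff (T A : Subgroup Ω) (α : MulAut T) :
    α ∈ stb T A ↔ ∀ x : T, (x : Ω) ∈ A ↔ ((α x : T) : Ω) ∈ A := Iff.rfl

theorem mem_NK_stb_iff (S : Subgroup Ω) {T A : Subgroup Ω} (hAT : A ≤ T) (g : Ω) :
    g ∈ NK S T (stb T A) ↔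
      g ∈ S ∧ g ∈ Subgroup.normalizer (T : Set Ω) ∧ g ∈ Subgroup.normalizer (A : Set Ω) := by
  rw [mem_NK_iff]
  constructor
  · rintro ⟨hS, hT, hK⟩
    refine ⟨hS, hT, ?_⟩
    rw [Subgroup.mem_normalizer_iff]
    intro y
    constructor
    · intro hy
      exact (hK ⟨y, hAT hy⟩).mp hy
    · intro hy
      have hyT : y ∈ T := by
        have h1 := (Subgroup.mem_normalizer_iff.mp hT y).mpr (hAT hy)
        exact h1
      exact (hK ⟨y, hyT⟩).mpr hy
  · rintro ⟨hS, hT, hA⟩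
    refine ⟨hS, hT, fun x => ?_⟩
    exact Subgroup.mem_normalizer_iff.mp hA x

theorem tr_stb {T U A B : Subgroup Ω} (e : T ≃* U) (h : ∀ x : T, (x : Ω) ∈ A ↔ ((e x : U) : Ω) ∈ B) :
    tr e (stb T A) = stb U B := by
  ext β
  rw [mem_tr_iff, mem_stb_iff, mem_stb_iff]
  constructor
  · intro hβ y
    have h1 := hβ (e.symm y)
    rw [congr_apply'] at h1
    simp only [MulEquiv.symm_symm, MulEquiv.apply_symm_apply] at h1
    rw [h (e.symm y), h (e.symm (β y))] at h1
    simpa using h1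
  · intro hβ x
    rw [congr_apply']
    simp only [MulEquiv.symm_symm]
    rw [h x, h (e.symm (β (e x))), MulEquiv.apply_symm_apply]
    exact hβ (e x)

/-! ### Fully `K`-normalized conjugates and the local package -/

theorem exists_fullyKNormalized [Finite S] (F : FusionSystem S) {Q : Subgroup Ω} (hQS : Q ≤ S)
    (K : Subgroup (MulAut Q)) :
    ∃ (Q' : Subgroup Ω) (e : Q ≃* Q'), IsIso F e ∧ IsFullyKNormalized F Q' (tr e K) := by
  obtain ⟨m, ⟨Q', e, he, rfl⟩, hmax⟩ := exists_max_nat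
    {n | ∃ (Q' : Subgroup Ω) (e : Q ≃* Q'), IsIso F e ∧ n = Nat.card (NK S Q' (tr e K))}
    ⟨_, Q, MulEquiv.refl Q, isIso_refl F hQS, rfl⟩ (Nat.card S) (by
      rintro n ⟨Q', e, -, rfl⟩
      exact Subgroup.card_le_of_le (NK_le S Q' _))
  refine ⟨Q', e, he, he.le_right, fun Q'' e' he' => ?_⟩
  exact hmax _ ⟨Q'', e.trans e', he.trans he', by rw [tr_trans]⟩

theorem kpackage [Finite S] {p : ℕ} [Fact p.Prime] (hS : IsPGroup p S) (F : FusionSystem S) {Q Q₀ : Subgroup Ω}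
    (hconj : F.IsConj Q Q₀) (hQ₀a : F.IsFullyAutomized p Q₀) (hQ₀r : F.IsReceptive Q₀)
    (K : Subgroup (MulAut Q)) (hK : IsFullyKNormalized F Q K) :
    F.IsReceptive Q ∧ IsKAutomized F p Q K := by
  have hQ₀c := isFullyCentralized_of_fullyAutomized_of_receptive hS F hQ₀a hQ₀r
  obtain ⟨hQc, hQa⟩ := fullyCentralized_isKAutomized_of_isFullyKNormalized_of_conj hS F K hK hconj hQ₀c hQ₀a hQ₀r
  exact ⟨receptive_of_fullyCentralized_of_conj hS F hQc hconj hQ₀a hQ₀r, hQa⟩

theorem card_eq_of_isConj (F : FusionSystem S) {A B : Subgroup Ω} (h : F.IsConj A B) : Nat.card A = Nat.card B := by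
  obtain ⟨e, -⟩ := (isConj_iff F A B).mp h
  exact Nat.card_congr e.toEquiv

/-! ### The generation principle -/

/-- The auxiliary fusion system used in the generation principle. -/
def genSystem [Finite S] (F : FusionSystem S) (P₀ : Subgroup Ω) (hP₀S : P₀ < S)
    (C : ∀ (A B : Subgroup Ω), (A ≃* B) → Prop)
    (htrans : ∀ (A B D : Subgroup Ω) (e : A ≃* B) (f : B ≃* D), F.IsConj P₀ A → IsIso F e → IsIso F f →
      C A B e → C B D f → C A D (e.trans f))
    (hsymm : ∀ (A B : Subgroup Ω) (e : A ≃* B), F.IsConj P₀ A → IsIso F e → C A B e → C B A e.symm)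
    (hres : ∀ (R : Subgroup Ω) (φ : R →* Ω), φ ∈ F.Hom R → ∀ (A : Subgroup Ω) (hAR : A ≤ R), A ≠ R →
      F.IsConj P₀ A → ∀ (B : Subgroup Ω) (e : A ≃* B),
        (∀ x : A, ((e x : B) : Ω) = φ (Subgroup.inclusion hAR x)) → C A B e) : FusionSystem S where
  Hom R := {φ | φ ∈ F.Hom R ∧ ∀ (A : Subgroup Ω) (hAR : A ≤ R), F.IsConj P₀ A → ∀ (B : Subgroup Ω) (e : A ≃* B),
    (∀ x : A, ((e x : B) : Ω) = φ (Subgroup.inclusion hAR x)) → C A B e}
  le_of_mem h := F.le_of_mem h.1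
  injective_of_mem h := F.injective_of_mem h.1
  conj_mem := by
    intro P g hP hg
    refine ⟨F.conj_mem hP hg, fun A hAR hA B e he => ?_⟩
    have hAS : A ≤ S := hAR.trans hP
    have hne : A ≠ S := by
      intro h
      have h1 := card_eq_of_isConj F hA
      have h2 := card_lt_card_of_lt hP₀S
      rw [h1, h] at h2
      exact lt_irrefl _ h2
    exact hres S (conjHom S g) (F.conj_mem le_rfl hg) A hAS hne hA B e (fun x => by rw [he]; rfl)
  comp_mem := by
    intro P Q φ ψ hφ hψ h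
    refine ⟨F.comp_mem hφ.1 hψ.1 h, fun A hAP hA B e he => ?_⟩
    have hφA : φ.comp (Subgroup.inclusion hAP) ∈ F.Hom A := restrict_mem F hφ.1 hAP
    set A' : Subgroup Ω := (φ.comp (Subgroup.inclusion hAP)).range with hA'def
    let e₁ : A ≃* A' := isoOfRange F hφA rfl
    have he₁ : IsIso F e₁ := isIso_isoOfRange F hφA rfl
    have he₁x : ∀ x : A, ((e₁ x : A') : Ω) = φ (Subgroup.inclusion hAP x) := fun x => rfl
    have hA'Q : A' ≤ Q := by
      rintro _ ⟨x, rfl⟩
      exact h _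
    have hA' : F.IsConj P₀ A' := isConj_trans F hA ⟨_, hφA, rfl⟩
    have heiso : IsIso F e := by
      unfold IsIso
      exact mem_of_eq F (restrict_mem F (F.comp_mem hφ.1 hψ.1 h) hAP) (fun x => he x)
    have hC₁ : C A A' e₁ := hφ.2 A hAP hA A' e₁ he₁x
    have hC₂ : C A' B (e₁.symm.trans e) := by
      refine hψ.2 A' hA'Q hA' B (e₁.symm.trans e) (fun y => ?_)
      have h1 := he (e₁.symm y)
      have h2 : ((e₁ (e₁.symm y) : A') : Ω) = φ (Subgroup.inclusion hAP (e₁.symm y)) := he₁x _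
      rw [MulEquiv.apply_symm_apply] at h2
      show ((e (e₁.symm y) : B) : Ω) = _
      rw [h1]
      show ψ (φ.codRestrict Q h (Subgroup.inclusion hAP (e₁.symm y))) = ψ (Subgroup.inclusion hA'Q y)
      congr 1
      exact Subtype.ext h2.symm
    have h3 := htrans A A' B e₁ (e₁.symm.trans e) hA he₁ (he₁.symm.trans heiso) hC₁ hC₂
    have h4 : e₁.trans (e₁.symm.trans e) = e := by
      ext x
      simp
    rwa [h4] at h3
  inv_mem := by
    intro P φ hφ
    obtain ⟨ψ, hψ, hψx⟩ := F.inv_mem hφ.1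
    refine ⟨ψ, ⟨hψ, fun A' hA' hA'c B' e' he' => ?_⟩, hψx⟩
    have he'iso : IsIso F e' := by
      unfold IsIso
      exact mem_of_eq F (restrict_mem F hψ hA') (fun x => he' x)
    have hB'c : F.IsConj P₀ B' := isConj_trans F hA'c ((isConj_iff F A' B').mpr ⟨e', he'iso⟩)
    have hkey : ∀ z : B', ∃ x : P, (x : Ω) = z ∧ φ x = ((e'.symm z : A') : Ω) := by
      intro z
      obtain ⟨x, hx⟩ := hA' (e'.symm z).2
      refine ⟨x, ?_, hx⟩
      have h1 := he' (e'.symm z)
      rw [MulEquiv.apply_symm_apply] at h1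
      rw [h1]
      have h2 : Subgroup.inclusion hA' (e'.symm z) = ⟨φ x, ⟨x, rfl⟩⟩ := Subtype.ext hx.symm
      rw [h2, hψx]
    have hB'P : B' ≤ P := by
      intro b hb
      obtain ⟨x, hx, -⟩ := hkey ⟨b, hb⟩
      rw [← show (x : Ω) = b from hx]
      exact x.2
    have h1 : C B' A' e'.symm := by
      refine hφ.2 B' hB'P hB'c A' e'.symm (fun z => ?_)
      obtain ⟨x, hx, hφx⟩ := hkey z
      rw [← hφx]
      congr 1
      exact Subtype.ext hx
    have h2 := hsymm B' A' e'.symm hB'c he'iso.symm h1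
    rwa [MulEquiv.symm_symm] at h2

theorem gen_principle [Finite S] (F : FusionSystem S) (ℋ : Set (Subgroup Ω))
    (hgen : ∀ E : FusionSystem S, (∀ P ∈ ℋ, F.Hom P ⊆ E.Hom P) → F ≤ E)
    (P₀ : Subgroup Ω) (hP₀S : P₀ < S) (hP₀ : ∀ A, F.IsConj P₀ A → A ∉ ℋ)
    (C : ∀ (A B : Subgroup Ω), (A ≃* B) → Prop)
    (htrans : ∀ (A B D : Subgroup Ω) (e : A ≃* B) (f : B ≃* D), F.IsConj P₀ A → IsIso F e → IsIso F f →
      C A B e → C B D f → C A D (e.trans f))
    (hsymm : ∀ (A B : Subgroup Ω) (e : A ≃* B), F.IsConj P₀ A → IsIso F e → C A B e → C B A e.symm)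
    (hres : ∀ (R : Subgroup Ω) (φ : R →* Ω), φ ∈ F.Hom R → ∀ (A : Subgroup Ω) (hAR : A ≤ R), A ≠ R →
      F.IsConj P₀ A → ∀ (B : Subgroup Ω) (e : A ≃* B),
        (∀ x : A, ((e x : B) : Ω) = φ (Subgroup.inclusion hAR x)) → C A B e) :
    ∀ (A B : Subgroup Ω) (e : A ≃* B), F.IsConj P₀ A → IsIso F e → C A B e := by
  intro A B e hA he
  have hle : F ≤ genSystem F P₀ hP₀S C htrans hsymm hres := by
    apply hgen
    intro P hP φ hφ
    refine ⟨hφ, fun A hAP hA B e he => ?_⟩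
    have hne : A ≠ P := by
      intro h
      exact hP₀ A hA (h ▸ hP)
    exact hres P φ hφ A hAP hne hA B e he
  have h1 := hle A he
  exact h1.2 A le_rfl hA B e (fun x => rfl)

end Cfsg.Agent.Helper84
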