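import Cfsg.Agent.Helper84.SatCrit1
set_option autoImplicit false

/-! # Saturation criterion, step 1: maps of normalizers onto the normalizer of a fully normalized member -/

namespace Cfsg.Agent.Helper84

open Cfsg Cfsg.FusionSystem Cfsg.Agent.Helper87

variable {Ω : Type*} [Group Ω] {S : Subgroup Ω}

/-- `a : A ≃* P` is the restriction of a map of the system defined on `N_S(A)`. -/
def NLift (F : FusionSystem S) {A P : Subgroup Ω} (a : A ≃* P) : Prop :=
  ∃ θ ∈ F.Hom (normalizerIn S A), ∀ (x : A) (hN : (x : Ω) ∈ normalizerIn S A), θ ⟨x, hN⟩ = a x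

/-- Some map of the system defined on `N_S(A)` carries `A` onto `P`. -/
def Good (F : FusionSystem S) (P A : Subgroup Ω) : Prop := ∃ a : A ≃* P, NLift F a

theorem NLift.isIso {F : FusionSystem S} {A P : Subgroup Ω} {a : A ≃* P} (h : NLift F a) (hAS : A ≤ S) :
    IsIso F a := by
  obtain ⟨θ, hθ, hθx⟩ := h
  unfold IsIso
  exact mem_of_eq F (restrict_mem F hθ (le_normalizerIn hAS)) (fun x => (hθx x _).symm)

theorem good_self (F : FusionSystem S) {P : Subgroup Ω} (hPS : P ≤ S) : Good F P P :=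
  ⟨MulEquiv.refl P, (normalizerIn S P).subtype, subtype_mem F inf_le_left, fun _ _ => rfl⟩

/-- Restriction of a map of the system to a subgroup, as an isomorphism onto the image. -/
theorem exists_resIso (F : FusionSystem S) {D A : Subgroup Ω} {φ : D →* Ω} (hφ : φ ∈ F.Hom D) (hAD : A ≤ D) :
    ∃ (B : Subgroup Ω) (e : A ≃* B), IsIso F e ∧ ∀ x : A, ((e x : B) : Ω) = φ (Subgroup.inclusion hAD x) :=
  ⟨_, isoOfRange F (restrict_mem F hφ hAD) rfl, isIso_isoOfRange F (restrict_mem F hφ hAD) rfl, fun _ => rfl⟩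

/-- A map of the system carries elements normalizing `A` to elements of `N_S(B)`, `B` the image of `A`. -/
theorem map_mem_normalizerIn (F : FusionSystem S) {D A B : Subgroup Ω} {φ : D →* Ω} (hφ : φ ∈ F.Hom D)
    (hAD : A ≤ D) (e : A ≃* B) (he : ∀ x : A, ((e x : B) : Ω) = φ (Subgroup.inclusion hAD x)) (g : D)
    (hg : (g : Ω) ∈ Subgroup.normalizer (A : Set Ω)) : φ g ∈ normalizerIn S B := by
  obtain ⟨h, -⟩ := conjAut_map φ hAD e (fun x => (he x).symm) g hg
  exact ⟨(F.le_of_mem hφ).2 g, h⟩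

theorem isConj_of_isIso (F : FusionSystem S) {A B : Subgroup Ω} (e : A ≃* B) (he : IsIso F e) : F.IsConj A B :=
  (isConj_iff F A B).mpr ⟨e, he⟩

/-- The inverse of a map of the system, with its defining property on elements. -/
theorem exists_inv_hom (F : FusionSystem S) {D : Subgroup Ω} {φ : D →* Ω} (hφ : φ ∈ F.Hom D) :
    ∃ ψ ∈ F.Hom φ.range, (∀ x : D, ψ ⟨φ x, ⟨x, rfl⟩⟩ = (x : Ω)) ∧ ∀ y : φ.range, φ.range.subtype y = y := by
  obtain ⟨ψ, hψ, hψx⟩ := F.inv_mem hφ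
  exact ⟨ψ, hψ, hψx, fun _ => rfl⟩

theorem good_of_eq (F : FusionSystem S) {P A T : Subgroup Ω} (hT : T = normalizerIn S A) {ρ₁ : T →* Ω}
    (hρ₁ : ρ₁ ∈ F.Hom T) (a₁ : A ≃* P) (hAT : A ≤ T)
    (ha₁ : ∀ x : A, ((a₁ x : P) : Ω) = ρ₁ (Subgroup.inclusion hAT x)) : Good F P A := by
  subst hT
  exact ⟨a₁, ρ₁, hρ₁, fun x hN => (ha₁ x).symm⟩

/-- `N_S^K(T)` for `K` the stabilizer of `A ≤ T` contains `N_{N_S(A)}(T)`. -/
theorem normalizerIn_normalizerIn_le_NK (S : Subgroup Ω) {T A : Subgroup Ω} (hAT : A ≤ T) :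
    normalizerIn (normalizerIn S A) T ≤ NK S T (stb T A) := by
  rintro g ⟨⟨hgS, hgA⟩, hgT⟩
  exact (mem_NK_stb_iff S hAT g).mpr ⟨hgS, hgT, hgA⟩

theorem NK_stb_le_normalizerIn (S : Subgroup Ω) {T A : Subgroup Ω} (hAT : A ≤ T) :
    NK S T (stb T A) ≤ normalizerIn S A := by
  intro g hg
  obtain ⟨hgS, -, hgA⟩ := (mem_NK_stb_iff S hAT g).mp hg
  exact ⟨hgS, hgA⟩

/-- In a finite `p`-group `S`, a proper subgroup `T` of `N_S(A)` containing `A` is properly contained in `N_S^K(T) ⊔ T`. -/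
theorem card_lt_card_NK_sup [Finite S] {p : ℕ} [Fact p.Prime] (hS : IsPGroup p S) {T A : Subgroup Ω} (hAT : A ≤ T)
    (hTN : T ≤ normalizerIn S A) (hne : T ≠ normalizerIn S A) :
    Nat.card T < Nat.card (NK S T (stb T A) ⊔ T : Subgroup Ω) := by
  have hNS : normalizerIn S A ≤ S := inf_le_left
  have hfinN : Finite (normalizerIn S A) := finite_of_le hNS
  have hNp : IsPGroup p (normalizerIn S A) := hS.to_le hNS
  have hlt : T < normalizerIn S A := lt_of_le_of_ne hTN hne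
  have h1 := lt_normalizerIn hNp hlt
  have h2 : normalizerIn (normalizerIn S A) T ≤ NK S T (stb T A) ⊔ T :=
    (normalizerIn_normalizerIn_le_NK S hAT).trans le_sup_left
  have hfin : Finite (NK S T (stb T A) ⊔ T : Subgroup Ω) :=
    finite_of_le (sup_le (NK_le S T _) (hTN.trans hNS))
  have hfin2 : Finite (normalizerIn (normalizerIn S A) T) := finite_of_le (inf_le_left.trans hNS)
  exact lt_of_lt_of_le (card_lt_card_of_lt (K := normalizerIn (normalizerIn S A) T) h1)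
    (Subgroup.card_le_of_le h2)

theorem card_range_eq (F : FusionSystem S) {D : Subgroup Ω} {φ : D →* Ω} (hφ : φ ∈ F.Hom D) :
    Nat.card φ.range = Nat.card D :=
  (Nat.card_congr (MonoidHom.ofInjective (F.injective_of_mem hφ)).toEquiv).symm

/-- Key step: if `ρ` is defined on `T` with `A < T ≤ N_S(A)` and the image of `A` under `ρ` is good, then `A` is good. -/
theorem good_of_good_image [Finite S] {p : ℕ} [Fact p.Prime] (hS : IsPGroup p S) (F : FusionSystem S)
    {P : Subgroup Ω} (hP : F.IsFullyNormalized P)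
    (hbig : ∀ R : Subgroup Ω, R ≤ S → Nat.card P < Nat.card R →
      ∃ Q, F.IsConj R Q ∧ F.IsFullyAutomized p Q ∧ F.IsReceptive Q) :
    ∀ (n : ℕ) (A T : Subgroup Ω) (hAT : A ≤ T), A ≠ T → T ≤ normalizerIn S A → F.IsConj P A →
      ∀ (ρ : T →* Ω), ρ ∈ F.Hom T → ∀ (A₂ : Subgroup Ω) (a₂ : A ≃* A₂),
        (∀ x : A, ((a₂ x : A₂) : Ω) = ρ (Subgroup.inclusion hAT x)) → Good F P A₂ →
        Nat.card S - Nat.card T = n → Good F P A := by
  intro n
  induction n using Nat.strong_induction_on with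
  | _ n ih =>
  intro A T hAT hne hTN hA ρ hρ A₂ a₂ ha₂ hgood hn
  have hPS : P ≤ S := hP.1
  have hTS : T ≤ S := hTN.trans inf_le_left
  have hAS : A ≤ S := hAT.trans hTS
  have hfinT : Finite T := finite_of_le hTS
  have hfinA : Finite A := finite_of_le hAS
  have hA₂S : A₂ ≤ S := by
    intro y hy
    have h1 := ha₂ (a₂.symm ⟨y, hy⟩)
    rw [MulEquiv.apply_symm_apply] at h1
    have h2 := (F.le_of_mem hρ).2 (Subgroup.inclusion hAT (a₂.symm ⟨y, hy⟩))
    rw [← h1] at h2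
    exact h2
  obtain ⟨b, θ, hθ, hθx⟩ := hgood
  have hρN : ∀ t : T, ρ t ∈ normalizerIn S A₂ := fun t =>
    map_mem_normalizerIn F hρ hAT a₂ ha₂ t (hTN t.2).2
  have hθN : ∀ g : normalizerIn S A₂, θ g ∈ normalizerIn S P := fun g =>
    map_mem_normalizerIn F hθ (le_normalizerIn hA₂S) b (fun x => (hθx x _).symm) g g.2.2
  obtain ⟨ρ₁, hρ₁, ha₁, hρ₁N⟩ : ∃ ρ₁ : T →* Ω, ρ₁ ∈ F.Hom T ∧
      (∀ x : A, (((a₂.trans b) x : P) : Ω) = ρ₁ (Subgroup.inclusion hAT x)) ∧
      ∀ t : T, ρ₁ t ∈ normalizerIn S P := by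
    refine ⟨_, F.comp_mem hρ hθ hρN, fun x => ?_, fun t => hθN _⟩
    show ((b (a₂ x) : P) : Ω) = θ ⟨ρ (Subgroup.inclusion hAT x), hρN _⟩
    have h0 : ((a₂ x : A₂) : Ω) ∈ normalizerIn S A₂ := by rw [ha₂]; exact hρN _
    have h1 : (⟨ρ (Subgroup.inclusion hAT x), hρN _⟩ : normalizerIn S A₂) = ⟨(a₂ x : Ω), h0⟩ :=
      Subtype.ext (ha₂ x).symm
    rw [h1, hθx]
  set a₁ : A ≃* P := a₂.trans b with ha₁def
  by_cases hT : T = normalizerIn S A
  · exact good_of_eq F hT hρ₁ a₁ hAT ha₁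
  have hcardAP : Nat.card A = Nat.card P := (card_eq_of_isConj F hA).symm
  have hcardAT : Nat.card A < Nat.card T := card_lt_card_of_lt (lt_of_le_of_ne hAT hne)
  obtain ⟨T₀, hTT₀, hT₀a, hT₀r⟩ := hbig T hTS (by omega)
  obtain ⟨Ts, es, hes, hfkn⟩ := exists_fullyKNormalized F hTS (stb T A)
  have hTsconj : F.IsConj Ts T₀ := isConj_trans F (isConj_symm F (isConj_of_isIso F es hes)) hTT₀
  obtain ⟨hTsr, hTsa⟩ := kpackage hS F hTsconj hT₀a hT₀r _ hfkn
  -- first extension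
  obtain ⟨χ, hχ, ψ, hψ, hψT, hψN⟩ := exists_extension_NK hS F (stb T A) es hes hTsr hTsa
  have hAD : A ≤ NK S T (stb T A) ⊔ T := hAT.trans le_sup_right
  obtain ⟨As, as, has, hasx⟩ := exists_resIso F hψ hAD
  have hasx' : ∀ y : A, ((as y : As) : Ω) = ((es (χ ⟨y, hAT y.2⟩) : Ts) : Ω) := by
    intro y
    rw [hasx]
    exact hψT ⟨y, hAT y.2⟩
  have hχA : ∀ x : T, (x : Ω) ∈ A ↔ ((χ x : T) : Ω) ∈ A := hχ.1
  have hχA' : ∀ x : T, (x : Ω) ∈ A ↔ ((χ⁻¹ x : T) : Ω) ∈ A := (stb T A).inv_mem hχ.1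
  have hAs : ∀ x : T, (x : Ω) ∈ A ↔ ((es x : Ts) : Ω) ∈ As := by
    intro x
    constructor
    · intro hx
      have h1 : ((χ⁻¹ x : T) : Ω) ∈ A := (hχA' x).mp hx
      have h2 := hasx' ⟨_, h1⟩
      have h3 : χ ⟨((χ⁻¹ x : T) : Ω), hAT h1⟩ = x := by
        show χ (χ⁻¹ x) = x
        exact MulAut.apply_inv_self _ _ _
      rw [h3] at h2
      rw [← h2]
      exact (as _).2
    · intro hx
      have h2 := hasx' (as.symm ⟨_, hx⟩)
      rw [MulEquiv.apply_symm_apply] at h2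
      have h3 : es x = es (χ ⟨_, hAT (as.symm ⟨_, hx⟩).2⟩) := Subtype.ext h2
      have h4 := es.injective h3
      rw [h4]
      exact (hχA _).mp (as.symm ⟨_, hx⟩).2
  have htr : tr es (stb T A) = stb Ts As := tr_stb es hAs
  -- the image of `T` in `N_S(P)`
  set U : Subgroup Ω := ρ₁.range with hUdef
  let u : T ≃* U := isoOfRange F hρ₁ rfl
  have hu : IsIso F u := isIso_isoOfRange F hρ₁ rfl
  have hux : ∀ x : T, ((u x : U) : Ω) = ρ₁ x := fun x => rfl
  have hPU : P ≤ U := by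
    intro y hy
    have h1 := ha₁ (a₁.symm ⟨y, hy⟩)
    rw [MulEquiv.apply_symm_apply] at h1
    exact ⟨_, h1.symm⟩
  have hUN : U ≤ normalizerIn S P := by
    rintro _ ⟨t, rfl⟩
    exact hρ₁N t
  have hU : ∀ x : T, (x : Ω) ∈ A ↔ ((u x : U) : Ω) ∈ P := by
    intro x
    rw [hux]
    constructor
    · intro hx
      have h1 := ha₁ ⟨x, hx⟩
      have h2 : Subgroup.inclusion hAT ⟨(x : Ω), hx⟩ = x := Subtype.ext rfl
      rw [h2] at h1
      rw [← h1]
      exact (a₁ _).2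
    · intro hx
      have h1 := ha₁ (a₁.symm ⟨_, hx⟩)
      rw [MulEquiv.apply_symm_apply] at h1
      have h2 := F.injective_of_mem hρ₁ h1
      rw [h2]
      exact (a₁.symm ⟨_, hx⟩).2
  have htrU : tr u (stb T A) = stb U P := tr_stb u hU
  let e' : U ≃* Ts := u.symm.trans es
  have he' : IsIso F e' := hu.symm.trans hes
  have htr' : tr e' (stb U P) = tr es (stb T A) := by
    rw [← htrU, tr_trans]
    congr 1
    ext x
    simp [e']
  have haut' : IsKAutomized F p Ts (tr e' (stb U P)) := by rw [htr']; exact hTsa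
  obtain ⟨χ', hχ', ψ', hψ', hψ'U, hψ'N⟩ := exists_extension_NK hS F (stb U P) e' he' hTsr haut'
  have hPD' : P ≤ NK S U (stb U P) ⊔ U := hPU.trans le_sup_right
  obtain ⟨B', b', hb', hb'x⟩ := exists_resIso F hψ' hPD'
  have hb'x' : ∀ y : P, ((b' y : B') : Ω) = ((es (u.symm (χ' ⟨y, hPU y.2⟩)) : Ts) : Ω) := by
    intro y
    rw [hb'x]
    exact hψ'U ⟨y, hPU y.2⟩
  have hχP : ∀ x : U, (x : Ω) ∈ P ↔ ((χ' x : U) : Ω) ∈ P := hχ'.1
  have hχP' : ∀ x : U, (x : Ω) ∈ P ↔ ((χ'⁻¹ x : U) : Ω) ∈ P := (stb U P).inv_mem hχ'.1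
  have hBA : B' = As := by
    ext z
    constructor
    · intro hz
      have h1 := hb'x' (b'.symm ⟨z, hz⟩)
      rw [MulEquiv.apply_symm_apply] at h1
      have h2 : ((χ' ⟨_, hPU (b'.symm ⟨z, hz⟩).2⟩ : U) : Ω) ∈ P := (hχP _).mp (b'.symm ⟨z, hz⟩).2
      have h3 : ((u.symm (χ' ⟨_, hPU (b'.symm ⟨z, hz⟩).2⟩) : T) : Ω) ∈ A := by
        rw [hU, MulEquiv.apply_symm_apply]
        exact h2
      have h4 := (hAs _).mp h3
      rw [← h1] at h4
      exact h4
    · intro hz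
      have h1 := hasx' (as.symm ⟨z, hz⟩)
      rw [MulEquiv.apply_symm_apply] at h1
      have hxA : ((χ ⟨_, hAT (as.symm ⟨z, hz⟩).2⟩ : T) : Ω) ∈ A := (hχA _).mp (as.symm ⟨z, hz⟩).2
      have huP : ((u (χ ⟨_, hAT (as.symm ⟨z, hz⟩).2⟩) : U) : Ω) ∈ P := (hU _).mp hxA
      have hwP : ((χ'⁻¹ (u (χ ⟨_, hAT (as.symm ⟨z, hz⟩).2⟩)) : U) : Ω) ∈ P := (hχP' _).mp huP
      have h2 := hb'x' ⟨_, hwP⟩
      have h3 : χ' ⟨((χ'⁻¹ (u (χ ⟨_, hAT (as.symm ⟨z, hz⟩).2⟩)) : U) : Ω), hPU hwP⟩ =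
          u (χ ⟨_, hAT (as.symm ⟨z, hz⟩).2⟩) := by
        show χ' (χ'⁻¹ _) = _
        exact MulAut.apply_inv_self _ _ _
      rw [h3, MulEquiv.symm_apply_apply, ← h1] at h2
      show z ∈ B'
      have h5 : z = ((b' ⟨_, hwP⟩ : B') : Ω) := h2.symm
      rw [h5]
      exact (b' _).2
  subst hBA
  -- the triple `(B', ψ'.range, ψ'⁻¹)`
  obtain ⟨ρ₂, hρ₂, hρ₂x, -⟩ := exists_inv_hom F hψ'
  have hD'N : NK S U (stb U P) ⊔ U ≤ normalizerIn S P := sup_le (NK_stb_le_normalizerIn S hPU) hUN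
  have hB'T : B' ≤ ψ'.range := by
    intro z hz
    have h1 := hb'x (b'.symm ⟨z, hz⟩)
    rw [MulEquiv.apply_symm_apply] at h1
    exact ⟨_, h1.symm⟩
  have hT₂N : ψ'.range ≤ normalizerIn S B' := by
    rintro _ ⟨d, rfl⟩
    exact map_mem_normalizerIn F hψ' hPD' b' hb'x d (hD'N d.2).2
  have hrange_le : ψ'.range ≤ S := hT₂N.trans inf_le_left
  have hfinR : Finite ψ'.range := finite_of_le hrange_le
  have hcardR : Nat.card ψ'.range = Nat.card (NK S U (stb U P) ⊔ U : Subgroup Ω) := card_range_eq F hψ'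
  have hcardU : Nat.card U = Nat.card T := (Nat.card_congr u.toEquiv).symm
  have hcardB : Nat.card B' = Nat.card P := (Nat.card_congr b'.toEquiv).symm
  have hNAfin : Finite (normalizerIn S A) := finite_of_le inf_le_left
  have hUne : U ≠ normalizerIn S P := by
    intro h
    have h1 := hP.2 A hA
    have h2 : Nat.card T < Nat.card (normalizerIn S A) := card_lt_card_of_lt (lt_of_le_of_ne hTN hT)
    rw [← h, hcardU] at h1
    omega
  have hlt1 := card_lt_card_NK_sup hS hPU hUN hUne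
  have hleS : Nat.card ψ'.range ≤ Nat.card S := Subgroup.card_le_of_le hrange_le
  have hne₂ : B' ≠ ψ'.range := by
    intro h
    rw [← h, hcardB] at hcardR
    omega
  have hb'symm : ∀ z : B', ((b'.symm z : P) : Ω) = ρ₂ (Subgroup.inclusion hB'T z) := by
    intro z
    have h1 := hb'x (b'.symm z)
    rw [MulEquiv.apply_symm_apply] at h1
    have h2 : Subgroup.inclusion hB'T z = ⟨ψ' (Subgroup.inclusion hPD' (b'.symm z)), ⟨_, rfl⟩⟩ :=
      Subtype.ext h1
    rw [h2, hρ₂x]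
    rfl
  have hgoodB : Good F P B' :=
    ih (Nat.card S - Nat.card ψ'.range) (by omega) B' ψ'.range hB'T hne₂ hT₂N (isConj_of_isIso F b' hb')
      ρ₂ hρ₂ P b'.symm hb'symm (good_self F hPS) rfl
  -- the triple `(A, N_S^K(T) T, ψ)`
  have hlt2 := card_lt_card_NK_sup hS hAT hTN hT
  have hD_le : NK S T (stb T A) ⊔ T ≤ normalizerIn S A := sup_le (NK_stb_le_normalizerIn S hAT) hTN
  have hD_S : NK S T (stb T A) ⊔ T ≤ S := hD_le.trans inf_le_left
  have hfinD : Finite (NK S T (stb T A) ⊔ T : Subgroup Ω) := finite_of_le hD_S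
  have hleS2 : Nat.card (NK S T (stb T A) ⊔ T : Subgroup Ω) ≤ Nat.card S := Subgroup.card_le_of_le hD_S
  have hne₃ : A ≠ NK S T (stb T A) ⊔ T := by
    intro h
    rw [← h] at hlt2
    omega
  exact ih (Nat.card S - Nat.card (NK S T (stb T A) ⊔ T : Subgroup Ω)) (by omega) A _ hAD hne₃ hD_le hA
    ψ hψ B' as hasx hgoodB rfl

/-- Step 1: every member of the class is good. -/
theorem all_good [Finite S] {p : ℕ} [Fact p.Prime] (hS : IsPGroup p S) (F : FusionSystem S)
    (ℋ : Set (Subgroup Ω)) (hgen : ∀ E : FusionSystem S, (∀ P ∈ ℋ, F.Hom P ⊆ E.Hom P) → F ≤ E)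
    {P : Subgroup Ω} (hP : F.IsFullyNormalized P) (hPS : P < S) (hPℋ : ∀ A, F.IsConj P A → A ∉ ℋ)
    (hbig : ∀ R : Subgroup Ω, R ≤ S → Nat.card P < Nat.card R →
      ∃ Q, F.IsConj R Q ∧ F.IsFullyAutomized p Q ∧ F.IsReceptive Q) :
    ∀ A, F.IsConj P A → Good F P A := by
  have key := gen_principle F ℋ hgen P hPS hPℋ (fun A B _ => Good F P A ↔ Good F P B)
    (fun A B D e f _ _ _ h1 h2 => h1.trans h2) (fun A B e _ _ h => h.symm) (by
      intro R φ hφ A hAR hne hA B e he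
      have hRS : R ≤ S := (F.le_of_mem hφ).1
      have hfinR : Finite R := finite_of_le hRS
      have hRp : IsPGroup p R := hS.to_le hRS
      have hAS : A ≤ S := hAR.trans hRS
      have hfinA : Finite A := finite_of_le hAS
      have hlt := lt_normalizerIn hRp (lt_of_le_of_ne hAR hne)
      have hT₀R : normalizerIn R A ≤ R := inf_le_left
      have hAT₀ : A ≤ normalizerIn R A := le_normalizerIn hAR
      have hT₀N : normalizerIn R A ≤ normalizerIn S A := inf_le_inf_right _ hRS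
      have hφ₀ : φ.comp (Subgroup.inclusion hT₀R) ∈ F.Hom (normalizerIn R A) := restrict_mem F hφ hT₀R
      have he' : ∀ x : A, ((e x : B) : Ω) = (φ.comp (Subgroup.inclusion hT₀R)) (Subgroup.inclusion hAT₀ x) :=
        fun x => he x
      have hfinT₀ : Finite (normalizerIn R A) := finite_of_le (hT₀R.trans hRS)
      constructor
      · intro hgoodA
        obtain ⟨ρ, hρ, hρx, -⟩ := exists_inv_hom F hφ₀
        have hBT : B ≤ (φ.comp (Subgroup.inclusion hT₀R)).range := by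
          intro z hz
          have h1 := he' (e.symm ⟨z, hz⟩)
          rw [MulEquiv.apply_symm_apply] at h1
          exact ⟨_, h1.symm⟩
        have hTN : (φ.comp (Subgroup.inclusion hT₀R)).range ≤ normalizerIn S B := by
          rintro _ ⟨d, rfl⟩
          exact map_mem_normalizerIn F hφ₀ hAT₀ e he' d d.2.2
        have heiso : IsIso F e := by
          unfold IsIso
          exact mem_of_eq F (restrict_mem F hφ hAR) (fun x => he x)
        have hcard1 : Nat.card (φ.comp (Subgroup.inclusion hT₀R)).range = Nat.card (normalizerIn R A) :=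
          card_range_eq F hφ₀
        have hcard2 : Nat.card B = Nat.card A := (Nat.card_congr e.toEquiv).symm
        have hcard3 : Nat.card A < Nat.card (normalizerIn R A) := card_lt_card_of_lt hlt
        have hneB : B ≠ (φ.comp (Subgroup.inclusion hT₀R)).range := by
          intro h
          rw [← h] at hcard1
          omega
        have hsymm : ∀ z : B, ((e.symm z : A) : Ω) = ρ (Subgroup.inclusion hBT z) := by
          intro z
          have h1 := he' (e.symm z)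
          rw [MulEquiv.apply_symm_apply] at h1
          have h2 : Subgroup.inclusion hBT z =
              ⟨(φ.comp (Subgroup.inclusion hT₀R)) (Subgroup.inclusion hAT₀ (e.symm z)), ⟨_, rfl⟩⟩ :=
            Subtype.ext h1
          rw [h2, hρx]
          rfl
        exact good_of_good_image hS F hP hbig _ B _ hBT hneB hTN (isConj_trans F hA (isConj_of_isIso F e heiso))
          ρ hρ A e.symm hsymm hgoodA rfl
      · intro hgoodB
        exact good_of_good_image hS F hP hbig _ A _ hAT₀ (ne_of_lt hlt) hT₀N hA _ hφ₀ B e he' hgoodB rfl)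
  intro A hA
  obtain ⟨e, he⟩ := (isConj_iff F P A).mp hA
  exact (key P A e (isConj_refl F hP.1) he).mp (good_self F hP.1)

end Cfsg.Agent.Helper84
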