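-- helper84: shared definitions for S5320 (the 2-fusion system of PSp_4(q), q odd, is simple): the subgroup
-- (SL_2 x SL_2) <w> of Sp_4, and the candidate Sylow 2-subgroup.
import Mathlib
import Cfsg.Agent.S0246

set_option autoImplicit false

namespace Cfsg.Agent.Helper84.Sp4F

open Matrix

variable {F : Type*} [Field F]

/-- the matrix of `a ⊕ b` on `V = V₁ ⊥ V₂`, `V₁ = ⟨e₀, f₀⟩`, `V₂ = ⟨e₁, f₁⟩` -/
def iotaM (a b : Matrix (Fin 2) (Fin 2) F) : Matrix (Fin 2 ⊕ Fin 2) (Fin 2 ⊕ Fin 2) F :=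
  Matrix.fromBlocks (Matrix.diagonal ![a 0 0, b 0 0]) (Matrix.diagonal ![a 0 1, b 0 1])
    (Matrix.diagonal ![a 1 0, b 1 0]) (Matrix.diagonal ![a 1 1, b 1 1])

theorem diagonal_two_mul (p q r s : F) :
    (Matrix.diagonal ![p, q] : Matrix (Fin 2) (Fin 2) F) * Matrix.diagonal ![r, s] = Matrix.diagonal ![p * r, q * s] := by
  rw [Matrix.diagonal_mul_diagonal]
  congr 1
  ext i
  fin_cases i <;> rfl

theorem diagonal_two_add (p q r s : F) :
    (Matrix.diagonal ![p, q] : Matrix (Fin 2) (Fin 2) F) + Matrix.diagonal ![r, s] = Matrix.diagonal ![p + r, q + s] := by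
  rw [Matrix.diagonal_add]
  congr 1
  ext i
  fin_cases i <;> rfl

theorem iotaM_mul (a b a' b' : Matrix (Fin 2) (Fin 2) F) :
    iotaM a b * iotaM a' b' = iotaM (a * a') (b * b') := by
  unfold iotaM
  rw [Matrix.fromBlocks_multiply]
  simp only [diagonal_two_mul, diagonal_two_add, Matrix.mul_apply, Fin.sum_univ_two]

theorem iotaM_one : iotaM (1 : Matrix (Fin 2) (Fin 2) F) 1 = 1 := by
  unfold iotaM
  rw [← Matrix.fromBlocks_one]
  congr 1 <;> ext i j <;> fin_cases i <;> fin_cases j <;> simp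

theorem iotaM_mem (a b : Matrix (Fin 2) (Fin 2) F) (ha : a.det = 1) (hb : b.det = 1) :
    iotaM a b ∈ Matrix.symplecticGroup (Fin 2) F := by
  rw [SymplecticGroup.mem_iff]
  rw [Matrix.det_fin_two] at ha hb
  ext i j
  rcases i with i | i <;> rcases j with j | j <;> fin_cases i <;> fin_cases j <;>
    simp [Matrix.mul_apply, Fintype.sum_sum_type, Fin.sum_univ_two, iotaM, Matrix.J, Matrix.diagonal_apply,
      Matrix.one_apply] <;>
    first
      | ring1
      | linear_combination ha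
      | linear_combination (-1 : F) * ha
      | linear_combination hb
      | linear_combination (-1 : F) * hb

theorem iotaM_injective {a b a' b' : Matrix (Fin 2) (Fin 2) F} (h : iotaM a b = iotaM a' b') :
    a = a' ∧ b = b' := by
  unfold iotaM at h
  rw [Matrix.fromBlocks_inj] at h
  obtain ⟨h1, h2, h3, h4⟩ := h
  have e := fun (M N : Matrix (Fin 2) (Fin 2) F) (h : M = N) (i : Fin 2) => congrFun (congrFun h i) i
  constructor
  · ext i j
    fin_cases i <;> fin_cases j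
    · simpa using e _ _ h1 0
    · simpa using e _ _ h2 0
    · simpa using e _ _ h3 0
    · simpa using e _ _ h4 0
  · ext i j
    fin_cases i <;> fin_cases j
    · simpa using e _ _ h1 1
    · simpa using e _ _ h2 1
    · simpa using e _ _ h3 1
    · simpa using e _ _ h4 1

/-- the embedding `SL_2 × SL_2 → Sp_4` -/
def iota : Matrix.SpecialLinearGroup (Fin 2) F × Matrix.SpecialLinearGroup (Fin 2) F →*
    Matrix.symplecticGroup (Fin 2) F where
  toFun p := ⟨iotaM p.1.1 p.2.1, iotaM_mem _ _ p.1.2 p.2.2⟩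
  map_one' := Subtype.ext iotaM_one
  map_mul' p p' := Subtype.ext (by
    show iotaM (p.1.1 * p'.1.1) (p.2.1 * p'.2.1) = iotaM p.1.1 p.2.1 * iotaM p'.1.1 p'.2.1
    rw [iotaM_mul])

@[simp] theorem iota_val (p : Matrix.SpecialLinearGroup (Fin 2) F × Matrix.SpecialLinearGroup (Fin 2) F) :
    ((iota p : Matrix.symplecticGroup (Fin 2) F) : Matrix (Fin 2 ⊕ Fin 2) (Fin 2 ⊕ Fin 2) F) =
      iotaM p.1.1 p.2.1 := rfl

theorem iota_injective : Function.Injective (iota (F := F)) := by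
  intro p p' h
  have h1 := congrArg Subtype.val h
  rw [iota_val, iota_val] at h1
  obtain ⟨e1, e2⟩ := iotaM_injective h1
  exact Prod.ext (Subtype.ext e1) (Subtype.ext e2)

/-- the swap of `V₁` and `V₂` -/
def wM : Matrix (Fin 2 ⊕ Fin 2) (Fin 2 ⊕ Fin 2) F :=
  Matrix.fromBlocks !![0, 1; 1, 0] 0 0 !![0, 1; 1, 0]

theorem wM_mul_self : (wM : Matrix (Fin 2 ⊕ Fin 2) (Fin 2 ⊕ Fin 2) F) * wM = 1 := by
  ext i j
  rcases i with i | i <;> rcases j with j | j <;> fin_cases i <;> fin_cases j <;>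
    simp [Matrix.mul_apply, Fintype.sum_sum_type, Fin.sum_univ_two, wM, Matrix.one_apply]

theorem wM_mem : (wM : Matrix (Fin 2 ⊕ Fin 2) (Fin 2 ⊕ Fin 2) F) ∈ Matrix.symplecticGroup (Fin 2) F := by
  rw [SymplecticGroup.mem_iff]
  ext i j
  rcases i with i | i <;> rcases j with j | j <;> fin_cases i <;> fin_cases j <;>
    simp [Matrix.mul_apply, Fintype.sum_sum_type, Fin.sum_univ_two, wM, Matrix.J, Matrix.one_apply]

/-- the swap as an element of `Sp_4` -/
def wS : Matrix.symplecticGroup (Fin 2) F := ⟨wM, wM_mem⟩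

@[simp] theorem wS_val : ((wS : Matrix.symplecticGroup (Fin 2) F) : Matrix (Fin 2 ⊕ Fin 2) (Fin 2 ⊕ Fin 2) F) = wM := rfl

theorem wS_mul_self : (wS : Matrix.symplecticGroup (Fin 2) F) * wS = 1 := Subtype.ext wM_mul_self

theorem wS_inv : (wS : Matrix.symplecticGroup (Fin 2) F)⁻¹ = wS := inv_eq_of_mul_eq_one_right wS_mul_self

theorem wM_mul_iotaM (a b : Matrix (Fin 2) (Fin 2) F) : wM * iotaM a b = iotaM b a * wM := by
  ext i j
  rcases i with i | i <;> rcases j with j | j <;> fin_cases i <;> fin_cases j <;>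
    simp [Matrix.mul_apply, Fintype.sum_sum_type, Fin.sum_univ_two, wM, iotaM, Matrix.diagonal_apply]

theorem wS_mul_iota (a b : Matrix.SpecialLinearGroup (Fin 2) F) : wS * iota (a, b) = iota (b, a) * wS :=
  Subtype.ext (wM_mul_iotaM a.1 b.1)

theorem wS_conj (a b : Matrix.SpecialLinearGroup (Fin 2) F) : wS * iota (a, b) * wS⁻¹ = iota (b, a) := by
  rw [wS_mul_iota, mul_assoc, mul_inv_cancel, mul_one]

theorem wS_not_mem_range : (wS : Matrix.symplecticGroup (Fin 2) F) ∉ (iota (F := F)).range := by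
  rintro ⟨p, hp⟩
  have h1 := congrArg (fun g : Matrix.symplecticGroup (Fin 2) F =>
    (g : Matrix (Fin 2 ⊕ Fin 2) (Fin 2 ⊕ Fin 2) F) (Sum.inl 0) (Sum.inl 1)) hp
  simp [iotaM, wM] at h1

/-- `-1` in `SL_2` -/
def negOne2 : Matrix.SpecialLinearGroup (Fin 2) F := ⟨-1, by rw [Matrix.det_neg, Matrix.det_one]; simp⟩

@[simp] theorem negOne2_val : ((negOne2 : Matrix.SpecialLinearGroup (Fin 2) F) : Matrix (Fin 2) (Fin 2) F) = -1 := rfl

/-- the involution `t = (-1) ⊕ 1` -/
def tS : Matrix.symplecticGroup (Fin 2) F := iota (negOne2, 1)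

/-- `-1` in `Sp_4` -/
def negS : Matrix.symplecticGroup (Fin 2) F := Cfsg.Agent.S0246.negOne 2 F

theorem iota_negOne2 : iota ((negOne2, negOne2) : Matrix.SpecialLinearGroup (Fin 2) F × Matrix.SpecialLinearGroup (Fin 2) F) = negS := by
  apply Subtype.ext
  show iotaM (-1) (-1) = -1
  ext i j
  rcases i with i | i <;> rcases j with j | j <;> fin_cases i <;> fin_cases j <;>
    simp [iotaM, Matrix.diagonal_apply, Matrix.one_apply]

/-- the centre `{1, -1}` of `Sp_4` as a subgroup -/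
def Zs : Subgroup (Matrix.symplecticGroup (Fin 2) F) := Subgroup.center (Matrix.symplecticGroup (Fin 2) F)

theorem mem_Zs_iff (z : Matrix.symplecticGroup (Fin 2) F) : z ∈ (Zs : Subgroup (Matrix.symplecticGroup (Fin 2) F)) ↔ z = 1 ∨ z = negS :=
  Cfsg.Agent.S0246.mem_center_iff (by norm_num) z


/-! ### quaternion elements of `SL_2` -/

/-- `i = [[0,-1],[1,0]]` -/
def qi : Matrix.SpecialLinearGroup (Fin 2) F := ⟨!![0, -1; 1, 0], by simp [Matrix.det_fin_two]⟩

/-- `j = [[x,y],[y,-x]]` with `x² + y² = -1` -/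
def qj (x y : F) (hxy : x ^ 2 + y ^ 2 = -1) : Matrix.SpecialLinearGroup (Fin 2) F :=
  ⟨!![x, y; y, -x], by rw [Matrix.det_fin_two]; simp; linear_combination (-1 : F) * hxy⟩

/-- `c = (-1 - i + j + ij)/2`, of order `3`, normalizing `⟨i, j⟩` -/
def qc (x y : F) (hxy : x ^ 2 + y ^ 2 = -1) (h2 : (2 : F) ≠ 0) : Matrix.SpecialLinearGroup (Fin 2) F :=
  ⟨!![(-1 + x - y) / 2, (1 + x + y) / 2; (-1 + x + y) / 2, (-1 - x + y) / 2], by
    rw [Matrix.det_fin_two]
    simp
    field_simp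
    linear_combination (-2 : F) * hxy⟩

@[simp] theorem qi_val : ((qi : Matrix.SpecialLinearGroup (Fin 2) F) : Matrix (Fin 2) (Fin 2) F) = !![0, -1; 1, 0] := rfl

@[simp] theorem qj_val (x y : F) (hxy : x ^ 2 + y ^ 2 = -1) :
    ((qj x y hxy : Matrix.SpecialLinearGroup (Fin 2) F) : Matrix (Fin 2) (Fin 2) F) = !![x, y; y, -x] := rfl

@[simp] theorem qc_val (x y : F) (hxy : x ^ 2 + y ^ 2 = -1) (h2 : (2 : F) ≠ 0) :
    ((qc x y hxy h2 : Matrix.SpecialLinearGroup (Fin 2) F) : Matrix (Fin 2) (Fin 2) F) =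
      !![(-1 + x - y) / 2, (1 + x + y) / 2; (-1 + x + y) / 2, (-1 - x + y) / 2] := rfl

theorem qi_mul_self : (qi : Matrix.SpecialLinearGroup (Fin 2) F) * qi = negOne2 := by
  apply Subtype.ext
  ext i j
  fin_cases i <;> fin_cases j <;> simp [Matrix.mul_apply, Fin.sum_univ_two]

theorem qj_mul_self (x y : F) (hxy : x ^ 2 + y ^ 2 = -1) : qj x y hxy * qj x y hxy = negOne2 := by
  apply Subtype.ext
  ext i j
  fin_cases i <;> fin_cases j <;> simp [Matrix.mul_apply, Fin.sum_univ_two] <;>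
    first | ring1 | linear_combination hxy

theorem qi_mul_qj (x y : F) (hxy : x ^ 2 + y ^ 2 = -1) : qi * qj x y hxy = negOne2 * (qj x y hxy * qi) := by
  apply Subtype.ext
  ext i j
  fin_cases i <;> fin_cases j <;> simp [Matrix.mul_apply, Fin.sum_univ_two]

theorem negOne2_mul_self : (negOne2 : Matrix.SpecialLinearGroup (Fin 2) F) * negOne2 = 1 := by
  apply Subtype.ext
  simp

theorem negOne2_comm (a : Matrix.SpecialLinearGroup (Fin 2) F) : negOne2 * a = a * negOne2 := by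
  apply Subtype.ext
  simp

/-- the extraspecial subgroup `E = 2^{1+4}_-` of `Sp_4` -/
def Esub (x y : F) (hxy : x ^ 2 + y ^ 2 = -1) : Subgroup (Matrix.symplecticGroup (Fin 2) F) :=
  Subgroup.closure {iota (qi, qi), iota (qj x y hxy, qj x y hxy), tS, wS}

/-- the candidate Sylow `2`-subgroup `(Q × Q)⟨w⟩` of `Sp_4` -/
def Stil (Q : Subgroup (Matrix.SpecialLinearGroup (Fin 2) F)) : Subgroup (Matrix.symplecticGroup (Fin 2) F) :=
  (Q.prod Q).map iota ⊔ Subgroup.zpowers wS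

theorem iota_mem_Stil {Q : Subgroup (Matrix.SpecialLinearGroup (Fin 2) F)} {a b : Matrix.SpecialLinearGroup (Fin 2) F}
    (ha : a ∈ Q) (hb : b ∈ Q) : iota (a, b) ∈ Stil Q :=
  (le_sup_left : (Q.prod Q).map iota ≤ Stil Q) (Subgroup.mem_map_of_mem _ (Subgroup.mem_prod.mpr ⟨ha, hb⟩))

theorem wS_mem_Stil (Q : Subgroup (Matrix.SpecialLinearGroup (Fin 2) F)) : wS ∈ Stil Q :=
  (le_sup_right : Subgroup.zpowers wS ≤ Stil Q) (Subgroup.mem_zpowers _)

theorem mem_Stil_iff (Q : Subgroup (Matrix.SpecialLinearGroup (Fin 2) F)) (s : Matrix.symplecticGroup (Fin 2) F) :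
    s ∈ Stil Q ↔ ∃ a ∈ Q, ∃ b ∈ Q, s = iota (a, b) ∨ s = iota (a, b) * wS := by
  constructor
  · intro hs
    -- the set of such elements is a subgroup
    let K : Subgroup (Matrix.symplecticGroup (Fin 2) F) :=
      { carrier := {s | ∃ a ∈ Q, ∃ b ∈ Q, s = iota (a, b) ∨ s = iota (a, b) * wS}
        one_mem' := ⟨1, one_mem Q, 1, one_mem Q, Or.inl (map_one iota).symm⟩
        mul_mem' := by
          rintro s s' ⟨a, ha, b, hb, h⟩ ⟨a', ha', b', hb', h'⟩
          rcases h with rfl | rfl <;> rcases h' with rfl | rfl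
          · exact ⟨a * a', mul_mem ha ha', b * b', mul_mem hb hb', Or.inl (by rw [← map_mul]; rfl)⟩
          · refine ⟨a * a', mul_mem ha ha', b * b', mul_mem hb hb', Or.inr ?_⟩
            rw [← mul_assoc, ← map_mul]; rfl
          · refine ⟨a * b', mul_mem ha hb', b * a', mul_mem hb ha', Or.inr ?_⟩
            rw [mul_assoc, wS_mul_iota, ← mul_assoc, ← map_mul]; rfl
          · refine ⟨a * b', mul_mem ha hb', b * a', mul_mem hb ha', Or.inl ?_⟩
            rw [mul_assoc, ← mul_assoc wS, wS_mul_iota, mul_assoc, wS_mul_self, mul_one, ← map_mul]; rfl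
        inv_mem' := by
          rintro s ⟨a, ha, b, hb, h⟩
          rcases h with rfl | rfl
          · exact ⟨a⁻¹, inv_mem ha, b⁻¹, inv_mem hb, Or.inl (by rw [← map_inv]; rfl)⟩
          · refine ⟨b⁻¹, inv_mem hb, a⁻¹, inv_mem ha, Or.inr ?_⟩
            rw [_root_.mul_inv_rev, wS_inv, ← map_inv]
            show wS * iota (a⁻¹, b⁻¹) = iota (b⁻¹, a⁻¹) * wS
            rw [wS_mul_iota] }
    have hle : Stil Q ≤ K := by
      unfold Stil
      rw [sup_le_iff]
      constructor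
      · rintro _ ⟨⟨a, b⟩, hab, rfl⟩
        obtain ⟨ha, hb⟩ := Subgroup.mem_prod.mp hab
        exact ⟨a, ha, b, hb, Or.inl rfl⟩
      · rw [Subgroup.zpowers_le]
        exact ⟨1, one_mem Q, 1, one_mem Q, Or.inr (by rw [show ((1, 1) : Matrix.SpecialLinearGroup (Fin 2) F × Matrix.SpecialLinearGroup (Fin 2) F) = 1 from rfl, map_one, one_mul])⟩
    exact hle hs
  · rintro ⟨a, ha, b, hb, rfl | rfl⟩
    · exact iota_mem_Stil ha hb
    · exact mul_mem (iota_mem_Stil ha hb) (wS_mem_Stil Q)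

end Cfsg.Agent.Helper84.Sp4F
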