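import Mathlib
set_option autoImplicit false

/-! # A counting lemma for a normal subgroup acted on semiregularly, on a module of prime exponent -/

namespace Cfsg.Agent.Helper84

section counting

variable {M : Type*} [CommGroup M] {A : Type*} [Group A] (ρ : A →* MulAut M) (L : Subgroup A) [Fintype L]

/-- The sum of the translates of `b` under `L` (written multiplicatively). -/
def eSum (b : M) : M := ∏ ℓ : L, ρ (ℓ : A) b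

theorem eSum_mul (b c : M) : eSum ρ L (b * c) = eSum ρ L b * eSum ρ L c := by
  unfold eSum
  rw [← Finset.prod_mul_distrib]
  exact Finset.prod_congr rfl (fun ℓ _ => map_mul _ _ _)

theorem eSum_one : eSum ρ L (1 : M) = 1 := by
  unfold eSum
  exact Finset.prod_eq_one (fun ℓ _ => map_one _)

theorem eSum_inv (b : M) : eSum ρ L b⁻¹ = (eSum ρ L b)⁻¹ := by
  rw [eq_inv_iff_mul_eq_one, ← eSum_mul, inv_mul_cancel, eSum_one]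

theorem eSum_pow (b : M) (n : ℕ) : eSum ρ L (b ^ n) = (eSum ρ L b) ^ n := by
  induction n with
  | zero => simp [eSum_one]
  | succ n ih => rw [pow_succ, pow_succ, eSum_mul, ih]

/-- `e (ℓ b) = e b`. -/
theorem eSum_smul (m : L) (b : M) : eSum ρ L (ρ (m : A) b) = eSum ρ L b := by
  unfold eSum
  refine Fintype.prod_equiv (Equiv.mulRight m) _ _ (fun ℓ => ?_)
  show ρ (ℓ : A) (ρ (m : A) b) = ρ ((ℓ * m : L) : A) b
  rw [Subgroup.coe_mul, map_mul, MulAut.mul_apply]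

/-- `ℓ (e b) = e b`. -/
theorem smul_eSum (m : L) (b : M) : ρ (m : A) (eSum ρ L b) = eSum ρ L b := by
  unfold eSum
  rw [map_prod]
  refine Fintype.prod_equiv (Equiv.mulLeft m) _ _ (fun ℓ => ?_)
  show ρ (m : A) (ρ (ℓ : A) b) = ρ ((m * ℓ : L) : A) b
  rw [Subgroup.coe_mul, map_mul, MulAut.mul_apply]

/-- Elements normalizing `L` commute with `e`. -/
theorem conj_eSum (y : A) (hy : ∀ ℓ : A, ℓ ∈ L ↔ y * ℓ * y⁻¹ ∈ L) (b : M) :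
    ρ y (eSum ρ L b) = eSum ρ L (ρ y b) := by
  unfold eSum
  rw [map_prod]
  let f : L ≃ L :=
    { toFun := fun ℓ => ⟨y * ℓ * y⁻¹, (hy ℓ).mp ℓ.2⟩
      invFun := fun ℓ => ⟨y⁻¹ * ℓ * y, (hy _).mpr (by
        have : y * (y⁻¹ * (ℓ : A) * y) * y⁻¹ = ℓ := by group
        rw [this]; exact ℓ.2)⟩
      left_inv := fun ℓ => Subtype.ext (by show y⁻¹ * (y * (ℓ : A) * y⁻¹) * y = ℓ; group)
      right_inv := fun ℓ => Subtype.ext (by show y * (y⁻¹ * (ℓ : A) * y) * y⁻¹ = ℓ; group) }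
  refine Fintype.prod_equiv f _ _ (fun ℓ => ?_)
  show ρ y (ρ (ℓ : A) b) = ρ (y * (ℓ : A) * y⁻¹) (ρ y b)
  rw [← MulAut.mul_apply, ← MulAut.mul_apply, ← map_mul, ← map_mul]
  congr 2
  group

/-- The twisted projection `b ↦ b^{|L|} (e b)⁻¹`. -/
def piProj (b : M) : M := b ^ Fintype.card L * (eSum ρ L b)⁻¹

theorem piProj_mul (b c : M) : piProj ρ L (b * c) = piProj ρ L b * piProj ρ L c := by
  unfold piProj
  rw [mul_pow, eSum_mul, mul_inv]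
  exact mul_mul_mul_comm _ _ _ _

theorem eSum_eSum (b : M) : eSum ρ L (eSum ρ L b) = (eSum ρ L b) ^ Fintype.card L := by
  have h : eSum ρ L (eSum ρ L b) = ∏ ℓ : L, ρ (ℓ : A) (eSum ρ L b) := rfl
  rw [h, Finset.prod_congr rfl (fun ℓ _ => smul_eSum ρ L ℓ b)]
  simp

theorem eSum_piProj (b : M) : eSum ρ L (piProj ρ L b) = 1 := by
  unfold piProj
  rw [eSum_mul, eSum_inv, eSum_pow, eSum_eSum, mul_inv_cancel]

theorem piProj_piProj (b : M) : piProj ρ L (piProj ρ L b) = (piProj ρ L b) ^ Fintype.card L := by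
  have h : piProj ρ L (piProj ρ L b) =
      (piProj ρ L b) ^ Fintype.card L * (eSum ρ L (piProj ρ L b))⁻¹ := rfl
  rw [h, eSum_piProj, inv_one, mul_one]

theorem conj_piProj (y : A) (hy : ∀ ℓ : A, ℓ ∈ L ↔ y * ℓ * y⁻¹ ∈ L) (b : M) :
    ρ y (piProj ρ L b) = piProj ρ L (ρ y b) := by
  unfold piProj
  rw [map_mul, map_pow, map_inv, conj_eSum ρ L y hy]

theorem smul_piProj (m : L) (b : M) : ρ (m : A) (piProj ρ L b) = piProj ρ L (ρ (m : A) b) := by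
  unfold piProj
  rw [map_mul, map_pow, map_inv, smul_eSum, eSum_smul]

/-- The counting lemma. -/
theorem piProj_pow_eq_one {ι : Type*} [Fintype ι] [DecidableEq ι] (σ : ι → A)
    (hσ : ∀ i, ∀ ℓ : A, ℓ ∈ L ↔ σ i * ℓ * (σ i)⁻¹ ∈ L)
    (hN : ∀ b : M, ∏ i, ρ (σ i)⁻¹ (piProj ρ L b) = 1) (i₀ : ι)
    (h₀ : ∀ ℓ : L, ρ ((ℓ : A)⁻¹ * (σ i₀)⁻¹ * ℓ) = 1)
    (hfree : ∀ i, i ≠ i₀ → ∀ ℓ : A, ℓ ∈ L → σ i * ℓ = ℓ * σ i → ℓ = 1) (b : M) :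
    (piProj ρ L b) ^ Fintype.card L = 1 := by
  have hP : ∏ ℓ : L, ρ (ℓ : A)⁻¹ (∏ i, ρ (σ i)⁻¹ (ρ (ℓ : A) (piProj ρ L b))) = 1 := by
    refine Finset.prod_eq_one (fun ℓ _ => ?_)
    rw [Finset.prod_congr rfl (fun i _ => by rw [smul_piProj ρ L ℓ b]), hN, map_one]
  have hP2 : ∏ ℓ : L, ρ (ℓ : A)⁻¹ (∏ i, ρ (σ i)⁻¹ (ρ (ℓ : A) (piProj ρ L b))) =
      ∏ i, ∏ ℓ : L, ρ ((ℓ : A)⁻¹ * (σ i)⁻¹ * ℓ) (piProj ρ L b) := by
    rw [Finset.prod_comm]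
    refine Finset.prod_congr rfl (fun ℓ _ => ?_)
    rw [map_prod]
    refine Finset.prod_congr rfl (fun i _ => ?_)
    rw [map_mul, map_mul, MulAut.mul_apply, MulAut.mul_apply]
  rw [hP2] at hP
  rw [Fintype.prod_eq_single i₀] at hP
  · rw [← hP]
    rw [Finset.prod_congr rfl (fun ℓ _ => by rw [h₀ ℓ, MulAut.one_apply])]
    simp
  · intro i hi
    -- the bijection `ℓ ↦ ℓ⁻¹ σ⁻¹ ℓ σ`
    have hmem : ∀ ℓ : L, (ℓ : A)⁻¹ * ((σ i)⁻¹ * ℓ * σ i) ∈ L := by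
      intro ℓ
      refine L.mul_mem (L.inv_mem ℓ.2) ((hσ i _).mpr ?_)
      have : σ i * ((σ i)⁻¹ * (ℓ : A) * σ i) * (σ i)⁻¹ = ℓ := by group
      rw [this]; exact ℓ.2
    have hinj : Function.Injective (fun ℓ : L => (⟨_, hmem ℓ⟩ : L)) := by
      intro ℓ ℓ' h
      have h1 : (ℓ : A)⁻¹ * ((σ i)⁻¹ * ℓ * σ i) = (ℓ' : A)⁻¹ * ((σ i)⁻¹ * ℓ' * σ i) := congrArg Subtype.val h
      have h2 : σ i * ((ℓ' : A) * (ℓ : A)⁻¹) = ((ℓ' : A) * (ℓ : A)⁻¹) * σ i := by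
        have h3 : (ℓ' : A) * (ℓ : A)⁻¹ * (σ i)⁻¹ = (σ i)⁻¹ * ((ℓ' : A) * (ℓ : A)⁻¹) := by
          calc (ℓ' : A) * (ℓ : A)⁻¹ * (σ i)⁻¹
              = ℓ' * ((ℓ : A)⁻¹ * ((σ i)⁻¹ * ℓ * σ i)) * ((σ i)⁻¹ * (ℓ : A)⁻¹) := by group
            _ = ℓ' * ((ℓ' : A)⁻¹ * ((σ i)⁻¹ * ℓ' * σ i)) * ((σ i)⁻¹ * (ℓ : A)⁻¹) := by rw [h1]
            _ = (σ i)⁻¹ * ((ℓ' : A) * (ℓ : A)⁻¹) := by group
        calc σ i * ((ℓ' : A) * (ℓ : A)⁻¹) = σ i * ((ℓ' : A) * (ℓ : A)⁻¹ * (σ i)⁻¹) * σ i := by group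
          _ = σ i * ((σ i)⁻¹ * ((ℓ' : A) * (ℓ : A)⁻¹)) * σ i := by rw [h3]
          _ = _ := by group
      have h4 := hfree i hi _ (L.mul_mem ℓ'.2 (L.inv_mem ℓ.2)) h2
      apply Subtype.ext
      have h5 : (ℓ' : A) = ℓ := by
        rw [← mul_inv_eq_one]; exact h4
      exact h5.symm
    have hbij : Function.Bijective (fun ℓ : L => (⟨_, hmem ℓ⟩ : L)) := Finite.injective_iff_bijective.mp hinj
    have h6 : ∏ ℓ : L, ρ ((ℓ : A)⁻¹ * (σ i)⁻¹ * ℓ) (piProj ρ L b) =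
        ∏ ℓ : L, ρ ((⟨_, hmem ℓ⟩ : L) : A) (ρ (σ i)⁻¹ (piProj ρ L b)) := by
      refine Finset.prod_congr rfl (fun ℓ _ => ?_)
      rw [← MulAut.mul_apply, ← map_mul]
      congr 2
      group
    rw [h6, Function.Bijective.prod_comp hbij (fun m : L => ρ (m : A) (ρ (σ i)⁻¹ (piProj ρ L b)))]
    have hσinv : ∀ ℓ : A, ℓ ∈ L ↔ (σ i)⁻¹ * ℓ * (σ i)⁻¹⁻¹ ∈ L := by
      intro ℓ
      rw [hσ i ((σ i)⁻¹ * ℓ * (σ i)⁻¹⁻¹)]
      have : σ i * ((σ i)⁻¹ * ℓ * (σ i)⁻¹⁻¹) * (σ i)⁻¹ = ℓ := by group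
      rw [this]
    rw [conj_piProj ρ L _ hσinv]
    exact eSum_piProj ρ L _

end counting

end Cfsg.Agent.Helper84
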