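import Cfsg.Agent.Helper84.Tate1
import Cfsg.Agent.S4207
import Cfsg.Agent.Helper70.FrattiniAction
import Cfsg.Agent.Helper63.Frattini
import Cfsg.Agent.Helper47.Frattini
import Cfsg.Agent.Helper87.FusionExtend
import Cfsg.Agent.Helper87.FusionFrobenius
set_option autoImplicit false

/-! # Transfer into the Frattini quotient of a normal subgroup: a semiregularly acted normal `p'`-group of automorphisms is trivial -/

namespace Cfsg.Agent.Helper84

open Cfsg Cfsg.FusionSystem Cfsg.Agent.Helper87 Cfsg.Agent.Helper70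

/-- The transfer evaluated on an element of a normal subgroup. -/
theorem transfer_of_mem_normal {G : Type*} [Group G] {H : Subgroup G} [hH : H.Normal] [H.FiniteIndex]
    {A : Type*} [CommGroup A] (ϕ : H →* A) (T : H.LeftTransversal) (h : G) (hh : h ∈ H) :
    letI := H.fintypeQuotientOfFiniteIndex
    MonoidHom.transfer ϕ h = ∏ q : G ⧸ H, ϕ ⟨((T.2.leftQuotientEquiv q : T.1) : G)⁻¹ * h * (T.2.leftQuotientEquiv q : T.1), by
      have := hH.conj_mem h hh ((T.2.leftQuotientEquiv q : T.1) : G)⁻¹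
      simpa using this⟩ := by
  rw [MonoidHom.transfer_def ϕ T]
  unfold Subgroup.leftTransversals.diff
  refine Finset.prod_congr rfl (fun q _ => ?_)
  congr 1
  apply Subtype.ext
  show ((T.2.leftQuotientEquiv q : T.1) : G)⁻¹ * (((h • T).2.leftQuotientEquiv q : (h • T).1) : G) = _
  rw [Subgroup.smul_apply_eq_smul_apply_inv_smul]
  have h1 : h⁻¹ • q = q := by
    induction q using QuotientGroup.induction_on with | _ g => ?_
    show ((h⁻¹ * g : G) : G ⧸ H) = (g : G ⧸ H)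
    rw [QuotientGroup.eq]
    have := hH.conj_mem h hh g⁻¹
    have h2 : (h⁻¹ * g)⁻¹ * g = g⁻¹ * h * g⁻¹⁻¹ := by group
    rw [h2]
    exact this
  rw [h1, smul_eq_mul]
  exact (mul_assoc _ _ _).symm

/-- coprime root extraction in a commutative group of exponent `p` -/
theorem eq_one_of_pow_eq_one_of_coprime {M : Type*} [CommGroup M] {p n : ℕ} (hexp : ∀ b : M, b ^ p = 1)
    (hn : n.Coprime p) (a : M) (ha : a ^ n = 1) : a = 1 := by
  have h1 : orderOf a ∣ n := orderOf_dvd_of_pow_eq_one ha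
  have h2 : orderOf a ∣ p := orderOf_dvd_of_pow_eq_one (hexp a)
  have h3 : orderOf a ∣ 1 := by
    have := Nat.dvd_gcd h1 h2
    rwa [Nat.Coprime.gcd_eq_one hn] at this
  exact orderOf_eq_one_iff.mp (Nat.dvd_one.mp h3)

/-- **Theorem A (abstract form).** -/
theorem eq_bot_of_semiregular_aux {Ω : Type*} [Group Ω] {p : ℕ} [Fact p.Prime] {S R Q : Subgroup Ω} [Finite S]
    (hS : IsPGroup p S) (hRS : R ≤ S)
    (c : ↥S →* MulAut ↥R) (hc : ∀ (s : ↥S) (x : ↥R), ((c s x : ↥R) : Ω) = s * x * (s : Ω)⁻¹)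
    (hQfr : Q ≤ (frattini ↥S).map S.subtype)
    {M : Type*} [CommGroup M] (π : ↥R →* M) (hπ : Function.Surjective π) (hker : π.ker = frattini ↥R)
    (ρ : MulAut ↥R →* MulAut M) (hρ : ∀ (α : MulAut ↥R) (x : ↥R), ρ α (π x) = π (α x))
    (L : Subgroup (MulAut ↥R)) (hLcop : (Nat.card L).Coprime p)
    (hLnorm : ∀ (s : ↥S) (ℓ : MulAut ↥R), ℓ ∈ L ↔ c s * ℓ * (c s)⁻¹ ∈ L)
    (hLQ : ∀ ℓ ∈ L, ∀ x : ↥R, (x : Ω) * ((ℓ x : ↥R) : Ω)⁻¹ ∈ Q)
    (hfree : ∀ s : ↥S, (s : Ω) ∉ R → ∀ ℓ ∈ L, c s * ℓ = ℓ * c s → ℓ = 1) : L = ⊥ := by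
  classical
  have hp : p.Prime := Fact.out
  haveI : Finite ↥R := Finite.of_injective (Subgroup.inclusion hRS) (Subgroup.inclusion_injective hRS)
  have hRp : IsPGroup p ↥R := hS.to_le hRS
  haveI : Fintype L := Fintype.ofFinite L
  have hcardL : Fintype.card L = Nat.card L := (Nat.card_eq_fintype_card).symm
  -- exponent `p`
  have hexp : ∀ b : M, b ^ p = 1 := by
    intro b
    obtain ⟨x, rfl⟩ := hπ b
    rw [← map_pow, ← MonoidHom.mem_ker, hker]
    exact Cfsg.Agent.Helper63.pow_prime_mem_frattini hRp x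
  -- the normal subgroup `H`
  have hHn : (R.subgroupOf S).Normal := ⟨fun x hx s => by
    rw [Subgroup.mem_subgroupOf] at hx ⊢
    have h1 := hc s ⟨x, hx⟩
    have h2 : ((s * x * s⁻¹ : ↥S) : Ω) = (s : Ω) * x * (s : Ω)⁻¹ := by simp
    rw [h2, ← h1]
    exact (c s ⟨x, hx⟩).2⟩
  let e : ↥(R.subgroupOf S) ≃* ↥R := Subgroup.subgroupOfEquivOfLe hRS
  let ϕ' : ↥(R.subgroupOf S) →* M := π.comp e.toMonoidHom
  let θ : ↥S →* M := MonoidHom.transfer ϕ'
  have hθker : frattini ↥S ≤ θ.ker := by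
    apply Cfsg.Agent.Helper47.frattini_le_of_commutator_pow_mem (p := p)
    · intro a b
      rw [MonoidHom.mem_ker, map_commutatorElement]
      exact commutatorElement_eq_one_iff_commute.mpr (Commute.all _ _)
    · intro a
      rw [MonoidHom.mem_ker, map_pow]
      exact hexp _
  let T : (R.subgroupOf S).LeftTransversal := default
  letI := (R.subgroupOf S).fintypeQuotientOfFiniteIndex
  let t : ↥S ⧸ R.subgroupOf S → ↥S := fun q => ((T.2.leftQuotientEquiv q : T.1) : ↥S)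
  have ht : ∀ q, ((t q : ↥S) : ↥S ⧸ R.subgroupOf S) = q := fun q =>
    Subgroup.IsComplement.quotientGroupMk_leftQuotientEquiv T.2 q
  let σ : ↥S ⧸ R.subgroupOf S → MulAut ↥R := fun q => c (t q)
  -- inverse of `c`
  have hcinv : ∀ (s : ↥S) (x : ↥R), (((c s)⁻¹ x : ↥R) : Ω) = (s : Ω)⁻¹ * x * s := by
    intro s x
    rw [← map_inv, hc]
    simp
  -- the transfer on elements of `R`
  have hθR : ∀ x : ↥R, θ ⟨x, hRS x.2⟩ = ∏ q, ρ (σ q)⁻¹ (π x) := by
    intro x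
    have hx : (⟨x, hRS x.2⟩ : ↥S) ∈ R.subgroupOf S := by
      rw [Subgroup.mem_subgroupOf]; exact x.2
    have h1 := transfer_of_mem_normal ϕ' T ⟨x, hRS x.2⟩ hx
    show MonoidHom.transfer ϕ' _ = _
    rw [h1]
    refine Finset.prod_congr rfl (fun q _ => ?_)
    rw [hρ]
    show π (e _) = _
    congr 1
    apply Subtype.ext
    rw [hcinv]
    rfl
  -- `θ` kills `Q`
  have hkill : ∀ x : ↥R, (x : Ω) ∈ Q → ∏ q, ρ (σ q)⁻¹ (π x) = 1 := by
    intro x hx
    rw [← hθR]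
    obtain ⟨y, hy, hyx⟩ := hQfr hx
    have h1 : y = ⟨x, hRS x.2⟩ := Subtype.ext hyx
    rw [← h1]
    exact hθker hy
  -- hypothesis `hN` of the counting lemma
  have hN : ∀ b : M, ∏ q, ρ (σ q)⁻¹ (piProj ρ L b) = 1 := by
    intro b
    have hmem : piProj ρ L b ∈ (Q.subgroupOf R).map π := by
      have h1 : piProj ρ L b = ∏ ℓ : L, (b * (ρ (ℓ : MulAut ↥R) b)⁻¹) := by
        unfold piProj eSum
        rw [Finset.prod_mul_distrib, Finset.prod_inv_distrib, Finset.prod_const, Finset.card_univ]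
      rw [h1]
      refine Subgroup.prod_mem _ (fun ℓ _ => ?_)
      obtain ⟨x, rfl⟩ := hπ b
      refine ⟨x * ((ℓ : MulAut ↥R) x)⁻¹, ?_, ?_⟩
      · show _ ∈ Q.subgroupOf R
        rw [Subgroup.mem_subgroupOf]
        have := hLQ ℓ ℓ.2 x
        simpa using this
      · rw [map_mul, map_inv, hρ]
    obtain ⟨x, hx, hxb⟩ := hmem
    rw [← hxb]
    exact hkill x (Subgroup.mem_subgroupOf.mp hx)
  -- inner automorphisms act trivially
  have hinner : ∀ s : ↥S, (s : Ω) ∈ R → ρ (c s) = 1 := by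
    intro s hs
    ext b
    obtain ⟨x, rfl⟩ := hπ b
    rw [hρ, MulAut.one_apply]
    have h1 : c s x = ⟨s, hs⟩ * x * (⟨s, hs⟩ : ↥R)⁻¹ := by
      apply Subtype.ext
      rw [hc]
      simp
    rw [h1, map_mul, map_mul, map_inv, mul_comm, ← mul_assoc, inv_mul_cancel, one_mul]
  let i₀ : ↥S ⧸ R.subgroupOf S := ((1 : ↥S) : ↥S ⧸ R.subgroupOf S)
  have hti₀ : ((t i₀ : ↥S) : Ω) ∈ R := by
    have h1 := ht i₀
    have h2 : ((t i₀ : ↥S) : ↥S ⧸ R.subgroupOf S) = ((1 : ↥S) : ↥S ⧸ R.subgroupOf S) := h1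
    rw [QuotientGroup.eq] at h2
    have h3 : (t i₀)⁻¹ * 1 ∈ R.subgroupOf S := h2
    rw [mul_one, Subgroup.inv_mem_iff, Subgroup.mem_subgroupOf] at h3
    exact h3
  have hpow := piProj_pow_eq_one ρ L σ (fun q ℓ => hLnorm (t q) ℓ) hN i₀
    (fun ℓ => by
      rw [map_mul, map_mul, map_inv (f := ρ) (σ i₀)]
      have : ρ (σ i₀) = 1 := hinner _ hti₀
      rw [this, inv_one, mul_one, ← map_mul, inv_mul_cancel, map_one])
    (fun q hq ℓ hℓ hcomm => by
      refine hfree (t q) ?_ ℓ hℓ hcomm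
      intro hmem
      apply hq
      rw [← ht q]
      show ((t q : ↥S) : ↥S ⧸ R.subgroupOf S) = ((1 : ↥S) : ↥S ⧸ R.subgroupOf S)
      rw [QuotientGroup.eq]
      show (t q)⁻¹ * 1 ∈ R.subgroupOf S
      rw [mul_one, Subgroup.inv_mem_iff, Subgroup.mem_subgroupOf]
      exact hmem)
  -- `π_L = 1`
  have hpi : ∀ b : M, piProj ρ L b = 1 := fun b =>
    eq_one_of_pow_eq_one_of_coprime hexp (hcardL ▸ hLcop) _ (hpow b)
  -- `L` acts trivially on `M`
  have htriv : ∀ ℓ ∈ L, ∀ b : M, ρ ℓ b = b := by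
    intro ℓ hℓ b
    have h1 : b ^ Fintype.card L = eSum ρ L b := by
      have := hpi b
      unfold piProj at this
      rwa [mul_inv_eq_one] at this
    have h2 : ρ ℓ (b ^ Fintype.card L) = b ^ Fintype.card L := by
      rw [h1]; exact smul_eSum ρ L ⟨ℓ, hℓ⟩ b
    rw [map_pow] at h2
    have h3 : (ρ ℓ b * b⁻¹) ^ Fintype.card L = 1 := by
      rw [mul_pow, h2, inv_pow, mul_inv_cancel]
    have h4 := eq_one_of_pow_eq_one_of_coprime hexp (hcardL ▸ hLcop) _ h3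
    exact mul_inv_eq_one.mp h4
  have hA : ∀ α ∈ L, ∀ x : ↥R, α x * x⁻¹ ∈ frattini ↥R := by
    intro α hα x
    rw [← hker, MonoidHom.mem_ker, map_mul, map_inv, ← hρ, htriv α hα, mul_inv_cancel]
  obtain ⟨n, hn⟩ := IsPGroup.iff_card.mp hRp
  obtain ⟨r, -, hr⟩ : ∃ r, r ≤ n ∧ (frattini ↥R).index = p ^ r := by
    have h1 : (frattini ↥R).index ∣ p ^ n := by
      rw [← hn]; exact Subgroup.index_dvd_card _
    exact (Nat.dvd_prime_pow hp).mp h1
  have hcard := Cfsg.Agent.S4207.result hn hr L hA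
  have h1 : Nat.card L = 1 := Nat.Coprime.eq_one_of_dvd (Nat.Coprime.pow_right _ hLcop) hcard
  exact Subgroup.card_eq_one.mp h1

/-- **Theorem A.**  Let `R` be a normal subgroup of the finite `p`-group `S`, and `L` a `p'`-group of
automorphisms of `R`, normalized by (the image of) `S`, with `[R, L] ≤ Q ≤ Φ(S)`, such that no element
of `S ∖ R` commutes with a nontrivial element of `L`.  Then `L = 1`. -/
theorem eq_bot_of_semiregular {Ω : Type*} [Group Ω] {p : ℕ} [Fact p.Prime] {S R Q : Subgroup Ω} [Finite S]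
    (hS : IsPGroup p S) (hRS : R ≤ S)
    (c : ↥S →* MulAut ↥R) (hc : ∀ (s : ↥S) (x : ↥R), ((c s x : ↥R) : Ω) = s * x * (s : Ω)⁻¹)
    (hQfr : Q ≤ (frattini ↥S).map S.subtype)
    (L : Subgroup (MulAut ↥R)) (hLcop : (Nat.card L).Coprime p)
    (hLnorm : ∀ (s : ↥S) (ℓ : MulAut ↥R), ℓ ∈ L ↔ c s * ℓ * (c s)⁻¹ ∈ L)
    (hLQ : ∀ ℓ ∈ L, ∀ x : ↥R, (x : Ω) * ((ℓ x : ↥R) : Ω)⁻¹ ∈ Q)
    (hfree : ∀ s : ↥S, (s : Ω) ∉ R → ∀ ℓ ∈ L, c s * ℓ = ℓ * c s → ℓ = 1) : L = ⊥ := by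
  haveI : Finite ↥R := Finite.of_injective (Subgroup.inclusion hRS) (Subgroup.inclusion_injective hRS)
  have hRp : IsPGroup p ↥R := hS.to_le hRS
  letI : CommGroup (↥R ⧸ frattini ↥R) :=
    { (inferInstance : Group (↥R ⧸ frattini ↥R)) with mul_comm := frattiniQuot_comm hRp }
  exact eq_bot_of_semiregular_aux hS hRS c hc hQfr (M := ↥R ⧸ frattini ↥R)
    (QuotientGroup.mk' (frattini ↥R)) (QuotientGroup.mk'_surjective _) (QuotientGroup.ker_mk' _)
    (autQuot (frattini ↥R)) (fun α x => rfl) L hLcop hLnorm hLQ hfree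

end Cfsg.Agent.Helper84
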