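import Cfsg.Agent.Helper84.Tate2
import Cfsg.Agent.Helper64.TateSpecial
set_option autoImplicit false

/-! # Tate's theorem applied to a group of automorphisms of a normal subgroup of a `p`-group -/

namespace Cfsg.Agent.Helper84

open Cfsg Cfsg.FusionSystem Cfsg.Agent.Helper87
open scoped commutatorElement

universe u

/-- Conjugating an inner automorphism. -/
theorem mulAut_conj_conj {H : Type*} [Group H] (β : MulAut H) (y : H) :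
    β * MulAut.conj y * β⁻¹ = MulAut.conj (β y) := by
  ext x
  simp [MulAut.conj_apply]

/-- An element of a `p'`-group of `p`-power order is trivial. -/
theorem eq_one_of_mem_of_pow_eq_one {A : Type*} [Group A] {p : ℕ} (L : Subgroup A) [Finite L]
    (hL : (Nat.card L).Coprime p) {ℓ : A} (hℓ : ℓ ∈ L) {k : ℕ} (hk : ℓ ^ p ^ k = 1) : ℓ = 1 := by
  have h1 : orderOf ℓ ∣ p ^ k := orderOf_dvd_of_pow_eq_one hk
  have h2 : orderOf ℓ ∣ Nat.card L := Subgroup.orderOf_dvd_natCard L hℓ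
  have h3 : orderOf ℓ ∣ 1 := by
    have := Nat.dvd_gcd h2 h1
    rwa [Nat.Coprime.gcd_eq_one (Nat.Coprime.pow_right k hL)] at this
  exact orderOf_eq_one_iff.mp (Nat.dvd_one.mp h3)

/-- The automorphisms of `R` acting trivially modulo `Q`. -/
def trivMod {Ω : Type*} [Group Ω] (R Q : Subgroup Ω) : Subgroup (MulAut ↥R) where
  carrier := {β | ∀ x : ↥R, (x : Ω) * ((β x : ↥R) : Ω)⁻¹ ∈ Q}
  one_mem' := fun x => by simp
  mul_mem' := by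
    intro a b ha hb x
    have h1 := hb x
    have h2 := ha (b x)
    have : (x : Ω) * (((a * b) x : ↥R) : Ω)⁻¹ =
        ((x : Ω) * ((b x : ↥R) : Ω)⁻¹) * (((b x : ↥R) : Ω) * ((a (b x) : ↥R) : Ω)⁻¹) := by
      rw [MulAut.mul_apply]; group
    rw [this]
    exact Q.mul_mem h1 h2
  inv_mem' := by
    intro a ha x
    have h1 := ha (a⁻¹ x)
    rw [MulAut.apply_inv_self] at h1
    have : (x : Ω) * ((a⁻¹ x : ↥R) : Ω)⁻¹ = (((a⁻¹ x : ↥R) : Ω) * (x : Ω)⁻¹)⁻¹ := by group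
    rw [this]
    exact Q.inv_mem h1

theorem mem_trivMod_iff {Ω : Type*} [Group Ω] (R Q : Subgroup Ω) (β : MulAut ↥R) :
    β ∈ trivMod R Q ↔ ∀ x : ↥R, (x : Ω) * ((β x : ↥R) : Ω)⁻¹ ∈ Q := Iff.rfl

/-- `trivMod` is normalized by the automorphisms stabilizing `Q`. -/
theorem conj_mem_trivMod {Ω : Type*} [Group Ω] (R Q : Subgroup Ω) {β k : MulAut ↥R}
    (hβ : ∀ x : ↥R, (x : Ω) ∈ Q ↔ ((β x : ↥R) : Ω) ∈ Q) (hk : k ∈ trivMod R Q) :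
    β⁻¹ * k * β ∈ trivMod R Q := by
  intro x
  have h1 := hk (β x)
  -- apply `β⁻¹` to `(β x) * (k (β x))⁻¹`
  have h2 : (x : Ω) * (((β⁻¹ * k * β) x : ↥R) : Ω)⁻¹ = ((β⁻¹ (β x * (k (β x))⁻¹) : ↥R) : Ω) := by
    rw [map_mul, map_inv, MulAut.inv_apply_self]
    rfl
  rw [h2]
  have h3 := hβ (β⁻¹ (β x * (k (β x))⁻¹))
  rw [MulAut.apply_inv_self] at h3
  exact h3.mpr h1

/-- **Lemma B.** The group-theoretic core: a group `Y` of automorphisms of `R ⊴ S` stabilizing `Q`, in which the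
image of `S` is a self-normalizing Sylow `p`-subgroup, and in which automorphisms commuting with some element of
`S ∖ R` are `p`-elements, is a `p`-group. -/
theorem isPGroup_of_tate {Ω : Type u} [Group Ω] {p : ℕ} [Fact p.Prime] {S R Q : Subgroup Ω} [Finite S]
    (hS : IsPGroup p S) (hRS : R < S) (hQR : Q ≤ R)
    (h1 : (commutator ↥S).map S.subtype ≤ Q) (h2 : Q ≤ (frattini ↥S).map S.subtype)
    (c : ↥S →* MulAut ↥R) (hc : ∀ (s : ↥S) (x : ↥R), ((c s x : ↥R) : Ω) = s * x * (s : Ω)⁻¹)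
    (Y : Subgroup (MulAut ↥R))
    (hYQ : ∀ β ∈ Y, ∀ x : ↥R, (x : Ω) ∈ Q ↔ ((β x : ↥R) : Ω) ∈ Q)
    (hcY : ∀ s, c s ∈ Y)
    (hSyl : ∀ B : Subgroup (MulAut ↥R), B ≤ Y → IsPGroup p B → c.range ≤ B → B ≤ c.range)
    (hNorm : ∀ n ∈ Y, (∀ s, ∃ s', n * c s * n⁻¹ = c s') → n ∈ c.range)
    (hExt : ∀ s : ↥S, (s : Ω) ∉ R → ∀ ℓ ∈ Y, c s * ℓ = ℓ * c s →
        (∀ x : ↥S, (x : Ω) ∈ R → c x * ℓ = ℓ * c x) → ∃ k : ℕ, ℓ ^ p ^ k = 1) :
    IsPGroup p Y := by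
  classical
  have hp : p.Prime := Fact.out
  haveI : Finite ↥R := finite_of_le hRS.le
  haveI : Finite (MulAut ↥R) := finite_mulAut_of_le hRS.le
  have hQS : Q ≤ S := hQR.trans hRS.le
  -- conjugation by elements of `R`
  have hcR : ∀ (s : ↥S) (hs : (s : Ω) ∈ R), c s = MulAut.conj (⟨s, hs⟩ : ↥R) := by
    intro s hs
    ext x
    rw [hc]
    rfl
  -- commutators lie in `Q`
  have hcommQ : ∀ a b : ↥S, ((a : Ω) * b * (a : Ω)⁻¹ * (b : Ω)⁻¹) ∈ Q := by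
    intro a b
    apply h1
    refine ⟨⁅a, b⁆, Subgroup.commutator_mem_commutator (Subgroup.mem_top _) (Subgroup.mem_top _), ?_⟩
    rw [commutatorElement_def]
    simp
  let cY : ↥S →* ↥Y := c.codRestrict Y hcY
  have hcYval : ∀ s, ((cY s : ↥Y) : MulAut ↥R) = c s := fun s => rfl
  -- the Sylow subgroup
  have hSgp : IsPGroup p cY.range := hS.of_surjective cY.rangeRestrict cY.rangeRestrict_surjective
  let P : Sylow p ↥Y := ⟨cY.range, hSgp, fun {B} hB hle => by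
    apply le_antisymm _ hle
    have h3 := hSyl (B.map Y.subtype) (Subgroup.map_subtype_le _) (hB.map _) (by
      rintro _ ⟨s, rfl⟩
      exact ⟨cY s, hle ⟨s, rfl⟩, rfl⟩)
    intro b hb
    obtain ⟨s, hs⟩ := h3 ⟨b, hb, rfl⟩
    exact ⟨s, Subtype.ext hs⟩⟩
  have hPcoe : (P : Subgroup ↥Y) = cY.range := rfl
  -- the normal subgroup `Aut_Q(R)`
  let AQ : Subgroup ↥Y := (Q.subgroupOf S).map cY
  have hAQn : AQ.Normal := by
    refine ⟨?_⟩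
    rintro _ ⟨q, hq, rfl⟩ g
    have hqQ : (q : Ω) ∈ Q := Subgroup.mem_subgroupOf.mp hq
    have hqR : (q : Ω) ∈ R := hQR hqQ
    have hgq : (((g : MulAut ↥R) ⟨q, hqR⟩ : ↥R) : Ω) ∈ Q := (hYQ g g.2 ⟨q, hqR⟩).mp hqQ
    refine ⟨⟨_, hQS hgq⟩, Subgroup.mem_subgroupOf.mpr hgq, ?_⟩
    apply Subtype.ext
    show c _ = (g : MulAut ↥R) * c q * (g : MulAut ↥R)⁻¹
    rw [hcR q hqR, mulAut_conj_conj, hcR _ (hQR hgq)]
  have hAQP : AQ ≤ (P : Subgroup ↥Y) := Subgroup.map_le_range _ _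
  have hcomm : ∀ r ∈ (P : Subgroup ↥Y), ∀ x ∈ (P : Subgroup ↥Y), r * x * r⁻¹ * x⁻¹ ∈ AQ := by
    rintro _ ⟨s, rfl⟩ _ ⟨t, rfl⟩
    refine ⟨s * t * s⁻¹ * t⁻¹, ?_, ?_⟩
    · show s * t * s⁻¹ * t⁻¹ ∈ Q.subgroupOf S
      rw [Subgroup.mem_subgroupOf]
      have := hcommQ s t
      simpa using this
    · simp only [map_mul, map_inv]
  have hinner : ∀ n ∈ Subgroup.normalizer ((P : Subgroup ↥Y) : Set ↥Y), ∀ x ∈ (P : Subgroup ↥Y),
      ∃ r ∈ (P : Subgroup ↥Y), n * x * n⁻¹ = r * x * r⁻¹ := by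
    intro n hn x _
    refine ⟨n, ?_, rfl⟩
    have h3 : (n : MulAut ↥R) ∈ c.range := by
      apply hNorm n n.2
      intro s
      have h4 : n * cY s * n⁻¹ ∈ (P : Subgroup ↥Y) := (hn (cY s)).mp ⟨s, rfl⟩
      obtain ⟨s', hs'⟩ := h4
      refine ⟨s', ?_⟩
      have := congrArg Subtype.val hs'
      exact this.symm
    obtain ⟨s, hs⟩ := h3
    exact ⟨s, Subtype.ext hs⟩
  haveI := hAQn
  have hquot := Cfsg.Agent.Helper64.hasNormalPComplement_quotient_of_inner P AQ hAQP hcomm hinner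
  have hQfr : ∀ q (hq : q ∈ AQ), (⟨q, hAQP hq⟩ : (P : Subgroup ↥Y)) ∈ frattini ↥(P : Subgroup ↥Y) := by
    rintro _ ⟨q, hq, rfl⟩
    have hqQ : (q : Ω) ∈ Q := Subgroup.mem_subgroupOf.mp hq
    obtain ⟨y, hy, hyq⟩ := h2 hqQ
    have hyq' : y = q := Subtype.ext hyq
    rw [hyq'] at hy
    have h3 := frattini_le_comap_frattini_of_surjective (φ := cY.rangeRestrict) cY.rangeRestrict_surjective hy
    exact h3
  obtain ⟨P', L, hLn, hLc⟩ :=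
    Cfsg.Agent.Helper64.hasNormalPComplement_of_quotient_frattini P AQ hAQP hQfr hquot
  -- the normal `p`-complement, as a group of automorphisms
  let L' : Subgroup (MulAut ↥R) := L.map Y.subtype
  have hL'Y : L' ≤ Y := Subgroup.map_subtype_le _
  have hmemL' : ∀ (ℓ : MulAut ↥R) (hℓ : ℓ ∈ Y), ℓ ∈ L' ↔ (⟨ℓ, hℓ⟩ : ↥Y) ∈ L := by
    intro ℓ hℓ
    constructor
    · rintro ⟨m, hm, hmℓ⟩
      have : m = ⟨ℓ, hℓ⟩ := Subtype.ext hmℓ
      rwa [← this]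
    · intro h
      exact ⟨_, h, rfl⟩
  have hLcop : (Nat.card L').Coprime p := by
    have h3 : Nat.card L' = Nat.card L := Subgroup.card_map_of_injective Y.subtype_injective
    rw [h3, ← hLc.index_eq_card]
    exact ((Nat.Prime.coprime_iff_not_dvd hp).mpr P'.not_dvd_index).symm
  have hLnorm : ∀ (s : ↥S) (ℓ : MulAut ↥R), ℓ ∈ L' ↔ c s * ℓ * (c s)⁻¹ ∈ L' := by
    intro s ℓ
    constructor
    · rintro ⟨m, hm, rfl⟩
      exact ⟨cY s * m * (cY s)⁻¹, hLn.conj_mem m hm (cY s), rfl⟩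
    · rintro ⟨m, hm, hmℓ⟩
      refine ⟨(cY s)⁻¹ * m * (cY s)⁻¹⁻¹, hLn.conj_mem m hm (cY s)⁻¹, ?_⟩
      show (c s)⁻¹ * (m : MulAut ↥R) * (c s)⁻¹⁻¹ = ℓ
      have : (m : MulAut ↥R) = c s * ℓ * (c s)⁻¹ := hmℓ
      rw [this]
      group
  -- `L'` commutes with the inner automorphisms of `R`
  have hRcomm : ∀ ℓ ∈ L', ∀ x : ↥S, (x : Ω) ∈ R → c x * ℓ = ℓ * c x := by
    intro ℓ hℓ x hx
    have hu : c x * ℓ * (c x)⁻¹ * ℓ⁻¹ ∈ L' := L'.mul_mem ((hLnorm x ℓ).mp hℓ) (L'.inv_mem hℓ)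
    have hu2 : c x * ℓ * (c x)⁻¹ * ℓ⁻¹ =
        MulAut.conj ((⟨x, hx⟩ : ↥R) * (ℓ ⟨x, hx⟩)⁻¹) := by
      have h3 : ℓ * (c x)⁻¹ * ℓ⁻¹ = (MulAut.conj (ℓ ⟨x, hx⟩))⁻¹ := by
        rw [← mulAut_conj_conj, hcR x hx]
        group
      calc c x * ℓ * (c x)⁻¹ * ℓ⁻¹ = c x * (ℓ * (c x)⁻¹ * ℓ⁻¹) := by group
        _ = _ := by rw [h3, hcR x hx, map_mul, map_inv]
    obtain ⟨n, hn⟩ := IsPGroup.iff_card.mp (hS.to_le hRS.le)
    have hu3 : (c x * ℓ * (c x)⁻¹ * ℓ⁻¹) ^ p ^ n = 1 := by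
      rw [hu2, ← map_pow, ← hn, pow_card_eq_one', map_one]
    have hu4 := eq_one_of_mem_of_pow_eq_one L' hLcop hu hu3
    calc c x * ℓ = (c x * ℓ * (c x)⁻¹ * ℓ⁻¹) * (ℓ * c x) := by group
      _ = ℓ * c x := by rw [hu4, one_mul]
  have hfree : ∀ s : ↥S, (s : Ω) ∉ R → ∀ ℓ ∈ L', c s * ℓ = ℓ * c s → ℓ = 1 := by
    intro s hs ℓ hℓ hcm
    obtain ⟨k, hk⟩ := hExt s hs ℓ (hL'Y hℓ) hcm (hRcomm ℓ hℓ)
    exact eq_one_of_mem_of_pow_eq_one L' hLcop hℓ hk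
  -- `[R, L'] ≤ Q`
  obtain ⟨g₀, hg₀S, hg₀R⟩ := SetLike.exists_of_lt hRS
  let σ : MulAut ↥R := c ⟨g₀, hg₀S⟩
  have hσK : σ ∈ trivMod R Q := by
    intro x
    have := hcommQ ⟨x, hRS.le x.2⟩ ⟨g₀, hg₀S⟩
    have h3 : (x : Ω) * ((σ x : ↥R) : Ω)⁻¹ = (x : Ω) * g₀ * (x : Ω)⁻¹ * g₀⁻¹ := by
      rw [hc]
      simp only [mul_inv_rev, inv_inv]
      group
    rw [h3]
    exact this
  have hLQ : ∀ ℓ ∈ L', ∀ x : ↥R, (x : Ω) * ((ℓ x : ↥R) : Ω)⁻¹ ∈ Q := by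
    have hmem : ∀ m : L', (m : MulAut ↥R)⁻¹ * (σ * m * σ⁻¹) ∈ L' := fun m =>
      L'.mul_mem (L'.inv_mem m.2) ((hLnorm _ _).mp m.2)
    have hinj : Function.Injective (fun m : L' => (⟨_, hmem m⟩ : L')) := by
      intro m m' h
      have h3 : (m : MulAut ↥R)⁻¹ * (σ * m * σ⁻¹) = (m' : MulAut ↥R)⁻¹ * (σ * m' * σ⁻¹) :=
        congrArg Subtype.val h
      have h4 : σ * ((m : MulAut ↥R) * (m' : MulAut ↥R)⁻¹) = ((m : MulAut ↥R) * (m' : MulAut ↥R)⁻¹) * σ := by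
        have h5 : σ * (m : MulAut ↥R) * σ⁻¹ = (m : MulAut ↥R) * (m' : MulAut ↥R)⁻¹ * (σ * m' * σ⁻¹) := by
          calc σ * (m : MulAut ↥R) * σ⁻¹ = m * ((m : MulAut ↥R)⁻¹ * (σ * m * σ⁻¹)) := by group
            _ = m * ((m' : MulAut ↥R)⁻¹ * (σ * m' * σ⁻¹)) := by rw [h3]
            _ = _ := by group
        calc σ * ((m : MulAut ↥R) * (m' : MulAut ↥R)⁻¹)
            = (σ * (m : MulAut ↥R) * σ⁻¹) * (σ * (m' : MulAut ↥R)⁻¹) := by group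
          _ = ((m : MulAut ↥R) * (m' : MulAut ↥R)⁻¹ * (σ * m' * σ⁻¹)) * (σ * (m' : MulAut ↥R)⁻¹) := by rw [h5]
          _ = _ := by group
      have h6 := hfree ⟨g₀, hg₀S⟩ hg₀R _ (L'.mul_mem m.2 (L'.inv_mem m'.2)) h4
      apply Subtype.ext
      exact mul_inv_eq_one.mp h6
    haveI : Finite L' := inferInstance
    have hsurj := Finite.surjective_of_injective hinj
    intro ℓ hℓ
    obtain ⟨m, hm⟩ := hsurj ⟨ℓ, hℓ⟩
    have hm' : (m : MulAut ↥R)⁻¹ * (σ * m * σ⁻¹) = ℓ := congrArg Subtype.val hm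
    rw [← mem_trivMod_iff, ← hm']
    have h3 : (m : MulAut ↥R)⁻¹ * (σ * m * σ⁻¹) = ((m : MulAut ↥R)⁻¹ * σ * m) * σ⁻¹ := by group
    rw [h3]
    exact (trivMod R Q).mul_mem (conj_mem_trivMod R Q (hYQ _ (hL'Y m.2)) hσK) ((trivMod R Q).inv_mem hσK)
  have hL'bot : L' = ⊥ := eq_bot_of_semiregular hS hRS.le c hc h2 L' hLcop hLnorm hLQ hfree
  have hLbot : L = ⊥ := by
    rw [eq_bot_iff]
    intro m hm
    have h3 : (m : MulAut ↥R) ∈ L' := ⟨m, hm, rfl⟩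
    rw [hL'bot, Subgroup.mem_bot] at h3
    rw [Subgroup.mem_bot]
    exact Subtype.ext h3
  rw [hLbot, Subgroup.isComplement'_bot_left] at hLc
  intro g
  have hg : g ∈ (P' : Subgroup ↥Y) := by rw [hLc]; exact Subgroup.mem_top _
  obtain ⟨k, hk⟩ := P'.2 ⟨g, hg⟩
  refine ⟨k, ?_⟩
  have := congrArg Subtype.val hk
  simpa using this

end Cfsg.Agent.Helper84
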