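import Cfsg.Agent.Helper84.Tate3
import Cfsg.Agent.Helper84.Stancu
import Cfsg.Agent.Helper84.SatCrit3
import Cfsg.Agent.Helper84.PStable
import Cfsg.Agent.Helper87.FusionRS
set_option autoImplicit false

/-! # Fusion systems with `Aut_F(S)` inner: automorphisms stabilizing `Q` with `[S,S] ≤ Q ≤ Φ(S)` are `p`-elements -/

namespace Cfsg.Agent.Helper84

open Cfsg Cfsg.FusionSystem Cfsg.Agent.Helper87
open scoped commutatorElement

variable {Ω : Type*} [Group Ω] {S : Subgroup Ω}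

/-- A subgroup containing the commutator subgroup is normalized by `S`. -/
theorem conj_mem_of_commutator_le {Q R : Subgroup Ω} (h1 : (commutator ↥S).map S.subtype ≤ Q) (hQR : Q ≤ R)
    (hRS : R ≤ S) {s : Ω} (hs : s ∈ S) {y : Ω} (hy : y ∈ R) : s * y * s⁻¹ ∈ R := by
  have h3 : s * y * s⁻¹ * y⁻¹ ∈ Q := by
    apply h1
    refine ⟨⁅(⟨s, hs⟩ : ↥S), (⟨y, hRS hy⟩ : ↥S)⁆,
      Subgroup.commutator_mem_commutator (Subgroup.mem_top _) (Subgroup.mem_top _), ?_⟩
    rw [commutatorElement_def]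
    simp
  have h4 : s * y * s⁻¹ = (s * y * s⁻¹ * y⁻¹) * y := by group
  rw [h4]
  exact R.mul_mem (hQR h3) hy

theorem le_normalizer_of_commutator_le {Q R : Subgroup Ω} (h1 : (commutator ↥S).map S.subtype ≤ Q) (hQR : Q ≤ R)
    (hRS : R ≤ S) : S ≤ Subgroup.normalizer (R : Set Ω) := by
  intro s hs
  apply mem_normalizer_of_conj_mem_of_inv_conj_mem
  · intro y hy
    exact conj_mem_of_commutator_le h1 hQR hRS hs hy
  · intro y hy
    have := conj_mem_of_commutator_le h1 hQR hRS (S.inv_mem hs) hy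
    rwa [inv_inv] at this

/-- The main claim. -/
theorem isPGroup_stabAut [Finite S] {p : ℕ} [Fact p.Prime] (hS : IsPGroup p S) (F : FusionSystem S)
    (hF : F.IsSaturated p)
    (hinn : ∀ (M : Subgroup Ω), M = S → ∀ α ∈ F.autGroup M, ∃ g ∈ S, ∀ x : M, ((α x : M) : Ω) = g * x * g⁻¹)
    (Q : Subgroup Ω) (h1 : (commutator ↥S).map S.subtype ≤ Q) (h2 : Q ≤ (frattini ↥S).map S.subtype)
    (R : Subgroup Ω) (hQR : Q ≤ R) (hRS : R ≤ S) : IsPGroup p (stabAut F R Q) := by
  induction' hn : Nat.card S - Nat.card R using Nat.strong_induction_on with n ih generalizing R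
  rcases hRS.lt_or_eq with hlt | heq
  · -- `R < S`
    have hSN : S ≤ Subgroup.normalizer (R : Set Ω) := le_normalizer_of_commutator_le h1 hQR hRS
    have hQS : Q ≤ S := hQR.trans hRS
    have hSNQ : S ≤ Subgroup.normalizer (Q : Set Ω) := le_normalizer_of_commutator_le h1 le_rfl hQS
    have hNSR : normalizerIn S R = S := inf_eq_left.mpr hSN
    let c : ↥S →* MulAut ↥R := R.normalizerMonoidHom.comp (Subgroup.inclusion hSN)
    have hc : ∀ (s : ↥S) (x : ↥R), ((c s x : ↥R) : Ω) = s * x * (s : Ω)⁻¹ := fun s x => rfl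
    have hcconj : ∀ s : ↥S, c s = conjAut R s (hSN s.2) := fun s => rfl
    -- `Aut_S(R)` is the range of `c`
    have hrange : ∀ α : MulAut ↥R, α ∈ autInducedBy S R ↔ α ∈ c.range := by
      intro α
      rw [mem_autInducedBy_iff]
      constructor
      · rintro ⟨g, hg, hgx⟩
        refine ⟨⟨g, hg⟩, ?_⟩
        ext x
        rw [hc, hgx]
      · rintro ⟨s, rfl⟩
        exact ⟨s, s.2, fun x => rfl⟩
    -- `R` is fully normalized, so fully automized and receptive
    have hRfn : F.IsFullyNormalized R := by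
      refine ⟨hRS, fun R' _ => ?_⟩
      rw [hNSR]
      exact Subgroup.card_le_of_le inf_le_left
    obtain ⟨hRfc, hRa⟩ := fullyAutomized_fullyCentralized_of_fullyNormalized hS F hF hRfn
    have hRr := receptive_of_fullyCentralized hS F hF hRfc
    apply isPGroup_of_tate hS hlt hQR h1 h2 c hc (stabAut F R Q)
    · -- hYQ
      intro β hβ
      exact hβ.2
    · -- hcY
      intro s
      refine ⟨?_, fun x => ?_⟩
      · rw [hcconj, mem_autGroup_iff F hRS]
        exact isIso_conjAut F hRS s.2 _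
      · rw [hc]
        exact Subgroup.mem_normalizer_iff.mp (hSNQ s.2) x
    · -- hSyl
      intro B hBY hBp hcB
      obtain ⟨-, T, hT⟩ := hRa
      have hBF : B ≤ F.autGroup R := fun b hb => (hBY hb).1
      have h3 : (T : Subgroup (F.autGroup R)) ≤ B.subgroupOf (F.autGroup R) := by
        rw [hT]
        intro a ha
        rw [Subgroup.mem_subgroupOf] at ha ⊢
        exact hcB ((hrange _).mp ha)
      have h4 := T.is_maximal' (hBp.comap_subtype) h3
      intro b hb
      have h5 : (⟨b, hBF hb⟩ : F.autGroup R) ∈ B.subgroupOf (F.autGroup R) := Subgroup.mem_subgroupOf.mpr hb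
      have h4' : B.subgroupOf (F.autGroup R) = (T : Subgroup (F.autGroup R)) := h4
      rw [h4', hT, Subgroup.mem_subgroupOf] at h5
      exact (hrange _).mp h5
    · -- hNorm
      intro n hn hnorm
      have hnorm' : ∀ γ ∈ autInducedBy S R, n * γ * n⁻¹ ∈ autInducedBy S R := by
        intro γ hγ
        obtain ⟨s, rfl⟩ := (hrange γ).mp hγ
        obtain ⟨s', hs'⟩ := hnorm s
        rw [hs']
        exact (hrange _).mpr ⟨s', rfl⟩
      obtain ⟨β, hβ⟩ := exists_stabAut_of_normalizes F hRr n hn.1 hnorm'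
      obtain ⟨g, hg, hgx⟩ := hinn (normalizerIn S R) hNSR β.1 β.2.1
      refine ⟨⟨g, hg⟩, ?_⟩
      ext x
      rw [hc, ← hβ, resHom_apply, hgx]
    · -- hExt
      intro s hs ℓ hℓ hcm hRcm
      haveI : Finite ↥R := finite_of_le hRS
      let D₀ : Subgroup ↥S := (Subgroup.centralizer {ℓ}).comap c
      have hmemD₀ : ∀ t : ↥S, t ∈ D₀ ↔ c t * ℓ = ℓ * c t := by
        intro t
        show c t ∈ Subgroup.centralizer {ℓ} ↔ _
        rw [Subgroup.mem_centralizer_iff]
        simp only [Set.mem_singleton_iff, forall_eq]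
        exact eq_comm
      let D : Subgroup Ω := D₀.map S.subtype
      have hDS : D ≤ S := Subgroup.map_subtype_le _
      have hmemD : ∀ g : Ω, g ∈ D ↔ ∃ hg : g ∈ S, c ⟨g, hg⟩ * ℓ = ℓ * c ⟨g, hg⟩ := by
        intro g
        constructor
        · rintro ⟨t, ht, rfl⟩
          exact ⟨t.2, (hmemD₀ t).mp ht⟩
        · rintro ⟨hg, h⟩
          exact ⟨⟨g, hg⟩, (hmemD₀ _).mpr h, rfl⟩
      have hRD : R ≤ D := fun x hx => (hmemD x).mpr ⟨hRS hx, hRcm ⟨x, hRS hx⟩ hx⟩
      have hsD : (s : Ω) ∈ D := (hmemD _).mpr ⟨s.2, hcm⟩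
      have hRltD : R < D := SetLike.lt_iff_le_and_exists.mpr ⟨hRD, (s : Ω), hsD, hs⟩
      haveI : Finite ↥D := finite_of_le hDS
      -- the map `ℓ` and its extension
      have hφ : R.subtype.comp (ℓ : ↥R ≃* ↥R).toMonoidHom ∈ F.Hom R := (mem_autGroup_iff F hRS ℓ).mp hℓ.1
      have hφrange : (R.subtype.comp (ℓ : ↥R ≃* ↥R).toMonoidHom).range = R := by
        ext y
        constructor
        · rintro ⟨x, rfl⟩
          exact (ℓ x).2
        · intro hy
          refine ⟨ℓ⁻¹ ⟨y, hy⟩, ?_⟩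
          show ((ℓ (ℓ⁻¹ ⟨y, hy⟩) : ↥R) : Ω) = y
          rw [MulAut.apply_inv_self]
      have hDext : D ≤ extender S R (R.subtype.comp (ℓ : ↥R ≃* ↥R).toMonoidHom) := by
        intro g hg
        obtain ⟨hgS, hgc⟩ := (hmemD g).mp hg
        rw [mem_extender_iff]
        refine ⟨hgS, hSN hgS, g, hgS, fun x hx => ?_⟩
        have h3 := congrArg (fun f : MulAut ↥R => ((f x : ↥R) : Ω)) hgc
        simp only [MulAut.mul_apply] at h3
        rw [hc] at h3
        show ((ℓ ⟨g * x * g⁻¹, hx⟩ : ↥R) : Ω) = g * ((ℓ x : ↥R) : Ω) * g⁻¹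
        rw [h3]
        rfl
      obtain ⟨ψ, hψ, hψx⟩ := hRr.2 R _ hφ hφrange
      have hψR : ∀ r : ↥R, ψ (Subgroup.inclusion hDext ⟨r, hRD r.2⟩) = ((ℓ r : ↥R) : Ω) := by
        intro r
        exact hψx r r.2 (hDext (hRD r.2))
      have hψS : ∀ x : ↥D, ψ (Subgroup.inclusion hDext x) ∈ S := fun x => (F.le_of_mem hψ).2 _
      have hmaps : ∀ x : ↥D, ψ (Subgroup.inclusion hDext x) ∈ D := by
        intro x
        obtain ⟨hgS, hgc⟩ := (hmemD x).mp x.2
        rw [hmemD]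
        refine ⟨hψS x, ?_⟩
        -- `c (ψ x) = c x`
        have hkey : c ⟨_, hψS x⟩ = c ⟨x, hgS⟩ := by
          ext z
          obtain ⟨r, rfl⟩ : ∃ r, ℓ r = z := ⟨ℓ⁻¹ z, MulAut.apply_inv_self _ _ _⟩
          rw [hc, hc]
          have hxr : (x : Ω) * r * (x : Ω)⁻¹ ∈ R := (Subgroup.mem_normalizer_iff.mp (hSN hgS) r).mp r.2
          have h3 := hψR ⟨_, hxr⟩
          have h4 : Subgroup.inclusion hDext ⟨(x : Ω) * r * (x : Ω)⁻¹, hRD hxr⟩ =
              Subgroup.inclusion hDext x * Subgroup.inclusion hDext ⟨r, hRD r.2⟩ *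
                (Subgroup.inclusion hDext x)⁻¹ := Subtype.ext rfl
          rw [h4, map_mul, map_mul, map_inv, hψR] at h3
          show ψ (Subgroup.inclusion hDext x) * ((ℓ r : ↥R) : Ω) * (ψ (Subgroup.inclusion hDext x))⁻¹ = _
          rw [h3]
          have h5 := congrArg (fun f : MulAut ↥R => ((f r : ↥R) : Ω)) hgc
          simp only [MulAut.mul_apply] at h5
          rw [hc] at h5
          have h6 : (⟨(x : Ω) * r * (x : Ω)⁻¹, hxr⟩ : ↥R) = c ⟨x, hgS⟩ r := Subtype.ext rfl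
          rw [h6, ← h5]
        rw [hkey]
        exact hgc
      obtain ⟨γ, hγF, hγx⟩ := exists_aut_of_maps_into F hψ hDext hmaps
      have hγR : ∀ r : ↥R, ((γ ⟨r, hRD r.2⟩ : ↥D) : Ω) = ((ℓ r : ↥R) : Ω) := by
        intro r
        rw [hγx]
        exact hψR r
      have hγQ : γ ∈ stabAut F D Q := by
        refine ⟨hγF, fun x => ?_⟩
        constructor
        · intro hx
          have h3 := hγR ⟨x, hQR hx⟩
          have h4 : (⟨((⟨x, hQR hx⟩ : ↥R) : Ω), hRD (hQR hx)⟩ : ↥D) = x := Subtype.ext rfl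
          rw [h4] at h3
          rw [h3]
          exact (hℓ.2 ⟨x, hQR hx⟩).mp hx
        · intro hx
          let z : ↥R := ℓ⁻¹ ⟨_, hQR hx⟩
          have hz : ℓ z = ⟨_, hQR hx⟩ := MulAut.apply_inv_self _ _ _
          have hzQ : (z : Ω) ∈ Q := (hℓ.2 z).mpr (by rw [hz]; exact hx)
          have h3 := hγR z
          rw [hz] at h3
          have h4 : γ ⟨z, hRD z.2⟩ = γ x := Subtype.ext h3
          have h5 := γ.injective h4
          rw [← h5]
          exact hzQ
      have hcard : Nat.card S - Nat.card D < n := by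
        have h3 : Nat.card R < Nat.card D := card_lt_card_of_lt hRltD
        have h4 : Nat.card D ≤ Nat.card S := Subgroup.card_le_of_le hDS
        omega
      have hD := ih _ hcard D (hQR.trans hRD) hDS rfl
      obtain ⟨k, hk⟩ := hD ⟨γ, hγQ⟩
      have hk' : γ ^ p ^ k = 1 := by
        have := congrArg Subtype.val hk
        simpa using this
      refine ⟨k, ?_⟩
      have hpow : ∀ (m : ℕ) (r : ↥R), (((ℓ ^ m) r : ↥R) : Ω) = (((γ ^ m) ⟨r, hRD r.2⟩ : ↥D) : Ω) := by
        intro m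
        induction m with
        | zero => intro r; simp
        | succ m ihm =>
          intro r
          rw [pow_succ, pow_succ, MulAut.mul_apply, MulAut.mul_apply, ihm]
          congr 2
          apply Subtype.ext
          exact (hγR r).symm
      ext r
      rw [hpow, hk']
      rfl
  · -- `R = S`
    have : stabAut F R Q ≤ autInducedBy S R := by
      intro β hβ
      obtain ⟨g, hg, hgx⟩ := hinn R heq β hβ.1
      exact (mem_autInducedBy_iff S R β).mpr ⟨g, hg, hgx⟩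
    exact (isPGroup_autInducedBy hS R).to_le this

/-- Powers of a restriction. -/
theorem pow_restrict_apply {P R : Subgroup Ω} (hPR : P ≤ R) (α : MulAut ↥P) (β : MulAut ↥R)
    (h : ∀ x : ↥P, ((β ⟨x, hPR x.2⟩ : ↥R) : Ω) = ((α x : ↥P) : Ω)) (m : ℕ) (x : ↥P) :
    (((α ^ m) x : ↥P) : Ω) = (((β ^ m) ⟨x, hPR x.2⟩ : ↥R) : Ω) := by
  induction m generalizing x with
  | zero => simp
  | succ m ihm =>
    rw [pow_succ, pow_succ, MulAut.mul_apply, MulAut.mul_apply, ihm]
    congr 2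
    apply Subtype.ext
    exact (h x).symm

/-- The automorphism groups of the normalizer system of `Q` are `p`-groups. -/
theorem isPGroup_autGroup_normalizerSystem [Finite S] {p : ℕ} [Fact p.Prime] (hS : IsPGroup p S)
    (F : FusionSystem S) (hF : F.IsSaturated p)
    (hinn : ∀ (M : Subgroup Ω), M = S → ∀ α ∈ F.autGroup M, ∃ g ∈ S, ∀ x : M, ((α x : M) : Ω) = g * x * g⁻¹)
    (Q : Subgroup Ω) (h1 : (commutator ↥S).map S.subtype ≤ Q) (h2 : Q ≤ (frattini ↥S).map S.subtype)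
    (N : FusionSystem (normalizerIn S Q)) (hNs : F.IsNormalizerSystem Q N)
    (P : Subgroup Ω) (hPT : P ≤ normalizerIn S Q) : IsPGroup p (N.autGroup P) := by
  have hQS : Q ≤ S := h2.trans (Subgroup.map_subtype_le _)
  have hPS : P ≤ S := hPT.trans inf_le_left
  intro α
  have hα := (mem_autGroup_iff N hPT α.1).mp α.2
  unfold IsIso at hα
  rw [hNs P] at hα
  obtain ⟨hαF, -, -, ψ, hψ, hψP, hψQ⟩ := hα
  have hRS : P ⊔ Q ≤ S := sup_le hPS hQS
  have hQR : Q ≤ P ⊔ Q := le_sup_right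
  have hPR : P ≤ P ⊔ Q := le_sup_left
  haveI : Finite ↥(P ⊔ Q) := finite_of_le hRS
  -- `ψ` maps `P ⊔ Q` into itself
  have hmapP : (P.subgroupOf (P ⊔ Q)).map ψ ≤ P := by
    rintro _ ⟨y, hy, rfl⟩
    have hy' : (y : Ω) ∈ P := Subgroup.mem_subgroupOf.mp hy
    have h3 := hψP ⟨y, hy'⟩
    have h4 : Subgroup.inclusion (le_sup_left : P ≤ P ⊔ Q) ⟨y, hy'⟩ = y := Subtype.ext rfl
    rw [h4] at h3
    rw [h3]
    exact ((α : MulAut ↥P) ⟨y, hy'⟩).2
  have hmaps : ∀ x : ↥(P ⊔ Q), ψ x ∈ P ⊔ Q := by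
    intro x
    have h3 : ψ x ∈ (⊤ : Subgroup ↥(P ⊔ Q)).map ψ := ⟨x, Subgroup.mem_top _, rfl⟩
    rw [← Subgroup.subgroupOf_self, Subgroup.subgroupOf_sup hPR hQR, Subgroup.map_sup] at h3
    exact (sup_le_sup hmapP hψQ.le) h3
  obtain ⟨β, hβF, hβx⟩ := exists_aut_of_maps_into F hψ (le_refl (P ⊔ Q)) (fun x => hmaps _)
  have hβx' : ∀ x : ↥(P ⊔ Q), ((β x : ↥(P ⊔ Q)) : Ω) = ψ x := fun x => hβx x
  have hβQ : β ∈ stabAut F (P ⊔ Q) Q := by
    refine ⟨hβF, fun x => ?_⟩
    rw [hβx']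
    constructor
    · intro hx
      exact hψQ.le ⟨x, Subgroup.mem_subgroupOf.mpr hx, rfl⟩
    · intro hx
      obtain ⟨y, hy, hyx⟩ := hψQ.ge hx
      have := F.injective_of_mem hψ hyx
      rw [← this]
      exact Subgroup.mem_subgroupOf.mp hy
  obtain ⟨k, hk⟩ := isPGroup_stabAut hS F hF hinn Q h1 h2 (P ⊔ Q) hQR hRS ⟨β, hβQ⟩
  have hk' : β ^ p ^ k = 1 := by
    have := congrArg Subtype.val hk
    simpa using this
  refine ⟨k, ?_⟩
  apply Subtype.ext
  rw [Subgroup.coe_pow, Subgroup.coe_one]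
  ext x
  rw [pow_restrict_apply hPR (α : MulAut ↥P) β (fun x => ?_), hk']
  · rfl
  · rw [hβx']
    exact hψP x

end Cfsg.Agent.Helper84
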